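import Mathlib.GroupTheory.Sylow
import Mathlib.GroupTheory.PGroup
import Mathlib.GroupTheory.Nilpotent
import Mathlib.GroupTheory.Index
import Mathlib.GroupTheory.Frattini
import Mathlib.GroupTheory.SchurZassenhaus
import Mathlib.GroupTheory.Abelianization.Defs
import Mathlib.GroupTheory.Commutator.Basic
import Mathlib.GroupTheory.Subgroup.Centralizer
import Mathlib.Tactic.Group
import Mathlib.GroupTheory.NoncommCoprod

set_option autoImplicit false

namespace Cfsg.Agent.Lib.Helper14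

open Subgroup
open scoped commutatorElement

variable {G : Type*} [Group G]

/-- In a nilpotent subgroup `Y` of a finite group, a `q`-subgroup and an `r`-subgroup (`q ≠ r`)
commute elementwise. -/
theorem le_centralizer_of_nilpotent_of_pgroups [Finite G] {q r : ℕ} [Fact q.Prime] [Fact r.Prime]
    (hqr : q ≠ r) {Y Q₀ R₀ : Subgroup G} (hY : Group.IsNilpotent Y) (hQ₀Y : Q₀ ≤ Y) (hR₀Y : R₀ ≤ Y)
    (hQ₀ : IsPGroup q Q₀) (hR₀ : IsPGroup r R₀) : R₀ ≤ Subgroup.centralizer (Q₀ : Set G) := by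
  classical
  have hsyl := (Group.isNilpotent_of_finite_tfae (G := Y)).out 0 3
  rw [hsyl] at hY
  have hQ₀' : IsPGroup q (Q₀.subgroupOf Y) := hQ₀.comap_subtype
  have hR₀' : IsPGroup r (R₀.subgroupOf Y) := hR₀.comap_subtype
  obtain ⟨Sq, hSq⟩ := hQ₀'.exists_le_sylow
  obtain ⟨Sr, hSr⟩ := hR₀'.exists_le_sylow
  have hSqn : (Sq : Subgroup Y).Normal := hY q inferInstance Sq
  have hSrn : (Sr : Subgroup Y).Normal := hY r inferInstance Sr
  have hdisj : Disjoint (Sr : Subgroup Y) (Sq : Subgroup Y) :=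
    IsPGroup.disjoint_of_ne r q hqr.symm _ _ Sr.2 Sq.2
  intro x hx
  rw [Subgroup.mem_centralizer_iff]
  intro y hy
  have hxS : (⟨x, hR₀Y hx⟩ : Y) ∈ (Sr : Subgroup Y) := hSr (by simpa [Subgroup.mem_subgroupOf] using hx)
  have hyS : (⟨y, hQ₀Y hy⟩ : Y) ∈ (Sq : Subgroup Y) := hSq (by simpa [Subgroup.mem_subgroupOf] using hy)
  have := Subgroup.commute_of_normal_of_disjoint _ _ hSrn hSqn hdisj _ _ hxS hyS
  have h2 := congrArg Subtype.val this.eq
  simpa using h2.symm

/-- A subgroup containing a Sylow `r`-subgroup for every prime `r` is everything. -/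
theorem eq_top_of_forall_sylow_le [Finite G] (C : Subgroup G)
    (h : ∀ r : ℕ, ∀ _ : Fact r.Prime, ∃ P : Sylow r G, (P : Subgroup G) ≤ C) : C = ⊤ := by
  rw [← Subgroup.index_eq_one, Nat.eq_one_iff_not_exists_prime_dvd]
  intro r hr hdvd
  have : Fact r.Prime := ⟨hr⟩
  obtain ⟨P, hP⟩ := h r ⟨hr⟩
  exact P.not_dvd_index (hdvd.trans (Subgroup.index_dvd_of_le hP))

/-- The derived subgroup of a finite nilpotent group lies in the Frattini subgroup. -/
theorem commutator_le_frattini_of_nilpotent [Finite G] (hG : Group.IsNilpotent G) :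
    commutator G ≤ frattini G := by
  classical
  have hco := (Group.isNilpotent_of_finite_tfae (G := G)).out 0 2
  rw [hco] at hG
  unfold frattini Order.radical
  refine le_iInf₂ fun M hM => ?_
  have hMn : M.Normal := hG M hM
  -- pick x ∉ M
  obtain ⟨x, -, hxM⟩ := SetLike.exists_of_lt (lt_top_iff_ne_top.mpr hM.1)
  have hsup : M ⊔ Subgroup.zpowers x = ⊤ := by
    by_contra hne
    have hlt : M < M ⊔ Subgroup.zpowers x := by
      refine lt_of_le_of_ne le_sup_left ?_
      intro heq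
      apply hxM
      rw [heq]
      exact le_sup_right (a := M) (Subgroup.mem_zpowers x)
    exact hne (hM.2 _ hlt)
  rw [← Subgroup.Normal.quotient_commutative_iff_commutator_le]
  refine ⟨⟨fun a b => ?_⟩⟩
  obtain ⟨a, rfl⟩ := QuotientGroup.mk_surjective a
  obtain ⟨b, rfl⟩ := QuotientGroup.mk_surjective b
  have ha : a ∈ M ⊔ Subgroup.zpowers x := by rw [hsup]; trivial
  have hb : b ∈ M ⊔ Subgroup.zpowers x := by rw [hsup]; trivial
  rw [← SetLike.mem_coe, Subgroup.normal_mul] at ha hb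
  obtain ⟨m, hm, y, hy, rfl⟩ := ha
  obtain ⟨m', hm', y', hy', rfl⟩ := hb
  obtain ⟨i, rfl⟩ := Subgroup.mem_zpowers_iff.mp hy
  obtain ⟨j, rfl⟩ := Subgroup.mem_zpowers_iff.mp hy'
  have e1 : ((m * x ^ i : G) : G ⧸ M) = ((x : G) : G ⧸ M) ^ i := by
    rw [QuotientGroup.mk_mul, (QuotientGroup.eq_one_iff m).mpr hm, one_mul, QuotientGroup.mk_zpow]
  have e2 : ((m' * x ^ j : G) : G ⧸ M) = ((x : G) : G ⧸ M) ^ j := by
    rw [QuotientGroup.mk_mul, (QuotientGroup.eq_one_iff m').mpr hm', one_mul, QuotientGroup.mk_zpow]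
  show ((m * x ^ i : G) : G ⧸ M) * ((m' * x ^ j : G) : G ⧸ M) = ((m' * x ^ j : G) : G ⧸ M) * ((m * x ^ i : G) : G ⧸ M)
  rw [e1, e2]
  exact ((Commute.refl ((x : G) : G ⧸ M)).zpow_zpow i j).eq


/-- A `q`-subgroup lies in a normal Sylow `q`-subgroup. -/
theorem pgroup_le_normal_sylow [Finite G] {q : ℕ} [Fact q.Prime] (Q : Sylow q G)
    (hQ : (Q : Subgroup G).Normal) {X : Subgroup G} (hX : IsPGroup q X) : X ≤ (Q : Subgroup G) := by
  obtain ⟨P, hP⟩ := hX.exists_le_sylow
  have hu := Sylow.unique_of_normal Q hQ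
  have : P = Q := Subsingleton.elim _ _
  rw [← this]
  exact hP

/-- Structure of a minimal non-nilpotent group with a normal Sylow `q`-subgroup `Q`:
`Q` has an abelian complement of prime power order for another prime. -/
theorem minNonNilp_structure [Finite G] (hnil : ¬ Group.IsNilpotent G)
    (hsub : ∀ H : Subgroup G, H ≠ ⊤ → Group.IsNilpotent H) {q : ℕ} [Fact q.Prime]
    (hq : q ∣ Nat.card G) (Q : Sylow q G) (hQ : (Q : Subgroup G).Normal) :
    ∃ H : Subgroup G, Subgroup.IsComplement' (Q : Subgroup G) H ∧ IsMulCommutative H ∧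
      ∃ r : ℕ, r.Prime ∧ r ≠ q ∧ IsPGroup r H := by
  classical
  obtain ⟨H, hH⟩ := Subgroup.exists_right_complement'_of_coprime Q.card_coprime_index
  have hdisj : (Q : Subgroup G) ⊓ H = ⊥ := disjoint_iff.mp hH.disjoint
  have htop : (Q : Subgroup G) ⊔ H = ⊤ := hH.sup_eq_top
  have hQbot : (Q : Subgroup G) ≠ ⊥ := Q.ne_bot_of_dvd_card hq
  have hHtop : H ≠ ⊤ := by
    intro h
    rw [h, inf_top_eq] at hdisj
    exact hQbot hdisj
  have hHnil : Group.IsNilpotent H := hsub H hHtop
  have hprop : ∀ X : Subgroup G, X ≤ H → (Q : Subgroup G) ⊔ X = ⊤ → X = H := by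
    intro X hXH hsup
    apply le_antisymm hXH
    intro h hh
    have hmem : h ∈ (Q : Subgroup G) ⊔ X := by rw [hsup]; trivial
    rw [← SetLike.mem_coe, Subgroup.normal_mul] at hmem
    obtain ⟨a, ha, x, hx, hax⟩ := hmem
    have haH : a ∈ H := by
      have h1 : a = h * x⁻¹ := by rw [← hax]; simp
      rw [h1]
      exact H.mul_mem hh (H.inv_mem (hXH hx))
    have h1 : a ∈ (Q : Subgroup G) ⊓ H := ⟨ha, haH⟩
    rw [hdisj, Subgroup.mem_bot] at h1
    rw [← hax, h1]
    simpa using hx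
  have hC : ∀ (r : ℕ) (_ : Fact r.Prime) (X : Subgroup G), X ≤ H → IsPGroup r X → X ≠ H →
      X ≤ Subgroup.centralizer ((Q : Subgroup G) : Set G) := by
    intro r hr X hXH hX hne
    by_cases hrq : r = q
    · subst hrq
      have h1 : X ≤ (Q : Subgroup G) := pgroup_le_normal_sylow Q hQ hX
      have h2 : X ≤ (Q : Subgroup G) ⊓ H := le_inf h1 hXH
      rw [hdisj] at h2
      exact h2.trans bot_le
    · have hY : (Q : Subgroup G) ⊔ X ≠ ⊤ := fun h => hne (hprop X hXH h)
      exact le_centralizer_of_nilpotent_of_pgroups (Ne.symm hrq) (hsub _ hY) le_sup_left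
        le_sup_right Q.2 hX
  have hHnc : ¬ H ≤ Subgroup.centralizer ((Q : Subgroup G) : Set G) := by
    intro hc
    apply hnil
    let f : ↥(Q : Subgroup G) × ↥H →* G := MonoidHom.noncommCoprod (Q : Subgroup G).subtype H.subtype
      (fun a h => (Subgroup.mem_centralizer_iff.mp (hc h.2)) a a.2)
    have hf : Function.Surjective f := by
      intro g
      have hmem : g ∈ (Q : Subgroup G) ⊔ H := by rw [htop]; trivial
      rw [← SetLike.mem_coe, Subgroup.normal_mul] at hmem
      obtain ⟨a, ha, h, hh, hah⟩ := hmem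
      refine ⟨(⟨a, ha⟩, ⟨h, hh⟩), ?_⟩
      show (Q : Subgroup G).subtype ⟨a, ha⟩ * H.subtype ⟨h, hh⟩ = g
      exact hah
    have hn1 : Group.IsNilpotent (Q : Subgroup G) := Q.2.isNilpotent
    exact Group.nilpotent_of_surjective f hf
  -- H is a group of prime power order
  have hr : ∃ r : ℕ, r.Prime ∧ IsPGroup r H := by
    by_contra hno
    apply hHnc
    have hCH : (Subgroup.centralizer ((Q : Subgroup G) : Set G)).subgroupOf H = ⊤ := by
      apply eq_top_of_forall_sylow_le
      intro r hr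
      obtain ⟨P⟩ : Nonempty (Sylow r H) := inferInstance
      refine ⟨P, ?_⟩
      have hPne : (P : Subgroup H).map H.subtype ≠ H := by
        intro heq
        apply hno
        refine ⟨r, hr.out, ?_⟩
        have := P.2.map H.subtype
        rwa [heq] at this
      have h1 := hC r hr ((P : Subgroup H).map H.subtype) (Subgroup.map_subtype_le _)
        (P.2.map _) hPne
      intro x hx
      rw [Subgroup.mem_subgroupOf]
      exact h1 (Subgroup.mem_map_of_mem _ hx)
    exact Subgroup.subgroupOf_eq_top.mp hCH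
  obtain ⟨r, hrp, hrH⟩ := hr
  have hrq : r ≠ q := by
    intro h
    subst h
    apply hHnc
    have h1 : H ≤ (Q : Subgroup G) := pgroup_le_normal_sylow Q hQ hrH
    have h2 : H ≤ (Q : Subgroup G) ⊓ H := le_inf h1 le_rfl
    rw [hdisj] at h2
    exact h2.trans bot_le
  refine ⟨H, hH, ?_, r, hrp, hrq, hrH⟩
  -- H is abelian (in fact cyclic)
  have hfr : Fact r.Prime := ⟨hrp⟩
  have hcoatom : ∀ M : Subgroup H, IsCoatom M →
      M.map H.subtype ≤ Subgroup.centralizer ((Q : Subgroup G) : Set G) := by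
    intro M hM
    apply hC r hfr _ (Subgroup.map_subtype_le _) ((hrH.to_subgroup M).map _)
    intro heq
    apply hM.1
    rw [eq_top_iff]
    intro x _
    have hx : (x : G) ∈ M.map H.subtype := by rw [heq]; exact x.2
    obtain ⟨y, hy, hyx⟩ := hx
    have : y = x := Subtype.ext hyx
    rwa [← this]
  have huniq : ∀ M₁ M₂ : Subgroup H, IsCoatom M₁ → IsCoatom M₂ → M₁ = M₂ := by
    intro M₁ M₂ h1 h2
    by_contra hne
    apply hHnc
    have hsup : M₁ ⊔ M₂ = ⊤ := by
      by_contra hns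
      have hlt : M₁ < M₁ ⊔ M₂ := by
        refine lt_of_le_of_ne le_sup_left ?_
        intro heq
        have hle : M₂ ≤ M₁ := by rw [heq]; exact le_sup_right
        rcases eq_or_lt_of_le hle with h | h
        · exact hne h.symm
        · exact h1.1 (h2.2 _ h)
      exact hns (h1.2 _ hlt)
    have := congrArg (Subgroup.map H.subtype) hsup
    rw [Subgroup.map_sup, ← MonoidHom.range_eq_map, Subgroup.range_subtype] at this
    rw [← this]
    exact sup_le (hcoatom M₁ h1) (hcoatom M₂ h2)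
  have hHne : (⊥ : Subgroup H) ≠ ⊤ := by
    intro h
    apply hHnc
    intro x hx
    have : (⟨x, hx⟩ : H) ∈ (⊥ : Subgroup H) := by rw [h]; trivial
    rw [Subgroup.mem_bot] at this
    have hx1 : x = 1 := congrArg Subtype.val this
    rw [hx1]
    exact Subgroup.one_mem _
  obtain ⟨M, hM, -⟩ := (eq_top_or_exists_le_coatom (⊥ : Subgroup H)).resolve_left hHne
  obtain ⟨x, -, hxM⟩ := SetLike.exists_of_lt (lt_top_iff_ne_top.mpr hM.1)
  have hcyc : Subgroup.zpowers x = ⊤ := by
    rcases eq_top_or_exists_le_coatom (Subgroup.zpowers x) with h | ⟨M', hM', hle⟩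
    · exact h
    · exfalso
      have : M' = M := huniq M' M hM' hM
      rw [this] at hle
      exact hxM (hle (Subgroup.mem_zpowers x))
  refine ⟨⟨fun a b => ?_⟩⟩
  have ha : a ∈ Subgroup.zpowers x := by rw [hcyc]; trivial
  have hb : b ∈ Subgroup.zpowers x := by rw [hcyc]; trivial
  obtain ⟨i, rfl⟩ := Subgroup.mem_zpowers_iff.mp ha
  obtain ⟨j, rfl⟩ := Subgroup.mem_zpowers_iff.mp hb
  exact ((Commute.refl x).zpow_zpow i j).eq

end Cfsg.Agent.Lib.Helper14
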