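import Mathlib.GroupTheory.Sylow
import Mathlib.GroupTheory.PGroup
import Mathlib.GroupTheory.Nilpotent
import Mathlib.GroupTheory.Index
import Mathlib.GroupTheory.Commutator.Basic
import Mathlib.GroupTheory.Subgroup.Centralizer

set_option autoImplicit false

namespace Cfsg.Agent.Lib.Helper14

open Subgroup
open scoped commutatorElement

variable {G : Type*} [Group G]

theorem conj_mem_centralizer_of_mem_normalizer {V : Subgroup G} {a h : G}
    (ha : a ∈ Subgroup.normalizer (V : Set G)) (hh : h ∈ Subgroup.centralizer (V : Set G)) :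
    a * h * a⁻¹ ∈ Subgroup.centralizer (V : Set G) := by
  rw [Subgroup.mem_centralizer_iff]
  intro v hv
  have hv' : a⁻¹ * v * a ∈ V := by
    have := (Subgroup.mem_normalizer_iff.mp (Subgroup.inv_mem _ ha) v).mp hv
    simpa using this
  have hc := (Subgroup.mem_centralizer_iff.mp hh) _ hv'
  calc v * (a * h * a⁻¹) = a * ((a⁻¹ * v * a) * h) * a⁻¹ := by group
    _ = a * (h * (a⁻¹ * v * a)) * a⁻¹ := by rw [hc]
    _ = a * h * a⁻¹ * v := by group

/-- If `A` normalizes `V` and `A / C_A(V)` has exponent `p`, then some `p`-subgroup `P ≤ A`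
covers `A` modulo `C_A(V)`. -/
theorem exists_pgroup_cover [Finite G] {p : ℕ} [Fact p.Prime] {V A : Subgroup G}
    (hAV : A ≤ Subgroup.normalizer (V : Set G))
    (hpow : ∀ a ∈ A, a ^ p ∈ Subgroup.centralizer (V : Set G)) :
    ∃ P : Subgroup G, P ≤ A ∧ IsPGroup p P ∧
      ∀ a ∈ A, ∃ x ∈ A ⊓ Subgroup.centralizer (V : Set G), ∃ y ∈ P, a = x * y := by
  classical
  set N : Subgroup A := (Subgroup.centralizer (V : Set G)).subgroupOf A with hN
  have hNn : N.Normal := by
    constructor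
    intro n hn a
    rw [hN, Subgroup.mem_subgroupOf] at hn ⊢
    have := conj_mem_centralizer_of_mem_normalizer (hAV a.2) hn
    simpa using this
  have hquot : IsPGroup p (↥A ⧸ N) := by
    intro g
    obtain ⟨a, rfl⟩ := QuotientGroup.mk_surjective g
    refine ⟨1, ?_⟩
    rw [pow_one, ← QuotientGroup.mk_pow, QuotientGroup.eq_one_iff, hN, Subgroup.mem_subgroupOf]
    simpa using hpow a a.2
  obtain ⟨n, hn⟩ := IsPGroup.iff_card.mp hquot
  obtain ⟨P'⟩ : Nonempty (Sylow p A) := inferInstance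
  have hidx : ((P' : Subgroup A) ⊔ N).index = 1 := by
    have h1 : ((P' : Subgroup A) ⊔ N).index ∣ (P' : Subgroup A).index :=
      Subgroup.index_dvd_of_le le_sup_left
    have h2 : ((P' : Subgroup A) ⊔ N).index ∣ p ^ n := by
      rw [← hn, ← Subgroup.index_eq_card]
      exact Subgroup.index_dvd_of_le le_sup_right
    have h3 : ¬ p ∣ (P' : Subgroup A).index := P'.not_dvd_index
    have hp : p.Prime := Fact.out
    have h4 : Nat.Coprime ((P' : Subgroup A).index) (p ^ n) :=
      Nat.Coprime.pow_right n ((Nat.Prime.coprime_iff_not_dvd hp).mpr h3).symm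
    exact Nat.eq_one_of_dvd_coprimes h4 h1 h2
  have htop : (P' : Subgroup A) ⊔ N = ⊤ := Subgroup.index_eq_one.mp hidx
  refine ⟨(P' : Subgroup A).map A.subtype, Subgroup.map_subtype_le _, P'.2.map _, ?_⟩
  intro a ha
  have hmem : (⟨a, ha⟩ : A) ∈ N ⊔ (P' : Subgroup A) := by rw [sup_comm, htop]; trivial
  rw [← SetLike.mem_coe, Subgroup.normal_mul] at hmem
  obtain ⟨x, hx, y, hy, hxy⟩ := hmem
  refine ⟨(x : G), ⟨x.2, ?_⟩, (y : G), ⟨y, hy, rfl⟩, ?_⟩
  · rw [hN] at hx
    exact Subgroup.mem_subgroupOf.mp hx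
  · have := congrArg Subtype.val hxy
    simpa using this.symm

/-- A `p`-group acting on a nontrivial `p`-group `W` (inside a finite group) cannot satisfy
`W ≤ ⁅W, P⁆`. -/
theorem eq_bot_of_le_commutator_pgroup [Finite G] {p : ℕ} [Fact p.Prime] {W P : Subgroup G}
    (hW : IsPGroup p W) (hP : IsPGroup p P) (hPW : P ≤ Subgroup.normalizer (W : Set G))
    (h : W ≤ ⁅W, P⁆) : W = ⊥ := by
  have hΓ : IsPGroup p (W ⊔ P : Subgroup G) := IsPGroup.to_sup_of_normal_left' hW hP hPW
  have hnil : Group.IsNilpotent (W ⊔ P : Subgroup G) := hΓ.isNilpotent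
  obtain ⟨n, hn⟩ := (Subgroup.isNilpotent_iff_lowerCentralSeries (W ⊔ P)).mp hnil
  have key : ∀ k, W ≤ (W ⊔ P).lowerCentralSeries k := by
    intro k
    induction k with
    | zero => exact le_sup_left
    | succ k ih =>
      rw [Subgroup.lowerCentralSeries_succ]
      exact h.trans (Subgroup.commutator_mono ih le_sup_right)
  rw [eq_bot_iff, ← hn]
  exact key n

/-- If `A` acts on the elementary abelian `p`-group `V` as a `p`-group and
`V ≤ ⁅V, A⁆ ⊔ C_V(A)`, then `A` centralizes `V`. -/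
theorem commutator_eq_bot_of_le_commutator_sup_fixed [Finite G] {p : ℕ} [Fact p.Prime]
    {V A : Subgroup G} (hVc : IsMulCommutative V) (hVp : ∀ v ∈ V, v ^ p = 1)
    (hAV : A ≤ Subgroup.normalizer (V : Set G))
    (hpow : ∀ a ∈ A, a ^ p ∈ Subgroup.centralizer (V : Set G))
    (h : V ≤ ⁅V, A⁆ ⊔ (V ⊓ Subgroup.centralizer (A : Set G))) : ⁅V, A⁆ = ⊥ := by
  classical
  obtain ⟨P, hPA, hP, hcover⟩ := exists_pgroup_cover hAV hpow
  have hcomm : ∀ x ∈ V, ∀ y ∈ V, x * y = y * x := by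
    intro x hx y hy
    have := mul_comm' (⟨x, hx⟩ : V) ⟨y, hy⟩
    exact congrArg Subtype.val this
  have hconj : ∀ a ∈ A, ∀ v ∈ V, a * v * a⁻¹ ∈ V := by
    intro a ha v hv
    exact ((Subgroup.mem_normalizer_iff.mp (hAV ha)) v).mp hv
  have hcV : ∀ a ∈ A, ∀ v ∈ V, ⁅v, a⁆ ∈ V := by
    intro a ha v hv
    rw [commutatorElement_def]
    have h1 := hconj a ha v⁻¹ (V.inv_mem hv)
    have : v * a * v⁻¹ * a⁻¹ = v * (a * v⁻¹ * a⁻¹) := by group
    rw [this]
    exact V.mul_mem hv h1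
  set W := ⁅V, A⁆ with hWdef
  have hWV : W ≤ V := by
    rw [hWdef, Subgroup.commutator_le]
    intro v hv a ha
    exact hcV a ha v hv
  -- W ≤ ⁅V, P⁆
  have h1 : W ≤ ⁅V, P⁆ := by
    rw [hWdef, Subgroup.commutator_le]
    intro v hv a ha
    obtain ⟨x, hx, y, hy, rfl⟩ := hcover a ha
    have hyA : y ∈ A := hPA hy
    have hxc := (Subgroup.mem_centralizer_iff.mp hx.2) _ (hconj y hyA v⁻¹ (V.inv_mem hv))
    have : ⁅v, x * y⁆ = ⁅v, y⁆ := by
      rw [commutatorElement_def, commutatorElement_def]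
      calc v * (x * y) * v⁻¹ * (x * y)⁻¹ = v * (x * (y * v⁻¹ * y⁻¹)) * x⁻¹ := by group
        _ = v * ((y * v⁻¹ * y⁻¹) * x) * x⁻¹ := by rw [hxc]
        _ = v * y * v⁻¹ * y⁻¹ := by group
    rw [this]
    exact Subgroup.commutator_mem_commutator hv hy
  -- ⁅V, P⁆ ≤ ⁅W, P⁆
  have h2 : ⁅V, P⁆ ≤ ⁅W, P⁆ := by
    rw [Subgroup.commutator_le]
    intro v hv y hy
    have hyA : y ∈ A := hPA hy
    have hv' := h hv
    rw [Subgroup.sup_eq_closure] at hv'
    have key : ∀ z ∈ Subgroup.closure ((W : Set G) ∪ ((V ⊓ Subgroup.centralizer (A : Set G) : Subgroup G) : Set G)),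
        z ∈ V ∧ ⁅z, y⁆ ∈ ⁅W, P⁆ := by
      intro z hz
      induction hz using Subgroup.closure_induction with
      | mem z hz =>
        rcases hz with hz | hz
        · exact ⟨hWV hz, Subgroup.commutator_mem_commutator hz hy⟩
        · refine ⟨hz.1, ?_⟩
          have hzy := (Subgroup.mem_centralizer_iff.mp hz.2) y hyA
          have : ⁅z, y⁆ = 1 := by
            rw [commutatorElement_def]
            calc z * y * z⁻¹ * y⁻¹ = z * (y * z⁻¹) * y⁻¹ := by group
              _ = z * (z⁻¹ * y) * y⁻¹ := by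
                  have hc : Commute y z := hzy
                  rw [hc.inv_right.eq]
              _ = 1 := by group
          rw [this]
          exact Subgroup.one_mem _
      | one =>
        refine ⟨V.one_mem, ?_⟩
        have : ⁅(1 : G), y⁆ = 1 := by rw [commutatorElement_def]; group
        rw [this]
        exact Subgroup.one_mem _
      | mul z z' _ _ ihz ihz' =>
        obtain ⟨hzV, hzc⟩ := ihz
        obtain ⟨hzV', hzc'⟩ := ihz'
        refine ⟨V.mul_mem hzV hzV', ?_⟩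
        have hcm := hcomm z hzV _ (hcV y hyA z' hzV')
        have : ⁅z * z', y⁆ = ⁅z', y⁆ * ⁅z, y⁆ := by
          calc ⁅z * z', y⁆ = (z * ⁅z', y⁆) * z⁻¹ * ⁅z, y⁆ := by
                simp only [commutatorElement_def]; group
            _ = (⁅z', y⁆ * z) * z⁻¹ * ⁅z, y⁆ := by rw [hcm]
            _ = ⁅z', y⁆ * ⁅z, y⁆ := by group
        rw [this]
        exact Subgroup.mul_mem _ hzc' hzc
      | inv z _ ihz =>
        obtain ⟨hzV, hzc⟩ := ihz
        refine ⟨V.inv_mem hzV, ?_⟩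
        have hcm := hcomm z⁻¹ (V.inv_mem hzV) _ (V.inv_mem (hcV y hyA z hzV))
        have : ⁅z⁻¹, y⁆ = ⁅z, y⁆⁻¹ := by
          calc ⁅z⁻¹, y⁆ = (z⁻¹ * ⁅z, y⁆⁻¹) * z := by
                simp only [commutatorElement_def]; group
            _ = (⁅z, y⁆⁻¹ * z⁻¹) * z := by rw [hcm]
            _ = ⁅z, y⁆⁻¹ := by group
        rw [this]
        exact Subgroup.inv_mem _ hzc
    exact (key v hv').2
  have hWp : IsPGroup p W := by
    intro g
    refine ⟨1, ?_⟩
    apply Subtype.ext
    rw [pow_one]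
    simpa using hVp g (hWV g.2)
  have hPW : P ≤ Subgroup.normalizer (W : Set G) :=
    hPA.trans (Subgroup.normalizer_commutator_ge_right V A)
  exact eq_bot_of_le_commutator_pgroup hWp hP hPW (h1.trans h2)

end Cfsg.Agent.Lib.Helper14
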