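import Mathlib.GroupTheory.Sylow
import Mathlib.GroupTheory.PGroup
import Mathlib.GroupTheory.Nilpotent
import Mathlib.GroupTheory.Index
import Mathlib.GroupTheory.Commutator.Basic
import Mathlib.GroupTheory.Subgroup.Centralizer

set_option autoImplicit false

namespace Cfsg.Agent.Lib.Helper14

open Subgroup
open scoped commutatorElement

variable {G : Type*} [Group G]

/-- `|B| * |C| ≤ |B ⊔ C| * |B ⊓ C|` for subgroups of a finite group. -/
theorem card_mul_card_le_sup_mul_inf [Finite G] (B C : Subgroup G) :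
    Nat.card B * Nat.card C ≤ Nat.card (B ⊔ C : Subgroup G) * Nat.card (B ⊓ C : Subgroup G) := by
  have h1 : Nat.card C = Nat.card (B ⊓ C : Subgroup G) * B.relIndex C := by
    have := Subgroup.relIndex_mul_relIndex ⊥ (B ⊓ C) C bot_le inf_le_right
    rw [Subgroup.relIndex_bot_left, Subgroup.relIndex_bot_left, Subgroup.inf_relIndex_right] at this
    exact this.symm
  have h2 : Nat.card (B ⊔ C : Subgroup G) = Nat.card B * B.relIndex (B ⊔ C) := by
    have := Subgroup.relIndex_mul_relIndex ⊥ B (B ⊔ C) bot_le le_sup_left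
    rw [Subgroup.relIndex_bot_left, Subgroup.relIndex_bot_left] at this
    exact this.symm
  have h3 : B.relIndex C ≤ B.relIndex (B ⊔ C) := by
    apply Subgroup.relIndex_le_of_le_right le_sup_right
    unfold Subgroup.relIndex
    exact Subgroup.index_ne_zero_of_finite
  calc Nat.card B * Nat.card C = Nat.card B * (Nat.card (B ⊓ C : Subgroup G) * B.relIndex C) := by
        rw [← h1]
    _ ≤ Nat.card B * (Nat.card (B ⊓ C : Subgroup G) * B.relIndex (B ⊔ C)) :=
        Nat.mul_le_mul_left _ (Nat.mul_le_mul_left _ h3)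
    _ = Nat.card (B ⊔ C : Subgroup G) * Nat.card (B ⊓ C : Subgroup G) := by rw [h2]; ring

/-- The offender function `|X| * |C_V(X)|`. -/
noncomputable def offF (V X : Subgroup G) : ℕ :=
  Nat.card X * Nat.card ↥(V ⊓ Subgroup.centralizer (X : Set G))

theorem centralizer_sup_eq (X Y : Subgroup G) :
    Subgroup.centralizer ((X ⊔ Y : Subgroup G) : Set G) =
      Subgroup.centralizer (X : Set G) ⊓ Subgroup.centralizer (Y : Set G) := by
  apply le_antisymm
  · exact le_inf (Subgroup.centralizer_le (by exact_mod_cast (le_sup_left : X ≤ X ⊔ Y)))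
      (Subgroup.centralizer_le (by exact_mod_cast (le_sup_right : Y ≤ X ⊔ Y)))
  · intro g hg
    have hX : X ≤ Subgroup.centralizer ({g} : Set G) := by
      intro x hx
      rw [Subgroup.mem_centralizer_singleton_iff]
      exact (Subgroup.mem_centralizer_iff.mp hg.1 x hx)
    have hY : Y ≤ Subgroup.centralizer ({g} : Set G) := by
      intro x hx
      rw [Subgroup.mem_centralizer_singleton_iff]
      exact (Subgroup.mem_centralizer_iff.mp hg.2 x hx)
    rw [Subgroup.mem_centralizer_iff]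
    intro z hz
    exact Subgroup.mem_centralizer_singleton_iff.mp ((sup_le hX hY) hz)

/-- Submodularity with equality for subgroups maximizing the offender function. -/
theorem offF_inf_eq [Finite G] {V A X Y : Subgroup G}
    (hmax : ∀ Z : Subgroup G, Z ≤ A → offF V Z ≤ offF V A) (hX : X ≤ A) (hY : Y ≤ A)
    (hfX : offF V X = offF V A) (hfY : offF V Y = offF V A) :
    offF V (X ⊓ Y) = offF V A ∧
      V ⊓ Subgroup.centralizer ((X ⊓ Y : Subgroup G) : Set G) =
        (V ⊓ Subgroup.centralizer (X : Set G)) ⊔ (V ⊓ Subgroup.centralizer (Y : Set G)) := by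
  set CX := V ⊓ Subgroup.centralizer (X : Set G) with hCX
  set CY := V ⊓ Subgroup.centralizer (Y : Set G) with hCY
  set CI := V ⊓ Subgroup.centralizer ((X ⊓ Y : Subgroup G) : Set G) with hCI
  set CJ := V ⊓ Subgroup.centralizer ((X ⊔ Y : Subgroup G) : Set G) with hCJ
  have hCJ' : CJ = CX ⊓ CY := by
    rw [hCJ, centralizer_sup_eq, hCX, hCY]
    apply le_antisymm
    · exact le_inf (le_inf inf_le_left (inf_le_right.trans inf_le_left))
        (le_inf inf_le_left (inf_le_right.trans inf_le_right))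
    · exact le_inf (inf_le_left.trans inf_le_left)
        (le_inf (inf_le_left.trans inf_le_right) (inf_le_right.trans inf_le_right))
  have hsupCI : CX ⊔ CY ≤ CI := by
    refine sup_le ?_ ?_
    · exact le_inf inf_le_left (inf_le_right.trans
        (Subgroup.centralizer_le (by exact_mod_cast (inf_le_left : X ⊓ Y ≤ X))))
    · exact le_inf inf_le_left (inf_le_right.trans
        (Subgroup.centralizer_le (by exact_mod_cast (inf_le_right : X ⊓ Y ≤ Y))))
  -- abbreviations for the cardinalities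
  set x := Nat.card X
  set y := Nat.card Y
  set i := Nat.card (X ⊓ Y : Subgroup G)
  set j := Nat.card (X ⊔ Y : Subgroup G)
  set cx := Nat.card CX
  set cy := Nat.card CY
  set ci := Nat.card CI
  set s := Nat.card (CX ⊔ CY : Subgroup G)
  set t := Nat.card (CX ⊓ CY : Subgroup G)
  set F := offF V A with hF
  have e1 : x * y ≤ j * i := card_mul_card_le_sup_mul_inf X Y
  have e2 : cx * cy ≤ s * t := card_mul_card_le_sup_mul_inf CX CY
  have e4 : s ≤ ci := Subgroup.card_le_of_le hsupCI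
  have e5 : i * ci ≤ F := hmax _ (inf_le_left.trans hX)
  have e5' : j * t ≤ F := by
    have := hmax _ (sup_le hX hY)
    unfold offF at this
    rw [← hCJ, hCJ'] at this
    exact this
  have e6 : x * cx = F := hfX
  have e6' : y * cy = F := hfY
  have hjpos : 0 < j := Nat.card_pos
  have htpos : 0 < t := Nat.card_pos
  have hipos : 0 < i := Nat.card_pos
  have hjt : 0 < j * t := Nat.mul_pos hjpos htpos
  have h1 : F * F ≤ (i * s) * (j * t) := by
    calc F * F = (x * cx) * (y * cy) := by rw [e6, e6']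
      _ = (x * y) * (cx * cy) := by ring
      _ ≤ (j * i) * (s * t) := Nat.mul_le_mul e1 e2
      _ = (i * s) * (j * t) := by ring
  have h2 : (i * s) * (j * t) ≤ (i * ci) * (j * t) :=
    Nat.mul_le_mul_right _ (Nat.mul_le_mul_left _ e4)
  have h3 : (i * ci) * (j * t) ≤ F * F := Nat.mul_le_mul e5 e5'
  have h4 : (i * ci) * (j * t) = F * F := le_antisymm h3 (h1.trans h2)
  have h5 : (i * s) * (j * t) = (i * ci) * (j * t) := le_antisymm h2 (h4 ▸ h1)
  have h6 : i * s = i * ci := Nat.eq_of_mul_eq_mul_right hjt h5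
  have h7 : s = ci := Nat.eq_of_mul_eq_mul_left hipos h6
  have h8 : i * ci = F := by
    by_contra hne
    have hlt : i * ci < F := lt_of_le_of_ne e5 hne
    have : (i * ci) * (j * t) < F * F := by
      calc (i * ci) * (j * t) < F * (j * t) := Nat.mul_lt_mul_of_pos_right hlt hjt
        _ ≤ F * F := Nat.mul_le_mul_left _ e5'
    exact absurd h4 this.ne
  refine ⟨h8, ?_⟩
  exact (Subgroup.eq_of_le_of_card_ge hsupCI h7.symm.le).symm


/-- The set of commutators `⁅u, a⁆` with `u ∈ s`, `a ∈ A`. -/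
def commSet (s : Set G) (A : Subgroup G) : Set G := {g | ∃ u ∈ s, ∃ a ∈ A, ⁅u, a⁆ = g}

theorem conj_mem_of_le_normalizer {V A : Subgroup G} (hAV : A ≤ Subgroup.normalizer (V : Set G))
    {a v : G} (ha : a ∈ A) (hv : v ∈ V) : a * v * a⁻¹ ∈ V :=
  ((Subgroup.mem_normalizer_iff.mp (hAV ha)) v).mp hv

theorem comm_mem_of_le_normalizer {V A : Subgroup G} (hAV : A ≤ Subgroup.normalizer (V : Set G))
    {a v : G} (ha : a ∈ A) (hv : v ∈ V) : ⁅v, a⁆ ∈ V := by
  rw [commutatorElement_def]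
  have h1 : a * v⁻¹ * a⁻¹ ∈ V := conj_mem_of_le_normalizer hAV ha (V.inv_mem hv)
  have : v * a * v⁻¹ * a⁻¹ = v * (a * v⁻¹ * a⁻¹) := by group
  rw [this]
  exact V.mul_mem hv h1

/-- If `A` acts on `V` with abelian image, then conjugation by `x * y` and `y * x` agree on `V`. -/
theorem abelian_action {V A : Subgroup G} (hAV : A ≤ Subgroup.normalizer (V : Set G))
    (hab : ⁅A, A⁆ ≤ Subgroup.centralizer (V : Set G)) {x y v : G} (hx : x ∈ A) (hy : y ∈ A)
    (hv : v ∈ V) : x * y * v * y⁻¹ * x⁻¹ = y * x * v * x⁻¹ * y⁻¹ := by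
  have hc : ⁅x, y⁆ ∈ Subgroup.centralizer (V : Set G) :=
    hab (Subgroup.commutator_mem_commutator hx hy)
  have hw : y * x * v * x⁻¹ * y⁻¹ ∈ V := by
    have h1 := conj_mem_of_le_normalizer hAV hx hv
    have h2 := conj_mem_of_le_normalizer hAV hy h1
    have : y * x * v * x⁻¹ * y⁻¹ = y * (x * v * x⁻¹) * y⁻¹ := by group
    rw [this]; exact h2
  have hcomm := (Subgroup.mem_centralizer_iff.mp hc) _ hw
  calc x * y * v * y⁻¹ * x⁻¹ = ⁅x, y⁆ * (y * x * v * x⁻¹ * y⁻¹) * ⁅x, y⁆⁻¹ := by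
        rw [commutatorElement_def]; group
    _ = (y * x * v * x⁻¹ * y⁻¹) * ⁅x, y⁆ * ⁅x, y⁆⁻¹ := by rw [← hcomm]
    _ = y * x * v * x⁻¹ * y⁻¹ := by group

theorem mem_centralizer_commSet_of_comm_mem {V A : Subgroup G} (hVc : IsMulCommutative V)
    (hAV : A ≤ Subgroup.normalizer (V : Set G))
    (hab : ⁅A, A⁆ ≤ Subgroup.centralizer (V : Set G)) {u c : G} (hu : u ∈ V) (hc : c ∈ A)
    (hw : ⁅u, c⁆ ∈ V ⊓ Subgroup.centralizer (A : Set G)) :
    c ∈ Subgroup.centralizer (commSet {u} A) := by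
  rw [Subgroup.mem_centralizer_iff]
  rintro k ⟨u', hu', b, hb, rfl⟩
  rw [Set.mem_singleton_iff] at hu'
  subst hu'
  set w := ⁅u', c⁆ with hwdef
  set k := ⁅u', b⁆ with hkdef
  have hk_mem : k ∈ V := comm_mem_of_le_normalizer hAV hb hu
  have hkw : k * w = w * k := by
    have := mul_comm' (⟨k, hk_mem⟩ : V) ⟨w, hw.1⟩
    exact congrArg Subtype.val this
  have hbw : Commute b w := (Subgroup.mem_centralizer_iff.mp hw.2) b hb
  have hbw' : b⁻¹ * w = w * b⁻¹ := hbw.inv_left.eq
  have hAA : c * b * u'⁻¹ * b⁻¹ * c⁻¹ = b * c * u'⁻¹ * c⁻¹ * b⁻¹ :=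
    abelian_action hAV hab hc hb (V.inv_mem hu)
  have hcw : c * u'⁻¹ * c⁻¹ = u'⁻¹ * w := by
    rw [hwdef, commutatorElement_def]; group
  have key : c * k * c⁻¹ = k := by
    calc c * k * c⁻¹ = (c * u'⁻¹ * c⁻¹)⁻¹ * (c * b * u'⁻¹ * b⁻¹ * c⁻¹) := by
          rw [hkdef, commutatorElement_def]; group
      _ = (c * u'⁻¹ * c⁻¹)⁻¹ * (b * c * u'⁻¹ * c⁻¹ * b⁻¹) := by rw [hAA]
      _ = (c * u'⁻¹ * c⁻¹)⁻¹ * (b * (c * u'⁻¹ * c⁻¹) * b⁻¹) := by group
      _ = (u'⁻¹ * w)⁻¹ * (b * (u'⁻¹ * w) * b⁻¹) := by rw [hcw]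
      _ = w⁻¹ * u' * b * u'⁻¹ * (w * b⁻¹) := by group
      _ = w⁻¹ * u' * b * u'⁻¹ * (b⁻¹ * w) := by rw [hbw']
      _ = w⁻¹ * (u' * b * u'⁻¹ * b⁻¹) * w := by group
      _ = w⁻¹ * (k * w) := by rw [hkdef, commutatorElement_def]; group
      _ = w⁻¹ * (w * k) := by rw [hkw]
      _ = k := by group
  calc k * c = (c * k * c⁻¹) * c := by rw [key]
    _ = c * k := by group

theorem inv_mul_mem_of_comm_mul_eq {V A : Subgroup G} (hVc : IsMulCommutative V)
    (hAV : A ≤ Subgroup.normalizer (V : Set G))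
    (hab : ⁅A, A⁆ ≤ Subgroup.centralizer (V : Set G)) {u a a' v v' : G} (hu : u ∈ V)
    (ha : a ∈ A) (ha' : a' ∈ A) (hv : v ∈ V ⊓ Subgroup.centralizer (A : Set G))
    (hv' : v' ∈ V ⊓ Subgroup.centralizer (A : Set G)) (h : ⁅u, a⁆ * v = ⁅u, a'⁆ * v') :
    a⁻¹ * a' ∈ A ⊓ Subgroup.centralizer (commSet {u} A) := by
  refine ⟨A.mul_mem (A.inv_mem ha) ha', ?_⟩
  apply mem_centralizer_commSet_of_comm_mem hVc hAV hab hu (A.mul_mem (A.inv_mem ha) ha')
  -- d = v * v'⁻¹
  have hd : v * v'⁻¹ ∈ V ⊓ Subgroup.centralizer (A : Set G) :=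
    Subgroup.mul_mem _ hv (Subgroup.inv_mem _ hv')
  have hd1 : ⁅u, a⁆⁻¹ * ⁅u, a'⁆ = v * v'⁻¹ := by
    calc ⁅u, a⁆⁻¹ * ⁅u, a'⁆ = ⁅u, a⁆⁻¹ * (⁅u, a'⁆ * v') * v'⁻¹ := by group
      _ = ⁅u, a⁆⁻¹ * (⁅u, a⁆ * v) * v'⁻¹ := by rw [h]
      _ = v * v'⁻¹ := by group
  have hda : Commute a (v * v'⁻¹) := (Subgroup.mem_centralizer_iff.mp hd.2) a ha
  have : ⁅u, a⁻¹ * a'⁆ = v * v'⁻¹ := by
    calc ⁅u, a⁻¹ * a'⁆ = a⁻¹ * (⁅u, a⁆⁻¹ * ⁅u, a'⁆) * a := by
          simp only [commutatorElement_def]; group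
      _ = a⁻¹ * (v * v'⁻¹) * a := by rw [hd1]
      _ = a⁻¹ * (a * (v * v'⁻¹)) := by rw [mul_assoc, hda.eq]
      _ = v * v'⁻¹ := by group
  rw [this]
  exact hd


theorem comm_cancel_left {u a v v' : G} (h : ⁅u, a⁆ * v = ⁅u, a⁆ * v') : v = v' :=
  mul_left_cancel h

/-- The counting inequality of the one-generator step. -/
theorem card_mul_card_le_one_gen [Finite G] {V A : Subgroup G} (hVc : IsMulCommutative V)
    (hAV : A ≤ Subgroup.normalizer (V : Set G))
    (hab : ⁅A, A⁆ ≤ Subgroup.centralizer (V : Set G)) {u : G} (hu : u ∈ V) :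
    Nat.card A * Nat.card ↥(V ⊓ Subgroup.centralizer (A : Set G)) ≤
      Nat.card ↥(A ⊓ Subgroup.centralizer (commSet {u} A)) *
        Nat.card ↥(Subgroup.closure (commSet {u} A) ⊔ (V ⊓ Subgroup.centralizer (A : Set G))) := by
  classical
  set V0 := V ⊓ Subgroup.centralizer (A : Set G) with hV0
  set K := commSet {u} A with hK
  set T := Subgroup.closure K with hT
  set Au := A ⊓ Subgroup.centralizer K with hAu
  let Ψ : ↥A × ↥V0 → ↥(T ⊔ V0) := fun q =>
    ⟨⁅u, (q.1 : G)⁆ * (q.2 : G), Subgroup.mul_mem _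
      (le_sup_left (a := T) (Subgroup.subset_closure ⟨u, rfl, q.1, q.1.2, rfl⟩))
      (le_sup_right (a := T) q.2.2)⟩
  have hΨ : ∀ q : ↥A × ↥V0, Ψ (Function.invFun Ψ (Ψ q)) = Ψ q := fun q =>
    Function.invFun_eq ⟨q, rfl⟩
  have hmemAu : ∀ q : ↥A × ↥V0,
      (((Function.invFun Ψ (Ψ q)).1 : ↥A) : G)⁻¹ * ((q.1 : ↥A) : G) ∈ Au := by
    intro q
    have h := congrArg Subtype.val (hΨ q)
    exact inv_mul_mem_of_comm_mul_eq hVc hAV hab hu (Function.invFun Ψ (Ψ q)).1.2 q.1.2
      (Function.invFun Ψ (Ψ q)).2.2 q.2.2 h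
  let Θ : ↥A × ↥V0 → ↥Au × ↥(T ⊔ V0) := fun q =>
    (⟨(((Function.invFun Ψ (Ψ q)).1 : ↥A) : G)⁻¹ * ((q.1 : ↥A) : G), hmemAu q⟩, Ψ q)
  have hΘ : Function.Injective Θ := by
    intro q q' hqq
    have h2 : Ψ q = Ψ q' := congrArg Prod.snd hqq
    have h1 := congrArg (fun z : ↥Au × ↥(T ⊔ V0) => ((z.1 : ↥Au) : G)) hqq
    simp only [Θ] at h1
    rw [h2] at h1
    have h3 : ((q.1 : ↥A) : G) = ((q'.1 : ↥A) : G) := mul_left_cancel h1
    have h4 := congrArg Subtype.val h2
    simp only [Ψ] at h4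
    rw [h3] at h4
    have h5 : ((q.2 : ↥V0) : G) = ((q'.2 : ↥V0) : G) := mul_left_cancel h4
    exact Prod.ext (Subtype.ext h3) (Subtype.ext h5)
  have := Nat.card_le_card_of_injective Θ hΘ
  rwa [Nat.card_prod, Nat.card_prod] at this

/-- The one-generator step of Timmesfeld's replacement theorem. -/
theorem offF_one_gen [Finite G] {V A : Subgroup G} (hVc : IsMulCommutative V)
    (hAV : A ≤ Subgroup.normalizer (V : Set G))
    (hab : ⁅A, A⁆ ≤ Subgroup.centralizer (V : Set G))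
    (hmax : ∀ Z : Subgroup G, Z ≤ A → offF V Z ≤ offF V A) {u : G} (hu : u ∈ V) :
    offF V (A ⊓ Subgroup.centralizer (commSet {u} A)) = offF V A ∧
      V ⊓ Subgroup.centralizer ((A ⊓ Subgroup.centralizer (commSet {u} A) : Subgroup G) : Set G) =
        Subgroup.closure (commSet {u} A) ⊔ (V ⊓ Subgroup.centralizer (A : Set G)) := by
  have hcard := card_mul_card_le_one_gen hVc hAV hab hu
  set V0 := V ⊓ Subgroup.centralizer (A : Set G) with hV0
  set K := commSet {u} A with hK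
  set T := Subgroup.closure K with hT
  set Au := A ⊓ Subgroup.centralizer K with hAu
  have hTV : T ≤ V := by
    rw [hT, Subgroup.closure_le]
    rintro k ⟨u', hu', a, ha, rfl⟩
    rw [Set.mem_singleton_iff] at hu'
    subst hu'
    exact comm_mem_of_le_normalizer hAV ha hu
  have hTc : T ≤ Subgroup.centralizer (Au : Set G) := by
    rw [Subgroup.le_centralizer_iff, hT, Subgroup.centralizer_closure]
    exact inf_le_right
  have hle : T ⊔ V0 ≤ V ⊓ Subgroup.centralizer (Au : Set G) := by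
    refine sup_le (le_inf hTV hTc) (le_inf inf_le_left ?_)
    exact inf_le_right.trans (Subgroup.centralizer_le (by exact_mod_cast (inf_le_left : Au ≤ A)))
  have h1 : Nat.card ↥(T ⊔ V0) ≤ Nat.card ↥(V ⊓ Subgroup.centralizer (Au : Set G)) :=
    Subgroup.card_le_of_le hle
  have h2 : offF V Au ≤ offF V A := hmax Au inf_le_left
  have hpos : 0 < Nat.card Au := Nat.card_pos
  have h3 : offF V A ≤ Nat.card Au * Nat.card ↥(T ⊔ V0) := hcard
  have h4 : Nat.card Au * Nat.card ↥(T ⊔ V0) ≤ offF V Au := Nat.mul_le_mul_left _ h1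
  have h5 : offF V Au = offF V A := le_antisymm h2 (h3.trans h4)
  refine ⟨h5, ?_⟩
  have h6 : Nat.card Au * Nat.card ↥(T ⊔ V0) = Nat.card Au * Nat.card ↥(V ⊓ Subgroup.centralizer (Au : Set G)) :=
    le_antisymm h4 (h2.trans h3)
  have h7 := Nat.eq_of_mul_eq_mul_left hpos h6
  exact (Subgroup.eq_of_le_of_card_ge hle h7.symm.le).symm


theorem commSet_insert (u : G) (s : Set G) (A : Subgroup G) :
    commSet (insert u s) A = commSet {u} A ∪ commSet s A := by
  ext g
  constructor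
  · rintro ⟨u', hu', a, ha, rfl⟩
    rcases hu' with rfl | hu'
    · exact Or.inl ⟨u', rfl, a, ha, rfl⟩
    · exact Or.inr ⟨u', hu', a, ha, rfl⟩
  · rintro (⟨u', hu', a, ha, rfl⟩ | ⟨u', hu', a, ha, rfl⟩)
    · rw [Set.mem_singleton_iff] at hu'
      exact ⟨u', Or.inl hu', a, ha, rfl⟩
    · exact ⟨u', Or.inr hu', a, ha, rfl⟩

theorem centralizer_union_eq (K1 K2 : Set G) :
    Subgroup.centralizer (K1 ∪ K2) = Subgroup.centralizer K1 ⊓ Subgroup.centralizer K2 := by
  apply le_antisymm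
  · exact le_inf (Subgroup.centralizer_le Set.subset_union_left)
      (Subgroup.centralizer_le Set.subset_union_right)
  · intro g hg
    rw [Subgroup.mem_centralizer_iff]
    intro z hz
    rcases hz with hz | hz
    · exact (Subgroup.mem_centralizer_iff.mp hg.1) z hz
    · exact (Subgroup.mem_centralizer_iff.mp hg.2) z hz

theorem timmesfeld_aux [Finite G] {V A : Subgroup G} (hVc : IsMulCommutative V)
    (hAV : A ≤ Subgroup.normalizer (V : Set G))
    (hab : ⁅A, A⁆ ≤ Subgroup.centralizer (V : Set G))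
    (hmax : ∀ Z : Subgroup G, Z ≤ A → offF V Z ≤ offF V A) (s : Finset G) :
    (∀ u ∈ s, u ∈ V) →
    offF V (A ⊓ Subgroup.centralizer (commSet (s : Set G) A)) = offF V A ∧
      V ⊓ Subgroup.centralizer ((A ⊓ Subgroup.centralizer (commSet (s : Set G) A) : Subgroup G) : Set G) =
        Subgroup.closure (commSet (s : Set G) A) ⊔ (V ⊓ Subgroup.centralizer (A : Set G)) := by
  classical
  induction s using Finset.induction_on with
  | empty =>
    intro _
    have hK : commSet ((∅ : Finset G) : Set G) A = ∅ := by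
      ext g
      simp [commSet]
    have hce : Subgroup.centralizer (∅ : Set G) = ⊤ := by
      ext g
      simp [Subgroup.mem_centralizer_iff]
    rw [hK, hce]
    simp
  | insert u s hus ih =>
    intro hs
    have hu : u ∈ V := hs u (Finset.mem_insert_self u s)
    have hs' : ∀ v ∈ s, v ∈ V := fun v hv => hs v (Finset.mem_insert_of_mem hv)
    obtain ⟨ih1, ih2⟩ := ih hs'
    obtain ⟨og1, og2⟩ := offF_one_gen hVc hAV hab hmax hu
    rw [Finset.coe_insert, commSet_insert, centralizer_union_eq, Subgroup.closure_union]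
    have hX : A ⊓ (Subgroup.centralizer (commSet {u} A) ⊓ Subgroup.centralizer (commSet (s : Set G) A)) =
        (A ⊓ Subgroup.centralizer (commSet (s : Set G) A)) ⊓ (A ⊓ Subgroup.centralizer (commSet {u} A)) := by
      apply le_antisymm
      · exact le_inf (le_inf inf_le_left (inf_le_right.trans inf_le_right))
          (le_inf inf_le_left (inf_le_right.trans inf_le_left))
      · exact le_inf (inf_le_left.trans inf_le_left)
          (le_inf (inf_le_right.trans inf_le_right) (inf_le_left.trans inf_le_right))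
    rw [hX]
    obtain ⟨r1, r2⟩ := offF_inf_eq hmax (inf_le_left : A ⊓ Subgroup.centralizer (commSet (s : Set G) A) ≤ A)
      (inf_le_left : A ⊓ Subgroup.centralizer (commSet {u} A) ≤ A) ih1 og1
    refine ⟨r1, ?_⟩
    rw [r2, ih2, og2]
    apply le_antisymm
    · refine sup_le (sup_le ?_ ?_) (sup_le ?_ ?_)
      · exact le_sup_right.trans le_sup_left
      · exact le_sup_right
      · exact le_sup_left.trans le_sup_left
      · exact le_sup_right
    · refine sup_le (sup_le ?_ ?_) ?_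
      · exact le_sup_left.trans le_sup_right
      · exact le_sup_left.trans le_sup_left
      · exact le_sup_right.trans le_sup_left

/-- Timmesfeld's replacement theorem (core statement). -/
theorem timmesfeld_main [Finite G] {V A U : Subgroup G} (hVc : IsMulCommutative V)
    (hAV : A ≤ Subgroup.normalizer (V : Set G))
    (hab : ⁅A, A⁆ ≤ Subgroup.centralizer (V : Set G))
    (hmax : ∀ Z : Subgroup G, Z ≤ A → offF V Z ≤ offF V A) (hU : U ≤ V) :
    offF V (A ⊓ Subgroup.centralizer ((⁅U, A⁆ : Subgroup G) : Set G)) = offF V A ∧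
      V ⊓ Subgroup.centralizer ((A ⊓ Subgroup.centralizer ((⁅U, A⁆ : Subgroup G) : Set G) : Subgroup G) : Set G) =
        ⁅U, A⁆ ⊔ (V ⊓ Subgroup.centralizer (A : Set G)) := by
  classical
  have hfin : (U : Set G).Finite := Set.toFinite _
  have h := timmesfeld_aux hVc hAV hab hmax hfin.toFinset (by
    intro u hu
    rw [Set.Finite.mem_toFinset] at hu
    exact hU hu)
  rw [Set.Finite.coe_toFinset] at h
  have hcl : Subgroup.closure (commSet (U : Set G) A) = ⁅U, A⁆ := by
    rw [Subgroup.commutator_def]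
    rfl
  have hcent : Subgroup.centralizer ((⁅U, A⁆ : Subgroup G) : Set G) =
      Subgroup.centralizer (commSet (U : Set G) A) := by
    rw [← hcl, Subgroup.centralizer_closure]
  rw [hcent, ← hcl]
  exact h

end Cfsg.Agent.Lib.Helper14
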