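import Mathlib.GroupTheory.Sylow
import Mathlib.GroupTheory.Nilpotent
import Mathlib.GroupTheory.Index
import Mathlib.Algebra.Group.Subgroup.Pointwise
import Mathlib.Tactic.Group

set_option autoImplicit false

namespace Cfsg.Agent.Lib.Helper14

open scoped Pointwise

theorem pow_comm_of_comm_central {K : Type*} [Group K] (a b : K)
    (hz : a * b * a⁻¹ * b⁻¹ ∈ Subgroup.center K) (k : ℕ) :
    a ^ k * b * (a ^ k)⁻¹ * b⁻¹ = (a * b * a⁻¹ * b⁻¹) ^ k := by
  induction k with
  | zero => simp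
  | succ k ih =>
    have h1 : a ^ (k + 1) * b * (a ^ (k + 1))⁻¹ * b⁻¹
        = a * ((a ^ k * b * (a ^ k)⁻¹ * b⁻¹) * b) * a⁻¹ * b⁻¹ := by
      rw [pow_succ']; group
    rw [h1, ih]
    have hc : ∀ y : K, (a * b * a⁻¹ * b⁻¹) ^ k * y = y * (a * b * a⁻¹ * b⁻¹) ^ k := by
      intro y
      exact ((Subgroup.mem_center_iff.mp ((Subgroup.center K).pow_mem hz k)) y).symm
    calc a * ((a * b * a⁻¹ * b⁻¹) ^ k * b) * a⁻¹ * b⁻¹
        = a * (a * b * a⁻¹ * b⁻¹) ^ k * (b * a⁻¹ * b⁻¹) := by group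
      _ = (a * b * a⁻¹ * b⁻¹) ^ k * a * (b * a⁻¹ * b⁻¹) := by rw [← hc a]
      _ = (a * b * a⁻¹ * b⁻¹) ^ k * (a * b * a⁻¹ * b⁻¹) := by group
      _ = (a * b * a⁻¹ * b⁻¹) ^ (k + 1) := (pow_succ _ _).symm

/-- In a nilpotent group, elements of coprime order commute. -/
theorem commute_of_coprime_orderOf (K : Type*) [Group K] [Group.IsNilpotent K] :
    ∀ a b : K, (orderOf a).Coprime (orderOf b) → Commute a b := by
  refine Group.nilpotent_center_quotient_ind
    (P := fun K _ _ => ∀ a b : K, (orderOf a).Coprime (orderOf b) → Commute a b) K ?_ ?_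
  · intro K _ _ a b _
    exact Subsingleton.elim _ _
  · intro K _ _ ih a b hab
    have h1 : Commute (QuotientGroup.mk' (Subgroup.center K) a)
        (QuotientGroup.mk' (Subgroup.center K) b) := by
      apply ih
      exact Nat.Coprime.of_dvd (orderOf_map_dvd _ a) (orderOf_map_dvd _ b) hab
    have hz : a * b * a⁻¹ * b⁻¹ ∈ Subgroup.center K := by
      rw [← QuotientGroup.ker_mk' (Subgroup.center K), MonoidHom.mem_ker]
      simp only [map_mul, map_inv]
      rw [h1.eq]; group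
    have hza : (a * b * a⁻¹ * b⁻¹) ^ orderOf a = 1 := by
      rw [← pow_comm_of_comm_central a b hz, pow_orderOf_eq_one]; group
    have hz' : b * a * b⁻¹ * a⁻¹ ∈ Subgroup.center K := by
      have := (Subgroup.center K).inv_mem hz
      have e : (a * b * a⁻¹ * b⁻¹)⁻¹ = b * a * b⁻¹ * a⁻¹ := by group
      rwa [e] at this
    have hzb : (a * b * a⁻¹ * b⁻¹) ^ orderOf b = 1 := by
      have : (b * a * b⁻¹ * a⁻¹) ^ orderOf b = 1 := by
        rw [← pow_comm_of_comm_central b a hz', pow_orderOf_eq_one]; group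
      have e : (a * b * a⁻¹ * b⁻¹) = (b * a * b⁻¹ * a⁻¹)⁻¹ := by group
      rw [e, inv_pow, this, inv_one]
    have h2 : orderOf (a * b * a⁻¹ * b⁻¹) ∣ 1 := by
      have := Nat.dvd_gcd (orderOf_dvd_of_pow_eq_one hza) (orderOf_dvd_of_pow_eq_one hzb)
      rwa [hab.gcd_eq_one] at this
    have h3 : a * b * a⁻¹ * b⁻¹ = 1 := by
      rw [← orderOf_eq_one_iff]; exact Nat.dvd_one.mp h2
    show a * b = b * a
    calc a * b = (a * b * a⁻¹ * b⁻¹) * (b * a) := by group
      _ = b * a := by rw [h3, one_mul]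

variable {G : Type*} [Group G]

/-- elements of a nilpotent subgroup of coprime orders commute -/
theorem commute_of_mem_nilpotent {H : Subgroup G} (hH : Group.IsNilpotent H) {a b : G}
    (ha : a ∈ H) (hb : b ∈ H) (hab : (orderOf a).Coprime (orderOf b)) : a * b = b * a := by
  have := commute_of_coprime_orderOf H ⟨a, ha⟩ ⟨b, hb⟩ (by
    rw [← Subgroup.orderOf_coe, ← Subgroup.orderOf_coe]; exact hab)
  exact congrArg Subtype.val this.eq

theorem index_conj_smul (x : G) (Q : Subgroup G) : (MulAut.conj x • Q).index = Q.index :=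
  Subgroup.index_map_equiv Q (MulAut.conj x)

theorem card_conj_smul (x : G) (Q : Subgroup G) :
    Nat.card ↥(MulAut.conj x • Q) = Nat.card Q :=
  (Nat.card_congr (Subgroup.equivSMul (MulAut.conj x) Q).toEquiv).symm

theorem card_mul_relIndex_of_le {P H : Subgroup G} (h : P ≤ H) :
    Nat.card P * P.relIndex H = Nat.card H := by
  have h1 := Subgroup.card_mul_index (P.subgroupOf H)
  rw [Nat.card_congr (Subgroup.subgroupOfEquivOfLe h).toEquiv] at h1
  exact h1

theorem le_normalizer_of_forall_conj_mem {K N : Subgroup G}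
    (h : ∀ k ∈ K, ∀ n ∈ N, k * n * k⁻¹ ∈ N) : K ≤ Subgroup.normalizer (N : Set G) := by
  intro e he
  rw [Subgroup.mem_normalizer_iff]
  intro y
  refine ⟨h e he y, fun hy => ?_⟩
  have := h e⁻¹ (inv_mem he) _ hy
  have e1 : e⁻¹ * (e * y * e⁻¹) * e⁻¹⁻¹ = y := by group
  rwa [e1] at this

theorem mem_of_pow_mem_of_coprime {K : Subgroup G} {g : G} {n : ℕ}
    (hc : (orderOf g).Coprime n) (h : g ^ n ∈ K) : g ∈ K := by
  have hz : g ∈ Subgroup.zpowers (g ^ n) := by
    rw [mem_zpowers_pow_iff]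
    exact hc.symm
  exact (Subgroup.zpowers_le.mpr h) hz

/-- Sylow's theorem inside a subgroup `L`. -/
theorem exists_conj_le_of_not_dvd_relIndex [Finite G] {p : ℕ} [Fact p.Prime] {L P R : Subgroup G}
    (hRL : R ≤ L) (hP : IsPGroup p P) (hR : IsPGroup p R)
    (hidx : ¬ p ∣ P.relIndex L) : ∃ c ∈ L, R ≤ MulAut.conj c • P := by
  have hP' : IsPGroup p (P.subgroupOf L) := hP.comap_subtype
  have hR' : IsPGroup p (R.subgroupOf L) := hR.comap_subtype
  let S : Sylow p L := hP'.toSylow hidx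
  obtain ⟨S', hS'⟩ := hR'.exists_le_sylow
  obtain ⟨c, hc⟩ := MulAction.exists_smul_eq L S S'
  refine ⟨c, c.2, ?_⟩
  intro r hr
  have h1 : (⟨r, hRL hr⟩ : L) ∈ (S' : Subgroup L) := hS' (Subgroup.mem_subgroupOf.mpr hr)
  rw [← hc, Sylow.coe_subgroup_smul,
    Subgroup.mem_pointwise_smul_iff_inv_smul_mem] at h1
  rw [Subgroup.mem_pointwise_smul_iff_inv_smul_mem]
  have h2 : (MulAut.conj c)⁻¹ • (⟨r, hRL hr⟩ : L) ∈ P.subgroupOf L := h1
  rw [Subgroup.mem_subgroupOf] at h2
  simpa [MulAut.smul_def, MulAut.conj_inv_apply] using h2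

end Cfsg.Agent.Lib.Helper14
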