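import Mathlib.GroupTheory.Sylow
import Mathlib.GroupTheory.PGroup
import Mathlib.GroupTheory.Subgroup.Centralizer
import Mathlib.GroupTheory.QuotientGroup.Basic
import Cfsg.Prelude.Def_Transfer

set_option autoImplicit false

namespace Cfsg.Agent.Lib.Helper14

open Subgroup

/-- A normal `p`-subgroup lies in every Sylow `p`-subgroup. -/
theorem normal_pgroup_le_sylow {G : Type*} [Group G] [Finite G] {p : ℕ} [Fact p.Prime]
    (N : Subgroup G) [hNn : N.Normal] (hN : IsPGroup p N) (S : Sylow p G) : N ≤ (S : Subgroup G) := by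
  obtain ⟨Q, hQ⟩ := hN.exists_le_sylow
  obtain ⟨g, hg⟩ := MulAction.exists_smul_eq G Q S
  intro n hn
  rw [← hg, Sylow.smul_def, Sylow.pointwise_smul_def, Subgroup.mem_pointwise_smul_iff_inv_smul_mem,
    MulAut.smul_def, MulAut.conj_inv_apply]
  apply hQ
  have := hNn.conj_mem n hn g⁻¹
  simpa using this

/-- The closure of a set of pairwise commuting elements of order dividing `p` is elementary
abelian. -/
theorem isElementaryAbelian_closure {G : Type*} [Group G] (p : ℕ) {k : Set G}
    (hcomm : ∀ x ∈ k, ∀ y ∈ k, x * y = y * x) (hp : ∀ x ∈ k, x ^ p = 1) :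
    Cfsg.IsElementaryAbelian p (Subgroup.closure k) := by
  have hc : IsMulCommutative (Subgroup.closure k) := Subgroup.isMulCommutative_closure hcomm
  refine ⟨hc, ?_⟩
  intro a ha
  induction ha using Subgroup.closure_induction with
  | mem x hx => exact hp x hx
  | one => simp
  | mul x y hx hy ihx ihy =>
    have hxy : Commute x y := by
      have := mul_comm' (⟨x, hx⟩ : Subgroup.closure k) ⟨y, hy⟩
      exact congrArg Subtype.val this
    rw [hxy.mul_pow, ihx, ihy, one_mul]
  | inv x hx ih => rw [inv_pow, ih, inv_one]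

/-- If a normal subgroup `V` is generated by the fixed points of the Sylow `p`-subgroups, then
`G / C_G(V)` has no nontrivial normal `p`-subgroup. -/
theorem normal_pgroup_quotient_centralizer_eq_bot {G : Type*} [Group G] [Finite G] {p : ℕ}
    [Fact p.Prime] (V : Subgroup G) [V.Normal]
    (hgen : V = ⨆ S : Sylow p G, V ⊓ Subgroup.centralizer ((S : Subgroup G) : Set G))
    (N : Subgroup (G ⧸ Subgroup.centralizer (V : Set G))) [N.Normal] (hN : IsPGroup p N) :
    N = ⊥ := by
  classical
  rw [eq_bot_iff]
  intro xbar hx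
  obtain ⟨x, rfl⟩ := QuotientGroup.mk_surjective xbar
  rw [Subgroup.mem_bot, QuotientGroup.eq_one_iff]
  have hπ : Function.Surjective (QuotientGroup.mk' (Subgroup.centralizer (V : Set G))) :=
    QuotientGroup.mk'_surjective _
  -- V ≤ centralizer {x}
  have hle : V ≤ Subgroup.centralizer ({x} : Set G) := by
    rw [hgen]
    refine iSup_le fun S => ?_
    have hNS := normal_pgroup_le_sylow N hN (S.mapSurjective hπ)
    have hxS := hNS hx
    rw [Sylow.coe_mapSurjective] at hxS
    obtain ⟨s, hs, hsx⟩ := hxS
    have hc : s⁻¹ * x ∈ Subgroup.centralizer (V : Set G) := by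
      rw [← QuotientGroup.eq]
      exact hsx
    intro v hv
    rw [Subgroup.mem_centralizer_singleton_iff]
    have h1 : s * v = v * s := (Subgroup.mem_centralizer_iff.mp hv.2) s hs
    have h2 : v * (s⁻¹ * x) = (s⁻¹ * x) * v := (Subgroup.mem_centralizer_iff.mp hc) v hv.1
    calc v * x = v * s * (s⁻¹ * x) := by group
      _ = s * v * (s⁻¹ * x) := by rw [h1]
      _ = s * (v * (s⁻¹ * x)) := by group
      _ = s * ((s⁻¹ * x) * v) := by rw [h2]
      _ = x * v := by group
  rw [Subgroup.mem_centralizer_iff]
  intro v hv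
  exact Subgroup.mem_centralizer_singleton_iff.mp (hle hv)

end Cfsg.Agent.Lib.Helper14
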