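import Mathlib
import Cfsg.Agent.S1350
import Cfsg.Agent.S1417
import Cfsg.Agent.S1418
import Cfsg.Agent.S1420
import Cfsg.Agent.S1424
import Cfsg.Agent.Lib.Helper13.BG12A
import Cfsg.Agent.Lib.Helper13.BG12B
import Cfsg.Agent.Lib.Helper55.SylowIn
import Cfsg.Agent.Lib.Helper71.BG10Sub

/-!
# K-S1428-G8 (BG 12.14(f)) : `q ∈ σ(M)`, `N_G(X) ≤ L`, `q ∉ σ(L)`  ⟹  `q ∈ τ₂(L)` and `M ∩ L` is a complement of `L_σ` in `L`
-/

set_option autoImplicit false
set_option linter.unusedSectionVars false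
set_option linter.style.haveILetI false

namespace Cfsg.Agent.Lib.Helper14.BG134

open Cfsg Cfsg.Agent.Lib.Helper55

variable {G : Type*} [Group G] [Finite G]

/-- every subgroup of a cyclic subgroup `T` is normalized by `N_G(T)` -/
theorem normalizer_le_normalizer_of_isCyclic {T X : Subgroup G} (hT : IsCyclic T) (hXT : X ≤ T) :
    Subgroup.normalizer (T : Set G) ≤ Subgroup.normalizer (X : Set G) := by
  have key : ∀ g ∈ Subgroup.normalizer (T : Set G), ∀ x ∈ X, g * x * g⁻¹ ∈ X := by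
    intro g hg x hx
    let σ : T →* T :=
      { toFun := fun t => ⟨g * t.1 * g⁻¹, (Subgroup.mem_normalizer_iff.mp hg t.1).mp t.2⟩
        map_one' := by ext; simp
        map_mul' := fun a b => by ext; simp [mul_assoc] }
    obtain ⟨m, hm⟩ := MonoidHom.map_cyclic σ
    have h1 := hm ⟨x, hXT hx⟩
    have h2 : g * x * g⁻¹ = x ^ m := by
      have := congrArg Subtype.val h1
      simpa [σ] using this
    rw [h2]
    exact X.zpow_mem hx m
  intro g hg
  rw [Subgroup.mem_normalizer_iff]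
  intro x
  constructor
  · exact key g hg x
  · intro hx
    have := key g⁻¹ (Subgroup.inv_mem _ hg) _ hx
    simpa [mul_assoc] using this

theorem isSylowIn_of_not_dvd_relIndex {q : ℕ} [Fact q.Prime] {L T : Subgroup G} (hTL : T ≤ L)
    (hT : IsPGroup q T) (h : ¬ q ∣ T.relIndex L) : IsSylowIn q L T := by
  have hT' : IsPGroup q (T.subgroupOf L) := hT.comap_subtype
  have h1 := isSylowIn_of_sylow (hT'.toSylow h)
  have e : ((hT'.toSylow h : Sylow q ↥L) : Subgroup ↥L) = T.subgroupOf L := IsPGroup.toSylow_coe _ _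
  rwa [e, Subgroup.map_subgroupOf_eq_of_le hTL] at h1

theorem isElementaryAbelian_cj' {p : ℕ} {B : Subgroup G} (hB : IsElementaryAbelian p B) (g : G) :
    IsElementaryAbelian p (cj g B) := by
  refine ⟨⟨⟨?_⟩⟩, ?_⟩
  · rintro ⟨x, hx⟩ ⟨y, hy⟩
    apply Subtype.ext
    obtain ⟨x', hx', rfl⟩ := hx
    obtain ⟨y', hy', rfl⟩ := hy
    have h1 : x' * y' = y' * x' := congrArg Subtype.val (hB.1.is_comm.comm ⟨x', hx'⟩ ⟨y', hy'⟩)
    show (MulAut.conj g).toMonoidHom x' * (MulAut.conj g).toMonoidHom y' =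
      (MulAut.conj g).toMonoidHom y' * (MulAut.conj g).toMonoidHom x'
    rw [← map_mul, ← map_mul, h1]
  · rintro x ⟨x', hx', rfl⟩
    rw [← map_pow, hB.2 x' hx', map_one]

theorem isPGroup_of_elemAb {p : ℕ} {B : Subgroup G} (hB : IsElementaryAbelian p B) : IsPGroup p B := by
  intro b
  refine ⟨1, ?_⟩
  apply Subtype.ext
  have := hB.2 b.1 b.2
  simpa using this

theorem not_isCyclic_of_elemAb_sq {p : ℕ} (hp : p.Prime) {B : Subgroup G} (hB : IsElementaryAbelian p B)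
    (hcard : Nat.card B = p ^ 2) : ¬ IsCyclic B := by
  intro hc
  obtain ⟨g, hg⟩ := IsCyclic.exists_generator (α := B)
  have h1 : orderOf g = Nat.card B := orderOf_eq_card_of_forall_mem_zpowers hg
  have h2 : g ^ p = 1 := Subtype.ext (by simpa using hB.2 g g.2)
  have h3 := Nat.le_of_dvd hp.pos (orderOf_dvd_of_pow_eq_one h2)
  rw [h1, hcard] at h3
  have h5 : p < p ^ 2 := by
    calc p = p ^ 1 := (pow_one p).symm
      _ < p ^ 2 := Nat.pow_lt_pow_right hp.one_lt (by norm_num)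
  omega

theorem tau2_and_compl (hG : IsMinSimpleOddOrder G) {M L : Subgroup G} (hM : IsCoatom M)
    (hL : IsCoatom L) (hne : L ≠ M) {q : ℕ} [Fact q.Prime] (hqM : q ∈ sigma M) (hqL : q ∉ sigma L)
    {X : Subgroup G} (hXq : IsPGroup q X) (hX1 : X ≠ ⊥) (hXM : X ≤ M)
    (hNX : Subgroup.normalizer (X : Set G) ≤ L) :
    q ∈ tau2 L ∧ IsComplIn (M ⊓ L) (sigmaCore L) L ∧ sigmaCore L ⊓ M = ⊥ := by
  have hqp : q.Prime := Fact.out
  have hXL : X ≤ L := Subgroup.le_normalizer.trans hNX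
  have hXML : X ≤ M ⊓ L := le_inf hXM hXL
  obtain ⟨T, hT, hXT⟩ := exists_isSylowIn_ge hXML hXq
  have h24 := Cfsg.Agent.S1424.result hG M hM q hqM X hXq hX1 hXM L hL hne hNX hT.toSylow
    (by rw [hT.map_toSylow]; exact hXT)
  rw [hT.map_toSylow] at h24
  obtain ⟨-, hNT, hrel⟩ := h24
  have hTL : T ≤ L := hT.1.trans inf_le_right
  have hTM : T ≤ M := hT.1.trans inf_le_left
  have hTq : IsPGroup q T := hT.2.1
  have hTsyl : IsSylowIn q L T := isSylowIn_of_not_dvd_relIndex hTL hTq hrel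
  have hq2 : q ≠ 2 := ms_prime_ne_two hG hXq hX1
  have hqX : q ∣ Nat.card X := by
    have : Nontrivial X := (Subgroup.nontrivial_iff_ne_bot X).mpr hX1
    obtain ⟨n, hn0, hn⟩ := hXq.nontrivial_iff_card.mp inferInstance
    rw [hn]
    exact dvd_pow_self _ (ne_of_gt hn0)
  have hTnc : ¬ IsCyclic T := by
    intro hc
    apply hqL
    refine ⟨hqp, hqX.trans (Subgroup.card_dvd_of_le hXL), hTsyl.toSylow, ?_⟩
    rw [hTsyl.map_toSylow]
    exact (normalizer_le_normalizer_of_isCyclic hc hXT).trans hNX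
  have hr2 : PRankLE q 2 L := by
    by_contra h
    exact hqL (Cfsg.Agent.Lib.Helper13.BG12.mem_sigma_of_not_pRankLE_two hG hL hqp h)
  have hr1 : ¬ PRankLE q 1 L := fun h =>
    hTnc (Cfsg.Agent.Lib.Helper13.BG12.isCyclic_of_pRankLE_one hq2 h hTL hTq)
  have hτ : q ∈ tau2 L := ⟨hqp, hqL, hr2, hr1⟩
  obtain ⟨A, hAL, hAel, hAcard⟩ := Cfsg.Agent.Lib.Helper13.BG12.exists_elemAb_sq_of_tau2 hτ
  obtain ⟨k, hk, hkA⟩ := hTsyl.exists_conj_le hAL (isPGroup_of_elemAb hAel)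
  have hBel : IsElementaryAbelian q (cj k A) := isElementaryAbelian_cj' hAel k
  have hBcard : Nat.card (cj k A) = q ^ 2 := by rw [card_cj, hAcard]
  have hBM : cj k A ≤ M := hkA.trans hTM
  have hBL : cj k A ≤ L := hkA.trans hTL
  have h17 := Cfsg.Agent.S1417.result hG L hL q hτ (cj k A) ⟨hBL, hBel, hBcard⟩
  have hLσM : sigmaCore L ⊓ M = ⊥ := h17.2.2.2.2.1 M hM hne.symm hBM
  have hHallL := (Cfsg.Agent.S1350.result hG L hL).1
  have hK : ∀ p : ℕ, p.Prime → p ∣ Nat.card ↥(M ⊓ L) → p ∉ sigma L := by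
    intro p hp hpd hpσ
    haveI : Fact p.Prime := ⟨hp⟩
    obtain ⟨x, hx⟩ := exists_prime_orderOf_dvd_card' p hpd
    have hxo : orderOf (x : G) = p := by rw [Subgroup.orderOf_coe]; exact hx
    have hZ : Subgroup.zpowers (x : G) ≤ sigmaCore L := by
      apply Cfsg.Agent.Lib.Helper71.BG10.le_of_isPiHallOf_normal hHallL
        (Cfsg.Agent.Lib.Helper31.le_normalizer_piCoreOf (sigma L) L)
      · rw [Subgroup.zpowers_le]; exact x.2.2
      · intro r hr hrd
        rw [Nat.card_zpowers, hxo] at hrd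
        rw [(Nat.prime_dvd_prime_iff_eq hr hp).mp hrd]
        exact hpσ
    have hx1 : (x : G) ∈ sigmaCore L ⊓ M := ⟨hZ (Subgroup.mem_zpowers _), x.2.1⟩
    rw [hLσM, Subgroup.mem_bot] at hx1
    rw [hx1, orderOf_one] at hxo
    exact hp.one_lt.ne hxo
  obtain ⟨E₁, hE₁, hMLE⟩ := Cfsg.Agent.Lib.Helper13.BG12.exists_complIn_ge hG hL hHallL
    (inf_le_right : M ⊓ L ≤ L) hK
  have hBE : cj k A ≤ E₁ := (le_inf hBM hBL).trans hMLE
  have h18 := Cfsg.Agent.S1418.result hG L hL E₁ hE₁ q hτ (cj k A) ⟨hBE, hBel, hBcard⟩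
  have hEN : E₁ ≤ Subgroup.normalizer ((cj k A : Subgroup G) : Set G) := h18.1.1
  have hHallM := (Cfsg.Agent.S1350.result hG M hM).1
  obtain ⟨E, hE, -⟩ := Cfsg.Agent.Lib.Helper13.BG12.exists_complIn_ge hG hM hHallM
    (bot_le : (⊥ : Subgroup G) ≤ M) (by
      intro p hp hpd
      rw [Subgroup.card_bot] at hpd
      exact absurd (Nat.dvd_one.mp hpd) hp.ne_one)
  have h20 := Cfsg.Agent.S1420.result hG M hM E hE
  have hBnc : ¬ IsCyclic (cj k A) := not_isCyclic_of_elemAb_sq hqp hBel hBcard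
  have hNB : Subgroup.normalizer ((cj k A : Subgroup G) : Set G) ≤ M :=
    h20.2.2.1 q (cj k A) hqM (isPGroup_of_elemAb hBel) hBM hBnc
  have hEML : E₁ ≤ M ⊓ L := le_inf (hEN.trans hNB) hE₁.1
  have hEq : M ⊓ L = E₁ := le_antisymm hMLE hEML
  exact ⟨hτ, hEq ▸ hE₁, hLσM⟩

end Cfsg.Agent.Lib.Helper14.BG134
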