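import Mathlib
import Cfsg.Agent.S1350
import Cfsg.Agent.S1378
import Cfsg.Agent.S1415
import Cfsg.Agent.S1418
import Cfsg.Agent.S1420
import Cfsg.Agent.S1428
import Cfsg.Agent.Lib.Helper71.BG1310Defs
import Cfsg.Agent.Lib.Helper71.BG11a
import Cfsg.Agent.Lib.Helper31.BG134Glue
import Cfsg.Agent.Lib.Helper31.BenderFit
import Cfsg.Agent.Lib.Helper13.BG135
import Cfsg.Agent.Lib.Helper13.BG12B
import Cfsg.Agent.Lib.Helper13.BG127
import Cfsg.Agent.Lib.Helper11.BG134P2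
import Cfsg.Agent.Lib.Helper14.BG134G8

/-!
# K-BG1310-H (LEAF H) : (D1) step 3, `E₁` regular on `M_σ`  ⟹  `s ∉ τ₂(H)`

`not_tau2_of_reg_core` is the full proof, with the instances of LEAF A (`hnc`, `hMH`), LEAF B (`hB`),
LEAF E (`hE₁1`) and LEAF D (`hD`) that it uses as explicit hypotheses.
-/

set_option autoImplicit false
set_option linter.unusedSectionVars false
set_option linter.unusedVariables false
set_option linter.style.haveILetI false

namespace Cfsg.Agent.Lib.Helper14.BG1310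

open Cfsg Cfsg.Agent.Lib.Helper55 Cfsg.Agent.Lib.Helper31.BG134 Cfsg.Agent.Lib.Helper71.BG1310
open scoped commutatorElement

variable {G : Type*} [Group G] [Finite G]

/-- conjugation by an element normalizing `K` and `L` normalizes `K ⊓ C(L)` -/
theorem mem_normalizer_inf_centralizer {K L : Subgroup G} {g : G}
    (hK : g ∈ Subgroup.normalizer (K : Set G)) (hL : g ∈ Subgroup.normalizer (L : Set G)) :
    g ∈ Subgroup.normalizer ((K ⊓ Subgroup.centralizer (L : Set G) : Subgroup G) : Set G) := by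
  rw [← cj_eq_self_iff] at hK hL ⊢
  rw [cj_inf, cj_centralizer, hK, hL]

/-- a subgroup normalizes its own derived subgroup -/
theorem le_normalizer_commutator_self (K : Subgroup G) :
    K ≤ Subgroup.normalizer ((⁅K, K⁆ : Subgroup G) : Set G) := by
  intro g hg
  rw [← cj_eq_self_iff]
  show (⁅K, K⁆).map (MulAut.conj g).toMonoidHom = ⁅K, K⁆
  rw [Subgroup.map_commutator]
  have : K.map (MulAut.conj g).toMonoidHom = K := cj_eq_self_of_mem hg
  rw [this]

theorem not_tau2_of_reg_core {M E E₁ E₃ : Subgroup G} (c : NR M E E₁ E₃) (hreg : CP M E₁ = ⊥)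
    {S₀ H : Subgroup G} (hS₀ : S₀ ≤ E₃) {s : ℕ} (hs : s.Prime) (hS₀c : Nat.card S₀ = s)
    (hH : IsCoatom H) (hNH : Subgroup.normalizer (S₀ : Set G) ≤ H)
    (hnc : ∀ g : G, cj g M ≠ H) (hMH : sigmaCore M ⊓ H = CP M S₀) (hB : CP M S₀ = CP M E₃)
    (hE₁1 : E₁ ≠ ⊥)
    (hD : ∀ A Y : Subgroup G, S₀ ≤ A → IsElementaryAbelian s A → Nat.card A = s ^ 2 →
      Y ≤ CP M S₀ → Y ≠ ⊥ → ¬ A ≤ Subgroup.centralizer (Y : Set G)) :
    s ∉ tau2 H := by
  intro hsτ
  obtain ⟨hG, hM, hE, hE₁, hE₃, hE₃1, hC3⟩ := c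
  haveI : Fact s.Prime := ⟨hs⟩
  have h28 : Cfsg.Agent.Lib.Helper13.BG135.H1428 G :=
    fun M hM E hE p hp P hPE hP R hRE hR =>
      Cfsg.Agent.S1428.result hG M hM E hE p hp P hPE hP R hRE hR
  have h15 := Cfsg.Agent.S1415.result hG M hM E hE
  have hE₁c : IsCyclic E₁ := h15.2.1 E₁ hE₁
  obtain ⟨hE₃c, -, hEN₃⟩ := h15.2.2 E₃ hE₃
  have hEM : E ≤ M := hE.1
  have hENS : E ≤ Subgroup.normalizer (S₀ : Set G) :=
    hEN₃.trans (Cfsg.Agent.Lib.Helper14.BG134.normalizer_le_normalizer_of_isCyclic hE₃c hS₀)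
  have hEH : E ≤ H := hENS.trans hNH
  -- `X ≤ E₁` of prime order `u`
  have hE₁card : Nat.card E₁ ≠ 1 := fun h => hE₁1 (Subgroup.card_eq_one.mp h)
  obtain ⟨u, hup, hud⟩ := Nat.exists_prime_and_dvd hE₁card
  haveI : Fact u.Prime := ⟨hup⟩
  obtain ⟨x, hx⟩ := exists_prime_orderOf_dvd_card' u hud
  have hxo : orderOf (x : G) = u := by rw [Subgroup.orderOf_coe]; exact hx
  have hXE₁ : Subgroup.zpowers (x : G) ≤ E₁ := by
    rw [Subgroup.zpowers_le]; exact x.2
  have hXc : Nat.card (Subgroup.zpowers (x : G)) = u := by rw [Nat.card_zpowers, hxo]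
  have hXu : IsPGroup u (Subgroup.zpowers (x : G)) :=
    IsPGroup.of_card (n := 1) (by rw [hXc, pow_one])
  have hX1 : Subgroup.zpowers (x : G) ≠ ⊥ := by
    intro h
    rw [h, Subgroup.card_bot] at hXc
    exact hup.one_lt.ne hXc
  have hXE : Subgroup.zpowers (x : G) ≤ E := hXE₁.trans hE₁.1
  have hXM : Subgroup.zpowers (x : G) ≤ M := hXE.trans hEM
  have hXH : Subgroup.zpowers (x : G) ≤ H := hXE.trans hEH
  have huτ : u ∈ tau1 M := hE₁.2.1 u hup hud
  have hCX : CP M (Subgroup.zpowers (x : G)) = ⊥ := by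
    have := Cfsg.Agent.Lib.Helper13.BG135.prime_action_subgroup hG h28 hM hE hE₁ hE₁c hXE₁ hX1
    show sigmaCore M ⊓ Subgroup.centralizer ((Subgroup.zpowers (x : G) : Subgroup G) : Set G) = ⊥
    rw [this]
    exact hreg
  -- it suffices that `C₃` centralizes `X`
  have key : CP M E₃ ≤ Subgroup.centralizer ((Subgroup.zpowers (x : G) : Subgroup G) : Set G) →
      False := by
    intro h
    apply hC3
    have h1 : CP M E₃ ≤ CP M (Subgroup.zpowers (x : G)) := le_inf inf_le_left h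
    rw [hCX] at h1
    exact le_bot_iff.mp h1
  by_cases hu1 : u ∈ tau1 H
  · -- the hard case
    have hC₃H : CP M E₃ ≤ H := by rw [← hB, ← hMH]; exact inf_le_right
    have hC₃σ : ∀ r : ℕ, r.Prime → r ∣ Nat.card ↥(CP M E₃) → r ∉ sigma H := by
      intro r hr hrd hrH
      have hrM : r ∈ sigma M := Cfsg.Agent.Lib.Helper71.BG11.sigmaCore_pi hG hM hr
        (hrd.trans (Subgroup.card_dvd_of_le inf_le_left))
      obtain ⟨g, hg⟩ := (Cfsg.Agent.S1378.result hG).2 M H hM hH ⟨r, hrM, hrH⟩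
      exact hnc g hg.symm
    have hXNS : Subgroup.zpowers (x : G) ≤ Subgroup.normalizer (S₀ : Set G) := hXE.trans hENS
    have hSXd : Nat.card ↥(S₀ ⊔ Subgroup.zpowers (x : G)) ∣ s * u := by
      have := Cfsg.Agent.Lib.Helper11.BG134.card_sup_dvd_of_le_normalizer S₀
        (Subgroup.zpowers (x : G)) hXNS
      rwa [hS₀c, hXc] at this
    have hS₀E : S₀ ≤ E := hS₀.trans hE₃.1
    have hSXE : S₀ ⊔ Subgroup.zpowers (x : G) ≤ E := sup_le hS₀E hXE
    have hENC : E ≤ Subgroup.normalizer ((CP M E₃ : Subgroup G) : Set G) := by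
      intro g hg
      exact mem_normalizer_inf_centralizer
        (Cfsg.Agent.Lib.Helper71.BG11.le_normalizer_sigmaCore M (hEM hg)) (hEN₃ hg)
    have hJd : Nat.card ↥(CP M E₃ ⊔ (S₀ ⊔ Subgroup.zpowers (x : G))) ∣
        Nat.card ↥(CP M E₃) * (s * u) :=
      (Cfsg.Agent.Lib.Helper11.BG134.card_sup_dvd_of_le_normalizer (CP M E₃)
        (S₀ ⊔ Subgroup.zpowers (x : G)) (hSXE.trans hENC)).trans (Nat.mul_dvd_mul_left _ hSXd)
    have hJH : CP M E₃ ⊔ (S₀ ⊔ Subgroup.zpowers (x : G)) ≤ H := sup_le hC₃H (hSXE.trans hEH)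
    have hJσ : ∀ r : ℕ, r.Prime → r ∣ Nat.card ↥(CP M E₃ ⊔ (S₀ ⊔ Subgroup.zpowers (x : G))) →
        r ∉ sigma H := by
      intro r hr hrd
      rcases (Nat.Prime.dvd_mul hr).mp (hrd.trans hJd) with h | h
      · exact hC₃σ r hr h
      · rcases (Nat.Prime.dvd_mul hr).mp h with h | h
        · rw [(Nat.prime_dvd_prime_iff_eq hr hs).mp h]; exact hsτ.2.1
        · rw [(Nat.prime_dvd_prime_iff_eq hr hup).mp h]; exact hu1.2.1
    have hHallH := (Cfsg.Agent.S1350.result hG H hH).1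
    obtain ⟨EH, hEHc, hJEH⟩ :=
      Cfsg.Agent.Lib.Helper13.BG12.exists_complIn_ge hG hH hHallH hJH hJσ
    have hC₃EH : CP M E₃ ≤ EH := le_sup_left.trans hJEH
    have hS₀EH : S₀ ≤ EH := (le_sup_left.trans le_sup_right).trans hJEH
    have hXEH : Subgroup.zpowers (x : G) ≤ EH := (le_sup_right.trans le_sup_right).trans hJEH
    obtain ⟨A, hAEH, hAel, hAc⟩ :=
      Cfsg.Agent.Lib.Helper13.BG12.exists_elemAb_sq_le_compl hG hH hHallH hsτ hEHc
    have h18 := Cfsg.Agent.S1418.result hG H hH EH hEHc s hsτ A ⟨hAEH, hAel, hAc⟩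
    have hEHNA : EH ≤ Subgroup.normalizer (A : Set G) := h18.1.1
    have hS₀A : S₀ ≤ A := h18.1.2 S₀ hS₀EH hS₀c
    -- the Fitting subgroup of `EH` is abelian
    have hFle : fittingOf EH ≤ EH := Cfsg.Agent.Lib.Helper31.BenderFit.fittingOf_le' EH
    have hFnil : Group.IsNilpotent ↥(fittingOf EH) :=
      Cfsg.Agent.Lib.Helper31.BenderFit.fittingOf_isNilpotent EH
    have hFσ : ∀ p : ℕ, p.Prime → p ∣ Nat.card ↥(fittingOf EH) → p ∉ sigma H := by
      intro p hp hpd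
      exact Cfsg.Agent.Lib.Helper13.BG12.complIn_prime_not_mem_sigma hHallH hEHc p hp
        (hpd.trans (Subgroup.card_dvd_of_le hFle))
    have h20 := Cfsg.Agent.S1420.result hG H hH EH hEHc
    have hFcomm : IsMulCommutative ↥(fittingOf EH) := h20.1 (fittingOf EH) (hFle.trans hEHc.1) hFnil hFσ
    have hDF : ⁅EH, EH⁆ ≤ fittingOf EH :=
      Cfsg.Agent.Lib.Helper13.BG127.le_fittingOf_of_nilpotent (Subgroup.commutator_le_self EH)
        (le_normalizer_commutator_self EH) (Cfsg.Agent.S1415.result hG H hH EH hEHc).1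
    have hAF : A ≤ fittingOf EH :=
      Cfsg.Agent.Lib.Helper13.BG127.le_fittingOf_of_nilpotent hAEH hEHNA
        (Cfsg.Agent.Lib.Helper14.BG134.isPGroup_of_elemAb hAel).isNilpotent
    -- `Y = ⁅C₃, X⁆`
    have hYD : ⁅CP M E₃, Subgroup.zpowers (x : G)⁆ ≤ ⁅EH, EH⁆ := Subgroup.commutator_mono hC₃EH hXEH
    have hYC : ⁅CP M E₃, Subgroup.zpowers (x : G)⁆ ≤ CP M E₃ := by
      rw [Subgroup.commutator_le]
      intro a ha b hb
      have hbN := hENC (hXE hb)
      have h1 : b * a⁻¹ * b⁻¹ ∈ CP M E₃ :=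
        (Subgroup.mem_normalizer_iff.mp hbN a⁻¹).mp ((CP M E₃).inv_mem ha)
      have h2 : ⁅a, b⁆ = a * (b * a⁻¹ * b⁻¹) := by
        rw [commutatorElement_def]; group
      rw [h2]
      exact (CP M E₃).mul_mem ha h1
    have hAY : A ≤ Subgroup.centralizer
        ((⁅CP M E₃, Subgroup.zpowers (x : G)⁆ : Subgroup G) : Set G) := by
      intro a ha
      rw [Subgroup.mem_centralizer_iff]
      intro y hy
      have := hFcomm.is_comm.comm ⟨y, hDF (hYD hy)⟩ ⟨a, hAF ha⟩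
      exact congrArg Subtype.val this
    have hY0 : ⁅CP M E₃, Subgroup.zpowers (x : G)⁆ = ⊥ := by
      by_contra hne
      exact hD A _ hS₀A hAel hAc (hB ▸ hYC) hne hAY
    exact key (Subgroup.commutator_eq_bot_iff_le_centralizer.mp hY0)
  · -- Lemma T
    apply key
    have hT := lemmaT hG hM hH hnc (s := u) huτ.2.1 hu1 hXu hXM hXH
    rw [hMH, hB] at hT
    exact Subgroup.le_centralizer_iff.mp hT

end Cfsg.Agent.Lib.Helper14.BG1310
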