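import Mathlib
import Cfsg.Agent.S1350
import Cfsg.Agent.S1426
import Cfsg.Agent.S1430
import Cfsg.Agent.Lib.Helper55.Uniq2

/-!
# K-151-G (keystone 135508, rows S1355 + S1364, architect helper12; PARALLEL HAND of helper14): transfer of the
CORE leaf C (`core`, pure group theory) to a maximal subgroup `M` of a minimal simple group of odd order.

`structure_of_decomp_of` takes the statement of leaf C at `X := ↥M` as the hypothesis `hcore`.
-/

set_option autoImplicit false
set_option linter.unusedVariables false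
set_option linter.unusedSectionVars false
set_option maxHeartbeats 1600000

namespace Cfsg.Agent.Lib.Helper14.BG151

open Cfsg

variable {G : Type*} [Group G]

theorem mem_sigmaCore_coe_iff {M : Subgroup G} (y : M) :
    (y : G) ∈ sigmaCore M ↔ y ∈ piCore (sigma M) M := by
  unfold sigmaCore
  constructor
  · rintro ⟨z, hz, hzy⟩
    have : z = y := Subtype.ext hzy
    rwa [← this]
  · intro hy
    exact ⟨y, hy, rfl⟩

theorem coe_mem_centralizer_singleton_iff {M : Subgroup G} (x y : M) :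
    (y : G) ∈ Subgroup.centralizer ({(x : G)} : Set G) ↔ y ∈ Subgroup.centralizer ({x} : Set M) := by
  rw [Subgroup.mem_centralizer_iff, Subgroup.mem_centralizer_iff]
  constructor
  · intro h z hz
    rw [Set.mem_singleton_iff.mp hz]
    apply Subtype.ext
    exact h _ rfl
  · intro h z hz
    rw [Set.mem_singleton_iff.mp hz]
    exact congrArg Subtype.val (h x rfl)

theorem coe_mem_centralizer_iff {M K : Subgroup G} (hKM : K ≤ M) (y : M) :
    (y : G) ∈ Subgroup.centralizer (K : Set G) ↔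
      y ∈ Subgroup.centralizer ((K.subgroupOf M : Subgroup M) : Set M) := by
  rw [Subgroup.mem_centralizer_iff, Subgroup.mem_centralizer_iff]
  constructor
  · intro h z hz
    apply Subtype.ext
    exact h _ (Subgroup.mem_subgroupOf.mp hz)
  · intro h z hz
    exact congrArg Subtype.val (h ⟨z, hKM hz⟩ (Subgroup.mem_subgroupOf.mpr hz))

/-- the centralizer of `K` in `M_σ`, computed in `↥M` -/
theorem map_inf_centralizer {M K : Subgroup G} (hKM : K ≤ M) :
    (piCore (sigma M) M ⊓ Subgroup.centralizer ((K.subgroupOf M : Subgroup M) : Set M)).map M.subtype =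
      sigmaCore M ⊓ Subgroup.centralizer (K : Set G) := by
  ext g
  constructor
  · rintro ⟨y, ⟨hy1, hy2⟩, rfl⟩
    exact ⟨(mem_sigmaCore_coe_iff y).mpr hy1, (coe_mem_centralizer_iff hKM y).mpr hy2⟩
  · rintro ⟨hg1, hg2⟩
    obtain ⟨y, hy, rfl⟩ := hg1
    exact ⟨y, ⟨hy, (coe_mem_centralizer_iff hKM y).mp hg2⟩, rfl⟩

/-- **K-151-G** with leaf C as a hypothesis. -/
theorem structure_of_decomp_of [Finite G]
    (hG : IsMinSimpleOddOrder G) {M : Subgroup G} (hM : IsCoatom M) {K : Subgroup G}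
    (hKU : IsSigmaDecomposition M K ⊥) (hK1 : K ≠ ⊥)
    (hpr : (Nat.card ↥(sigmaCore M ⊓ Subgroup.centralizer (K : Set G))).Prime)
    (hnn : ¬ Group.IsNilpotent (sigmaCore M))
    (hcore : ∀ [Group.IsSolvable ↥M], Odd (Nat.card ↥M) → ∀ (H K' : Subgroup ↥M) [H.Normal],
      H ⊔ K' = ⊤ → (Nat.card H).Coprime (Nat.card K') → K' ≠ ⊥ →
      (∀ x ∈ K', x ≠ 1 →
        H ⊓ Subgroup.centralizer ({x} : Set ↥M) = H ⊓ Subgroup.centralizer (K' : Set ↥M)) →
      ∀ q : ℕ, q.Prime → Nat.card ↥(H ⊓ Subgroup.centralizer (K' : Set ↥M)) = q →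
      ⁅H, K'⁆ = H → ¬ Group.IsNilpotent H →
      ∃ Q D : Subgroup ↥M, Q.Normal ∧ IsPGroup q Q ∧ (Nat.card Q).Coprime Q.index ∧
        H ⊓ Subgroup.centralizer (K' : Set ↥M) ≤ Q ∧ Q ⊔ D = H ∧ Group.IsNilpotent D) :
    ∃ Q D : Subgroup G, M ≤ Subgroup.normalizer (Q : Set G) ∧
      IsPGroup (Nat.card ↥(sigmaCore M ⊓ Subgroup.centralizer (K : Set G))) Q ∧
      (Nat.card Q).Coprime (Q.relIndex M) ∧
      sigmaCore M ⊓ Subgroup.centralizer (K : Set G) ≤ Q ∧ Q ⊔ D = sigmaCore M ∧
      Group.IsNilpotent D := by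
  classical
  have hinj : Function.Injective M.subtype := M.subtype_injective
  have hKM : K ≤ M := hKU.hall.1
  have hσM : sigmaCore M ≤ M := by
    rintro _ ⟨y, _, rfl⟩
    exact y.2
  have hsolv : Group.IsSolvable ↥M := Cfsg.Agent.Lib.Helper55.ms_solvable hG hM.1
  have hodd : Odd (Nat.card ↥M) := Cfsg.Agent.Lib.Helper55.ms_odd hG M
  have hHall := (Cfsg.Agent.S1350.result hG M hM).1
  -- `M = K ⊔ M_σ`
  have hMle : M ≤ K ⊔ sigmaCore M := by
    intro m hm
    obtain ⟨a, ha, b, hb, rfl⟩ := hKU.compl.2.2.2 m hm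
    rw [(Subgroup.mem_bot).mp ha, one_mul]
    exact hb
  have hsupM : sigmaCore M ⊔ K = M := le_antisymm (sup_le hσM hKM) (by rw [sup_comm]; exact hMle)
  -- the data in `↥M`
  have hmapH : (piCore (sigma M) M).map M.subtype = sigmaCore M := rfl
  have hmapK : (K.subgroupOf M).map M.subtype = K := Subgroup.map_subgroupOf_eq_of_le hKM
  have hHK : piCore (sigma M) M ⊔ K.subgroupOf M = ⊤ := by
    apply Subgroup.map_injective hinj
    rw [Subgroup.map_sup, hmapH, hmapK, hsupM, ← MonoidHom.range_eq_map, Subgroup.range_subtype]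
  have hcardH : Nat.card (piCore (sigma M) M) = Nat.card (sigmaCore M) :=
    (Subgroup.card_map_of_injective hinj).symm
  have hcardK : Nat.card (K.subgroupOf M) = Nat.card K := by
    rw [← Subgroup.card_map_of_injective hinj, hmapK]
  have hcopG : (Nat.card (sigmaCore M)).Coprime (Nat.card K) := by
    apply Nat.coprime_of_dvd
    intro r hr h1 h2
    have hσ := hHall.2.1 r hr h1
    have hκ := hKU.hall.2.1 r hr h2
    exact hκ.2.2.1 hσ
  have hcop : (Nat.card (piCore (sigma M) M)).Coprime (Nat.card (K.subgroupOf M)) := by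
    rw [hcardH, hcardK]
    exact hcopG
  have hK1' : K.subgroupOf M ≠ ⊥ := by
    intro h
    rw [Subgroup.subgroupOf_eq_bot, disjoint_iff, inf_eq_left.mpr hKM] at h
    exact hK1 h
  have h30 := (Cfsg.Agent.S1430.result hG M hM K hKU.hall hK1).1
  have hprime : ∀ x ∈ K.subgroupOf M, x ≠ 1 →
      piCore (sigma M) M ⊓ Subgroup.centralizer ({x} : Set ↥M) =
        piCore (sigma M) M ⊓ Subgroup.centralizer ((K.subgroupOf M : Subgroup ↥M) : Set ↥M) := by
    intro x hx hx1
    have hxK : (x : G) ∈ K := Subgroup.mem_subgroupOf.mp hx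
    have hx1' : (x : G) ≠ 1 := fun h => hx1 (Subtype.ext h)
    have h := h30 (x : G) hxK hx1'
    ext y
    constructor
    · rintro ⟨hy1, hy2⟩
      have : (y : G) ∈ sigmaCore M ⊓ Subgroup.centralizer ({(x : G)} : Set G) :=
        ⟨(mem_sigmaCore_coe_iff y).mpr hy1, (coe_mem_centralizer_singleton_iff x y).mpr hy2⟩
      rw [h] at this
      exact ⟨hy1, (coe_mem_centralizer_iff hKM y).mp this.2⟩
    · rintro ⟨hy1, hy2⟩
      have : (y : G) ∈ sigmaCore M ⊓ Subgroup.centralizer (K : Set G) :=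
        ⟨(mem_sigmaCore_coe_iff y).mpr hy1, (coe_mem_centralizer_iff hKM y).mpr hy2⟩
      rw [← h] at this
      exact ⟨hy1, (coe_mem_centralizer_singleton_iff x y).mp this.2⟩
  have hC : Nat.card ↥(piCore (sigma M) M ⊓
      Subgroup.centralizer ((K.subgroupOf M : Subgroup ↥M) : Set ↥M)) =
      Nat.card ↥(sigmaCore M ⊓ Subgroup.centralizer (K : Set G)) := by
    rw [← map_inf_centralizer hKM, Subgroup.card_map_of_injective hinj]
  -- `[M_σ, K] = M_σ`
  have hcompl : IsComplIn K (sigmaCore M) M := by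
    refine ⟨hKM, hσM, ?_, ?_⟩
    · exact disjoint_iff.mp (Subgroup.disjoint_of_coprime_natCard hcopG.symm)
    · intro m hm
      have hm' : (⟨m, hm⟩ : M) ∈ K.subgroupOf M ⊔ piCore (sigma M) M := by
        rw [sup_comm, hHK]
        exact Subgroup.mem_top _
      have hm'' : (⟨m, hm⟩ : M) ∈ ((K.subgroupOf M ⊔ piCore (sigma M) M : Subgroup M) : Set M) := hm'
      rw [Subgroup.mul_normal] at hm''
      obtain ⟨a, ha, b, hb, hab⟩ := Set.mem_mul.mp hm''
      refine ⟨(a : G), Subgroup.mem_subgroupOf.mp ha, (b : G), (mem_sigmaCore_coe_iff b).mpr hb, ?_⟩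
      exact (congrArg Subtype.val hab).symm
  have h26 := (Cfsg.Agent.S1426.result hG M hM K hcompl).2.1
  have hcomm : ⁅piCore (sigma M) M, K.subgroupOf M⁆ = piCore (sigma M) M := by
    apply Subgroup.map_injective hinj
    rw [Subgroup.map_commutator, hmapH, hmapK]
    exact h26
  have hnn' : ¬ Group.IsNilpotent (piCore (sigma M) M) := by
    intro h
    apply hnn
    exact Group.nilpotent_of_mulEquiv (Subgroup.equivMapOfInjective (piCore (sigma M) M) M.subtype hinj)
  obtain ⟨Q', D', hQn, hQp, hQc, hCQ, hQD, hDn⟩ := hcore hodd (piCore (sigma M) M) (K.subgroupOf M) hHK hcop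
    hK1' hprime _ hpr hC hcomm hnn'
  refine ⟨Q'.map M.subtype, D'.map M.subtype, ?_, hQp.map _, ?_, ?_, ?_, ?_⟩
  · rw [Subgroup.le_normalizer_iff]
    intro m hm k hk
    obtain ⟨k', hk', rfl⟩ := hk
    exact ⟨(⟨m, hm⟩ : M) * k' * (⟨m, hm⟩ : M)⁻¹, hQn.conj_mem k' hk' _, rfl⟩
  · rw [Subgroup.card_map_of_injective hinj]
    have : (Q'.map M.subtype).relIndex M = Q'.index := by
      unfold Subgroup.relIndex
      congr 1
      ext y
      rw [Subgroup.mem_subgroupOf]
      constructor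
      · rintro ⟨z, hz, hzy⟩
        have : z = y := Subtype.ext hzy
        rwa [← this]
      · intro hy
        exact ⟨y, hy, rfl⟩
    rw [this]
    exact hQc
  · rw [← map_inf_centralizer hKM]
    exact Subgroup.map_mono hCQ
  · rw [← Subgroup.map_sup, hQD]
    rfl
  · exact Group.nilpotent_of_mulEquiv (Subgroup.equivMapOfInjective D' M.subtype hinj)

end Cfsg.Agent.Lib.Helper14.BG151
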