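import Mathlib
import Cfsg.Agent.S1350
import Cfsg.Agent.S1429
import Cfsg.Agent.Lib.Helper31.FittingHall

/-!
# K-151-H2 (keystone 135510, rows S1355 + S1364, architect helper12): if `M_σ` is not nilpotent then the
`U` of a standard factorisation `M = K U M_σ` is trivial.
-/

set_option autoImplicit false
set_option linter.unusedVariables false

namespace Cfsg.Agent.Lib.Helper14.BG151

open Cfsg

/-- `|H| * |M : H| = |M|` for `H ≤ M` -/
theorem card_mul_relIndex {G : Type*} [Group G] {H M : Subgroup G} (h : H ≤ M) :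
    Nat.card H * H.relIndex M = Nat.card M := by
  have := Subgroup.relIndex_mul_relIndex ⊥ H M bot_le h
  rwa [Subgroup.relIndex_bot_left, Subgroup.relIndex_bot_left] at this

/-- K-151-H2 -/
theorem eq_bot_of_not_nilpotent {G : Type*} [Group G] [Finite G]
    (hG : IsMinSimpleOddOrder G) {M : Subgroup G} (hM : IsCoatom M) {K U : Subgroup G}
    (hKU : IsSigmaDecomposition M K U) (hnn : ¬ Group.IsNilpotent (sigmaCore M)) : U = ⊥ := by
  classical
  -- every prime of `|M|` lies in `σ(M) ∪ κ(M)`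
  have hall : ∀ r : ℕ, r.Prime → r ∣ Nat.card M → r ∈ sigma M ∨ r ∈ kappa M := by
    intro r hr hrM
    by_contra hcon
    push Not at hcon
    have hP1 : ¬ (∀ q : ℕ, q.Prime → q ∣ Nat.card M → q ∉ sigma M → q ∈ kappa M) := by
      intro h
      exact hcon.2 (h r hr hrM hcon.1)
    have : Fact r.Prime := ⟨hr⟩
    have hru : r ∉ sigma M ∪ kappa M := by
      rintro (h | h)
      · exact hcon.1 h
      · exact hcon.2 h
    obtain ⟨S⟩ : Nonempty (Sylow r M) := inferInstance
    exact hnn (Cfsg.Agent.S1429.result hG M hM hP1 r hrM hru S).2.2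
  -- `|U| * |K ⊔ M_σ| = |M|`
  have hcard := Cfsg.Agent.Lib.Helper31.IsComplIn.card_mul hKU.compl
  have hBM : K ⊔ sigmaCore M ≤ M := hKU.compl.2.1
  have hUM : U ≤ M := hKU.compl.1
  have hMpos : 0 < Nat.card M := Nat.card_pos
  -- for `H ≤ K ⊔ M_σ`: `|U|` divides `|M : H|`
  have hdvd : ∀ H : Subgroup G, H ≤ K ⊔ sigmaCore M → Nat.card U ∣ H.relIndex M := by
    intro H hH
    have h1 := card_mul_relIndex (hH.trans hBM)
    have h2 := card_mul_relIndex hH
    have hHpos : 0 < Nat.card H := Nat.card_pos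
    -- `|H| * |M : H| = |M| = |U| * (|H| * |B : H|)`
    have h3 : Nat.card H * H.relIndex M = Nat.card H * (Nat.card U * H.relIndex (K ⊔ sigmaCore M)) := by
      rw [h1, ← hcard, ← h2]
      ring
    have h4 := Nat.eq_of_mul_eq_mul_left hHpos h3
    exact ⟨_, h4⟩
  have hone : Nat.card U = 1 := by
    by_contra hne
    obtain ⟨r, hr, hrU⟩ := Nat.exists_prime_and_dvd hne
    have hrM : r ∣ Nat.card M := hrU.trans (Subgroup.card_dvd_of_le hUM)
    rcases hall r hr hrM with hσ | hκ
    · exact (Cfsg.Agent.S1350.result hG M hM).1.2.2 r hr hσ (hrU.trans (hdvd _ le_sup_right))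
    · exact hKU.hall.2.2 r hr hκ (hrU.trans (hdvd _ le_sup_left))
  exact Subgroup.card_eq_one.mp hone

end Cfsg.Agent.Lib.Helper14.BG151
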