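import Mathlib.GroupTheory.GroupAction.Quotient
import Mathlib.GroupTheory.GroupAction.SubMulAction
import Mathlib.GroupTheory.Index
import Mathlib.Algebra.Group.Subgroup.Pointwise
import Mathlib.Tactic.Group

set_option autoImplicit false

namespace Cfsg.Agent.Lib.Helper14

open scoped Pointwise

/-- A group acting freely on an invariant subset: the order of the group divides the size of the
subset. -/
theorem card_dvd_card_of_free {K Ω : Type*} [Group K] [MulAction K Ω] [Finite K] [Finite Ω]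
    (S : Set Ω) (hinv : ∀ (k : K) (ω : Ω), ω ∈ S → k • ω ∈ S)
    (hfree : ∀ (k : K) (ω : Ω), ω ∈ S → k • ω = ω → k = 1) : Nat.card K ∣ Nat.card S := by
  let S' : SubMulAction K Ω := { carrier := S, smul_mem' := fun k ω h => hinv k ω h }
  have hstab : ∀ b : S', MulAction.stabilizer K b = ⊥ := by
    intro b
    rw [eq_bot_iff]
    intro k hk
    rw [MulAction.mem_stabilizer_iff] at hk
    rw [Subgroup.mem_bot]
    exact hfree k b.1 b.2 (congrArg Subtype.val hk)
  have e := MulAction.selfEquivOrbitsQuotientProd hstab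
  have h := Nat.card_congr e
  rw [Nat.card_prod] at h
  show Nat.card K ∣ Nat.card ↥S'
  rw [h]
  exact dvd_mul_left _ _

theorem card_eq_card_add_card_compl {Ω : Type*} [Finite Ω] (S : Set Ω) :
    Nat.card Ω = Nat.card S + Nat.card (Sᶜ : Set Ω) := by
  classical
  have e := Equiv.Set.sumCompl S
  rw [← Nat.card_congr e, Nat.card_sum]

variable {G : Type*} [Group G]

theorem smul_mk_eq_iff (H : Subgroup G) (g x : G) :
    g • (x : G ⧸ H) = (x : G ⧸ H) ↔ x⁻¹ * g * x ∈ H := by
  rw [MulAction.Quotient.smul_mk, smul_eq_mul, QuotientGroup.eq]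
  have : (g * x)⁻¹ * x = (x⁻¹ * g * x)⁻¹ := by group
  rw [this, inv_mem_iff]

/-- For a malnormal subgroup, a nonidentity element fixes at most one coset. -/
theorem fixed_coset_unique (H : Subgroup G)
    (hmal : ∀ g : G, g ∉ H → H ⊓ (MulAut.conj g • H) = ⊥) {g : G} (hg : g ≠ 1)
    {ω ω' : G ⧸ H} (h1 : g • ω = ω) (h2 : g • ω' = ω') : ω = ω' := by
  obtain ⟨x, rfl⟩ := QuotientGroup.mk_surjective ω
  obtain ⟨y, rfl⟩ := QuotientGroup.mk_surjective ω'
  rw [smul_mk_eq_iff] at h1 h2
  by_contra hne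
  have ht : x⁻¹ * y ∉ H := by
    intro h
    exact hne (QuotientGroup.eq.mpr h)
  have hm := hmal _ ht
  have ha : x⁻¹ * g * x ∈ MulAut.conj (x⁻¹ * y) • H := by
    rw [Subgroup.mem_pointwise_smul_iff_inv_smul_mem, MulAut.smul_def, MulAut.conj_inv_apply]
    have : (x⁻¹ * y)⁻¹ * (x⁻¹ * g * x) * (x⁻¹ * y) = y⁻¹ * g * y := by group
    rw [this]
    exact h2
  have : x⁻¹ * g * x ∈ H ⊓ (MulAut.conj (x⁻¹ * y) • H) := ⟨h1, ha⟩
  rw [hm, Subgroup.mem_bot] at this
  apply hg
  calc g = x * (x⁻¹ * g * x) * x⁻¹ := by group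
    _ = 1 := by rw [this]; group

/-- A subgroup whose order divides the order of a malnormal subgroup `H` is contained in a
conjugate of `H`. -/
theorem le_conj_of_card_dvd_of_malnormal [Finite G] (H L : Subgroup G)
    (hmal : ∀ g : G, g ∉ H → H ⊓ (MulAut.conj g • H) = ⊥) (hL : Nat.card L ∣ Nat.card H) :
    ∃ x : G, L ≤ MulAut.conj x • H := by
  classical
  -- trivial case
  by_cases hℓ : Nat.card L = 1
  · refine ⟨1, ?_⟩
    rw [Subgroup.card_eq_one.mp hℓ]
    exact bot_le
  have hℓ2 : 2 ≤ Nat.card L := by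
    have : 0 < Nat.card L := Nat.card_pos
    omega
  -- step 1: |H| divides n - 1
  have h1 : Nat.card H ∣ Nat.card ({ω : G ⧸ H | ω ≠ ((1 : G) : G ⧸ H)} : Set (G ⧸ H)) := by
    apply card_dvd_card_of_free (K := H)
    · intro h ω hω hcontra
      apply hω
      have : ω = (h⁻¹ : H) • (h • ω) := by rw [inv_smul_smul]
      rw [this, hcontra]
      show ((h⁻¹ : H) : G) • ((1 : G) : G ⧸ H) = ((1 : G) : G ⧸ H)
      rw [smul_mk_eq_iff]
      simp
    · intro h ω hω hfix
      by_contra hne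
      have hne' : (h : G) ≠ 1 := fun hh => hne (Subtype.ext hh)
      have hfix1 : (h : G) • ((1 : G) : G ⧸ H) = ((1 : G) : G ⧸ H) := by
        rw [smul_mk_eq_iff]
        simp
      have hfix' : (h : G) • ω = ω := hfix
      exact hω (fixed_coset_unique H hmal hne' hfix' hfix1)
  have hn1 : Nat.card (G ⧸ H) =
      Nat.card ({ω : G ⧸ H | ω ≠ ((1 : G) : G ⧸ H)} : Set (G ⧸ H)) + 1 := by
    rw [card_eq_card_add_card_compl {ω : G ⧸ H | ω ≠ ((1 : G) : G ⧸ H)}]
    congr 1
    have : ({ω : G ⧸ H | ω ≠ ((1 : G) : G ⧸ H)}ᶜ : Set (G ⧸ H)) = {((1 : G) : G ⧸ H)} := by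
      ext ω
      simp
    rw [this]
    simp
  -- step 2: the set F of points with nontrivial stabilizer in L
  set F : Set (G ⧸ H) := {ω | ∃ l : L, l ≠ 1 ∧ l • ω = ω} with hF
  have hFinv : ∀ (k : L) (ω : G ⧸ H), ω ∈ F → k • ω ∈ F := by
    rintro k ω ⟨l, hl, hlω⟩
    refine ⟨k * l * k⁻¹, ?_, ?_⟩
    · intro h
      apply hl
      have : l = k⁻¹ * (k * l * k⁻¹) * k := by group
      rw [this, h]; group
    · rw [mul_smul, mul_smul, inv_smul_smul, hlω]
  have h2 : Nat.card L ∣ Nat.card (Fᶜ : Set (G ⧸ H)) := by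
    apply card_dvd_card_of_free (K := L)
    · intro k ω hω hcontra
      apply hω
      have := hFinv k⁻¹ _ hcontra
      rwa [inv_smul_smul] at this
    · intro k ω hω hfix
      by_contra hne
      exact hω ⟨k, hne, hfix⟩
  have hn2 : Nat.card (G ⧸ H) = Nat.card F + Nat.card (Fᶜ : Set (G ⧸ H)) :=
    card_eq_card_add_card_compl F
  -- step 3: |F| + 1 ≤ |L|
  have h3 : Nat.card F + 1 ≤ Nat.card L := by
    have hch : ∀ ω : F, ∃ l : L, l ≠ 1 ∧ l • (ω : G ⧸ H) = ω := fun ω => ω.2
    choose c hc1 hc2 using hch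
    let c' : Option F → L := fun o => match o with
      | none => 1
      | some ω => c ω
    have hinj : Function.Injective c' := by
      intro a b hab
      match a, b with
      | none, none => rfl
      | none, some ω => exact absurd hab.symm (hc1 ω)
      | some ω, none => exact absurd hab (hc1 ω)
      | some ω, some ω' =>
        have hab' : c ω = c ω' := hab
        have hne : ((c ω : L) : G) ≠ 1 := fun hh => hc1 ω (Subtype.ext hh)
        have e1 : ((c ω : L) : G) • (ω : G ⧸ H) = ω := hc2 ω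
        have e2 : ((c ω : L) : G) • (ω' : G ⧸ H) = ω' := by
          have := hc2 ω'
          rw [← hab'] at this
          exact this
        have := fixed_coset_unique H hmal hne e1 e2
        exact congrArg some (Subtype.ext this)
    have := Nat.card_le_card_of_injective c' hinj
    rwa [Finite.card_option] at this
  -- step 4: arithmetic
  have hcardF : Nat.card F = 1 := by
    obtain ⟨a, ha⟩ := h1
    obtain ⟨b, hb⟩ := h2
    obtain ⟨d, hd⟩ := hL
    have e1 : Nat.card F + Nat.card L * b = Nat.card L * (d * a) + 1 := by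
      rw [← hb, ← hn2, hn1, ha, hd]; ring
    have hmod : Nat.card F % Nat.card L = 1 % Nat.card L := by
      have := congrArg (· % Nat.card L) e1
      simp only [Nat.add_mul_mod_self_left] at this
      rw [this, Nat.add_comm, Nat.add_mul_mod_self_left]
    rw [Nat.mod_eq_of_lt (by omega), Nat.mod_eq_of_lt (by omega)] at hmod
    exact hmod
  -- step 5
  rw [Nat.card_eq_one_iff_unique] at hcardF
  obtain ⟨hsub, ⟨ω₀⟩⟩ := hcardF
  obtain ⟨x, hx⟩ := QuotientGroup.mk_surjective (ω₀ : G ⧸ H)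
  refine ⟨x, ?_⟩
  intro l hl
  have hmem := hFinv ⟨l, hl⟩ ω₀ ω₀.2
  have heq : (⟨_, hmem⟩ : F) = ω₀ := Subsingleton.elim _ _
  have hfix : l • (ω₀ : G ⧸ H) = ω₀ := by
    have := congrArg Subtype.val heq
    exact this
  rw [← hx, smul_mk_eq_iff] at hfix
  rw [Subgroup.mem_pointwise_smul_iff_inv_smul_mem, MulAut.smul_def, MulAut.conj_inv_apply]
  exact hfix

end Cfsg.Agent.Lib.Helper14
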