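import Cfsg.Agent.Lib.Lead.ChiefEngel
import Cfsg.Agent.Lib.Helper54.Quot

/-!
Structure of a finite group `H` whose Sylow `p`-subgroup `T` is a maximal subgroup and such that
`H / O_p(H)` has a normal `p`-complement: the preimage `L` of that complement has `L / O_p(H)`
elementary abelian of prime exponent `q ≠ p`, on which `T` acts irreducibly and faithfully.
-/

set_option autoImplicit false
set_option linter.unusedSectionVars false
set_option linter.style.haveILetI false

namespace Cfsg.Agent.Lib.Helper14.KInfCoatomStruct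

open Cfsg Cfsg.Agent.Lib.Lead
open scoped commutatorElement

variable {H : Type*} [Group H] [Finite H] {p : ℕ} [Fact p.Prime]

/-- `Tt ⊓ C(N)` is normal when `N` is normal and `N ⊔ Tt = ⊤` -/
theorem inf_centralizer_normal {Γ : Type*} [Group Γ] (N Tt : Subgroup Γ) [hNn : N.Normal]
    (hsup : N ⊔ Tt = ⊤) : (Tt ⊓ Subgroup.centralizer (N : Set Γ)).Normal := by
  set D : Subgroup Γ := Tt ⊓ Subgroup.centralizer (N : Set Γ) with hD
  have hCn : (Subgroup.centralizer (N : Set Γ)).Normal := Subgroup.normal_centralizer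
  have hconjN : ∀ n ∈ N, ∀ d ∈ D, n * d * n⁻¹ = d := by
    intro n hn d hd
    have h1 : d ∈ Subgroup.centralizer (N : Set Γ) := hd.2
    rw [Subgroup.mem_centralizer_iff] at h1
    have := h1 n hn
    rw [this]; group
  have hnormD : N ⊔ Tt ≤ Subgroup.normalizer (D : Set Γ) := by
    apply sup_le
    · intro n hn
      rw [Subgroup.mem_normalizer_iff]
      intro d
      constructor
      · intro hd; rw [hconjN n hn d hd]; exact hd
      · intro hd
        have h2 := hconjN n⁻¹ (N.inv_mem hn) _ hd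
        have e : n⁻¹ * (n * d * n⁻¹) * n⁻¹⁻¹ = d := by group
        rw [e] at h2
        rw [h2]; exact hd
    · intro t ht
      rw [Subgroup.mem_normalizer_iff]
      intro d
      constructor
      · intro hd
        exact ⟨Tt.mul_mem (Tt.mul_mem ht hd.1) (Tt.inv_mem ht), hCn.conj_mem d hd.2 t⟩
      · intro hd
        have h2 : t⁻¹ * (t * d * t⁻¹) * t⁻¹⁻¹ ∈ D :=
          ⟨Tt.mul_mem (Tt.mul_mem (Tt.inv_mem ht) hd.1) (Tt.inv_mem (Tt.inv_mem ht)),
            hCn.conj_mem _ hd.2 t⁻¹⟩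
        have e : t⁻¹ * (t * d * t⁻¹) * t⁻¹⁻¹ = d := by group
        rwa [e] at h2
  rw [← Subgroup.normalizer_eq_top_iff, eq_top_iff, ← hsup]
  exact hnormD

theorem pCore_quotient_pCore_eq_bot : pCore p (H ⧸ pCore p H) = ⊥ := by
  rw [Cfsg.Agent.Lib.Helper54.pCore_quotient_of_isPGroup (pCore p H)
    Cfsg.Agent.Lib.Helper53.pCore_isPGroup]
  exact QuotientGroup.map_mk'_self _

theorem le_normalizer_of_conj_mem {G : Type*} [Group G] {A K : Subgroup G}
    (h : ∀ a ∈ A, ∀ x ∈ K, a * x * a⁻¹ ∈ K) : A ≤ Subgroup.normalizer (K : Set G) := by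
  intro a ha
  rw [Subgroup.mem_normalizer_iff]
  intro x
  constructor
  · exact h a ha x
  · intro hx
    have := h a⁻¹ (A.inv_mem ha) _ hx
    have e : a⁻¹ * (a * x * a⁻¹) * a⁻¹⁻¹ = x := by group
    rwa [e] at this

theorem coatom_structure (hq : HasNormalPComplement p (H ⧸ pCore p H)) (T : Sylow p H)
    (hT : IsCoatom (T : Subgroup H)) :
    ∃ (L : Subgroup H) (q : ℕ), L.Normal ∧ pCore p H ≤ L ∧ q.Prime ∧ q ≠ p ∧
      (∀ g ∈ L, ∀ h ∈ L, g * h * g⁻¹ * h⁻¹ ∈ pCore p H) ∧ (∀ g ∈ L, g ^ q ∈ pCore p H) ∧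
      (∀ g : H, (orderOf g).Coprime p → g ∈ L) ∧
      (∀ K : Subgroup H, K.Normal → pCore p H ≤ K → K ⊓ L ≤ pCore p H ∨ L ≤ K) ∧
      (∀ t ∈ (T : Subgroup H), (∀ l ∈ L, t * l * t⁻¹ * l⁻¹ ∈ pCore p H) → t ∈ pCore p H) ∧
      ¬ IsPGroup p H := by
  classical
  have hpp : p.Prime := Fact.out
  set P := pCore p H with hP
  have hPp : IsPGroup p P := Cfsg.Agent.Lib.Helper53.pCore_isPGroup
  set π := QuotientGroup.mk' P with hπ
  have hπs : Function.Surjective π := QuotientGroup.mk'_surjective P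
  have hπ1 : ∀ g : H, π g = 1 ↔ g ∈ P := fun g => QuotientGroup.eq_one_iff g
  set Tb : Sylow p (H ⧸ P) := T.mapSurjective hπs with hTb
  have hTbcoe : (Tb : Subgroup (H ⧸ P)) = (T : Subgroup H).map π := Sylow.coe_mapSurjective _ _
  obtain ⟨Nb, hNbn, hNbc⟩ := (Cfsg.Agent.Lib.Helper03.hasNormalPComplement_iff Tb).mp hq
  have hcop : (Nat.card Nb).Coprime p := by
    rw [← hNbc.index_eq_card]
    exact (Nat.Coprime.symm ((Nat.Prime.coprime_iff_not_dvd hpp).mpr Tb.not_dvd_index))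
  have hPT : P ≤ (T : Subgroup H) := Cfsg.Agent.Lib.Helper53.pCore_le_sylow T
  have hTbco : IsCoatom (Tb : Subgroup (H ⧸ P)) := by
    rw [hTbcoe]; exact isCoatom_map_mk P _ hPT hT
  have hNab := comm_of_coatom (Nb := Nb) Tb.2 hTbco hcop
  have hsup : Nb ⊔ (Tb : Subgroup (H ⧸ P)) = ⊤ := hNbc.sup_eq_top
  -- H is not a p-group
  have hnp : ¬ IsPGroup p H := by
    intro h
    have h1 : IsPGroup p (⊤ : Subgroup H) := h.to_subgroup ⊤
    have h2 := T.is_maximal' h1 le_top
    exact hT.1 h2.symm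
  -- Nb is not trivial
  have hNne : Nb ≠ ⊥ := by
    intro h
    rw [h] at hNbc
    have h1 : (Tb : Subgroup (H ⧸ P)) = ⊤ := Subgroup.isComplement'_bot_left.mp hNbc
    apply hT.1
    rw [hTbcoe] at h1
    have h2 : ((T : Subgroup H).map π).comap π = ⊤ := by rw [h1, Subgroup.comap_top]
    rw [Subgroup.comap_map_eq, hπ, QuotientGroup.ker_mk'] at h2
    rw [← h2]
    exact (sup_eq_left.mpr hPT).symm
  have hN1 : Nat.card Nb ≠ 1 := fun h => hNne (Subgroup.card_eq_one.mp h)
  obtain ⟨q, hqp, hqdvd⟩ := Nat.exists_prime_and_dvd hN1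
  haveI : Fact q.Prime := ⟨hqp⟩
  have hqne : q ≠ p := by
    intro h
    rw [h] at hqdvd
    exact (Nat.Prime.coprime_iff_not_dvd hpp).mp hcop.symm hqdvd
  -- the elements of order dividing q
  let Nbq : Subgroup (H ⧸ P) :=
    { carrier := {x | x ∈ Nb ∧ x ^ q = 1}
      one_mem' := ⟨Nb.one_mem, one_pow q⟩
      mul_mem' := fun {x y} hx hy => ⟨Nb.mul_mem hx.1 hy.1, by
        have hc : Commute x y := hNab x hx.1 y hy.1
        rw [hc.mul_pow, hx.2, hy.2, one_mul]⟩
      inv_mem' := fun {x} hx => ⟨Nb.inv_mem hx.1, by rw [inv_pow, hx.2, inv_one]⟩ }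
  have hNbqle : Nbq ≤ Nb := fun x hx => hx.1
  have hNbqne : Nbq ≠ ⊥ := by
    obtain ⟨g, hg⟩ := exists_prime_orderOf_dvd_card' q hqdvd
    intro h
    have hmem : (g : H ⧸ P) ∈ Nbq := by
      refine ⟨g.2, ?_⟩
      have : g ^ q = 1 := by rw [← hg]; exact pow_orderOf_eq_one g
      have := congrArg Subtype.val this
      simpa using this
    rw [h, Subgroup.mem_bot] at hmem
    have hg1 : g = 1 := Subtype.ext hmem
    rw [hg1, orderOf_one] at hg
    exact hqp.one_lt.ne hg
  have hNbqnorm : (Tb : Subgroup (H ⧸ P)) ≤ Subgroup.normalizer (Nbq : Set (H ⧸ P)) := by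
    apply le_normalizer_of_conj_mem
    intro t _ x hx
    refine ⟨hNbn.conj_mem x hx.1 t, ?_⟩
    rw [conj_pow, hx.2]
    simp
  have hNbexp : ∀ x ∈ Nb, x ^ q = 1 := fun x hx =>
    (le_of_coatom_invariant Tb.2 hTbco hcop hNbqle hNbqne hNbqnorm hx).2
  -- the preimage
  set L : Subgroup H := Nb.comap π with hL
  have hLn : L.Normal := hNbn.comap π
  have hPL : P ≤ L := by
    intro g hg
    show π g ∈ Nb
    rw [(hπ1 g).mpr hg]
    exact Nb.one_mem
  refine ⟨L, q, hLn, hPL, hqp, hqne, ?_, ?_, ?_, ?_, ?_, hnp⟩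
  · intro g hg h hh
    rw [← hπ1]
    simp only [map_mul, map_inv]
    rw [hNab (π g) hg (π h) hh]
    group
  · intro g hg
    rw [← hπ1, map_pow]
    exact hNbexp _ hg
  · intro g hg
    show π g ∈ Nb
    obtain ⟨j, hj⟩ := IsPGroup.iff_card.mp Tb.2
    have hidx : Nb.index = p ^ j := by rw [← hj]; exact hNbc.symm.index_eq_card
    set y : (H ⧸ P) ⧸ Nb := QuotientGroup.mk' Nb (π g) with hy
    have h1 : y ^ (p ^ j) = 1 := by
      rw [← hidx, Subgroup.index_eq_card]
      exact pow_card_eq_one'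
    have h2 : y ^ (orderOf g) = 1 := by
      rw [hy, ← map_pow, ← map_pow, pow_orderOf_eq_one, map_one, map_one]
    have h3 : orderOf y ∣ Nat.gcd (orderOf g) (p ^ j) :=
      Nat.dvd_gcd (orderOf_dvd_of_pow_eq_one h2) (orderOf_dvd_of_pow_eq_one h1)
    have h4 : Nat.gcd (orderOf g) (p ^ j) = 1 := Nat.Coprime.pow_right j hg
    rw [h4] at h3
    have h5 : y = 1 := orderOf_eq_one_iff.mp (Nat.dvd_one.mp h3)
    rw [hy] at h5
    exact (QuotientGroup.eq_one_iff _).mp h5
  · intro K hKn hPK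
    set Mb : Subgroup (H ⧸ P) := K.map π ⊓ Nb with hMb
    have hKbn : (K.map π).Normal := hKn.map π hπs
    have hMbn : Mb.Normal := inferInstance
    by_cases hMbot : Mb = ⊥
    · left
      intro g hg
      have : π g ∈ Mb := ⟨⟨g, hg.1, rfl⟩, hg.2⟩
      rw [hMbot, Subgroup.mem_bot] at this
      exact (hπ1 g).mp this
    · right
      have hnorm : (Tb : Subgroup (H ⧸ P)) ≤ Subgroup.normalizer (Mb : Set (H ⧸ P)) := by
        rw [Subgroup.normalizer_eq_top]
        exact le_top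
      have hle := le_of_coatom_invariant Tb.2 hTbco hcop (inf_le_right : Mb ≤ Nb) hMbot hnorm
      intro g hg
      obtain ⟨k, hk, hkg⟩ := (hle hg).1
      have h1 : π (k⁻¹ * g) = 1 := by rw [map_mul, map_inv, hkg]; group
      have h2 : k⁻¹ * g ∈ K := hPK ((hπ1 _).mp h1)
      have := K.mul_mem hk h2
      rwa [mul_inv_cancel_left] at this
  · intro t ht hcomm
    set D : Subgroup (H ⧸ P) := (Tb : Subgroup (H ⧸ P)) ⊓ Subgroup.centralizer (Nb : Set (H ⧸ P))
      with hD
    have hDn : D.Normal := inf_centralizer_normal Nb _ hsup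
    have hDp : IsPGroup p D := Tb.2.to_le inf_le_left
    have hDle : D ≤ pCore p (H ⧸ P) := le_sSup ⟨hDn, hDp⟩
    rw [pCore_quotient_pCore_eq_bot] at hDle
    have htD : π t ∈ D := by
      refine ⟨?_, ?_⟩
      · rw [SetLike.mem_coe, hTbcoe]
        exact ⟨t, ht, rfl⟩
      · show π t ∈ Subgroup.centralizer (Nb : Set (H ⧸ P))
        rw [Subgroup.mem_centralizer_iff]
        intro x hx
        obtain ⟨l, rfl⟩ := hπs x
        have h1 := (hπ1 _).mpr (hcomm l hx)
        simp only [map_mul, map_inv] at h1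
        calc π l * π t = (π t * π l * (π t)⁻¹ * (π l)⁻¹)⁻¹ * (π t * π l) := by group
          _ = π t * π l := by rw [h1]; group
    have := hDle htD
    rw [Subgroup.mem_bot] at this
    exact (hπ1 t).mp this

end Cfsg.Agent.Lib.Helper14.KInfCoatomStruct
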