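import Mathlib.GroupTheory.Sylow
import Mathlib.GroupTheory.Frattini
import Mathlib.GroupTheory.Nilpotent
import Mathlib.GroupTheory.Solvable
import Mathlib.GroupTheory.Complement
import Mathlib.GroupTheory.QuotientGroup.Basic
import Mathlib.Tactic.Group
import Cfsg.Agent.S0051
import Cfsg.Prelude.Def_Transfer
import Cfsg.Agent.Lib.Helper14.NilpHall

set_option autoImplicit false
set_option linter.unusedSectionVars false

namespace Cfsg.Agent.Lib.Helper14

open scoped commutatorElement

universe u

variable {G : Type u} [Group G] {p : ℕ} [Fact p.Prime]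

section Pullback

variable (P : Sylow p G) (N : Subgroup G) [N.Normal]

/-- `N ∩ P` as a subgroup of `P`. -/
def tateR : Subgroup (P : Subgroup G) := N.subgroupOf (P : Subgroup G)

instance tateR_normal : (tateR P N).Normal := by unfold tateR; infer_instance

theorem mem_tateR {x : (P : Subgroup G)} : x ∈ tateR P N ↔ (x : G) ∈ N := Subgroup.mem_subgroupOf

/-- The derived subgroup of `N ∩ P`, inside `P`. -/
def tateQ : Subgroup (P : Subgroup G) := ⁅tateR P N, tateR P N⁆

instance tateQ_normal : (tateQ P N).Normal := by unfold tateQ; infer_instance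

theorem tateQ_le : tateQ P N ≤ tateR P N := Subgroup.commutator_le_left _ _

/-- The quotient `P / (N ∩ P)'`. -/
abbrev TateW : Type u := (P : Subgroup G) ⧸ tateQ P N

/-- The natural map `P / (N ∩ P)' → G / N`. -/
def tateBeta : TateW P N →* G ⧸ N :=
  QuotientGroup.lift (tateQ P N) ((QuotientGroup.mk' N).comp (P : Subgroup G).subtype) (by
    intro x hx
    rw [MonoidHom.mem_ker]
    show ((x : G) : G ⧸ N) = 1
    rw [QuotientGroup.eq_one_iff]
    exact (mem_tateR P N).mp (tateQ_le P N hx))

theorem tateBeta_mk (u : (P : Subgroup G)) :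
    tateBeta P N (QuotientGroup.mk u) = ((u : G) : G ⧸ N) := rfl

theorem tateBeta_eq_one_iff (u : (P : Subgroup G)) :
    tateBeta P N (QuotientGroup.mk u) = 1 ↔ u ∈ tateR P N := by
  rw [tateBeta_mk, QuotientGroup.eq_one_iff, mem_tateR]

theorem tateW_comm (w w' : TateW P N) (h : tateBeta P N w = 1) (h' : tateBeta P N w' = 1) :
    w * w' = w' * w := by
  induction w using QuotientGroup.induction_on with
  | H u =>
    induction w' using QuotientGroup.induction_on with
    | H u' =>
      rw [tateBeta_eq_one_iff] at h h'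
      rw [← QuotientGroup.mk_mul, ← QuotientGroup.mk_mul, QuotientGroup.eq]
      have : (u * u')⁻¹ * (u' * u) = ⁅u'⁻¹, u⁻¹⁆ := by
        rw [commutatorElement_def]; group
      rw [this]
      exact Subgroup.commutator_mem_commutator (inv_mem h') (inv_mem h)

/-- The pullback of `G → G/N ← P/(N ∩ P)'`. -/
def tatePull : Subgroup (G × TateW P N) :=
  ((QuotientGroup.mk' N).comp (MonoidHom.fst G (TateW P N))).eqLocus
    ((tateBeta P N).comp (MonoidHom.snd G (TateW P N)))

theorem mem_tatePull {x : G × TateW P N} :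
    x ∈ tatePull P N ↔ ((x.1 : G) : G ⧸ N) = tateBeta P N x.2 := Iff.rfl

end Pullback

section Main

variable [Finite G] (P : Sylow p G) (N : Subgroup G) [N.Normal]

/-- First projection of the pullback. -/
def tatePhi : tatePull P N →* G :=
  (MonoidHom.fst G (TateW P N)).comp (tatePull P N).subtype

/-- Second projection of the pullback. -/
def tateRho : tatePull P N →* TateW P N :=
  (MonoidHom.snd G (TateW P N)).comp (tatePull P N).subtype

theorem tatePull_spec (x : tatePull P N) :
    ((tatePhi P N x : G) : G ⧸ N) = tateBeta P N (tateRho P N x) := x.2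

theorem tatePull_ext {x y : tatePull P N} (h1 : tatePhi P N x = tatePhi P N y)
    (h2 : tateRho P N x = tateRho P N y) : x = y :=
  Subtype.ext (Prod.ext h1 h2)

theorem tateW_isPGroup : IsPGroup p (TateW P N) := P.isPGroup'.to_quotient _

/-- The section `u ↦ (u, u mod Q)`. -/
def tateSigma : (P : Subgroup G) →* tatePull P N :=
  MonoidHom.codRestrict
    ((P : Subgroup G).subtype.prod (QuotientGroup.mk' (tateQ P N))) (tatePull P N)
    (fun _ => rfl)

theorem tatePhi_sigma (u : (P : Subgroup G)) : tatePhi P N (tateSigma P N u) = u := rfl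

theorem tateRho_sigma (u : (P : Subgroup G)) :
    tateRho P N (tateSigma P N u) = QuotientGroup.mk u := rfl

theorem tateBeta_rho_of_mem_ker {k : tatePull P N} (hk : k ∈ (tatePhi P N).ker) :
    tateBeta P N (tateRho P N k) = 1 := by
  rw [← tatePull_spec, MonoidHom.mem_ker.mp hk]
  rfl

instance tateK_comm : IsMulCommutative (tatePhi P N).ker :=
  ⟨⟨fun a b => by
    apply Subtype.ext
    apply tatePull_ext
    · show tatePhi P N (a.1 * b.1) = tatePhi P N (b.1 * a.1)
      rw [map_mul, map_mul, MonoidHom.mem_ker.mp a.2, MonoidHom.mem_ker.mp b.2]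
    · show tateRho P N (a.1 * b.1) = tateRho P N (b.1 * a.1)
      rw [map_mul, map_mul]
      exact tateW_comm P N _ _ (tateBeta_rho_of_mem_ker P N a.2)
        (tateBeta_rho_of_mem_ker P N b.2)⟩⟩

theorem tateK_isPGroup : IsPGroup p (tatePhi P N).ker := by
  intro k
  obtain ⟨j, hj⟩ := tateW_isPGroup P N (tateRho P N k.1)
  refine ⟨j, ?_⟩
  apply Subtype.ext
  apply tatePull_ext
  · show tatePhi P N ((k ^ (p ^ j) : (tatePhi P N).ker) : tatePull P N) = tatePhi P N 1
    rw [Subgroup.coe_pow, map_pow, MonoidHom.mem_ker.mp k.2, one_pow, map_one]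
  · show tateRho P N ((k ^ (p ^ j) : (tatePhi P N).ker) : tatePull P N) = tateRho P N 1
    rw [Subgroup.coe_pow, map_pow, hj, map_one]

theorem tateR_le_frattini (h : N ⊓ (P : Subgroup G) ≤ (frattini P).map (P : Subgroup G).subtype) :
    tateR P N ≤ frattini (P : Subgroup G) := by
  intro x hx
  have hx' : (x : G) ∈ N ⊓ (P : Subgroup G) := ⟨(mem_tateR P N).mp hx, x.2⟩
  obtain ⟨y, hy, hyx⟩ := h hx'
  have : y = x := Subtype.ext hyx
  rwa [← this]

theorem ker_tateBeta_le_frattini
    (h : N ⊓ (P : Subgroup G) ≤ (frattini P).map (P : Subgroup G).subtype) :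
    (tateBeta P N).ker ≤ frattini (TateW P N) := by
  intro w hw
  induction w using QuotientGroup.induction_on with
  | H u =>
    rw [MonoidHom.mem_ker, tateBeta_eq_one_iff] at hw
    have h1 := tateR_le_frattini P N h hw
    have h2 := frattini_le_comap_frattini_of_surjective
      (QuotientGroup.mk'_surjective (tateQ P N)) h1
    exact h2

theorem tateQ_ne_tateR (hN : N ⊓ (P : Subgroup G) ≠ ⊥) : tateQ P N ≠ tateR P N := by
  intro heq
  have hR : tateR P N ≠ ⊥ := by
    intro hb
    unfold tateR at hb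
    rw [Subgroup.subgroupOf_eq_bot, disjoint_iff] at hb
    exact hN hb
  have hnt : Nontrivial (tateR P N) := (Subgroup.nontrivial_iff_ne_bot _).mpr hR
  have hp : IsPGroup p (tateR P N) := P.isPGroup'.to_subgroup _
  have hnil : Group.IsNilpotent (tateR P N) := hp.isNilpotent
  have hlt := Group.IsSolvable.commutator_lt_top_of_nontrivial (tateR P N)
  have h1 : (commutator (tateR P N)).map (tateR P N).subtype = tateR P N := by
    rw [Subgroup.map_subtype_commutator]
    exact heq
  have h2 : (⊤ : Subgroup (tateR P N)).map (tateR P N).subtype = tateR P N := by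
    rw [← MonoidHom.range_eq_map, Subgroup.range_subtype]
  have h3 : commutator (tateR P N) = ⊤ :=
    Subgroup.map_injective (Subgroup.subtype_injective _) (h1.trans h2.symm)
  exact hlt.ne h3

/-- Key step for Tate's theorem: if `N ∩ P ≤ Φ(P)` and `N ∩ P ≠ 1` then `N` has a proper
subgroup containing all `p^k`-th powers of elements of `N`. -/
theorem exists_proper_pow_mem_of_inf_le_frattini
    (h : N ⊓ (P : Subgroup G) ≤ (frattini P).map (P : Subgroup G).subtype)
    (hN : N ⊓ (P : Subgroup G) ≠ ⊥) :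
    ∃ (M : Subgroup G) (k : ℕ), M ≤ N ∧ M ≠ N ∧ ∀ x ∈ N, x ^ (p ^ k) ∈ M := by
  have hfinW : Finite (TateW P N) := inferInstance
  have hfin : Finite (tatePull P N) := inferInstance
  -- Gaschütz data
  have hKU : (tatePhi P N).ker ≤ (P : Subgroup G).comap (tatePhi P N) := by
    intro k hk
    rw [Subgroup.mem_comap, MonoidHom.mem_ker.mp hk]
    exact one_mem _
  have hAU : (tateSigma P N).range ≤ (P : Subgroup G).comap (tatePhi P N) := by
    rintro _ ⟨u, rfl⟩
    rw [Subgroup.mem_comap, tatePhi_sigma]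
    exact u.2
  have hAK : (tateSigma P N).range ⊓ (tatePhi P N).ker = ⊥ := by
    rw [eq_bot_iff]
    rintro _ ⟨⟨u, rfl⟩, hk⟩
    have hk' : tatePhi P N (tateSigma P N u) = 1 := MonoidHom.mem_ker.mp hk
    rw [tatePhi_sigma] at hk'
    have hu : u = 1 := Subtype.ext hk'
    rw [hu, map_one]
    exact Subgroup.mem_bot.mpr rfl
  have hKA : (tatePhi P N).ker ⊔ (tateSigma P N).range =
      (P : Subgroup G).comap (tatePhi P N) := by
    apply le_antisymm (sup_le hKU hAU)
    intro x hx
    rw [Subgroup.mem_comap] at hx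
    have hx1 : x = (x * (tateSigma P N ⟨tatePhi P N x, hx⟩)⁻¹) *
        tateSigma P N ⟨tatePhi P N x, hx⟩ := by group
    rw [hx1]
    apply Subgroup.mul_mem_sup
    · rw [MonoidHom.mem_ker, map_mul, map_inv, tatePhi_sigma]
      exact mul_inv_cancel _
    · exact ⟨_, rfl⟩
  have hcop : (Nat.card (tatePhi P N).ker).Coprime ((P : Subgroup G).comap (tatePhi P N)).index := by
    obtain ⟨j, hj⟩ := IsPGroup.iff_card.mp (tateK_isPGroup P N)
    rw [hj]
    apply Nat.Coprime.pow_left
    rw [Nat.Prime.coprime_iff_not_dvd (Fact.out : p.Prime)]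
    rw [Subgroup.index_comap]
    intro hdvd
    have hle : (P : Subgroup G) ≤ (tatePhi P N).range := by
      intro u hu
      exact ⟨tateSigma P N ⟨u, hu⟩, rfl⟩
    exact P.not_dvd_index (hdvd.trans (Subgroup.relIndex_dvd_index_of_le hle))
  obtain ⟨H, hH⟩ := Cfsg.Agent.S0051.result (tatePhi P N).ker
    ((P : Subgroup G).comap (tatePhi P N)) hKU hcop (tateSigma P N).range hAU hAK hKA
  have hdisj : (tatePhi P N).ker ⊓ H = ⊥ := hH.disjoint.eq_bot
  obtain ⟨k, hk⟩ := IsPGroup.iff_card.mp (tateW_isPGroup P N)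
  refine ⟨(H ⊓ (tateRho P N).ker ⊓ N.comap (tatePhi P N)).map (tatePhi P N), k, ?_, ?_, ?_⟩
  · rintro _ ⟨x, hx, rfl⟩
    exact hx.2
  · intro hMN
    -- surjectivity of ρ on H
    have hsurj : H.map (tateRho P N) = ⊤ := by
      apply frattini_nongenerating
      rw [eq_top_iff]
      intro w _
      induction w using QuotientGroup.induction_on with
      | H u =>
        obtain ⟨⟨a, b⟩, hab⟩ := hH.2 (tateSigma P N u)
        have hab' : (a : tatePull P N) * (b : tatePull P N) = tateSigma P N u := hab
        have h1 : (QuotientGroup.mk u : TateW P N) =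
            tateRho P N (b : tatePull P N) * ((tateRho P N (b : tatePull P N))⁻¹ *
              tateRho P N (a : tatePull P N) * tateRho P N (b : tatePull P N)) := by
          rw [← tateRho_sigma, ← hab', map_mul]; group
        rw [h1]
        apply Subgroup.mul_mem_sup
        · exact ⟨b, b.2, rfl⟩
        · have hker : tateRho P N (a : tatePull P N) ∈ (tateBeta P N).ker :=
            MonoidHom.mem_ker.mpr (tateBeta_rho_of_mem_ker P N a.2)
          have hfr := ker_tateBeta_le_frattini P N h hker
          have hn : (frattini (TateW P N)).Normal := inferInstance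
          have := hn.conj_mem _ hfr (tateRho P N (b : tatePull P N))⁻¹
          simpa using this
    obtain ⟨q, hqR, hqQ⟩ := SetLike.exists_of_lt
      (lt_of_le_of_ne (tateQ_le P N) (tateQ_ne_tateR P N hN))
    have hw0 : (QuotientGroup.mk q : TateW P N) ≠ 1 := by
      intro h0
      rw [QuotientGroup.eq_one_iff] at h0
      exact hqQ h0
    have hmem : (QuotientGroup.mk q : TateW P N) ∈ H.map (tateRho P N) := by
      rw [hsurj]; trivial
    obtain ⟨h', hh'H, hh'⟩ := hmem
    have hgN : tatePhi P N h' ∈ N := by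
      rw [← QuotientGroup.eq_one_iff, tatePull_spec, hh', tateBeta_eq_one_iff]
      exact hqR
    have hgN' : tatePhi P N h' ∈
        (H ⊓ (tateRho P N).ker ⊓ N.comap (tatePhi P N)).map (tatePhi P N) := by
      rw [hMN]; exact hgN
    obtain ⟨h'', ⟨⟨hh''H, hh''ρ⟩, _⟩, hh''⟩ := hgN'
    have hy : h' * h''⁻¹ ∈ (tatePhi P N).ker ⊓ H := by
      refine ⟨MonoidHom.mem_ker.mpr ?_, H.mul_mem hh'H (H.inv_mem hh''H)⟩
      rw [map_mul, map_inv, hh'']
      exact mul_inv_cancel _
    rw [hdisj, Subgroup.mem_bot] at hy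
    apply hw0
    have := congrArg (tateRho P N) hy
    rw [map_mul, map_inv, hh', MonoidHom.mem_ker.mp hh''ρ, inv_one, mul_one, map_one] at this
    exact this
  · intro x hx
    have hX : ((x, (1 : TateW P N)) : G × TateW P N) ∈ tatePull P N := by
      rw [mem_tatePull, map_one]
      exact (QuotientGroup.eq_one_iff x).mpr hx
    obtain ⟨⟨a, b⟩, hab⟩ := hH.2 ⟨_, hX⟩
    have hab' : (a : tatePull P N) * (b : tatePull P N) = ⟨_, hX⟩ := hab
    have hφ : tatePhi P N (b : tatePull P N) = x := by
      have := congrArg (tatePhi P N) hab'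
      rw [map_mul, MonoidHom.mem_ker.mp a.2, one_mul] at this
      exact this
    refine ⟨(b : tatePull P N) ^ (p ^ k), ⟨⟨H.pow_mem b.2 _, ?_⟩, ?_⟩, ?_⟩
    · exact MonoidHom.mem_ker.mpr (by rw [map_pow, ← hk]; exact pow_card_eq_one')
    · exact Subgroup.mem_comap.mpr (by rw [map_pow, hφ]; exact N.pow_mem hx _)
    · rw [map_pow, hφ]

end Main

section Induction

variable [Finite G] (P : Sylow p G)

/-- If `N ∩ P = 1` for a normal subgroup `N` then all elements of `N` have order prime to `p`. -/
theorem coprime_orderOf_of_inf_sylow_eq_bot (N : Subgroup G) [hNn : N.Normal]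
    (h0 : N ⊓ (P : Subgroup G) = ⊥) {x : G} (hx : x ∈ N) : (orderOf x).Coprime p := by
  have hp : p.Prime := Fact.out
  rw [Nat.coprime_comm, Nat.Prime.coprime_iff_not_dvd hp]
  intro hdvd
  obtain ⟨m, hm⟩ := hdvd
  have hord : orderOf (x ^ m) = p := by
    have hpos : 0 < orderOf x := orderOf_pos x
    have hm0 : m ≠ 0 := by
      rintro rfl
      rw [mul_zero] at hm
      exact hpos.ne' hm
    rw [orderOf_pow' x hm0, hm, Nat.gcd_mul_left_left, Nat.mul_div_cancel _ (Nat.pos_of_ne_zero hm0)]
  have hpg : IsPGroup p (Subgroup.zpowers (x ^ m)) := by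
    apply IsPGroup.of_card (n := 1)
    rw [Nat.card_zpowers, hord, pow_one]
  obtain ⟨Q, hQ⟩ := hpg.exists_le_sylow
  obtain ⟨g, hg⟩ := MulAction.exists_smul_eq G Q P
  have hxQ : x ^ m ∈ (Q : Subgroup G) := hQ (Subgroup.mem_zpowers _)
  have hmem : g * x ^ m * g⁻¹ ∈ (P : Subgroup G) := by
    rw [← hg, Sylow.coe_subgroup_smul, Subgroup.mem_pointwise_smul_iff_inv_smul_mem]
    show (MulAut.conj g)⁻¹ (g * x ^ m * g⁻¹) ∈ (Q : Subgroup G)
    rw [← map_inv, MulAut.conj_apply]
    have : g⁻¹ * (g * x ^ m * g⁻¹) * g⁻¹⁻¹ = x ^ m := by group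
    rw [this]; exact hxQ
  have hmemN : g * x ^ m * g⁻¹ ∈ N := hNn.conj_mem _ (N.pow_mem hx m) g
  have h1 : g * x ^ m * g⁻¹ ∈ N ⊓ (P : Subgroup G) := ⟨hmemN, hmem⟩
  rw [h0, Subgroup.mem_bot] at h1
  have h2 : x ^ m = 1 := by
    have : x ^ m = g⁻¹ * (g * x ^ m * g⁻¹) * g := by group
    rw [this, h1]; group
  rw [h2, orderOf_one] at hord
  exact hp.one_lt.ne hord

theorem tate_aux (n : ℕ) : ∀ (N : Subgroup G), N.Normal → Nat.card N = n →
    N ⊓ (P : Subgroup G) ≤ (frattini P).map (P : Subgroup G).subtype →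
    ∃ T : Subgroup G, T.Normal ∧ T ≤ N ∧ (∀ x ∈ N, (orderOf x).Coprime p → x ∈ T) ∧
      (∀ x ∈ T, (orderOf x).Coprime p) ∧ ∃ j : ℕ, T.relIndex N = p ^ j := by
  induction n using Nat.strong_induction_on with
  | _ n ih =>
    intro N hNn hcard h
    by_cases h0 : N ⊓ (P : Subgroup G) = ⊥
    · refine ⟨N, hNn, le_rfl, fun x hx _ => hx, fun x hx => ?_, 0, ?_⟩
      · exact coprime_orderOf_of_inf_sylow_eq_bot P N h0 hx
      · rw [Subgroup.relIndex_self, pow_zero]
    · obtain ⟨M, k, hMN, hMne, hpow⟩ := exists_proper_pow_mem_of_inf_le_frattini P N h h0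
      have hcore_le : M.normalCore ≤ N := (Subgroup.normalCore_le M).trans hMN
      have hcore_ne : M.normalCore ≠ N := by
        intro heq
        apply hMne
        apply le_antisymm hMN
        rw [← heq]
        exact Subgroup.normalCore_le M
      have hcore_pow : ∀ x ∈ N, x ^ (p ^ k) ∈ M.normalCore := by
        intro x hx b
        have : b * x ^ (p ^ k) * b⁻¹ = (b * x * b⁻¹) ^ (p ^ k) := by rw [conj_pow]
        rw [this]
        exact hpow _ (hNn.conj_mem x hx b)
      have hlt : Nat.card M.normalCore < n := by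
        rw [← hcard]
        apply lt_of_le_of_ne (Subgroup.card_le_of_le hcore_le)
        intro hc
        exact hcore_ne (Subgroup.eq_of_le_of_card_ge hcore_le hc.ge)
      obtain ⟨T, hTn, hTM, hT1, hT2, j, hj⟩ := ih _ hlt M.normalCore inferInstance rfl
        ((inf_le_inf_right _ hcore_le).trans h)
      refine ⟨T, hTn, hTM.trans hcore_le, ?_, hT2, ?_⟩
      · intro x hx hcop
        apply hT1 x _ hcop
        exact mem_of_pow_mem_of_coprime (Nat.Coprime.pow_right k hcop) (hcore_pow x hx)
      · have hpq : IsPGroup p (N ⧸ M.normalCore.subgroupOf N) := by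
          intro y
          induction y using QuotientGroup.induction_on with
          | H x =>
            refine ⟨k, ?_⟩
            rw [← QuotientGroup.mk_pow, QuotientGroup.eq_one_iff, Subgroup.mem_subgroupOf,
              Subgroup.coe_pow]
            exact hcore_pow x x.2
        obtain ⟨i, hi⟩ := IsPGroup.iff_card.mp hpq
        have hrel : M.normalCore.relIndex N = p ^ i := by
          rw [← hi]
          exact Subgroup.index_eq_card _
        refine ⟨j + i, ?_⟩
        rw [← Subgroup.relIndex_mul_relIndex T M.normalCore N hTM hcore_le, hj, hrel, pow_add]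

end Induction

section Final

variable [Finite G] (P : Sylow p G)

/-- Tate's theorem. -/
theorem hasNormalPComplement_of_inf_le_frattini (N : Subgroup G) [hNn : N.Normal]
    (h : N ⊓ (P : Subgroup G) ≤ (frattini P).map (P : Subgroup G).subtype) :
    Cfsg.HasNormalPComplement p N := by
  have hp : p.Prime := Fact.out
  obtain ⟨T, hTn, hTN, _, hT2, j, hj⟩ := tate_aux P (Nat.card N) N hNn rfl h
  have hT'n : (T.subgroupOf N).Normal := inferInstance
  have hidx : (T.subgroupOf N).index = p ^ j := hj
  have hcardmul := (T.subgroupOf N).card_mul_index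
  rw [hidx] at hcardmul
  have hcop : (Nat.card (T.subgroupOf N)).Coprime p := by
    rw [Nat.coprime_comm, Nat.Prime.coprime_iff_not_dvd hp]
    intro hdvd
    obtain ⟨x, hx⟩ := exists_prime_orderOf_dvd_card' p hdvd
    have hxT : ((x : N) : G) ∈ T := Subgroup.mem_subgroupOf.mp x.2
    have h1 := hT2 _ hxT
    have h2 : orderOf ((x : N) : G) = p := by
      rw [Subgroup.orderOf_coe, Subgroup.orderOf_coe]; exact hx
    rw [h2] at h1
    exact hp.one_lt.ne' ((Nat.coprime_self p).mp h1)
  obtain ⟨P'⟩ : Nonempty (Sylow p N) := inferInstance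
  have hP'card : Nat.card (P' : Subgroup N) = p ^ j := by
    rw [Sylow.card_eq_multiplicity, ← hcardmul]
    congr 1
    rw [Nat.factorization_mul (Nat.card_pos.ne') (pow_ne_zero _ hp.ne_zero)]
    rw [Finsupp.add_apply, Nat.factorization_eq_zero_of_not_dvd, zero_add,
      hp.factorization_pow, Finsupp.single_eq_same]
    exact (Nat.Prime.coprime_iff_not_dvd hp).mp hcop.symm
  refine ⟨P', T.subgroupOf N, hT'n, ?_⟩
  apply Subgroup.isComplement'_of_coprime
  · rw [hP'card]; exact hcardmul
  · rw [hP'card]; exact Nat.Coprime.pow_right j hcop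

end Final

end Cfsg.Agent.Lib.Helper14
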