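import Cfsg.Agent.Lib.Helper07.OrthKE
import Cfsg.Agent.Lib.Helper50.SpinorIndex

set_option autoImplicit false
set_option linter.unusedSectionVars false
set_option linter.unusedVariables false

/-! K-S2720-S (keystone 272012): the sign of an isometry on the sphere `{Q v = c}` from free cyclic
data (orbit counting modulo 2).  K-S2720-P is proved locally (`perm_sign_of_exact_period`). -/

namespace Cfsg.Agent.Lib.Helper14.S2720K

open Module Matrix Polynomial Cfsg.Agent.Lib.Helper07.KE

/-- local copy of K-S2720-P -/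
theorem perm_sign_of_exact_period {α : Type*} [Fintype α] [DecidableEq α] (π : Equiv.Perm α) (k : ℕ)
    (hk : Even k) (hk0 : 0 < k)
    (hper : ∀ x, π x ≠ x → (π ^ k) x = x ∧ ∀ j : ℕ, 0 < j → j < k → (π ^ j) x ≠ x)
    (n : ℕ) (hn : Nat.card {x : α // π x ≠ x} = k * n) :
    Equiv.Perm.sign π = (-1) ^ n := by
  have hall : ∀ m ∈ π.cycleType, m = k := by
    intro m hm
    rw [Equiv.Perm.cycleType_def] at hm
    obtain ⟨c, hc, rfl⟩ := Multiset.mem_map.mp hm
    have hc' : c ∈ π.cycleFactorsFinset := hc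
    have hcyc : c.IsCycle := (Equiv.Perm.mem_cycleFactorsFinset_iff.mp hc').1
    obtain ⟨x, hx⟩ := hcyc.nonempty_support
    have hceq : c = π.cycleOf x := Equiv.Perm.cycle_is_cycleOf hx hc'
    have hcx : c x ≠ x := Equiv.Perm.mem_support.mp hx
    have hπx : π x ≠ x := by
      have h1 : c x = π x := (Equiv.Perm.mem_cycleFactorsFinset_iff.mp hc').2 x hx
      rwa [h1] at hcx
    obtain ⟨h1, h2⟩ := hper x hπx
    have hpow : ∀ j : ℕ, (c ^ j) x = (π ^ j) x := by
      intro j
      rw [hceq, Equiv.Perm.cycleOf_pow_apply_self]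
    show (Finset.card ∘ Equiv.Perm.support) c = k
    rw [Function.comp_apply, ← hcyc.orderOf, orderOf_eq_iff hk0]
    refine ⟨(hcyc.pow_eq_one_iff' hcx).mpr (by rw [hpow]; exact h1), ?_⟩
    intro j hjk hj0 hcj
    apply h2 j hj0 hjk
    rw [← hpow, hcj]
    rfl
  have hrep : π.cycleType = Multiset.replicate (Multiset.card π.cycleType) k :=
    Multiset.eq_replicate.mpr ⟨rfl, hall⟩
  have hsum : π.cycleType.sum = k * n := by
    rw [Equiv.Perm.sum_cycleType, ← hn, Nat.card_eq_fintype_card, Fintype.card_subtype]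
    rfl
  have hsum' : π.cycleType.sum = Multiset.card π.cycleType * k := by
    conv_lhs => rw [hrep]
    rw [Multiset.sum_replicate, smul_eq_mul]
  have hcard : Multiset.card π.cycleType = n := by
    rw [hsum', mul_comm] at hsum
    exact Nat.eq_of_mul_eq_mul_left hk0 hsum
  rw [Equiv.Perm.sign_of_cycleType, hsum, hcard, pow_add, (hk.mul_right n).neg_one_pow, one_mul]

/-- a fixed-point-free involution lives on a set of even cardinality -/
theorem even_card_of_involution {α : Type*} [Fintype α] [DecidableEq α] (σ : Equiv.Perm α)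
    (h2 : σ ^ 2 = 1) (hfp : ∀ a, σ a ≠ a) : Even (Fintype.card α) := by
  have h := Equiv.Perm.two_dvd_card_support h2
  have hs : σ.support = Finset.univ := by
    ext a
    simp [hfp a]
  rw [hs, Finset.card_univ] at h
  exact even_iff_two_dvd.mpr h

theorem theta_eq_neg_one_of_free {ι : Type} [Fintype ι] [DecidableEq ι] {F : Type*} [Field F]
    [Fintype F] (h2 : (2 : F) ≠ 0) (Q : QuadraticForm F (ι → F))
    (g : ↥(Cfsg.isometryGroup F ⇑Q)) (W W' : Submodule F (ι → F)) (k : ℕ) (N : F → ℕ)
    (hc : IsCompl W W') (horth : ∀ x ∈ W, ∀ y ∈ W', QuadraticMap.polar (⇑Q) x y = 0)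
    (hgW : ∀ x ∈ W, ((g : GL ι F) : Matrix ι ι F) *ᵥ x ∈ W)
    (hgW' : ∀ y ∈ W', ((g : GL ι F) : Matrix ι ι F) *ᵥ y = y)
    (hk : Even k) (hk0 : 0 < k)
    (hgk : ∀ x ∈ W, (((g : GL ι F) : Matrix ι ι F) ^ k) *ᵥ x = x)
    (hfree : ∀ x ∈ W, x ≠ 0 → ∀ j : ℕ, 0 < j → j < k →
      (((g : GL ι F) : Matrix ι ι F) ^ j) *ᵥ x ≠ x)
    (hN : ∀ b : F, Nat.card {x : ι → F // x ∈ W ∧ x ≠ 0 ∧ Q x = b} = k * N b)
    (hodd : ∀ b : F, b ≠ 0 → Odd (N b)) (heven : Even (N 0)) (c : F) (hc0 : c ≠ 0) :
    Cfsg.Agent.Lib.Helper50.theta (⇑Q) c g = -1 := by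
  classical
  set A : Matrix ι ι F := ((g : GL ι F) : Matrix ι ι F) with hA
  have hk2 : 1 < k := by
    obtain ⟨m, hm⟩ := hk
    omega
  -- decomposition facts
  have hQsum : ∀ (x : W) (y : W'), Q ((x : ι → F) + (y : ι → F)) = Q x + Q y := by
    intro x y
    have h0 := horth x x.2 y y.2
    rw [QuadraticMap.polar] at h0
    linear_combination h0
  have hApowW' : ∀ (j : ℕ) (y : W'), (A ^ j) *ᵥ (y : ι → F) = y := by
    intro j y
    induction j with
    | zero => rw [pow_zero, Matrix.one_mulVec]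
    | succ j ih => rw [pow_succ, ← Matrix.mulVec_mulVec, hgW' y y.2, ih]
  have hApow : ∀ (j : ℕ) (x : W) (y : W'),
      (A ^ j) *ᵥ ((x : ι → F) + (y : ι → F)) = (A ^ j) *ᵥ (x : ι → F) + y := by
    intro j x y
    rw [Matrix.mulVec_add, hApowW']
  have hfix : ∀ (x : W) (y : W'),
      A *ᵥ ((x : ι → F) + (y : ι → F)) = (x : ι → F) + y ↔ (x : ι → F) = 0 := by
    intro x y
    have := hApow 1 x y
    rw [pow_one] at this
    rw [this, add_left_inj]
    constructor
    · intro h
      by_contra hx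
      have h1 := hfree x x.2 hx 1 one_pos hk2
      rw [pow_one] at h1
      exact h1 h
    · intro h
      rw [h, Matrix.mulVec_zero]
  -- the permutation
  set π := Cfsg.Agent.Lib.Helper50.spherePerm (⇑Q) c g with hπ
  have hπpow : ∀ (j : ℕ) (v : {v : ι → F // Q v = c}),
      (((π ^ j) v : {v : ι → F // Q v = c}) : ι → F) = (A ^ j) *ᵥ (v : ι → F) := by
    intro j
    induction j with
    | zero => intro v; rw [pow_zero, pow_zero, Matrix.one_mulVec]; rfl
    | succ j ih =>
      intro v
      rw [pow_succ', Equiv.Perm.mul_apply, hπ, Cfsg.Agent.Lib.Helper50.spherePerm_apply, ← hπ, ih,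
        Matrix.mulVec_mulVec, ← pow_succ']
  let L := Submodule.prodEquivOfIsCompl W W' hc
  have hL : ∀ v : ι → F, (((L.symm v).1 : W) : ι → F) + (((L.symm v).2 : W') : ι → F) = v := by
    intro v
    have := L.apply_symm_apply v
    rwa [Submodule.coe_prodEquivOfIsCompl'] at this
  have hper : ∀ v, π v ≠ v → (π ^ k) v = v ∧ ∀ j : ℕ, 0 < j → j < k → (π ^ j) v ≠ v := by
    intro v hv
    have hv' : A *ᵥ (v : ι → F) ≠ v := by
      intro h
      apply hv
      apply Subtype.ext
      rw [hπ, Cfsg.Agent.Lib.Helper50.spherePerm_apply]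
      exact h
    have hx0 : (((L.symm v.1).1 : W) : ι → F) ≠ 0 := by
      intro h0
      apply hv'
      conv_lhs => rw [← hL v.1]
      conv_rhs => rw [← hL v.1]
      exact (hfix _ _).mpr h0
    constructor
    · apply Subtype.ext
      rw [hπpow]
      conv_lhs => rw [← hL v.1]
      conv_rhs => rw [← hL v.1]
      rw [hApow, hgk _ (L.symm v.1).1.2]
    · intro j hj0 hjk h
      have h1 := congrArg Subtype.val h
      rw [hπpow] at h1
      have h3 : (A ^ j) *ᵥ ((((L.symm v.1).1 : W) : ι → F) + (((L.symm v.1).2 : W') : ι → F)) =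
          (((L.symm v.1).1 : W) : ι → F) + (((L.symm v.1).2 : W') : ι → F) := by
        rw [hL]; exact h1
      rw [hApow, add_left_inj] at h3
      exact hfree _ (L.symm v.1).1.2 hx0 j hj0 hjk h3
  -- counting the non-fixed points
  have e1 : {v : {v : ι → F // Q v = c} // π v ≠ v} ≃
      {v : ι → F // Q v = c ∧ A *ᵥ v ≠ v} :=
    (Equiv.subtypeEquivRight (fun v => by
      rw [hπ, Ne, Subtype.ext_iff, Cfsg.Agent.Lib.Helper50.spherePerm_apply])).trans
      (Equiv.subtypeSubtypeEquivSubtypeInter (fun v : ι → F => Q v = c)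
        (fun v : ι → F => A *ᵥ v ≠ v))
  have e2 : {v : ι → F // Q v = c ∧ A *ᵥ v ≠ v} ≃
      {p : W × W' // ((p.1 : W) : ι → F) ≠ 0 ∧ Q (p.1 : ι → F) + Q (p.2 : ι → F) = c} :=
    L.symm.toEquiv.subtypeEquiv (fun v => by
      show (Q v = c ∧ A *ᵥ v ≠ v) ↔ _
      conv_lhs => rw [← hL v]
      rw [hQsum, Ne, hfix]
      exact and_comm)
  have e3 : {p : W × W' // ((p.1 : W) : ι → F) ≠ 0 ∧ Q (p.1 : ι → F) + Q (p.2 : ι → F) = c} ≃
      Σ y : W', {x : W // (x : ι → F) ≠ 0 ∧ Q (x : ι → F) + Q (y : ι → F) = c} :=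
    ((Equiv.prodComm W W').subtypeEquiv (fun p => Iff.rfl)).trans
      (Equiv.subtypeProdEquivSigmaSubtype
        (fun (y : W') (x : W) => (x : ι → F) ≠ 0 ∧ Q (x : ι → F) + Q (y : ι → F) = c))
  have hfib : ∀ y : W', Nat.card {x : W // (x : ι → F) ≠ 0 ∧ Q (x : ι → F) + Q (y : ι → F) = c} =
      k * N (c - Q (y : ι → F)) := by
    intro y
    rw [← hN]
    apply Nat.card_congr
    exact (Equiv.subtypeSubtypeEquivSubtypeInter (fun x : ι → F => x ∈ W)
      (fun x : ι → F => x ≠ 0 ∧ Q x + Q (y : ι → F) = c)).trans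
      (Equiv.subtypeEquivRight (fun x => by
        rw [eq_sub_iff_add_eq]))
  have hcount : Nat.card {v : {v : ι → F // Q v = c} // π v ≠ v} =
      k * ∑ y : W', N (c - Q (y : ι → F)) := by
    rw [Nat.card_congr (e1.trans (e2.trans e3)), Nat.card_sigma, Finset.mul_sum]
    exact Finset.sum_congr rfl (fun y _ => hfib y)
  -- parity
  have hFodd : Odd (Fintype.card F) := by
    rw [Nat.odd_iff]
    apply FiniteField.odd_card_of_char_ne_two
    intro h
    have := ringChar.of_eq h
    apply h2
    have := CharP.cast_eq_zero F 2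
    exact_mod_cast this
  have hW'odd : Odd (Fintype.card W') := by
    rw [Module.card_eq_pow_finrank (K := F) (V := W')]
    exact hFodd.pow
  have hsph : Even (Fintype.card {y : W' // Q (y : ι → F) = c}) := by
    let σ : Equiv.Perm {y : W' // Q (y : ι → F) = c} :=
      { toFun := fun y => ⟨-y.1, by
          rw [Submodule.coe_neg, QuadraticMap.map_neg]; exact y.2⟩
        invFun := fun y => ⟨-y.1, by
          rw [Submodule.coe_neg, QuadraticMap.map_neg]; exact y.2⟩
        left_inv := fun y => by simp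
        right_inv := fun y => by simp }
    apply even_card_of_involution σ
    · ext y
      simp [σ, sq]
    · intro y h
      have h1 : -(y.1 : W') = y.1 := congrArg Subtype.val h
      have h3 : ((y.1 : W') : ι → F) = 0 := by
        have h4 : (2 : F) • ((y.1 : W') : ι → F) = 0 := by
          have h5 := congrArg (fun z : W' => (z : ι → F)) h1
          simp only [Submodule.coe_neg] at h5
          rw [two_smul]
          nth_rewrite 1 [← h5]
          exact neg_add_cancel _
        exact (smul_eq_zero.mp h4).resolve_left h2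
      have h6 := y.2
      rw [h3, map_zero] at h6
      exact hc0 h6.symm
  have hnodd : Odd (∑ y : W', N (c - Q (y : ι → F))) := by
    rw [Finset.odd_sum_iff_odd_card_odd]
    have hfilt : (Finset.univ.filter fun y : W' => Odd (N (c - Q (y : ι → F)))) =
        Finset.univ.filter fun y : W' => ¬ Q (y : ι → F) = c := by
      apply Finset.filter_congr
      intro y _
      constructor
      · intro ho he
        rw [he, sub_self] at ho
        exact (Nat.not_odd_iff_even.mpr heven) ho
      · intro hne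
        exact hodd _ (sub_ne_zero.mpr (Ne.symm hne))
    rw [hfilt]
    have hsplit := Finset.card_filter_add_card_filter_not (s := (Finset.univ : Finset W'))
      (fun y : W' => Q (y : ι → F) = c)
    rw [Finset.card_univ] at hsplit
    have hsph' : Even (Finset.card (Finset.univ.filter fun y : W' => Q (y : ι → F) = c)) := by
      rw [← Fintype.card_subtype]
      exact hsph
    rw [← hsplit] at hW'odd
    by_contra hcon
    rw [Nat.not_odd_iff_even] at hcon
    exact (Nat.not_odd_iff_even.mpr (hsph'.add hcon)) hW'odd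
  -- conclusion
  have hsign := @perm_sign_of_exact_period _ _ _ π k hk hk0 hper _ hcount
  unfold Cfsg.Agent.Lib.Helper50.theta
  rw [MonoidHom.comp_apply]
  show Equiv.Perm.sign π = -1
  rw [hnodd.neg_one_pow] at hsign
  convert hsign

end Cfsg.Agent.Lib.Helper14.S2720K
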