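import Mathlib

/-!
# K-S2717-U2 : commutators fall into `N` when `N ≤ ker κ` has index at most two in `ker κ` and `κ` has cyclic target
-/

set_option autoImplicit false

namespace Cfsg.Agent.Lib.Helper14.S2717K

theorem comm_mod_of_cyclic {A C : Type*} [Group A] [CommGroup C] [IsCyclic C] (κ : A →* C)
    (N : Subgroup A) [N.Normal] (hNP : N ≤ κ.ker)
    (h2 : ∀ a ∈ κ.ker, ∀ b ∈ κ.ker, a ∉ N → b ∉ N → a * b ∈ N) (a b : A) :
    a * b * a⁻¹ * b⁻¹ ∈ N := by
  have hN : N.Normal := inferInstance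
  -- elements of the kernel are central modulo `N`
  have claim : ∀ p ∈ κ.ker, ∀ x : A, x * p * x⁻¹ * p⁻¹ ∈ N := by
    intro p hp x
    by_cases hpN : p ∈ N
    · exact N.mul_mem (hN.conj_mem p hpN x) (N.inv_mem hpN)
    · have h1 : x * p * x⁻¹ ∈ κ.ker := (inferInstance : κ.ker.Normal).conj_mem p hp x
      have h2' : p⁻¹ ∈ κ.ker := κ.ker.inv_mem hp
      have h3 : x * p * x⁻¹ ∉ N := by
        intro h
        apply hpN
        have := hN.conj_mem _ h x⁻¹
        simpa [mul_assoc] using this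
      have h4 : p⁻¹ ∉ N := fun h => hpN (by simpa using N.inv_mem h)
      exact h2 _ h1 _ h2' h3 h4
  -- the induced map on the quotient
  let f : A ⧸ N →* C := QuotientGroup.lift N κ (fun x hx => hNP hx)
  have hker : f.ker ≤ Subgroup.center (A ⧸ N) := by
    intro q hq
    obtain ⟨p, rfl⟩ := QuotientGroup.mk_surjective q
    have hp : p ∈ κ.ker := by
      rw [MonoidHom.mem_ker] at hq ⊢
      exact hq
    rw [Subgroup.mem_center_iff]
    intro y
    obtain ⟨x, rfl⟩ := QuotientGroup.mk_surjective y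
    rw [← QuotientGroup.mk_mul, ← QuotientGroup.mk_mul, QuotientGroup.eq]
    have h1 := claim p hp x⁻¹
    have h3 := hN.conj_mem _ h1 p⁻¹
    have e : (x * p)⁻¹ * (p * x) = p⁻¹ * (x⁻¹ * p * x⁻¹⁻¹ * p⁻¹) * p⁻¹⁻¹ := by group
    rw [e]
    exact h3
  have hcomm := MonoidHom.isMulCommutative_of_isCyclic_of_ker_le_center f hker
  have hc := hcomm.is_comm.comm (QuotientGroup.mk a : A ⧸ N) (QuotientGroup.mk b)
  rw [← QuotientGroup.eq_one_iff]
  have e : ((a * b * a⁻¹ * b⁻¹ : A) : A ⧸ N) =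
      (a : A ⧸ N) * (b : A ⧸ N) * (a : A ⧸ N)⁻¹ * (b : A ⧸ N)⁻¹ := by
    simp
  rw [e]
  have hc' : (a : A ⧸ N) * (b : A ⧸ N) = (b : A ⧸ N) * (a : A ⧸ N) := hc
  rw [hc']
  group

end Cfsg.Agent.Lib.Helper14.S2717K
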