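import Mathlib
import Cfsg.Prelude.Def_GeometricClasses
import Cfsg.Agent.Lib.Helper46.AschODefs

/-!
# S5673, keystone T1: transport of the eight shapes along a bijection of index types
-/

set_option autoImplicit false
set_option linter.unusedSectionVars false

namespace Cfsg.Agent.Lib.Helper14.AschO

open Cfsg Cfsg.Geo Cfsg.Agent.Lib.Helper46.AschO
open scoped Matrix Kronecker MatrixGroups

variable {F : Type*} [Field F]
variable {ι κ : Type} [Fintype ι] [DecidableEq ι] [Fintype κ] [DecidableEq κ]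

/-- the linear equivalence `w ↦ w ∘ e` -/
noncomputable def psi (e : ι ≃ κ) : (κ → F) ≃ₗ[F] (ι → F) := LinearEquiv.funCongrLeft F F e

omit [Fintype ι] [DecidableEq ι] [Fintype κ] [DecidableEq κ] in
theorem psi_apply (e : ι ≃ κ) (w : κ → F) : psi e w = w ∘ e := rfl

omit [Fintype ι] [DecidableEq ι] [Fintype κ] [DecidableEq κ] in
theorem psi_symm_apply (e : ι ≃ κ) (v : ι → F) : (psi (F := F) e).symm v = v ∘ e.symm := rfl

theorem glR_val (e : ι ≃ κ) (g : GL ι F) :
    ((glReindex (F := F) e g : GL κ F) : Matrix κ κ F) = Matrix.reindex e e (g : Matrix ι ι F) := rfl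

theorem glR_inv_val (e : ι ≃ κ) (g : GL ι F) :
    (((glReindex (F := F) e g)⁻¹ : GL κ F) : Matrix κ κ F) =
      Matrix.reindex e e ((g⁻¹ : GL ι F) : Matrix ι ι F) := by
  rw [← map_inv]
  rfl

omit [DecidableEq ι] [DecidableEq κ] in
theorem reindex_mulVec_comp (e : ι ≃ κ) (M : Matrix ι ι F) (w : κ → F) :
    (Matrix.reindex e e M *ᵥ w) ∘ e = M *ᵥ (w ∘ e) := by
  rw [Matrix.reindex_apply, Matrix.submatrix_mulVec_equiv]
  ext i
  simp

theorem glR_mulVec (e : ι ≃ κ) (g : GL ι F) (w : κ → F) :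
    (((glReindex (F := F) e g : GL κ F) : Matrix κ κ F) *ᵥ w) ∘ e = (g : Matrix ι ι F) *ᵥ (w ∘ e) := by
  rw [glR_val, reindex_mulVec_comp]

omit [Fintype ι] [DecidableEq ι] [Fintype κ] [DecidableEq κ] in
theorem polar_comp (e : ι ≃ κ) (Q : (ι → F) → F) (a b : κ → F) :
    QuadraticMap.polar (fun v : κ → F => Q (v ∘ e)) a b = QuadraticMap.polar Q (a ∘ e) (b ∘ e) := rfl

omit [Fintype ι] [DecidableEq ι] [Fintype κ] [DecidableEq κ] in
theorem comp_symm_comp (e : ι ≃ κ) (v : ι → F) : (v ∘ e.symm) ∘ e = v := by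
  ext i; simp

omit [Fintype ι] [DecidableEq ι] [Fintype κ] [DecidableEq κ] in
theorem comp_comp_symm (e : ι ≃ κ) (w : κ → F) : (w ∘ e) ∘ e.symm = w := by
  ext i; simp

/-! ### subspaces -/

/-- pull back a subspace along `w ↦ w ∘ e` -/
noncomputable def pullW (e : ι ≃ κ) (W' : Submodule F (κ → F)) : Submodule F (ι → F) :=
  W'.map (psi (F := F) e : (κ → F) →ₗ[F] (ι → F))

theorem mem_pullW (e : ι ≃ κ) (W' : Submodule F (κ → F)) (v : ι → F) :
    v ∈ pullW e W' ↔ v ∘ e.symm ∈ W' := by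
  unfold pullW
  rw [Submodule.mem_map_equiv]
  rfl

theorem comp_mem_pullW (e : ι ≃ κ) (W' : Submodule F (κ → F)) (w : κ → F) :
    w ∘ e ∈ pullW e W' ↔ w ∈ W' := by
  rw [mem_pullW, comp_comp_symm]

theorem pullW_ne_bot (e : ι ≃ κ) (W' : Submodule F (κ → F)) (h : W' ≠ ⊥) : pullW e W' ≠ ⊥ := by
  intro h0
  apply h
  rw [Submodule.eq_bot_iff]
  intro w hw
  have h1 : w ∘ e ∈ pullW e W' := (comp_mem_pullW e W' w).mpr hw
  rw [h0, Submodule.mem_bot] at h1
  have := congrArg (fun v : ι → F => v ∘ e.symm) h1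
  simp only [comp_comp_symm] at this
  rw [this]
  rfl

theorem pullW_ne_top (e : ι ≃ κ) (W' : Submodule F (κ → F)) (h : W' ≠ ⊤) : pullW e W' ≠ ⊤ := by
  intro h0
  apply h
  rw [Submodule.eq_top_iff']
  intro w
  rw [← comp_mem_pullW e, h0]
  exact Submodule.mem_top

theorem stab_pull (e : ι ≃ κ) (W' : Submodule F (κ → F)) :
    (subspaceStabilizer W').comap (glReindex (F := F) e).toMonoidHom = subspaceStabilizer (pullW e W') := by
  ext g
  rw [Subgroup.mem_comap]
  show (∀ w : κ → F, w ∈ (W' : Set (κ → F)) ↔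
      ((glReindex (F := F) e g : GL κ F) : Matrix κ κ F) *ᵥ w ∈ (W' : Set (κ → F))) ↔
    (∀ v : ι → F, v ∈ (pullW e W' : Set (ι → F)) ↔ (g : Matrix ι ι F) *ᵥ v ∈ (pullW e W' : Set (ι → F)))
  constructor
  · intro h v
    have h1 := h (v ∘ e.symm)
    simp only [SetLike.mem_coe] at h1 ⊢
    rw [mem_pullW, mem_pullW, h1]
    have h2 := glR_mulVec e g (v ∘ e.symm)
    rw [comp_symm_comp] at h2
    rw [← h2, comp_comp_symm]
  · intro h w
    have h1 := h (w ∘ e)
    simp only [SetLike.mem_coe] at h1 ⊢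
    rw [comp_mem_pullW, ← glR_mulVec, comp_mem_pullW] at h1
    exact h1

theorem nondegOn_pull (e : ι ≃ κ) (Q : (ι → F) → F) (W' : Submodule F (κ → F))
    (h : IsNondegenerateOn (QuadraticMap.polar (fun v : κ → F => Q (v ∘ e))) W') :
    IsNondegenerateOn (QuadraticMap.polar Q) (pullW e W') := by
  intro w hw hw0
  rw [mem_pullW] at hw
  have hw0' : w ∘ e.symm ≠ 0 := by
    intro h0
    apply hw0
    have := congrArg (fun v : κ → F => v ∘ e) h0
    simp only [comp_symm_comp] at this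
    rw [this]
    rfl
  obtain ⟨⟨x, hx, hx1⟩, ⟨y, hy, hy1⟩⟩ := h (w ∘ e.symm) hw hw0'
  rw [polar_comp, comp_symm_comp] at hx1 hy1
  exact ⟨⟨x ∘ e, (comp_mem_pullW e W' x).mpr hx, hx1⟩, ⟨y ∘ e, (comp_mem_pullW e W' y).mpr hy, hy1⟩⟩

/-! ### decompositions -/

theorem pullW_injective (e : ι ≃ κ) : Function.Injective (pullW (F := F) e) := by
  intro W₁ W₂ h
  ext w
  rw [← comp_mem_pullW e W₁, ← comp_mem_pullW e W₂, h]

theorem pullW_map_toLin' (e : ι ≃ κ) (W' : Submodule F (κ → F)) (g : GL ι F) :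
    (pullW e W').map (Matrix.toLin' (g : Matrix ι ι F)) =
      pullW e (W'.map (Matrix.toLin' ((glReindex (F := F) e g : GL κ F) : Matrix κ κ F))) := by
  ext v
  rw [mem_pullW, Submodule.mem_map, Submodule.mem_map]
  constructor
  · rintro ⟨u, hu, rfl⟩
    rw [mem_pullW] at hu
    refine ⟨u ∘ e.symm, hu, ?_⟩
    rw [Matrix.toLin'_apply, Matrix.toLin'_apply]
    have h2 := glR_mulVec e g (u ∘ e.symm)
    rw [comp_symm_comp] at h2
    rw [← h2, comp_comp_symm]
  · rintro ⟨w, hw, hwv⟩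
    refine ⟨w ∘ e, (comp_mem_pullW e W' w).mpr hw, ?_⟩
    rw [Matrix.toLin'_apply] at hwv ⊢
    rw [← glR_mulVec, hwv, comp_symm_comp]

theorem decompStab_pull (e : ι ≃ κ) {t : ℕ} (D' : Fin t → Submodule F (κ → F)) :
    (decompositionStabilizer D').comap (glReindex (F := F) e).toMonoidHom =
      decompositionStabilizer (fun i => pullW e (D' i)) := by
  ext g
  rw [Subgroup.mem_comap]
  show (∃ σ : Equiv.Perm (Fin t), ∀ i, (D' i).map
      (Matrix.toLin' ((glReindex (F := F) e g : GL κ F) : Matrix κ κ F)) = D' (σ i)) ↔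
    (∃ σ : Equiv.Perm (Fin t), ∀ i, (pullW e (D' i)).map (Matrix.toLin' (g : Matrix ι ι F)) =
      pullW e (D' (σ i)))
  constructor
  · rintro ⟨σ, hσ⟩
    refine ⟨σ, fun i => ?_⟩
    rw [pullW_map_toLin', hσ]
  · rintro ⟨σ, hσ⟩
    refine ⟨σ, fun i => ?_⟩
    apply pullW_injective e
    rw [← pullW_map_toLin', hσ]

theorem mdecomp_pull (e : ι ≃ κ) {t m : ℕ} (D' : Fin t → Submodule F (κ → F))
    (h : IsMDecomposition m D') : IsMDecomposition m (fun i => pullW e (D' i)) where
  two_le := h.two_le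
  pos := h.pos
  finrank_eq := fun i => by
    unfold pullW
    rw [LinearEquiv.finrank_map_eq]
    exact h.finrank_eq i
  indep := by
    have := (iSupIndep_map_orderIso_iff (f := Submodule.orderIsoMapComap (psi (F := F) e))
      (a := D')).mpr h.indep
    exact this
  iSup_eq_top := by
    unfold pullW
    rw [← Submodule.map_iSup, h.iSup_eq_top, Submodule.map_top]
    exact LinearEquiv.range _

theorem orth_pull (e : ι ≃ κ) (Q : (ι → F) → F) (W₁ W₂ : Submodule F (κ → F))
    (h : AreOrthogonalFor (QuadraticMap.polar (fun v : κ → F => Q (v ∘ e))) W₁ W₂) :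
    AreOrthogonalFor (QuadraticMap.polar Q) (pullW e W₁) (pullW e W₂) := by
  intro u hu v hv
  rw [mem_pullW] at hu hv
  have := h _ hu _ hv
  rw [polar_comp, comp_symm_comp, comp_symm_comp] at this
  exact this

/-- the restriction of `psi` to a subspace -/
noncomputable def psiSub (e : ι ≃ κ) (W' : Submodule F (κ → F)) : W' ≃ₗ[F] pullW e W' :=
  (psi (F := F) e).submoduleMap W'

theorem psiSub_apply (e : ι ≃ κ) (W' : Submodule F (κ → F)) (w : W') :
    ((psiSub e W' w : pullW e W') : ι → F) = (w : κ → F) ∘ e := rfl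

theorem isom_pull (e : ι ≃ κ) (Q : (ι → F) → F) (W₁ W₂ : Submodule F (κ → F))
    (h : AreIsometricFor (fun v : κ → F => Q (v ∘ e)) W₁ W₂) :
    AreIsometricFor Q (pullW e W₁) (pullW e W₂) := by
  obtain ⟨E, hE⟩ := h
  refine ⟨(psiSub e W₁).symm.trans (E.trans (psiSub e W₂)), fun w => ?_⟩
  rw [LinearEquiv.trans_apply, LinearEquiv.trans_apply, psiSub_apply]
  have h1 := hE ((psiSub e W₁).symm w)
  simp only at h1
  rw [h1, ← psiSub_apply, LinearEquiv.apply_symm_apply]

theorem orthdecomp_pull (e : ι ≃ κ) (Q : (ι → F) → F) {t m : ℕ} (D' : Fin t → Submodule F (κ → F))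
    (h : IsOrthogonalMDecomposition (fun v : κ → F => Q (v ∘ e)) m D') :
    IsOrthogonalMDecomposition Q m (fun i => pullW e (D' i)) where
  decomp :=
    { decomp := mdecomp_pull e D' h.decomp.decomp
      nondegenerate := fun i => nondegOn_pull e Q (D' i) (h.decomp.nondegenerate i)
      orthogonal := fun i j hij => orth_pull e Q (D' i) (D' j) (h.decomp.orthogonal i j hij) }
  isometric := fun i j => isom_pull e Q (D' i) (D' j) (h.isometric i j)

/-! ### subalgebras -/

/-- pull back a subalgebra of matrices along reindexing -/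
noncomputable def pullK (e : ι ≃ κ) (K' : Subalgebra F (Matrix κ κ F)) : Subalgebra F (Matrix ι ι F) :=
  K'.comap (Matrix.reindexAlgEquiv F F e : Matrix ι ι F →ₐ[F] Matrix κ κ F)

theorem mem_pullK (e : ι ≃ κ) (K' : Subalgebra F (Matrix κ κ F)) (x : Matrix ι ι F) :
    x ∈ pullK e K' ↔ Matrix.reindex e e x ∈ K' := Iff.rfl

theorem reindex_mul' (e : ι ≃ κ) (x y : Matrix ι ι F) :
    Matrix.reindex e e (x * y) = Matrix.reindex e e x * Matrix.reindex e e y :=
  map_mul (Matrix.reindexAlgEquiv F F e) x y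

theorem reindex_one' (e : ι ≃ κ) : Matrix.reindex e e (1 : Matrix ι ι F) = 1 :=
  map_one (Matrix.reindexAlgEquiv F F e)

theorem reindex_symm_reindex (e : ι ≃ κ) (y : Matrix κ κ F) :
    Matrix.reindex e e (Matrix.reindex e.symm e.symm y) = y := by
  ext i j
  simp [Matrix.reindex_apply]

theorem reindex_inj' (e : ι ≃ κ) (x y : Matrix ι ι F) (h : Matrix.reindex e e x = Matrix.reindex e e y) :
    x = y := (Matrix.reindex e e).injective h

/-- the linear equivalence between a pulled back subalgebra and the original -/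
noncomputable def pullKEquiv (e : ι ≃ κ) (K' : Subalgebra F (Matrix κ κ F)) : pullK e K' ≃ₗ[F] K' where
  toFun x := ⟨Matrix.reindex e e x.1, x.2⟩
  invFun y := ⟨Matrix.reindex e.symm e.symm y.1, by
    rw [mem_pullK, reindex_symm_reindex]; exact y.2⟩
  map_add' x y := by
    apply Subtype.ext
    exact map_add (Matrix.reindexAlgEquiv F F e) x.1 y.1
  map_smul' c x := by
    apply Subtype.ext
    exact map_smul (Matrix.reindexAlgEquiv F F e) c x.1
  left_inv x := by
    apply Subtype.ext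
    show Matrix.reindex e.symm e.symm (Matrix.reindex e e x.1) = x.1
    ext i j
    simp [Matrix.reindex_apply]
  right_inv y := by
    apply Subtype.ext
    exact reindex_symm_reindex e y.1

theorem field_pull (e : ι ≃ κ) {r : ℕ} (K' : Subalgebra F (Matrix κ κ F)) (h : IsFieldSubalgebra r K') :
    IsFieldSubalgebra r (pullK e K') where
  comm := by
    intro x hx y hy
    apply reindex_inj' e
    rw [reindex_mul', reindex_mul']
    exact h.comm _ hx _ hy
  inv := by
    intro x hx hx0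
    have hx0' : Matrix.reindex e e x ≠ 0 := by
      intro h0
      apply hx0
      apply reindex_inj' e
      rw [h0]
      exact (map_zero (Matrix.reindexAlgEquiv F F e)).symm
    obtain ⟨y', hy', hxy⟩ := h.inv _ hx hx0'
    refine ⟨Matrix.reindex e.symm e.symm y', ?_, ?_⟩
    · rw [mem_pullK, reindex_symm_reindex]; exact hy'
    · apply reindex_inj' e
      have hxy' : Matrix.reindex e e x * y' = 1 := hxy
      rw [reindex_mul', reindex_symm_reindex, hxy', reindex_one']
  finrank_eq := by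
    rw [LinearEquiv.finrank_eq (pullKEquiv e K')]
    exact h.finrank_eq

theorem selfadj_pull (e : ι ≃ κ) (Q : (ι → F) → F) (K' : Subalgebra F (Matrix κ κ F))
    (h : IsSelfAdjointFor (QuadraticMap.polar (fun v : κ → F => Q (v ∘ e))) K') :
    IsSelfAdjointFor (QuadraticMap.polar Q) (pullK e K') := by
  intro k hk u v
  have h1 : QuadraticMap.polar (fun v : κ → F => Q (v ∘ e))
      (Matrix.reindex e e k *ᵥ (u ∘ e.symm)) (v ∘ e.symm) =
      QuadraticMap.polar (fun v : κ → F => Q (v ∘ e)) (u ∘ e.symm)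
        (Matrix.reindex e e k *ᵥ (v ∘ e.symm)) := h _ hk (u ∘ e.symm) (v ∘ e.symm)
  rw [polar_comp, polar_comp, reindex_mulVec_comp, reindex_mulVec_comp, comp_symm_comp,
    comp_symm_comp] at h1
  exact h1

theorem norm_pull (e : ι ≃ κ) (K' : Subalgebra F (Matrix κ κ F)) :
    (subalgebraNormalizer K').comap (glReindex (F := F) e).toMonoidHom =
      subalgebraNormalizer (pullK e K') := by
  ext g
  rw [Subgroup.mem_comap]
  show (∀ k' : Matrix κ κ F, k' ∈ K' ↔
      ((glReindex (F := F) e g : GL κ F) : Matrix κ κ F) * k' *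
        (((glReindex (F := F) e g)⁻¹ : GL κ F) : Matrix κ κ F) ∈ K') ↔
    (∀ k : Matrix ι ι F, k ∈ pullK e K' ↔
      (g : Matrix ι ι F) * k * ((g⁻¹ : GL ι F) : Matrix ι ι F) ∈ pullK e K')
  constructor
  · intro h k
    rw [mem_pullK, mem_pullK, h (Matrix.reindex e e k), glR_val, glR_inv_val, reindex_mul', reindex_mul']
  · intro h k'
    have h1 := h (Matrix.reindex e.symm e.symm k')
    rw [mem_pullK, mem_pullK, reindex_symm_reindex, reindex_mul', reindex_mul', reindex_symm_reindex] at h1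
    rw [glR_val, glR_inv_val]
    exact h1


/-! ### conjugates -/

theorem comap_conj (e : ι ≃ κ) (S : Subgroup (GL κ F)) (P' : GL κ F) :
    (S.map (MulAut.conj P').toMonoidHom).comap (glReindex (F := F) e).toMonoidHom =
      (S.comap (glReindex (F := F) e).toMonoidHom).map
        (MulAut.conj ((glReindex (F := F) e).symm P')).toMonoidHom := by
  ext g
  simp only [Subgroup.mem_comap, Subgroup.mem_map]
  constructor
  · rintro ⟨s, hs, hsg⟩
    refine ⟨(glReindex (F := F) e).symm s, ?_, ?_⟩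
    · show (glReindex (F := F) e) ((glReindex (F := F) e).symm s) ∈ S
      rw [MulEquiv.apply_symm_apply]; exact hs
    · apply (glReindex (F := F) e).injective
      have h2 : P' * s * P'⁻¹ = (glReindex (F := F) e) g := hsg
      show (glReindex (F := F) e) ((glReindex (F := F) e).symm P' * (glReindex (F := F) e).symm s *
        ((glReindex (F := F) e).symm P')⁻¹) = (glReindex (F := F) e) g
      rw [map_mul, map_mul, map_inv, MulEquiv.apply_symm_apply, MulEquiv.apply_symm_apply]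
      exact h2
  · rintro ⟨x, hx, rfl⟩
    refine ⟨glReindex (F := F) e x, hx, ?_⟩
    show P' * (glReindex (F := F) e) x * P'⁻¹ =
      (glReindex (F := F) e) ((glReindex (F := F) e).symm P' * x * ((glReindex (F := F) e).symm P')⁻¹)
    rw [map_mul, map_mul, map_inv, MulEquiv.apply_symm_apply]

theorem glR_trans {α : Type} [Fintype α] [DecidableEq α] (e : ι ≃ κ) (e' : κ ≃ α) (m : GL α F) :
    glReindex (F := F) e (glReindex (F := F) (e.trans e').symm m) = glReindex (F := F) e'.symm m := by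
  apply Units.ext
  rw [glR_val, glR_val, glR_val]
  ext i j
  simp [Matrix.reindex_apply]

theorem comap_map_reindex {α : Type} [Fintype α] [DecidableEq α] (e : ι ≃ κ) (e' : κ ≃ α)
    (K : Subgroup (GL α F)) :
    (K.map (glReindex (F := F) e'.symm).toMonoidHom).comap (glReindex (F := F) e).toMonoidHom =
      K.map (glReindex (F := F) (e.trans e').symm).toMonoidHom := by
  ext g
  simp only [Subgroup.mem_comap, Subgroup.mem_map]
  constructor
  · rintro ⟨m, hm, h⟩
    refine ⟨m, hm, ?_⟩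
    apply (glReindex (F := F) e).injective
    show glReindex (F := F) e (glReindex (F := F) (e.trans e').symm m) = glReindex (F := F) e g
    rw [glR_trans]
    exact h
  · rintro ⟨m, hm, rfl⟩
    exact ⟨m, hm, (glR_trans e e' m).symm⟩

theorem tensorProd_pull {n₁ n₂ : ℕ} (e : ι ≃ κ) (e' : κ ≃ Fin n₁ × Fin n₂) (P' : GL κ F) :
    (tensorProductSubgroup n₁ n₂ e' P').comap (glReindex (F := F) e).toMonoidHom =
      tensorProductSubgroup n₁ n₂ (e.trans e') ((glReindex (F := F) e).symm P') := by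
  unfold tensorProductSubgroup
  rw [comap_conj, comap_map_reindex]

theorem tensorWreath_pull {k t : ℕ} (e : ι ≃ κ) (e' : κ ≃ (Fin t → Fin k)) (P' : GL κ F) :
    (tensorWreathSubgroup k t e' P').comap (glReindex (F := F) e).toMonoidHom =
      tensorWreathSubgroup k t (e.trans e') ((glReindex (F := F) e).symm P') := by
  unfold tensorWreathSubgroup
  rw [comap_conj, comap_map_reindex]

/-- `P' (w) ∘ e = (R⁻¹ P') (w ∘ e)` -/
theorem symm_mulVec (e : ι ≃ κ) (P' : GL κ F) (w : κ → F) :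
    ((P' : Matrix κ κ F) *ᵥ w) ∘ e =
      (((glReindex (F := F) e).symm P' : GL ι F) : Matrix ι ι F) *ᵥ (w ∘ e) := by
  rw [← glR_mulVec, MulEquiv.apply_symm_apply]

theorem tensorForm_pull {n₁ n₂ : ℕ} (e : ι ≃ κ) (Q : (ι → F) → F) (e' : κ ≃ Fin n₁ × Fin n₂) (P' : GL κ F)
    (f₁ : (Fin n₁ → F) → (Fin n₁ → F) → F) (f₂ : (Fin n₂ → F) → (Fin n₂ → F) → F)
    (h : IsTensorFormStructure id (QuadraticMap.polar (fun v : κ → F => Q (v ∘ e))) f₁ f₂ e' P') :
    IsTensorFormStructure id (QuadraticMap.polar Q) f₁ f₂ (e.trans e') ((glReindex (F := F) e).symm P') := by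
  obtain ⟨c, hc, h⟩ := h
  refine ⟨c, hc, fun x y => ?_⟩
  have h1 := h x y
  rw [polar_comp, symm_mulVec, symm_mulVec] at h1
  exact h1

theorem tensorPowerForm_pull {k t : ℕ} (e : ι ≃ κ) (Q : (ι → F) → F) (e' : κ ≃ (Fin t → Fin k)) (P' : GL κ F)
    (f₁ : (Fin k → F) → (Fin k → F) → F)
    (h : IsTensorPowerFormStructure id (QuadraticMap.polar (fun v : κ → F => Q (v ∘ e))) f₁ e' P') :
    IsTensorPowerFormStructure id (QuadraticMap.polar Q) f₁ (e.trans e') ((glReindex (F := F) e).symm P') := by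
  obtain ⟨c, hc, h⟩ := h
  refine ⟨c, hc, fun x y => ?_⟩
  have h1 := h x y
  rw [polar_comp, symm_mulVec, symm_mulVec] at h1
  exact h1

theorem rational_pull (e : ι ≃ κ) (Q : (ι → F) → F) (F₀ : Subfield F) (P' : GL κ F)
    (h : IsQuadFormRationalStructure (fun v : κ → F => Q (v ∘ e)) F₀ P') :
    IsQuadFormRationalStructure Q F₀ ((glReindex (F := F) e).symm P') := by
  intro u hu
  have h1 := h (u ∘ e.symm) (fun i => hu _)
  have h2 : Q (((P' : Matrix κ κ F) *ᵥ (u ∘ e.symm)) ∘ e) ∈ F₀ := h1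
  rw [symm_mulVec, comp_symm_comp] at h2
  exact h2

/-! ### subfield groups -/

theorem scalars_pull (e : ι ≃ κ) :
    (scalars κ F).comap (glReindex (F := F) e).toMonoidHom = scalars ι F := by
  ext g
  rw [Subgroup.mem_comap, mem_scalars_iff, mem_scalars_iff]
  show (∃ c : Fˣ, ((glReindex (F := F) e g : GL κ F) : Matrix κ κ F) = (c : F) • (1 : Matrix κ κ F)) ↔ _
  rw [glR_val]
  constructor
  · rintro ⟨c, hc⟩
    refine ⟨c, ?_⟩
    apply reindex_inj' e
    rw [hc]
    have : Matrix.reindex e e ((c : F) • (1 : Matrix ι ι F)) = (c : F) • Matrix.reindex e e (1 : Matrix ι ι F) :=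
      map_smul (Matrix.reindexAlgEquiv F F e) (c : F) 1
    rw [this, reindex_one']
  · rintro ⟨c, hc⟩
    refine ⟨c, ?_⟩
    rw [hc]
    have : Matrix.reindex e e ((c : F) • (1 : Matrix ι ι F)) = (c : F) • Matrix.reindex e e (1 : Matrix ι ι F) :=
      map_smul (Matrix.reindexAlgEquiv F F e) (c : F) 1
    rw [this, reindex_one']

theorem glMap_reindex (e : ι ≃ κ) (F₀ : Subfield F) (m : GL ι F₀) :
    Matrix.GeneralLinearGroup.map (F₀.subtype : F₀ →+* F) (glReindex (F := (F₀ : Type _)) e m) =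
      glReindex (F := F) e (Matrix.GeneralLinearGroup.map (F₀.subtype : F₀ →+* F) m) := by
  apply Units.ext
  ext i j
  rw [glR_val]
  simp [Matrix.GeneralLinearGroup.map_apply, Matrix.reindex_apply, glReindex]

theorem range_pull (e : ι ≃ κ) (F₀ : Subfield F) :
    ((Matrix.GeneralLinearGroup.map (n := κ) (F₀.subtype : F₀ →+* F)).range).comap
        (glReindex (F := F) e).toMonoidHom =
      (Matrix.GeneralLinearGroup.map (n := ι) (F₀.subtype : F₀ →+* F)).range := by
  ext g
  rw [Subgroup.mem_comap]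
  constructor
  · rintro ⟨m, hm⟩
    refine ⟨(glReindex (F := (F₀ : Type _)) e).symm m, ?_⟩
    apply (glReindex (F := F) e).injective
    rw [← glMap_reindex, MulEquiv.apply_symm_apply]
    exact hm
  · rintro ⟨m, rfl⟩
    exact ⟨glReindex (F := (F₀ : Type _)) e m, glMap_reindex e F₀ m⟩

theorem subfield_pull (e : ι ≃ κ) (F₀ : Subfield F) (P' : GL κ F) :
    (subfieldSubgroup F₀ P').comap (glReindex (F := F) e).toMonoidHom =
      subfieldSubgroup F₀ ((glReindex (F := F) e).symm P') := by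
  unfold subfieldSubgroup
  have hs : Function.Surjective ((glReindex (F := F) e).toMonoidHom) := (glReindex (F := F) e).surjective
  rw [comap_conj, ← Subgroup.comap_sup_eq (glReindex (F := F) e).toMonoidHom _ _ hs, scalars_pull, range_pull]

/-! ### the keystone -/

theorem totsing_pull (e : ι ≃ κ) (Q : (ι → F) → F) (W' : Submodule F (κ → F))
    (h : IsTotallySingularQuad (fun v : κ → F => Q (v ∘ e)) W') :
    IsTotallySingularQuad Q (pullW e W') := by
  intro w hw
  rw [mem_pullW] at hw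
  have h1 : Q ((w ∘ e.symm) ∘ e) = 0 := h _ hw
  rw [comp_symm_comp] at h1
  exact h1

variable [Fintype F]

theorem OShape.transport (e : ι ≃ κ)
    (d : ℕ) (Q : (ι → F) → F) (X' : Subgroup (GL κ F))
    (h : OShape d (fun v : κ → F => Q (v ∘ e)) X') :
    OShape d Q (X'.comap (glReindex (F := F) e).toMonoidHom) := by
  rcases h with ⟨W, h1, h2, rfl⟩ | ⟨W, h1, h2, h3, rfl⟩ | ⟨t, k, D, h1, h2, rfl⟩ | ⟨t, D, h1, h2, rfl⟩ |
    ⟨r, K, h1, h2, h3, h4, rfl⟩ | ⟨n₁, n₂, e', P, f₁, f₂, h1, h2, h3, h4, h5, rfl⟩ |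
    ⟨F₀, r, P, h1, h2, h3, rfl⟩ | ⟨k, t, e', P, f₁, h1, h2, h3, h4, h5, rfl⟩
  · exact Or.inl ⟨pullW e W, pullW_ne_bot e W h1, totsing_pull e Q W h2, stab_pull e W⟩
  · exact Or.inr (Or.inl ⟨pullW e W, pullW_ne_bot e W h1, pullW_ne_top e W h2, nondegOn_pull e Q W h3,
      stab_pull e W⟩)
  · exact Or.inr (Or.inr (Or.inl ⟨t, k, fun i => pullW e (D i), h1, orthdecomp_pull e Q D h2,
      decompStab_pull e D⟩))
  · exact Or.inr (Or.inr (Or.inr (Or.inl ⟨t, fun i => pullW e (D i), h1, orthdecomp_pull e Q D h2,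
      decompStab_pull e D⟩)))
  · exact Or.inr (Or.inr (Or.inr (Or.inr (Or.inl ⟨r, pullK e K, h1, h2, field_pull e K h3, selfadj_pull e Q K h4,
      norm_pull e K⟩))))
  · exact Or.inr (Or.inr (Or.inr (Or.inr (Or.inr (Or.inl ⟨n₁, n₂, e.trans e', (glReindex (F := F) e).symm P, f₁, f₂,
      h1, h2, h3, h4, tensorForm_pull e Q e' P f₁ f₂ h5, tensorProd_pull e e' P⟩)))))
  · exact Or.inr (Or.inr (Or.inr (Or.inr (Or.inr (Or.inr (Or.inl ⟨F₀, r, (glReindex (F := F) e).symm P, h1, h2,
      rational_pull e Q F₀ P h3, subfield_pull e F₀ P⟩))))))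
  · exact Or.inr (Or.inr (Or.inr (Or.inr (Or.inr (Or.inr (Or.inr ⟨k, t, e.trans e', (glReindex (F := F) e).symm P, f₁,
      h1, h2, h3, h4, tensorPowerForm_pull e Q e' P f₁ h5, tensorWreath_pull e e' P⟩))))))

end Cfsg.Agent.Lib.Helper14.AschO
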