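import Mathlib
import Cfsg.Prelude.Def_GeometricClasses
import Cfsg.Agent.Lib.Helper61.AschDefs

/-!
Keystone K-S5630-B4 (architect helper61): an algebra homomorphism `M_a(F) → M_n(F)` is, up to a base change
`P`, the map `x ↦ x ⊗ 1_b`.
-/

set_option autoImplicit false

namespace Cfsg.Agent.Lib.Helper14.Asch

open Cfsg Cfsg.Geo Cfsg.Agent.Lib.Helper61.Asch
open scoped Matrix Kronecker MatrixGroups

variable {F : Type*} [Field F] [Fintype F] {n : ℕ}

theorem exists_tensorLeft_of_algHom (a : ℕ) (ha : 0 < a)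
    (φ : Matrix (Fin a) (Fin a) F →ₐ[F] Matrix (Fin n) (Fin n) F) :
    ∃ (b : ℕ) (e : Fin n ≃ Fin a × Fin b) (P : GL (Fin n) F), ∀ x, φ x = tensorLeft a b e P x := by
  classical
  set o : Fin a := ⟨0, ha⟩ with ho
  set ε : Fin a → Fin a → Matrix (Fin n) (Fin n) F := fun i j => φ (Matrix.single i j 1) with hε
  have hmul : ∀ i j k l, ε i j * ε k l = if j = k then ε i l else 0 := by
    intro i j k l
    simp only [hε, ← map_mul]
    split_ifs with h
    · subst h; rw [Matrix.single_mul_single_same, mul_one]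
    · rw [Matrix.single_mul_single_of_ne _ _ _ _ h, map_zero]
  have hsum : ∑ i, ε i i = 1 := by
    simp only [hε, ← map_sum]
    have h1 : ∑ i : Fin a, Matrix.single i i (1 : F) = 1 := by
      ext r s
      rw [Matrix.sum_apply, Matrix.one_apply, Finset.sum_eq_single r]
      · by_cases h : r = s
        · subst h; rw [if_pos rfl, Matrix.single_apply_same]
        · rw [if_neg h]; exact Matrix.single_apply_of_col_ne _ _ h _
      · intro i _ hne; exact Matrix.single_apply_of_row_ne hne _ _ _
      · intro h; exact absurd (Finset.mem_univ _) h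
    rw [h1, map_one]
  have hφ : ∀ x, φ x = ∑ i, ∑ j, x i j • ε i j := by
    intro x
    conv_lhs => rw [Matrix.matrix_eq_sum_single x]
    simp only [map_sum, hε]
    refine Finset.sum_congr rfl fun i _ => Finset.sum_congr rfl fun j _ => ?_
    rw [← map_smul, Matrix.smul_single, smul_eq_mul, mul_one]
  -- the space `W = ε₀₀ V`
  set W : Submodule F (Fin n → F) := LinearMap.range (Matrix.toLin' (ε o o)) with hW
  set b : ℕ := Module.finrank F W with hb
  set wB : Module.Basis (Fin b) F W := Module.finBasis F W with hwB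
  set w : Fin b → (Fin n → F) := fun k => (wB k : Fin n → F) with hw
  have hmemW : ∀ i (u : Fin n → F), ε o i *ᵥ u ∈ W := by
    intro i u
    refine ⟨ε o i *ᵥ u, ?_⟩
    rw [Matrix.toLin'_apply, Matrix.mulVec_mulVec, hmul, if_pos rfl]
  have hw0 : ∀ k, ε o o *ᵥ w k = w k := by
    intro k
    obtain ⟨u, hu⟩ := (wB k).2
    rw [Matrix.toLin'_apply] at hu
    simp only [hw]
    rw [← hu, Matrix.mulVec_mulVec, hmul, if_pos rfl]
  have hwli : LinearIndependent F w := by
    have := wB.linearIndependent.map' W.subtype (Submodule.ker_subtype W)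
    exact this
  set v : Fin a × Fin b → (Fin n → F) := fun p => ε p.1 o *ᵥ w p.2 with hv
  have hkey0 : ∀ i' i k, ε o i' *ᵥ v (i, k) = if i' = i then w k else 0 := by
    intro i' i k
    simp only [hv]
    rw [Matrix.mulVec_mulVec, hmul]
    split_ifs with h
    · exact hw0 k
    · exact Matrix.zero_mulVec _
  have hvli : LinearIndependent F v := by
    rw [Fintype.linearIndependent_iff]
    intro g hg p
    obtain ⟨i', k'⟩ := p
    have h1 : ε o i' *ᵥ (∑ p, g p • v p) = 0 := by rw [hg, Matrix.mulVec_zero]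
    rw [Matrix.mulVec_sum] at h1
    simp only [Matrix.mulVec_smul] at h1
    rw [Fintype.sum_prod_type] at h1
    simp only [hkey0] at h1
    rw [Finset.sum_eq_single i'] at h1
    · simp only [if_true] at h1
      exact (Fintype.linearIndependent_iff.1 hwli (fun k => g (i', k)) h1) k'
    · intro i _ hne
      refine Finset.sum_eq_zero fun k _ => ?_
      rw [if_neg (Ne.symm hne), smul_zero]
    · intro h; exact absurd (Finset.mem_univ _) h
  have hvsp : ⊤ ≤ Submodule.span F (Set.range v) := by
    intro u _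
    have h1 : u = ∑ i, ε i o *ᵥ (ε o i *ᵥ u) := by
      have : ∀ i, ε i o *ᵥ (ε o i *ᵥ u) = ε i i *ᵥ u := by
        intro i; rw [Matrix.mulVec_mulVec, hmul, if_pos rfl]
      simp only [this]
      rw [← Matrix.sum_mulVec, hsum, Matrix.one_mulVec]
    rw [h1]
    refine Submodule.sum_mem _ fun i _ => ?_
    have h2 : ε o i *ᵥ u = ∑ k, (wB.repr ⟨ε o i *ᵥ u, hmemW i u⟩ k) • w k := by
      have := wB.sum_repr ⟨ε o i *ᵥ u, hmemW i u⟩
      have h3 := congrArg (fun z : W => (z : Fin n → F)) this
      simp only [Submodule.coe_sum, Submodule.coe_smul] at h3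
      exact h3.symm
    rw [h2, Matrix.mulVec_sum]
    refine Submodule.sum_mem _ fun k _ => ?_
    rw [Matrix.mulVec_smul]
    exact Submodule.smul_mem _ _ (Submodule.subset_span ⟨(i, k), rfl⟩)
  set B : Module.Basis (Fin a × Fin b) F (Fin n → F) := Module.Basis.mk hvli hvsp with hB
  have hBv : ∀ p, B p = v p := fun p => by rw [hB, Module.Basis.mk_apply]
  have hn : Fintype.card (Fin n) = Fintype.card (Fin a × Fin b) := by
    have h1 := Module.finrank_eq_card_basis B
    rw [Module.finrank_fin_fun] at h1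
    rw [Fintype.card_fin, h1]
  set e : Fin n ≃ Fin a × Fin b := Fintype.equivOfCardEq hn with he
  set B' : Module.Basis (Fin n) F (Fin n → F) := B.reindex e.symm with hB'
  set P : Matrix (Fin n) (Fin n) F := (Pi.basisFun F (Fin n)).toMatrix B' with hP
  have hPapp : ∀ r j, P r j = v (e j) r := by
    intro r j
    rw [hP, Module.Basis.toMatrix_apply, Pi.basisFun_repr, hB', Module.Basis.reindex_apply,
      Equiv.symm_symm, hBv]
  have : Invertible P := Module.Basis.invertibleToMatrix (Pi.basisFun F (Fin n)) B'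
  have hPu : IsUnit P := isUnit_of_invertible P
  obtain ⟨u, hu⟩ := hPu
  refine ⟨b, e, u, fun x => ?_⟩
  have hkey : ∀ i k, φ x *ᵥ v (i, k) = ∑ i', x i' i • v (i', k) := by
    intro i k
    simp only [hv]
    rw [Matrix.mulVec_mulVec, hφ x, Finset.sum_mul]
    simp only [Finset.sum_mul, Matrix.smul_mul, hmul]
    rw [Matrix.sum_mulVec]
    refine Finset.sum_congr rfl fun i' _ => ?_
    rw [Finset.sum_eq_single i]
    · rw [if_pos rfl, Matrix.smul_mulVec]
    · intro j _ hne
      rw [if_neg hne, smul_zero]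
    · intro h; exact absurd (Finset.mem_univ _) h
  have hcomm : φ x * P = P * Matrix.reindex e.symm e.symm (x ⊗ₖ (1 : Matrix (Fin b) (Fin b) F)) := by
    ext r j
    rw [Matrix.mul_apply, Matrix.mul_apply]
    have h1 : ∑ s, φ x r s * P s j = (φ x *ᵥ v (e j)) r := by
      simp only [hPapp]
      rfl
    rw [h1]
    have h2 : ∑ s, P r s * (Matrix.reindex e.symm e.symm (x ⊗ₖ (1 : Matrix (Fin b) (Fin b) F))) s j
        = ∑ p : Fin a × Fin b, v p r * (x ⊗ₖ (1 : Matrix (Fin b) (Fin b) F)) p (e j) := by
      rw [← Equiv.sum_comp e]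
      refine Finset.sum_congr rfl fun s _ => ?_
      rw [hPapp]; rfl
    rw [h2, Fintype.sum_prod_type]
    generalize e j = p
    obtain ⟨i, k⟩ := p
    rw [hkey]
    simp only [Matrix.kroneckerMap_apply, Matrix.one_apply, Finset.sum_apply, Pi.smul_apply, smul_eq_mul]
    refine Finset.sum_congr rfl fun i' _ => ?_
    rw [Finset.sum_eq_single k]
    · rw [if_pos rfl, mul_one, mul_comm]
    · intro k' _ hne
      rw [if_neg hne, mul_zero, mul_zero]
    · intro h; exact absurd (Finset.mem_univ _) h
  unfold tensorLeft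
  rw [hu, ← hcomm, ← hu, mul_assoc, Units.mul_inv, mul_one]

end Cfsg.Agent.Lib.Helper14.Asch
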