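import Mathlib
import Cfsg.Agent.Lib.Helper46.UTiDefs
import Cfsg.Agent.Lib.Helper98.Elus9

/-!
# K-UTi-B4 : splitting off a totally isotropic invariant subspace (hermitian twin of
`Helper98.Ti.exists_compl_of_ti`).  The two facts of B1/B2 that are needed
(`finrank_orth_inf`, `inv_orth`) are re-proved locally under the names `b4_*`.
-/

set_option autoImplicit false
set_option linter.unusedSectionVars false
set_option linter.unusedVariables false

namespace Cfsg.Agent.Lib.Helper14.UTi

open Module Cfsg.Agent.Lib.Helper98.Elus Cfsg.Agent.Lib.Helper46.UTi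

universe u

variable {F : Type u} [Field F] [Fintype F] {V : Type u} [AddCommGroup V] [Module F V]
  [FiniteDimensional F V] {q : ℕ} {H : V → V → F}

/-- the functional `x ↦ H x u` -/
def b4Fun (hH : IsHerm q H) (u : V) : V →ₗ[F] F where
  toFun x := H x u
  map_add' x x' := hH.add_left x x' u
  map_smul' c x := by
    rw [hH.smul_left, RingHom.id_apply, smul_eq_mul]

omit [Fintype F] [FiniteDimensional F V] in
theorem b4Fun_apply (hH : IsHerm q H) (u x : V) : b4Fun hH u x = H x u := rfl

theorem b4_finrank_orth_inf (hF : Fintype.card F = q ^ 2) (hH : IsHerm q H)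
    (Z U : Submodule F V) (hZU : Z ≤ U) (hU : NonDeg H U) :
    finrank F ↥(orth hH Z ⊓ U) + finrank F Z = finrank F U := by
  classical
  have hq : 0 < q := Cfsg.Agent.Lib.Helper19.q_pos hF
  let Φ : U → Module.Dual F U := fun u => (b4Fun hH (u : V)).comp U.subtype
  have hΦinj : Function.Injective Φ := by
    intro u u' h
    have h0 : ∀ x ∈ U, H x ((u : V) - (u' : V)) = 0 := by
      intro x hx
      have h2 := LinearMap.congr_fun h ⟨x, hx⟩
      have h3 : H x (u : V) = H x (u' : V) := h2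
      rw [hH.sub_right hF]
      exact sub_eq_zero.mpr h3
    have h1 := hU ((u : V) - u') (U.sub_mem u.2 u'.2)
      (fun v hv => hH.eq_zero_symm hq (h0 v hv))
    exact Subtype.ext (sub_eq_zero.mp h1)
  have : Finite (Module.Dual F U) := Module.finite_of_finite F
  have : Finite U := Module.finite_of_finite F
  have hcard : Nat.card (Module.Dual F U) = Nat.card U := by
    rw [Module.natCard_eq_pow_finrank (K := F) (V := Module.Dual F U),
      Module.natCard_eq_pow_finrank (K := F) (V := U), Subspace.dual_finrank_eq]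
  have hΦbij : Function.Bijective Φ := hΦinj.bijective_of_nat_card_le hcard.le
  let Z' : Submodule F U := Z.comap U.subtype
  let K' : Submodule F U := (orth hH Z ⊓ U).comap U.subtype
  have hmem : ∀ u : U, u ∈ K' ↔ Φ u ∈ Z'.dualAnnihilator := by
    intro u
    rw [Submodule.mem_dualAnnihilator]
    constructor
    · intro hu z hz
      have hu' : (u : V) ∈ orth hH Z ⊓ U := hu
      exact (mem_orth' hF hH Z u).mp hu'.1 z hz
    · intro h
      have : (u : V) ∈ orth hH Z ⊓ U :=
        ⟨(mem_orth' hF hH Z _).mpr (fun z hz => h ⟨z, hZU hz⟩ hz), u.2⟩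
      exact this
  have hKA : Nat.card K' = Nat.card Z'.dualAnnihilator :=
    Nat.card_congr ((Equiv.ofBijective Φ hΦbij).subtypeEquiv hmem)
  rw [Module.natCard_eq_pow_finrank (K := F) (V := K'),
    Module.natCard_eq_pow_finrank (K := F) (V := Z'.dualAnnihilator)] at hKA
  have hF1 : 2 ≤ Nat.card F := by
    rw [Nat.card_eq_fintype_card]
    exact Fintype.one_lt_card
  have hKA' : finrank F K' = finrank F Z'.dualAnnihilator := Nat.pow_right_injective hF1 hKA
  have h5 := Subspace.finrank_add_finrank_dualAnnihilator_eq Z'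
  have h6 : finrank F Z' = finrank F Z :=
    (Submodule.comapSubtypeEquivOfLe hZU).finrank_eq
  have h7 : finrank F K' = finrank F ↥(orth hH Z ⊓ U) :=
    (Submodule.comapSubtypeEquivOfLe (inf_le_right : orth hH Z ⊓ U ≤ U)).finrank_eq
  omega

omit [FiniteDimensional F V] in
theorem b4_inv_orth (hF : Fintype.card F = q ^ 2) (hH : IsHerm q H) (N : ℕ) (hN : 0 < N)
    (y : V →ₗ[F] V) (hy : y ^ N = 1) (hiso : Iso H y) (W : Submodule F V) (hW : Inv y W) :
    Inv y (orth hH W) := by
  intro v hv w hw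
  have h1 : y ((y ^ (N - 1)) w) = w := by
    rw [← Module.End.mul_apply, ← pow_succ', Nat.sub_add_cancel hN, hy, Module.End.one_apply]
  rw [← h1, hiso]
  exact hv _ (hW.pow_mem (N - 1) w hw)

theorem exists_compl_of_ti (hF : Fintype.card F = q ^ 2) (hH : IsHerm q H) (N : ℕ)
    (hNF : (N : F) ≠ 0) (y : V →ₗ[F] V) (hy : y ^ N = 1) (hiso : Iso H y)
    (M L : Submodule F V) (hM : NonDeg H M) (hMinv : Inv y M) (hLM : L ≤ M) (hL : Ort H L L)
    (hLinv : Inv y L) :
    ∃ M' : Submodule F V, M' ≤ M ∧ Inv y M' ∧ NonDeg H M' ∧ Ort H L M' ∧ L ⊓ M' = ⊥ ∧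
      finrank F M' + 2 * finrank F L = finrank F M := by
  have hq : 0 < q := Cfsg.Agent.Lib.Helper19.q_pos hF
  have hN : 0 < N := by
    rcases Nat.eq_zero_or_pos N with h | h
    · rw [h] at hNF
      simp at hNF
    · exact h
  have hKinv : Inv y (orth hH L ⊓ M) := (b4_inv_orth hF hH N hN y hy hiso L hLinv).inf hMinv
  have hLK : L ≤ orth hH L ⊓ M := le_inf ((ort_iff_le_orth hH L L).mp hL) hLM
  have hKM : orth hH L ⊓ M ≤ M := inf_le_right
  have hKd : finrank F ↥(orth hH L ⊓ M) + finrank F L = finrank F M :=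
    b4_finrank_orth_inf hF hH L M hLM hM
  obtain ⟨C, hCinv, hC⟩ := exists_inv_compl N hNF 1 one_ne_zero y (by rw [hy, one_smul]) L hLinv
  have hinf : L ⊓ (C ⊓ (orth hH L ⊓ M)) = ⊥ := by
    rw [eq_bot_iff, ← hC.inf_eq_bot]
    exact inf_le_inf le_rfl inf_le_left
  have hsup : L ⊔ (C ⊓ (orth hH L ⊓ M)) = orth hH L ⊓ M := by
    rw [← sup_inf_assoc_of_le C hLK, hC.sup_eq_top, top_inf_eq]
  have hd := Submodule.finrank_sup_add_finrank_inf_eq L (C ⊓ (orth hH L ⊓ M))
  rw [hinf, hsup, finrank_bot] at hd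
  have hrad : L = orth hH (orth hH L ⊓ M) ⊓ M := by
    apply Submodule.eq_of_le_of_finrank_eq
    · intro l hl
      refine Submodule.mem_inf.mpr ⟨?_, hLM hl⟩
      intro k hk
      exact hH.eq_zero_symm hq ((Submodule.mem_inf.mp hk).1 l hl)
    · have := b4_finrank_orth_inf hF hH (orth hH L ⊓ M) M hKM hM
      omega
  refine ⟨C ⊓ (orth hH L ⊓ M), le_trans inf_le_right hKM, hCinv.inf hKinv, ?_, ?_, hinf,
    by omega⟩
  · intro u hu hall
    have huK : u ∈ orth hH L ⊓ M := (Submodule.mem_inf.mp hu).2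
    have huL : u ∈ L := by
      rw [hrad]
      refine Submodule.mem_inf.mpr ⟨?_, hKM huK⟩
      intro k hk
      rw [← hsup] at hk
      obtain ⟨l, hl, m', hm', rfl⟩ := Submodule.mem_sup.mp hk
      rw [hH.add_right hF, (Submodule.mem_inf.mp huK).1 l hl, hall m' hm', add_zero]
    have : u ∈ L ⊓ C := Submodule.mem_inf.mpr ⟨huL, (Submodule.mem_inf.mp hu).1⟩
    rw [hC.inf_eq_bot] at this
    exact (Submodule.mem_bot F).mp this
  · intro u hu v hv
    exact hH.eq_zero_symm hq ((Submodule.mem_inf.mp (Submodule.mem_inf.mp hv).2).1 u hu)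

end Cfsg.Agent.Lib.Helper14.UTi
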