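import Mathlib
import Cfsg.Agent.Lib.Helper16.BG1363Defs
import Cfsg.Agent.Lib.Helper55.Basic
import Cfsg.Agent.Lib.Helper55.Uniq3
import Cfsg.Agent.Lib.Helper71.BG11a
import Cfsg.Agent.Lib.Helper12.CNMaxSub
import Cfsg.Agent.Lib.Helper13.BG12A
import Cfsg.Agent.Lib.Helper13.BG12B
import Cfsg.Agent.S1350
import Cfsg.Agent.S1378
import Cfsg.Agent.S1404
import Cfsg.Agent.S1418

/-!
# K-1435-P6σ (keystone 143509, row S1435, architect helper31): `N_G(B) ≤ M*`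

`B` elementary abelian of order `r²`, `r ∈ σ(M*)`, normalized by `K`.  A maximal subgroup `L` over
`N_G(B)` has `r ∈ σ(L)` (else `r ∈ τ₂(L)` and S1418 says `N_G(B) ≰ L`), so `L` is conjugate to `M*`
(S1378) and then equal to `M*` (S1404 applied to `K`, and `C_G(K) ≤ M*`).
-/

set_option autoImplicit false
set_option linter.unusedVariables false
set_option linter.style.haveILetI false

namespace Cfsg.Agent.Lib.Helper14.BG1435

open Cfsg Subgroup Cfsg.Agent.Lib.Helper55 Cfsg.Agent.Lib.Helper11.BG14D Cfsg.Agent.Lib.Helper16.BG1363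

variable {G : Type*} [Group G] [Finite G]

/-- **KEYSTONE 143509.** -/
theorem normalizer_le_star (hG : IsMinSimpleOddOrder G) {M K Ms B : Subgroup G} (pf : PF M K Ms)
    (hp : (Nat.card K).Prime) {r : ℕ} (hr : r.Prime) (hrs : r ∈ sigma Ms)
    (hBc : IsMulCommutative B) (hBcard : Nat.card B = r ^ 2) (hBexp : ∀ b ∈ B, b ^ r = 1)
    (hKB : K ≤ normalizer (B : Set G)) : normalizer (B : Set G) ≤ Ms := by
  haveI hfr : Fact r.Prime := ⟨hr⟩
  haveI hfact : Fact (Nat.card K).Prime := ⟨hp⟩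
  have hr2 : 2 ≤ r := hr.two_le
  -- `B ≠ ⊥, ⊤`
  have hB1 : B ≠ ⊥ := by
    intro h
    rw [h, Subgroup.card_bot] at hBcard
    have : 4 ≤ r ^ 2 := by nlinarith
    omega
  have hBtop : B ≠ ⊤ := by
    intro h
    apply hG.2.2.1
    refine ⟨⟨fun a b => ?_⟩⟩
    have ha : a ∈ B := by rw [h]; exact Subgroup.mem_top a
    have hb : b ∈ B := by rw [h]; exact Subgroup.mem_top b
    have := hBc.is_comm.comm ⟨a, ha⟩ ⟨b, hb⟩
    exact congrArg Subtype.val this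
  obtain ⟨L, hL, hNL⟩ := Cfsg.Agent.Lib.Helper12.CNMaxSub.exists_coatom_normalizer_le hG hB1 hBtop
  have hBL : B ≤ L := Subgroup.le_normalizer.trans hNL
  have hBcomm : ∀ a ∈ B, ∀ b ∈ B, a * b = b * a := by
    intro a ha b hb
    have := hBc.is_comm.comm ⟨a, ha⟩ ⟨b, hb⟩
    exact congrArg Subtype.val this
  -- `r ∈ σ(L)`
  have hrL : r ∈ sigma L := by
    by_contra hrL
    have h2 : PRankLE r 2 ↥L := by
      by_contra h
      exact hrL (Cfsg.Agent.Lib.Helper13.BG12.mem_sigma_of_not_pRankLE_two hG hL hr h)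
    have h1 : ¬ PRankLE r 1 ↥L := by
      rw [Cfsg.Agent.Lib.Helper55.not_pRankLE_sub_iff]
      refine ⟨B, hBL, hBcomm, hBexp, ?_⟩
      rw [hBcard, pow_one]
      nlinarith
    have hτ : r ∈ tau2 L := ⟨hr, hrL, h2, h1⟩
    have hHall : IsPiHallOf (sigma L) (sigmaCore L) L := (Cfsg.Agent.S1350.result hG L hL).1
    have hBpr : ∀ q : ℕ, q.Prime → q ∣ Nat.card B → q ∉ sigma L := by
      intro q hq hqd
      rw [hBcard] at hqd
      have hqr : q = r := (Nat.prime_dvd_prime_iff_eq hq hr).1 (hq.dvd_of_dvd_pow hqd)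
      rw [hqr]
      exact hrL
    obtain ⟨E, hE, hBE⟩ := Cfsg.Agent.Lib.Helper13.BG12.exists_complIn_ge hG hL hHall hBL hBpr
    have h18 := Cfsg.Agent.S1418.result hG L hL E hE r hτ B ⟨hBE, ⟨hBc, hBexp⟩, hBcard⟩
    exact h18.2.1.2.2 hNL
  -- `L = cj g M*`
  obtain ⟨g, hg⟩ := (Cfsg.Agent.S1378.result hG).2 Ms L pf.hMs hL ⟨r, hrs, hrL⟩
  have hK1 : K ≠ ⊥ := by
    intro h
    rw [h, Subgroup.card_bot] at hp
    exact Nat.not_prime_one hp
  have hpMs : Nat.card K ∈ sigma Ms :=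
    Cfsg.Agent.Lib.Helper71.BG11.sigmaCore_pi hG pf.hMs hp (Subgroup.card_dvd_of_le pf.hKMs)
  have hKL : K ≤ L := hKB.trans hNL
  have hKMs : K ≤ Ms := pf.hKMs.trans (Cfsg.Agent.Lib.Helper71.BG11.sigmaCore_le Ms)
  have hKp : IsPGroup (Nat.card K) K := IsPGroup.of_card (n := 1) (by rw [pow_one])
  have hconj : K.map (MulAut.conj g⁻¹).toMonoidHom ≤ Ms := by
    rintro _ ⟨k, hk, rfl⟩
    have hkL := hKL hk
    rw [hg] at hkL
    obtain ⟨m, hm, hmk⟩ := hkL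
    have h1 : (MulAut.conj g⁻¹).toMonoidHom k = m := by
      rw [← hmk]
      simp [MulAut.conj_apply, mul_assoc]
    rw [h1]
    exact hm
  obtain ⟨m, hm, c', hc', hgmc⟩ :=
    (Cfsg.Agent.S1404.result hG Ms pf.hMs (Nat.card K) hpMs K hKp hK1 hKMs).1 g⁻¹ hconj
  have hc'Ms : c' ∈ Ms := pf.hCK hc'
  have hgMs : g ∈ Ms := by
    have h1 : g⁻¹ ∈ Ms := by rw [hgmc]; exact Ms.mul_mem hm hc'Ms
    have h2 := Ms.inv_mem h1
    rwa [inv_inv] at h2
  have hLMs : L = Ms := by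
    rw [hg]
    ext x
    constructor
    · rintro ⟨y, hy, rfl⟩
      show g * y * g⁻¹ ∈ Ms
      exact Ms.mul_mem (Ms.mul_mem hgMs hy) (Ms.inv_mem hgMs)
    · intro hx
      refine ⟨g⁻¹ * x * g, Ms.mul_mem (Ms.mul_mem (Ms.inv_mem hgMs) hx) hgMs, ?_⟩
      show g * (g⁻¹ * x * g) * g⁻¹ = x
      group
  rw [← hLMs]
  exact hNL

end Cfsg.Agent.Lib.Helper14.BG1435
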