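import Mathlib
import Cfsg.Agent.Lib.Helper16.BG1363Defs
import Cfsg.Agent.Lib.Helper55.Basic
import Cfsg.Agent.Lib.Helper64.BG1363H

/-!
# K-1435-P7b (keystone 143512, row S1435, architect helper31)

A subgroup `U ≤ H` all of whose prime divisors lie in `σ(H)` lies in `H_σ`
(`H_σ` is a normal Hall `σ(H)`-subgroup of `H`).
-/

set_option autoImplicit false

namespace Cfsg.Agent.Lib.Helper14.BG1435

open Cfsg Subgroup Cfsg.Agent.Lib.Helper55 Cfsg.Agent.Lib.Helper11.BG14D Cfsg.Agent.Lib.Helper16.BG1363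

variable {G : Type*} [Group G] [Finite G]

/-- a prime of `σ(H)` divides `|H_σ|` -/
theorem dvd_card_sigmaCore_of_mem_sigma (hG : IsMinSimpleOddOrder G) {H : Subgroup G}
    (hH : IsCoatom H) {p : ℕ} (hp : p ∈ sigma H) : p ∣ Nat.card (sigmaCore H) := by
  obtain ⟨hle, hpi, hidx⟩ := (Cfsg.Agent.S1350.result hG H hH).1
  have hpp : p.Prime := hp.1
  have hdH : p ∣ Nat.card H := hp.2.1
  have hcard : Nat.card ((sigmaCore H).subgroupOf H) * ((sigmaCore H).subgroupOf H).index
      = Nat.card H := Subgroup.card_mul_index _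
  have hc2 : Nat.card ((sigmaCore H).subgroupOf H) = Nat.card (sigmaCore H) :=
    Nat.card_congr (Subgroup.subgroupOfEquivOfLe hle).toEquiv
  rw [hc2] at hcard
  rw [← hcard] at hdH
  rcases (Nat.Prime.dvd_mul hpp).1 hdH with h | h
  · exact h
  · exact absurd h (hidx p hpp hp)

/-- **KEYSTONE 143512.** -/
theorem le_sigmaCore_of_primes (hG : IsMinSimpleOddOrder G) {H U : Subgroup G} (hH : IsCoatom H)
    (hUH : U ≤ H) (hpr : ∀ s : ℕ, s.Prime → s ∣ Nat.card U → s ∈ sigma H) : U ≤ sigmaCore H := by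
  intro x hx
  apply Cfsg.Agent.Lib.Helper64.BG1363.mem_sigmaCore_of_orderOf hG hH (hUH hx)
  intro p hp hpd
  apply dvd_card_sigmaCore_of_mem_sigma hG hH
  apply hpr p hp
  exact hpd.trans (Subgroup.orderOf_dvd_natCard U hx)

end Cfsg.Agent.Lib.Helper14.BG1435
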