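/-
K-A5 (keystone 434606) of the S4346 pack (architect helper11): pure double counting.
-/
import Mathlib

set_option autoImplicit false

namespace Cfsg.Agent.Lib.Helper14.Syl22

theorem natCard_subtype_eq_card_filter {α : Type*} [Fintype α] (p : α → Prop) [DecidablePred p] :
    Nat.card {x // p x} = (Finset.univ.filter p).card := by
  rw [Nat.card_eq_fintype_card, Fintype.card_subtype]

/-- K-A5 (434606). For `x ∈ F` the neighbours of `x` inside `F` are exactly `F \ {x}`, so `x` has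
`a + 1 - |F|` neighbours outside `F`; double count the pairs `(x, y)`, `x ∈ F`, `y ∉ F`,
`adj x y`: each `y ∉ F` occurs at most once. -/
theorem count_ineq {Ω : Type*} [Finite Ω] (adj : Ω → Ω → Prop) (F : Set Ω) (a : ℕ)
    (hsymm : ∀ x y, adj x y → adj y x) (hirr : ∀ x, ¬ adj x x)
    (ha : ∀ x ∈ F, Nat.card {y : Ω // adj x y} = a)
    (hF : ∀ x ∈ F, ∀ y ∈ F, x ≠ y → adj x y)
    (huniq : ∀ y, y ∉ F → ∀ x ∈ F, ∀ x' ∈ F, adj y x → adj y x' → x = x') :
    Nat.card ↥F * (a + 1 - Nat.card ↥F) ≤ Nat.card Ω - Nat.card ↥F ∧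
      (F.Nonempty → Nat.card ↥F ≤ a + 1) := by
  classical
  have := Fintype.ofFinite Ω
  obtain ⟨Ff, hFfdef⟩ : ∃ Ff : Finset Ω, Ff = Finset.univ.filter (fun x => x ∈ F) := ⟨_, rfl⟩
  have hmem : ∀ x, x ∈ Ff ↔ x ∈ F := by
    intro x
    rw [hFfdef, Finset.mem_filter]
    simp
  have hcardF : Nat.card ↥F = Ff.card := by
    rw [hFfdef]
    exact natCard_subtype_eq_card_filter (fun x => x ∈ F)
  obtain ⟨N, hNdef⟩ : ∃ N : Ω → Finset Ω, N = fun x => Finset.univ.filter (fun y => adj x y) :=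
    ⟨_, rfl⟩
  have hmemN : ∀ x y, y ∈ N x ↔ adj x y := by
    intro x y
    rw [hNdef]
    simp
  have hN : ∀ x ∈ F, (N x).card = a := by
    intro x hx
    rw [hNdef, ← natCard_subtype_eq_card_filter]
    exact ha x hx
  have hsub : ∀ x ∈ F, Ff.erase x ⊆ N x := by
    intro x hx y hy
    rw [Finset.mem_erase] at hy
    rw [hmemN]
    exact hF x hx y ((hmem y).mp hy.2) (Ne.symm hy.1)
  have hle1 : ∀ x ∈ F, Ff.card ≤ a + 1 := by
    intro x hx
    have h1 := Finset.card_le_card (hsub x hx)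
    rw [hN x hx, Finset.card_erase_of_mem ((hmem x).mpr hx)] at h1
    omega
  have hout : ∀ x ∈ F, (N x \ Ff).card = a + 1 - Ff.card := by
    intro x hx
    have h1 : N x \ Ff = N x \ Ff.erase x := by
      ext y
      rw [Finset.mem_sdiff, Finset.mem_sdiff, Finset.mem_erase]
      constructor
      · rintro ⟨h2, h3⟩
        exact ⟨h2, fun h4 => h3 h4.2⟩
      · rintro ⟨h2, h3⟩
        refine ⟨h2, fun h4 => h3 ⟨?_, h4⟩⟩
        rintro rfl
        exact hirr _ ((hmemN _ _).mp h2)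
    have h2 : 1 ≤ Ff.card := Finset.card_pos.mpr ⟨x, (hmem x).mpr hx⟩
    have h3 := Finset.card_sdiff_add_card_eq_card (hsub x hx)
    rw [hN x hx, Finset.card_erase_of_mem ((hmem x).mpr hx)] at h3
    rw [h1]
    omega
  refine ⟨?_, ?_⟩
  · have hdisj : (Ff : Set Ω).PairwiseDisjoint (fun x => N x \ Ff) := by
      intro x hx x' hx' hne
      rw [Function.onFun, Finset.disjoint_left]
      intro y hy hy'
      rw [Finset.mem_sdiff] at hy hy'
      apply hne
      have hyF : y ∉ F := fun h => hy.2 ((hmem y).mpr h)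
      exact huniq y hyF x ((hmem x).mp hx) x' ((hmem x').mp hx')
        (hsymm _ _ ((hmemN _ _).mp hy.1)) (hsymm _ _ ((hmemN _ _).mp hy'.1))
    have hU : (Ff.biUnion (fun x => N x \ Ff)).card = ∑ x ∈ Ff, (N x \ Ff).card :=
      Finset.card_biUnion hdisj
    have hsum : ∑ x ∈ Ff, (N x \ Ff).card = Ff.card * (a + 1 - Ff.card) := by
      rw [Finset.sum_congr rfl (fun x hx => hout x ((hmem x).mp hx)), Finset.sum_const,
        smul_eq_mul]
    have hle : Ff.biUnion (fun x => N x \ Ff) ⊆ Finset.univ \ Ff := by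
      intro y hy
      rw [Finset.mem_biUnion] at hy
      obtain ⟨x, -, hy⟩ := hy
      rw [Finset.mem_sdiff] at hy ⊢
      exact ⟨Finset.mem_univ _, hy.2⟩
    have h4 := Finset.card_le_card hle
    rw [hU, hsum] at h4
    have h5 := Finset.card_sdiff_add_card_eq_card (Finset.subset_univ Ff)
    rw [Finset.card_univ, ← Nat.card_eq_fintype_card] at h5
    rw [hcardF]
    omega
  · rintro ⟨x, hx⟩
    rw [hcardF]
    exact hle1 x hx

end Cfsg.Agent.Lib.Helper14.Syl22
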