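import Mathlib
import Cfsg.Agent.Lib.Helper74.FCDefs

/-!
# S3359, keystone K-S3359-11: the centralizer of a normal `SL(2,5)` has index at most 120
-/

set_option autoImplicit false

universe u

namespace Cfsg.Agent.Lib.Helper14.FC

open Cfsg.Agent.Lib.Helper74.FC

theorem ker_conjNormal_eq {G : Type u} [Group G] (S : Subgroup G) [S.Normal] :
    (MulAut.conjNormal : G →* MulAut S).ker = Subgroup.centralizer (S : Set G) := by
  ext g
  rw [MonoidHom.mem_ker, Subgroup.mem_centralizer_iff]
  constructor
  · intro hg s hs
    have h1 : (MulAut.conjNormal g : MulAut S) ⟨s, hs⟩ = ⟨s, hs⟩ := by rw [hg]; rfl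
    have h2 : g * s * g⁻¹ = s := by
      have := congrArg Subtype.val h1
      simpa [MulAut.conjNormal_apply] using this
    calc s * g = (g * s * g⁻¹) * g := by rw [h2]
      _ = g * s := by group
  · intro hg
    apply MulEquiv.ext
    intro s
    apply Subtype.ext
    rw [MulAut.conjNormal_apply]
    have := hg s.1 s.2
    show g * (s : G) * g⁻¹ = s
    rw [← this]
    group

/-- **K-S3359-11.** -/
theorem index_centralizer_le {G : Type u} [Group G] [Finite G] (S : Subgroup G) [S.Normal]
    (e : S ≃* SL25) (hA : Nat.card (MulAut SL25) ≤ 120) :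
    (Subgroup.centralizer (S : Set G)).index ≤ 120 := by
  classical
  have hfin : Finite (MulAut S) :=
    Finite.of_injective (fun a => (a : S → S)) DFunLike.coe_injective
  rw [← ker_conjNormal_eq S, Subgroup.index_ker]
  have h1 : Nat.card (MulAut.conjNormal : G →* MulAut S).range ≤ Nat.card (MulAut S) :=
    Nat.card_le_card_of_injective _ Subtype.val_injective
  have h2 : Nat.card (MulAut S) = Nat.card (MulAut SL25) :=
    Nat.card_congr (MulAut.congr e).toEquiv
  rw [h2] at h1
  exact h1.trans hA

end Cfsg.Agent.Lib.Helper14.FC
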