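import Mathlib.GroupTheory.Sylow
import Mathlib.GroupTheory.PGroup
import Mathlib.GroupTheory.Index
import Mathlib.Algebra.Group.Subgroup.Pointwise
import Mathlib.Tactic.Group
import Cfsg.Agent.Lib.Helper14.NilpHall
import Cfsg.Agent.Lib.Helper14.Timmesfeld
import Cfsg.Agent.Lib.Helper72.Basic
import Cfsg.Agent.S0572

set_option autoImplicit false

namespace Cfsg.Agent.Lib.Helper14

open scoped Pointwise commutatorElement

universe u

variable {G : Type u} [Group G]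

/-- A `p`-group normalizing a nontrivial `p`-group centralizes a nonidentity element of it. -/
theorem exists_ne_one_commute_of_pgroups [Finite G] {p : ℕ} [Fact p.Prime] {Q R : Subgroup G}
    (hQ : IsPGroup p Q) (hR : IsPGroup p R) (hR1 : R ≠ ⊥)
    (h : Q ≤ Subgroup.normalizer (R : Set G)) :
    ∃ z ∈ R, z ≠ 1 ∧ ∀ q ∈ Q, q * z = z * q := by
  let _ : MulAction Q R :=
    { smul := fun q r => ⟨q * r * (q : G)⁻¹, (Subgroup.mem_normalizer_iff.mp (h q.2) r).mp r.2⟩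
      one_smul := fun r => by
        apply Subtype.ext
        show ((1 : Q) : G) * r * ((1 : Q) : G)⁻¹ = r
        simp
      mul_smul := fun q q' r => by
        apply Subtype.ext
        show ((q * q' : Q) : G) * r * ((q * q' : Q) : G)⁻¹ =
          (q : G) * ((q' : G) * r * (q' : G)⁻¹) * (q : G)⁻¹
        simp only [Subgroup.coe_mul]
        group }
  have hsmul : ∀ (q : Q) (r : R), ((q • r : R) : G) = q * r * (q : G)⁻¹ := fun _ _ => rfl
  have hpR : p ∣ Nat.card R := by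
    have : Nontrivial R := (Subgroup.nontrivial_iff_ne_bot R).mpr hR1
    obtain ⟨n, hn0, hn⟩ := hR.nontrivial_iff_card.mp inferInstance
    exact hn.symm ▸ dvd_pow_self _ (ne_of_gt hn0)
  have h1 : (1 : R) ∈ MulAction.fixedPoints Q R := by
    intro q
    apply Subtype.ext
    rw [hsmul]
    simp
  obtain ⟨b, hb, hb1⟩ := hQ.exists_fixed_point_of_prime_dvd_card_of_fixed_point R hpR h1
  refine ⟨b, b.2, ?_, ?_⟩
  · intro hb'
    exact hb1 (Subtype.ext hb'.symm)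
  · intro q hq
    have := congrArg Subtype.val (hb ⟨q, hq⟩)
    rw [hsmul] at this
    calc q * (b : G) = (q * b * q⁻¹) * q := by group
      _ = b * q := by rw [this]

/-- If `X = A * Y = A * W` as sets with `A ⊓ Y = ⊥ = A ⊓ W`, then `|Y| = |W|`. -/
theorem card_eq_of_mul_eq [Finite G] {A Y W X : Subgroup G} (hAX : A ≤ X) (hYX : Y ≤ X)
    (hWX : W ≤ X) (hY : ∀ x ∈ X, ∃ a ∈ A, ∃ y ∈ Y, x = a * y)
    (hW : ∀ x ∈ X, ∃ a ∈ A, ∃ w ∈ W, x = a * w) (hAY : A ⊓ Y = ⊥) (hAW : A ⊓ W = ⊥) :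
    Nat.card Y = Nat.card W := by
  have key : ∀ Z : Subgroup G, Z ≤ X → (∀ x ∈ X, ∃ a ∈ A, ∃ z ∈ Z, x = a * z) → A ⊓ Z = ⊥ →
      Nat.card X = Nat.card A * Nat.card Z := by
    intro Z hZX hZ hAZ
    apply le_antisymm
    · rw [← Nat.card_prod]
      let φ : A × Z → X := fun q => ⟨(q.1 : G) * (q.2 : G), X.mul_mem (hAX q.1.2) (hZX q.2.2)⟩
      apply Nat.card_le_card_of_surjective φ
      rintro ⟨x, hx⟩
      obtain ⟨a, ha, z, hz, rfl⟩ := hZ x hx
      exact ⟨(⟨a, ha⟩, ⟨z, hz⟩), rfl⟩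
    · have h1 := card_mul_card_le_sup_mul_inf A Z
      rw [hAZ, Subgroup.card_bot, mul_one] at h1
      exact h1.trans (Subgroup.card_le_of_le (sup_le hAX hZX))
  have h1 := key Y hYX hY hAY
  have h2 := key W hWX hW hAW
  rw [h1] at h2
  exact Nat.eq_of_mul_eq_mul_left Nat.card_pos h2

/-- The `p`-elements of an abelian subgroup. -/
def pPart (p : ℕ) (V : Subgroup G) (hV : ∀ x ∈ V, ∀ y ∈ V, x * y = y * x) : Subgroup G where
  carrier := {v | v ∈ V ∧ ∃ k : ℕ, v ^ (p ^ k) = 1}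
  one_mem' := ⟨one_mem _, 0, one_pow _⟩
  mul_mem' := by
    rintro v w ⟨hv, k, hk⟩ ⟨hw, l, hl⟩
    refine ⟨mul_mem hv hw, k + l, ?_⟩
    have hc : Commute v w := hV v hv w hw
    rw [hc.mul_pow, pow_add, pow_mul, hk, one_pow, one_mul, mul_comm, pow_mul, hl, one_pow]
  inv_mem' := by
    rintro v ⟨hv, k, hk⟩
    exact ⟨inv_mem hv, k, by rw [inv_pow, hk, inv_one]⟩

theorem pPart_le (p : ℕ) (V : Subgroup G) (hV : ∀ x ∈ V, ∀ y ∈ V, x * y = y * x) :
    pPart p V hV ≤ V := fun _ h => h.1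

theorem pPart_isPGroup (p : ℕ) (V : Subgroup G) (hV : ∀ x ∈ V, ∀ y ∈ V, x * y = y * x) :
    IsPGroup p (pPart p V hV) := by
  rintro ⟨v, hv, k, hk⟩
  exact ⟨k, Subtype.ext hk⟩

theorem pPart_conj_mem (p : ℕ) (V : Subgroup G) [hVn : V.Normal]
    (hV : ∀ x ∈ V, ∀ y ∈ V, x * y = y * x) {v : G} (hv : v ∈ pPart p V hV) (g : G) :
    g * v * g⁻¹ ∈ pPart p V hV := by
  obtain ⟨hv1, k, hk⟩ := hv
  exact ⟨hVn.conj_mem v hv1 g, k, by rw [conj_pow, hk]; group⟩

instance pPart_normal (p : ℕ) (V : Subgroup G) [hVn : V.Normal]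
    (hV : ∀ x ∈ V, ∀ y ∈ V, x * y = y * x) : (pPart p V hV).Normal :=
  ⟨fun _ hv g => pPart_conj_mem p V hV hv g⟩

theorem pPart_ne_bot [Finite G] {p : ℕ} [Fact p.Prime] (V : Subgroup G)
    (hV : ∀ x ∈ V, ∀ y ∈ V, x * y = y * x) (hp : p ∣ Nat.card V) : pPart p V hV ≠ ⊥ := by
  obtain ⟨v, hv⟩ := exists_prime_orderOf_dvd_card' p hp
  intro hbot
  have hmem : (v : G) ∈ pPart p V hV := by
    refine ⟨v.2, 1, ?_⟩
    rw [pow_one, ← Subgroup.coe_pow, ← hv, pow_orderOf_eq_one]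
    rfl
  rw [hbot, Subgroup.mem_bot] at hmem
  have hv1 : v = 1 := Subtype.ext hmem
  rw [hv1, orderOf_one] at hv
  exact (Fact.out : p.Prime).one_lt.ne hv

/-- Two abelian complements `A`, `B` of an abelian normal subgroup `V ≠ 1` with `G = BA` and
`A ⊓ B = ⊥` force a nontrivial centre. -/
theorem center_ne_bot_of_two_complements [Finite G] (A B V : Subgroup G) [hVn : V.Normal]
    (hA : ∀ x ∈ A, ∀ y ∈ A, x * y = y * x) (hB : ∀ x ∈ B, ∀ y ∈ B, x * y = y * x)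
    (hV : ∀ x ∈ V, ∀ y ∈ V, x * y = y * x)
    (hBA : ∀ g : G, ∃ b ∈ B, ∃ a ∈ A, g = b * a)
    (hAB0 : A ⊓ B = ⊥) (hAV : A ⊔ V = ⊤) (hBV : B ⊔ V = ⊤) (hAV0 : A ⊓ V = ⊥)
    (hV1 : V ≠ ⊥) : Subgroup.center G ≠ ⊥ := by
  have hα : ∀ v : G, ∃ a ∈ A, a * v ∈ B := by
    intro v
    obtain ⟨b, hb, a, ha, h⟩ := hBA v⁻¹
    refine ⟨a, ha, ?_⟩
    have : a * v = b⁻¹ := by
      have : v = a⁻¹ * b⁻¹ := by rw [← inv_inv v, h]; group
      rw [this]; group
    rw [this]; exact inv_mem hb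
  have hf : ∀ a ∈ A, ∃ v ∈ V, a * v ∈ B := by
    intro a _
    have : a ∈ B ⊔ V := by rw [hBV]; trivial
    rw [← SetLike.mem_coe, Subgroup.mul_normal] at this
    obtain ⟨b, hb, v', hv', rfl⟩ := this
    exact ⟨v'⁻¹, inv_mem hv', by simpa using hb⟩
  have huniq : ∀ a ∈ A, ∀ a' ∈ A, ∀ v : G, a * v ∈ B → a' * v ∈ B → a = a' := by
    intro a ha a' ha' v h1 h2
    have : a * a'⁻¹ ∈ A ⊓ B := ⟨A.mul_mem ha (A.inv_mem ha'), by
      have : a * a'⁻¹ = (a * v) * (a' * v)⁻¹ := by group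
      rw [this]; exact B.mul_mem h1 (B.inv_mem h2)⟩
    rw [hAB0, Subgroup.mem_bot] at this
    exact mul_inv_eq_one.mp this
  have hstar : ∀ a ∈ A, ∀ a' ∈ A, ∀ v ∈ V, ∀ v' ∈ V, a * v ∈ B → a' * v' ∈ B →
      a'⁻¹ * v * a' * v⁻¹ = a⁻¹ * v' * a * v'⁻¹ := by
    intro a ha a' ha' v hv v' hv' h1 h2
    have hcomm := hB _ h1 _ h2
    have haa := hA a ha a' ha'
    have e1 : a * v * (a' * v') = a * a' * ((a'⁻¹ * v * a') * v') := by group
    have e2 : a' * v' * (a * v) = a * a' * ((a⁻¹ * v' * a) * v) := by rw [haa]; group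
    have e3 : (a'⁻¹ * v * a') * v' = (a⁻¹ * v' * a) * v := by
      have : a * a' * ((a'⁻¹ * v * a') * v') = a * a' * ((a⁻¹ * v' * a) * v) := by
        rw [← e1, hcomm, e2]
      exact mul_left_cancel this
    calc a'⁻¹ * v * a' * v⁻¹ = (a'⁻¹ * v * a') * v' * v'⁻¹ * v⁻¹ := by group
      _ = (a⁻¹ * v' * a) * v * v'⁻¹ * v⁻¹ := by rw [e3]
      _ = (a⁻¹ * v' * a) * (v * v'⁻¹) * v⁻¹ := by group
      _ = (a⁻¹ * v' * a) * (v'⁻¹ * v) * v⁻¹ := by rw [hV v hv v'⁻¹ (inv_mem hv')]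
      _ = a⁻¹ * v' * a * v'⁻¹ := by group
  -- conjugates by inverse stay in V
  have hconjV : ∀ (c v : G), v ∈ V → c⁻¹ * v * c ∈ V := by
    intro c v hv
    have := hVn.conj_mem v hv c⁻¹
    simpa using this
  have hpowconj : ∀ (c v : G) (n : ℕ), v ∈ V → (c⁻¹ * v * c * v⁻¹) ^ n = c⁻¹ * v ^ n * c * (v ^ n)⁻¹ := by
    intro c v n hv
    have hc : Commute (c⁻¹ * v * c) v⁻¹ := hV _ (hconjV c v hv) _ (inv_mem hv)
    rw [hc.mul_pow, inv_pow]
    congr 1
    have : c⁻¹ * v * c = c⁻¹ * v * c⁻¹⁻¹ := by rw [inv_inv]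
    rw [this, conj_pow, inv_inv]
  have hcoprime : ∀ a' ∈ A, ∀ v ∈ V, ∀ v' ∈ V, a' * v' ∈ B →
      (orderOf v).Coprime (orderOf v') → a'⁻¹ * v * a' = v := by
    intro a' ha' v hv v' hv' h2 hcop
    obtain ⟨a, ha, h1⟩ := hα v
    have hw := hstar a ha a' ha' v hv v' hv' h1 h2
    have hw1 : (a'⁻¹ * v * a' * v⁻¹) ^ orderOf v = 1 := by
      rw [hpowconj a' v _ hv, pow_orderOf_eq_one]; group
    have hw2 : (a'⁻¹ * v * a' * v⁻¹) ^ orderOf v' = 1 := by
      rw [hw, hpowconj a v' _ hv', pow_orderOf_eq_one]; group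
    have h3 : orderOf (a'⁻¹ * v * a' * v⁻¹) ∣ 1 := by
      have := Nat.dvd_gcd (orderOf_dvd_of_pow_eq_one hw1) (orderOf_dvd_of_pow_eq_one hw2)
      rwa [hcop.gcd_eq_one] at this
    have h4 : a'⁻¹ * v * a' * v⁻¹ = 1 := by
      rw [← orderOf_eq_one_iff]; exact Nat.dvd_one.mp h3
    exact mul_inv_eq_one.mp h4
  -- choose a prime
  have hVcard : Nat.card V ≠ 1 := by
    intro h
    exact hV1 (Subgroup.card_eq_one.mp h)
  obtain ⟨p, hp, hpV⟩ := Nat.exists_prime_and_dvd hVcard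
  have : Fact p.Prime := ⟨hp⟩
  have hVp1 : pPart p V hV ≠ ⊥ := pPart_ne_bot V hV hpV
  have hVpP : IsPGroup p (pPart p V hV) := pPart_isPGroup p V hV
  have hVpV : pPart p V hV ≤ V := pPart_le p V hV
  have hAX : A ≤ A ⊔ pPart p V hV := le_sup_left
  have hVpX : pPart p V hV ≤ A ⊔ pPart p V hV := le_sup_right
  have hYX : B ⊓ (A ⊔ pPart p V hV) ≤ A ⊔ pPart p V hV := inf_le_right
  have hXW : ∀ x ∈ A ⊔ pPart p V hV, ∃ a ∈ A, ∃ w ∈ pPart p V hV, x = a * w := by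
    intro x hx
    rw [← SetLike.mem_coe, Subgroup.mul_normal] at hx
    obtain ⟨a, ha, w, hw, rfl⟩ := hx
    exact ⟨a, ha, w, hw, rfl⟩
  have hXY : ∀ x ∈ A ⊔ pPart p V hV, ∃ a ∈ A, ∃ y ∈ B ⊓ (A ⊔ pPart p V hV), x = a * y := by
    intro x hx
    obtain ⟨b, hb, a, ha, h⟩ := hBA x⁻¹
    have hx' : x = a⁻¹ * b⁻¹ := by rw [← inv_inv x, h]; group
    refine ⟨a⁻¹, A.inv_mem ha, b⁻¹, ⟨B.inv_mem hb, ?_⟩, hx'⟩
    have : b⁻¹ = a * x := by rw [hx']; group
    rw [this]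
    exact Subgroup.mul_mem _ (hAX ha) hx
  have hAY0 : A ⊓ (B ⊓ (A ⊔ pPart p V hV)) = ⊥ := by
    rw [eq_bot_iff, ← hAB0]
    exact fun x hx => ⟨hx.1, hx.2.1⟩
  have hAVp0 : A ⊓ pPart p V hV = ⊥ := by
    rw [eq_bot_iff, ← hAV0]
    exact fun x hx => ⟨hx.1, hVpV hx.2⟩
  have hcard := card_eq_of_mul_eq hAX hYX hVpX hXY hXW hAY0 hAVp0
  have hYP : IsPGroup p (B ⊓ (A ⊔ pPart p V hV) : Subgroup G) := by
    obtain ⟨n, hn⟩ := IsPGroup.iff_card.mp hVpP
    exact IsPGroup.of_card (hcard.trans hn)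
  have hnorm : B ⊓ (A ⊔ pPart p V hV) ≤ Subgroup.normalizer ((pPart p V hV : Subgroup G) : Set G) := by
    rw [Subgroup.normalizer_eq_top]
    exact le_top
  obtain ⟨z, hzVp, hz1, hzY⟩ := exists_ne_one_commute_of_pgroups hYP hVpP hVp1 hnorm
  have hzV : z ∈ V := hVpV hzVp
  obtain ⟨_, kz, hkz⟩ := hzVp
  have hzA : ∀ a ∈ A, a * z = z * a := by
    intro a ha
    obtain ⟨v, hv, hav⟩ := hf a ha
    obtain ⟨y, u, hvyu, hy, hu, hycop, ku, hku⟩ := Cfsg.Agent.Lib.Helper72.exists_coprime_part_decomp p v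
    have hzp : Subgroup.zpowers v ≤ V := (Subgroup.zpowers_le).mpr hv
    have hyV : y ∈ V := hzp hy
    have huV : u ∈ V := hzp hu
    have huVp : u ∈ pPart p V hV := ⟨huV, ku, hku⟩
    obtain ⟨a₁, ha₁, h1⟩ := hα u
    obtain ⟨a₂, ha₂, h2⟩ := hα y
    have hcop_of : ∀ w : G, (∃ k : ℕ, w ^ (p ^ k) = 1) → (orderOf w).Coprime (orderOf y) := by
      rintro w ⟨k, hk⟩
      have hd : orderOf w ∣ p ^ k := orderOf_dvd_of_pow_eq_one hk
      exact Nat.Coprime.coprime_dvd_left hd (Nat.Coprime.pow_left k hycop.symm)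
    have hz2 : a₂⁻¹ * z * a₂ = z := hcoprime a₂ ha₂ z hzV y hyV h2 (hcop_of z ⟨kz, hkz⟩)
    have hu2 : a₂⁻¹ * u * a₂ = u := hcoprime a₂ ha₂ u huV y hyV h2 (hcop_of u ⟨ku, hku⟩)
    have ha12 : a = a₁ * a₂ := by
      apply huniq a ha (a₁ * a₂) (A.mul_mem ha₁ ha₂) v hav
      have : a₁ * a₂ * v = (a₁ * u) * (a₂ * y) := by
        rw [hvyu, hV y hyV u huV]
        calc a₁ * a₂ * (u * y) = a₁ * a₂ * ((a₂⁻¹ * u * a₂) * y) := by rw [hu2]
          _ = (a₁ * u) * (a₂ * y) := by group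
      rw [this]
      exact B.mul_mem h1 h2
    have hY1 : a₁ * u ∈ B ⊓ (A ⊔ pPart p V hV) :=
      ⟨h1, Subgroup.mul_mem _ (hAX ha₁) (hVpX huVp)⟩
    have hc1 := hzY _ hY1
    have huz : u * z = z * u := hV u huV z hzV
    have hz1' : a₁ * z = z * a₁ := by
      have : a₁ * z * u = z * a₁ * u := by
        calc a₁ * z * u = a₁ * (z * u) := by group
          _ = a₁ * (u * z) := by rw [huz]
          _ = a₁ * u * z := by group
          _ = z * (a₁ * u) := hc1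
          _ = z * a₁ * u := by group
      exact mul_right_cancel this
    have hz2' : a₂ * z = z * a₂ := by
      calc a₂ * z = a₂ * (a₂⁻¹ * z * a₂) := by rw [hz2]
        _ = z * a₂ := by group
    rw [ha12]
    calc a₁ * a₂ * z = a₁ * (a₂ * z) := by group
      _ = a₁ * (z * a₂) := by rw [hz2']
      _ = (a₁ * z) * a₂ := by group
      _ = z * a₁ * a₂ := by rw [hz1']
      _ = z * (a₁ * a₂) := by group
  have hzc : z ∈ Subgroup.center G := by
    rw [Subgroup.mem_center_iff]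
    intro g
    have hg : g ∈ A ⊔ V := by rw [hAV]; trivial
    rw [← SetLike.mem_coe, Subgroup.mul_normal] at hg
    obtain ⟨a, ha, v₀, hv₀, rfl⟩ := hg
    have h1 := hzA a ha
    have h2 : v₀ * z = z * v₀ := hV v₀ hv₀ z hzV
    calc a * v₀ * z = a * (v₀ * z) := by group
      _ = a * (z * v₀) := by rw [h2]
      _ = (a * z) * v₀ := by group
      _ = z * a * v₀ := by rw [h1]
      _ = z * (a * v₀) := by group
  intro hbot
  rw [hbot, Subgroup.mem_bot] at hzc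
  exact hz1 hzc

/-- An element commuting with both factors of `G = AB` is central. -/
theorem mem_center_of_commute_factors {A B : Subgroup G}
    (hAB : ∀ g : G, ∃ a ∈ A, ∃ b ∈ B, g = a * b) {x : G}
    (h1 : ∀ a ∈ A, a * x = x * a) (h2 : ∀ b ∈ B, b * x = x * b) : x ∈ Subgroup.center G := by
  rw [Subgroup.mem_center_iff]
  intro g
  obtain ⟨a, ha, b, hb, rfl⟩ := hAB g
  calc a * b * x = a * (b * x) := by group
    _ = a * (x * b) := by rw [h2 b hb]
    _ = (a * x) * b := by group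
    _ = x * a * b := by rw [h1 a ha]
    _ = x * (a * b) := by group

theorem normal_of_le_center {N : Subgroup G} (h : N ≤ Subgroup.center G) : N.Normal := by
  refine ⟨fun n hn g => ?_⟩
  have := (Subgroup.mem_center_iff.mp (h hn)) g
  have e : g * n * g⁻¹ = n := by rw [this]; group
  rw [e]; exact hn

/-- If the centre is nontrivial, `G = AB` with `A`, `B` abelian has a normal subgroup in a
factor. -/
theorem exists_normal_of_center_ne_bot (A B : Subgroup G)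
    (hA : ∀ x ∈ A, ∀ y ∈ A, x * y = y * x) (hB : ∀ x ∈ B, ∀ y ∈ B, x * y = y * x)
    (hAB : ∀ g : G, ∃ a ∈ A, ∃ b ∈ B, g = a * b) (hZ : Subgroup.center G ≠ ⊥) :
    ∃ N : Subgroup G, N.Normal ∧ N ≠ ⊥ ∧ (N ≤ A ∨ N ≤ B) := by
  obtain ⟨⟨z, hz⟩, hz1'⟩ := (Subgroup.ne_bot_iff_exists_ne_one).mp hZ
  have hz1 : z ≠ 1 := fun h' => hz1' (Subtype.ext h')
  obtain ⟨a, ha, b, hb, hzab⟩ := hAB z
  have hzc := Subgroup.mem_center_iff.mp hz
  have hac : a ∈ Subgroup.center G := by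
    apply mem_center_of_commute_factors hAB
    · intro a' ha'; exact hA a' ha' a ha
    · intro b' hb'
      have h := hzc b'
      rw [hzab] at h
      have h' : b' * a * b = a * b' * b := by
        calc b' * a * b = b' * (a * b) := by group
          _ = a * b * b' := h
          _ = a * (b * b') := by group
          _ = a * (b' * b) := by rw [hB b hb b' hb']
          _ = a * b' * b := by group
      exact mul_right_cancel h'
  have hbc : b ∈ Subgroup.center G := by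
    have : b = a⁻¹ * z := by rw [hzab]; group
    rw [this]
    exact Subgroup.mul_mem _ (Subgroup.inv_mem _ hac) hz
  by_cases ha1 : a = 1
  · refine ⟨Subgroup.center G ⊓ B, normal_of_le_center inf_le_left, ?_, Or.inr inf_le_right⟩
    intro hbot
    have : b ∈ Subgroup.center G ⊓ B := ⟨hbc, hb⟩
    rw [hbot, Subgroup.mem_bot] at this
    apply hz1
    rw [hzab, ha1, this, one_mul]
  · refine ⟨Subgroup.center G ⊓ A, normal_of_le_center inf_le_left, ?_, Or.inl inf_le_right⟩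
    intro hbot
    have : a ∈ Subgroup.center G ⊓ A := ⟨hac, ha⟩
    rw [hbot, Subgroup.mem_bot] at this
    exact ha1 this

/-- Step: with trivial centre and no normal subgroup inside `A`, `A ⊓ C(V) = ⊥`. -/
theorem inf_centralizer_eq_bot_of_no_normal (A B V : Subgroup G) [V.Normal]
    (hA : ∀ x ∈ A, ∀ y ∈ A, x * y = y * x) (hB : ∀ x ∈ B, ∀ y ∈ B, x * y = y * x)
    (hAB : ∀ g : G, ∃ a ∈ A, ∃ b ∈ B, g = a * b) (hZ : Subgroup.center G = ⊥)
    (hcomm : commutator G ≤ V)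
    (hno : ∀ N : Subgroup G, N.Normal → N ≤ A → N = ⊥) :
    A ⊓ Subgroup.centralizer (V : Set G) = ⊥ := by
  have hHn : (A ⊔ V).Normal := by
    refine ⟨fun h hh g => ?_⟩
    have : g * h * g⁻¹ = ⁅g, h⁆ * h := by rw [commutatorElement_def]; group
    rw [this]
    refine Subgroup.mul_mem _ ?_ hh
    apply (le_sup_right : V ≤ A ⊔ V)
    apply hcomm
    rw [commutator_def]
    exact Subgroup.commutator_mem_commutator (Subgroup.mem_top g) (Subgroup.mem_top h)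
  have hNn : ((A ⊔ V) ⊓ Subgroup.centralizer ((A ⊔ V : Subgroup G) : Set G)).Normal :=
    inferInstance
  have hNA : (A ⊔ V) ⊓ Subgroup.centralizer ((A ⊔ V : Subgroup G) : Set G) ≤ A := by
    rintro x ⟨hxH, hxC⟩
    obtain ⟨a, ha, b, hb, hx⟩ := hAB x
    have hxA : ∀ a' ∈ A, a' * x = x * a' := fun a' ha' =>
      (Subgroup.mem_centralizer_iff.mp hxC) a' ((le_sup_left : A ≤ A ⊔ V) ha')
    have hbx : b = a⁻¹ * x := by rw [hx]; group
    have hbc : b ∈ Subgroup.center G := by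
      apply mem_center_of_commute_factors hAB
      · intro a' ha'
        rw [hbx]
        calc a' * (a⁻¹ * x) = (a' * a⁻¹) * x := by group
          _ = (a⁻¹ * a') * x := by rw [hA a' ha' a⁻¹ (A.inv_mem ha)]
          _ = a⁻¹ * (a' * x) := by group
          _ = a⁻¹ * (x * a') := by rw [hxA a' ha']
          _ = a⁻¹ * x * a' := by group
      · intro b' hb'; exact hB b' hb' b hb
    rw [hZ, Subgroup.mem_bot] at hbc
    rw [hx, hbc, mul_one]; exact ha
  have hN0 := hno _ hNn hNA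
  rw [eq_bot_iff, ← hN0]
  rintro x ⟨hxA, hxV⟩
  refine ⟨(le_sup_left : A ≤ A ⊔ V) hxA, ?_⟩
  rw [centralizer_sup_eq]
  refine ⟨?_, hxV⟩
  exact Subgroup.mem_centralizer_iff.mpr (fun a' ha' => hA a' ha' x hxA)

/-- The inductive hypothesis for the factorization theorem. -/
def FactorIH (G : Type u) [Group G] : Prop :=
  ∀ (H : Type u) [Group H] [Finite H], Nat.card H < Nat.card G → Nontrivial H →
    ∀ (A B : Subgroup H), (∀ x ∈ A, ∀ y ∈ A, x * y = y * x) →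
      (∀ x ∈ B, ∀ y ∈ B, x * y = y * x) → (∀ g : H, ∃ a ∈ A, ∃ b ∈ B, g = a * b) →
      ∃ N : Subgroup H, N.Normal ∧ N ≠ ⊥ ∧ (N ≤ A ∨ N ≤ B)

theorem false_of_normal_le_subgroupOf {H V C : Subgroup G} [hVn : V.Normal] (N₁ : Subgroup H)
    [hN : N₁.Normal] (hVH : V ≤ H) (hN1 : N₁ ≠ ⊥) (hC : N₁ ≤ C.subgroupOf H)
    (hCV0 : C ⊓ V = ⊥) (hCCV : C ⊓ Subgroup.centralizer (V : Set G) = ⊥) : False := by
  obtain ⟨⟨n, hn⟩, hn1⟩ := (Subgroup.ne_bot_iff_exists_ne_one).mp hN1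
  apply hn1
  apply Subtype.ext
  apply Subtype.ext
  show (n : G) = 1
  have hnC : (n : G) ∈ C := Subgroup.mem_subgroupOf.mp (hC hn)
  have hcent : (n : G) ∈ Subgroup.centralizer (V : Set G) := by
    rw [Subgroup.mem_centralizer_iff]
    intro v hv
    have h1 : (⟨v, hVH hv⟩ : H) * n⁻¹ * (⟨v, hVH hv⟩ : H)⁻¹ ∈ N₁ :=
      hN.conj_mem _ (N₁.inv_mem hn) _
    have h2 : v * (n : G)⁻¹ * v⁻¹ ∈ C := Subgroup.mem_subgroupOf.mp (hC h1)
    have h3 : (n : G) * v * (n : G)⁻¹ * v⁻¹ ∈ C := by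
      have : (n : G) * v * (n : G)⁻¹ * v⁻¹ = (n : G) * (v * (n : G)⁻¹ * v⁻¹) := by group
      rw [this]; exact C.mul_mem hnC h2
    have h4 : (n : G) * v * (n : G)⁻¹ * v⁻¹ ∈ V :=
      V.mul_mem (hVn.conj_mem v hv n) (V.inv_mem hv)
    have h5 : (n : G) * v * (n : G)⁻¹ * v⁻¹ ∈ C ⊓ V := ⟨h3, h4⟩
    rw [hCV0, Subgroup.mem_bot] at h5
    have : (n : G) * v = v * n := by
      calc (n : G) * v = ((n : G) * v * (n : G)⁻¹ * v⁻¹) * (v * n) := by group
        _ = v * n := by rw [h5, one_mul]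
    exact this.symm
  have : (n : G) ∈ C ⊓ Subgroup.centralizer (V : Set G) := ⟨hnC, hcent⟩
  rwa [hCCV, Subgroup.mem_bot] at this

theorem sup_eq_top_of_no_normal [Finite G] (IH : FactorIH G) (A B V : Subgroup G)
    [hVn : V.Normal]
    (hA : ∀ x ∈ A, ∀ y ∈ A, x * y = y * x) (hB : ∀ x ∈ B, ∀ y ∈ B, x * y = y * x)
    (hAB : ∀ g : G, ∃ a ∈ A, ∃ b ∈ B, g = a * b) (hV1 : V ≠ ⊥)
    (hAV0 : A ⊓ V = ⊥) (hBV0 : B ⊓ V = ⊥)
    (hACV : A ⊓ Subgroup.centralizer (V : Set G) = ⊥)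
    (hBCV : B ⊓ Subgroup.centralizer (V : Set G) = ⊥) : A ⊔ V = ⊤ := by
  by_contra hne
  have hlt : Nat.card (A ⊔ V : Subgroup G) < Nat.card G :=
    lt_of_le_of_ne (Subgroup.card_le_card_group _)
      (fun h => hne ((Subgroup.card_eq_iff_eq_top _).mp h))
  have hVH : V ≤ A ⊔ V := le_sup_right
  have hAH : A ≤ A ⊔ V := le_sup_left
  have hnt : Nontrivial (A ⊔ V : Subgroup G) := by
    rw [Subgroup.nontrivial_iff_ne_bot]
    intro h
    apply hV1
    rw [eq_bot_iff, ← h]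
    exact hVH
  obtain ⟨N₁, hN₁n, hN₁1, hN₁⟩ := IH (A ⊔ V : Subgroup G) hlt hnt
    (A.subgroupOf (A ⊔ V)) (B.subgroupOf (A ⊔ V))
    (fun x hx y hy => Subtype.ext (hA x (Subgroup.mem_subgroupOf.mp hx) y
      (Subgroup.mem_subgroupOf.mp hy)))
    (fun x hx y hy => Subtype.ext (hB x (Subgroup.mem_subgroupOf.mp hx) y
      (Subgroup.mem_subgroupOf.mp hy)))
    (by
      rintro ⟨h, hh⟩
      obtain ⟨a, ha, b, hb, rfl⟩ := hAB h
      have hbH : b ∈ A ⊔ V := by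
        have : b = a⁻¹ * (a * b) := by group
        rw [this]
        exact Subgroup.mul_mem _ (Subgroup.inv_mem _ (hAH ha)) hh
      exact ⟨⟨a, hAH ha⟩, Subgroup.mem_subgroupOf.mpr ha, ⟨b, hbH⟩,
        Subgroup.mem_subgroupOf.mpr hb, rfl⟩)
  rcases hN₁ with h | h
  · exact false_of_normal_le_subgroupOf N₁ hVH hN₁1 h hAV0 hACV
  · exact false_of_normal_le_subgroupOf N₁ hVH hN₁1 h hBV0 hBCV

/-- A nontrivial finite product of two abelian subgroups has a nontrivial normal subgroup inside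
one of the factors (elementwise form, by induction on the order). -/
theorem exists_normal_le_factor_aux (n : ℕ) : ∀ (G : Type u) [Group G] [Finite G],
    Nat.card G = n → Nontrivial G → ∀ (A B : Subgroup G),
    (∀ x ∈ A, ∀ y ∈ A, x * y = y * x) → (∀ x ∈ B, ∀ y ∈ B, x * y = y * x) →
    (∀ g : G, ∃ a ∈ A, ∃ b ∈ B, g = a * b) →
    ∃ N : Subgroup G, N.Normal ∧ N ≠ ⊥ ∧ (N ≤ A ∨ N ≤ B) := by
  induction n using Nat.strong_induction_on with
  | _ n ih =>
    intro G _ _ hn hnt A B hA hB hAB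
    by_contra hno
    have IH : FactorIH G := fun H _ _ hlt hH A' B' hA' hB' hAB' =>
      ih (Nat.card H) (hn ▸ hlt) H rfl hH A' B' hA' hB' hAB'
    have hZ : Subgroup.center G = ⊥ := by
      by_contra h
      exact hno (exists_normal_of_center_ne_bot A B hA hB hAB h)
    have hBA : ∀ g : G, ∃ b ∈ B, ∃ a ∈ A, g = b * a := by
      intro g
      obtain ⟨a, ha, b, hb, h⟩ := hAB g⁻¹
      refine ⟨b⁻¹, B.inv_mem hb, a⁻¹, A.inv_mem ha, ?_⟩
      rw [← inv_inv g, h]; group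
    have hAB0 : A ⊓ B = ⊥ := by
      rw [eq_bot_iff, ← hZ]
      rintro x ⟨hxA, hxB⟩
      exact mem_center_of_commute_factors hAB (fun a ha => hA a ha x hxA)
        (fun b hb => hB b hb x hxB)
    have hiA : IsMulCommutative A := ⟨⟨fun a b => Subtype.ext (hA a a.2 b b.2)⟩⟩
    have hiB : IsMulCommutative B := ⟨⟨fun a b => Subtype.ext (hB a a.2 b b.2)⟩⟩
    have hder : derivedSeries G 2 = ⊥ := Cfsg.Agent.S0572.result A B hAB
    have hVV : ⁅commutator G, commutator G⁆ = ⊥ := by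
      have h1 : derivedSeries G 1 = commutator G := by
        rw [derivedSeries_succ, derivedSeries_zero, commutator_def]
      rw [derivedSeries_succ, h1] at hder
      exact hder
    have hV : ∀ x ∈ commutator G, ∀ y ∈ commutator G, x * y = y * x := by
      intro x hx y hy
      have := (Subgroup.commutator_eq_bot_iff_le_centralizer.mp hVV) hx
      exact ((Subgroup.mem_centralizer_iff.mp this) y hy).symm
    have hV1 : commutator G ≠ ⊥ := by
      intro h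
      rw [commutator_eq_bot_iff_center_eq_top, hZ] at h
      exact bot_ne_top h
    have hnoA : ∀ N : Subgroup G, N.Normal → N ≤ A → N = ⊥ := fun N hN hNA => by
      by_contra h
      exact hno ⟨N, hN, h, Or.inl hNA⟩
    have hnoB : ∀ N : Subgroup G, N.Normal → N ≤ B → N = ⊥ := fun N hN hNB => by
      by_contra h
      exact hno ⟨N, hN, h, Or.inr hNB⟩
    have hACV := inf_centralizer_eq_bot_of_no_normal A B (commutator G) hA hB hAB hZ le_rfl hnoA
    have hBCV := inf_centralizer_eq_bot_of_no_normal B A (commutator G) hB hA hBA hZ le_rfl hnoB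
    have hle : ∀ C : Subgroup G, C ⊓ commutator G ≤
        C ⊓ Subgroup.centralizer ((commutator G : Subgroup G) : Set G) := by
      rintro C x ⟨hxC, hxV⟩
      exact ⟨hxC, Subgroup.mem_centralizer_iff.mpr (fun v hv => hV v hv x hxV)⟩
    have hAV0 : A ⊓ commutator G = ⊥ := by
      rw [eq_bot_iff, ← hACV]; exact hle A
    have hBV0 : B ⊓ commutator G = ⊥ := by
      rw [eq_bot_iff, ← hBCV]; exact hle B
    have hAVt := sup_eq_top_of_no_normal IH A B (commutator G) hA hB hAB hV1 hAV0 hBV0 hACV hBCV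
    have hBVt := sup_eq_top_of_no_normal IH B A (commutator G) hB hA hBA hV1 hBV0 hAV0 hBCV hACV
    exact center_ne_bot_of_two_complements A B (commutator G) hA hB hV hBA hAB0 hAVt hBVt hAV0
      hV1 hZ

end Cfsg.Agent.Lib.Helper14
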