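import Mathlib
import Cfsg.Prelude.Def_GeometricClasses
import Cfsg.Agent.Lib.Helper61.AschDefs
import Cfsg.Agent.Lib.Helper61.AschUDefs
import Cfsg.Agent.Lib.Helper04.AschUB6eDefs
import Cfsg.Agent.Lib.Helper19.UnitaryDet
import Cfsg.Agent.Lib.Helper51.FieldAutU1

/-!
# K-B6e-5 : `P (A ⊗ B) P⁻¹ ∈ GU_n(2)` forces `A ∈ GU_a(2)` and `B ∈ GU_b(2)` (for the standard tensor form structure)
-/

set_option autoImplicit false
set_option linter.unusedSectionVars false

namespace Cfsg.Agent.Lib.Helper14.AschU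

open Cfsg Cfsg.Geo Cfsg.Agent.Lib.Helper61.Asch Cfsg.Agent.Lib.Helper61.AschU Cfsg.Agent.Lib.Helper04.AschU
open scoped Matrix Kronecker MatrixGroups

variable {F : Type*} [Field F] [Fintype F]

theorem gram_herm (hF : Fintype.card F = 2 ^ 2) (a : ℕ) : gramMatrix (hermForm a F 2) = 1 := by
  ext i j
  unfold gramMatrix
  rw [Cfsg.Agent.Lib.Helper19.hermForm_single_single hF, Matrix.one_apply]

omit [Fintype F] in
theorem formOfGram_one {κ : Type} [Fintype κ] [DecidableEq κ] (σ : F → F) (x y : κ → F) :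
    formOfGram σ (1 : Matrix κ κ F) x y = ∑ p, x p * σ (y p) := by
  unfold formOfGram
  apply Finset.sum_congr rfl
  intro p _
  rw [Finset.sum_eq_single p]
  · rw [Matrix.one_apply_eq, mul_one]
  · intro b _ hb
    rw [Matrix.one_apply_ne (Ne.symm hb), mul_zero, zero_mul]
  · intro h
    exact absurd (Finset.mem_univ p) h

/-- the standard form on the tensor product coordinates -/
def stdT {κ : Type} [Fintype κ] (x y : κ → F) : F := ∑ p, x p * (y p) ^ 2

omit [Fintype F] in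
theorem stdT_single {κ : Type} [Fintype κ] [DecidableEq κ] (M : Matrix κ κ F) (q q' : κ) :
    stdT (M *ᵥ Pi.single q 1) (M *ᵥ Pi.single q' 1) = ∑ p, M p q * (M p q') ^ 2 := by
  unfold stdT
  rw [Matrix.mulVec_single_one, Matrix.mulVec_single_one]
  rfl

omit [Fintype F] in
theorem stdT_single_single {κ : Type} [Fintype κ] [DecidableEq κ] (q q' : κ) :
    stdT (Pi.single q (1 : F)) (Pi.single q' (1 : F)) = if q = q' then 1 else 0 := by
  unfold stdT
  rw [Finset.sum_eq_single q]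
  · by_cases h : q = q'
    · subst h; simp
    · rw [if_neg h, Pi.single_eq_same, Pi.single_eq_of_ne h]; simp
  · intro p _ hp
    rw [Pi.single_eq_of_ne hp, zero_mul]
  · intro h
    exact absurd (Finset.mem_univ q) h

variable {a b n : ℕ}

omit [Fintype F] in
theorem tensPair_mulVec {ι : Type} [Fintype ι] [DecidableEq ι] (e : ι ≃ Fin a × Fin b) (P : GL ι F)
    (A : GL (Fin a) F) (B : GL (Fin b) F) (x : Fin a × Fin b → F) :
    ((tensPair e P (A, B) : GL ι F) : Matrix ι ι F) *ᵥ ((P : Matrix ι ι F) *ᵥ (x ∘ e)) =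
      (P : Matrix ι ι F) *ᵥ
        ((((A : Matrix (Fin a) (Fin a) F) ⊗ₖ (B : Matrix (Fin b) (Fin b) F)) *ᵥ x) ∘ e) := by
  rw [tensPair_val, Matrix.mulVec_mulVec, Matrix.mul_assoc, Matrix.mul_assoc, ← Units.val_mul, inv_mul_cancel,
    Units.val_one, Matrix.mul_one, ← Matrix.mulVec_mulVec, Matrix.submatrix_mulVec_equiv]
  have hx : (x ∘ e) ∘ e.symm = x := by
    ext p
    simp
  rw [hx]

/-- the Kronecker product preserves the standard form -/
theorem kron_preserves (hF : Fintype.card F = 2 ^ 2) (e : Fin n ≃ Fin a × Fin b)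
    (P : GL (Fin n) F)
    (hT : IsTensorFormStructure (fun x : F => x ^ 2) (hermForm n F 2) (hermForm a F 2) (hermForm b F 2) e P)
    (A : GL (Fin a) F) (B : GL (Fin b) F) (h : tensPair e P (A, B) ∈ GU n F 2) (x y : Fin a × Fin b → F) :
    stdT (((A : Matrix (Fin a) (Fin a) F) ⊗ₖ (B : Matrix (Fin b) (Fin b) F)) *ᵥ x)
      (((A : Matrix (Fin a) (Fin a) F) ⊗ₖ (B : Matrix (Fin b) (Fin b) F)) *ᵥ y) = stdT x y := by
  obtain ⟨c, hc, hT⟩ := hT
  have hform : ∀ x y : Fin a × Fin b → F,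
      hermForm n F 2 ((P : Matrix (Fin n) (Fin n) F) *ᵥ (x ∘ e)) ((P : Matrix (Fin n) (Fin n) F) *ᵥ (y ∘ e)) =
        c * stdT x y := by
    intro x y
    rw [hT x y, gram_herm hF, gram_herm hF, Matrix.one_kronecker_one, formOfGram_one]
    rfl
  have h1 := (Cfsg.Agent.Lib.Helper19.mem_GU_iff _).mp h ((P : Matrix (Fin n) (Fin n) F) *ᵥ (x ∘ e))
    ((P : Matrix (Fin n) (Fin n) F) *ᵥ (y ∘ e))
  rw [tensPair_mulVec, tensPair_mulVec, hform, hform] at h1
  exact mul_left_cancel₀ hc h1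

/-- the entries of `Aᵀ A^σ` -/
def alphaM (A : Matrix (Fin a) (Fin a) F) (i j : Fin a) : F := ∑ p, A p i * (A p j) ^ 2

omit [Fintype F] in
theorem alpha_mul_beta (A : Matrix (Fin a) (Fin a) F) (B : Matrix (Fin b) (Fin b) F) (i j : Fin a) (k l : Fin b) :
    ∑ p, (A ⊗ₖ B) p (i, k) * ((A ⊗ₖ B) p (j, l)) ^ 2 = alphaM A i j * alphaM B k l := by
  unfold alphaM
  rw [Fintype.sum_prod_type, Finset.sum_mul_sum]
  apply Finset.sum_congr rfl
  intro p1 _
  apply Finset.sum_congr rfl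
  intro p2 _
  rw [Matrix.kroneckerMap_apply, Matrix.kroneckerMap_apply]
  ring

theorem alpha_diag_sq (hF : Fintype.card F = 2 ^ 2) (A : Matrix (Fin a) (Fin a) F) (i : Fin a) :
    (alphaM A i i) ^ 2 = alphaM A i i := by
  unfold alphaM
  rw [Cfsg.Agent.Lib.Helper19.sum_pow_q hF]
  apply Finset.sum_congr rfl
  intro p _
  have h4 : (A p i) ^ 4 = A p i := by
    have := FiniteField.pow_card (A p i)
    rw [hF] at this
    exact this
  calc (A p i * (A p i) ^ 2) ^ 2 = (A p i) ^ 4 * (A p i) ^ 2 := by ring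
    _ = A p i * (A p i) ^ 2 := by rw [h4]

theorem mem_GU_of_alpha (hF : Fintype.card F = 2 ^ 2) (A : GL (Fin a) F)
    (h : ∀ i j, alphaM (A : Matrix (Fin a) (Fin a) F) i j = if i = j then 1 else 0) : A ∈ GU a F 2 := by
  rw [Cfsg.Agent.Lib.Helper51.mem_GU_iff_mul (Cfsg.Agent.Lib.Helper19.frobQ hF)
    (Cfsg.Agent.Lib.Helper19.frobQ_apply hF)]
  ext i j
  rw [Matrix.mul_apply, Matrix.one_apply, ← h i j]
  unfold alphaM
  apply Finset.sum_congr rfl
  intro p _
  rw [Matrix.transpose_apply, Matrix.map_apply, Cfsg.Agent.Lib.Helper19.frobQ_apply]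

theorem mem_GU_of_tensPair_mem_GU (hF : Fintype.card F = 2 ^ 2) (ha : 0 < a) (hb : 0 < b) (e : Fin n ≃ Fin a × Fin b)
    (P : GL (Fin n) F)
    (hT : IsTensorFormStructure (fun x : F => x ^ 2) (hermForm n F 2) (hermForm a F 2) (hermForm b F 2) e P)
    (A : GL (Fin a) F) (B : GL (Fin b) F) (h : tensPair e P (A, B) ∈ GU n F 2) :
    A ∈ GU a F 2 ∧ B ∈ GU b F 2 := by
  have key : ∀ (i j : Fin a) (k l : Fin b),
      alphaM (A : Matrix (Fin a) (Fin a) F) i j * alphaM (B : Matrix (Fin b) (Fin b) F) k l =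
        if (i, k) = (j, l) then 1 else 0 := by
    intro i j k l
    have h1 := kron_preserves hF e P hT A B h (Pi.single (i, k) 1) (Pi.single (j, l) 1)
    rw [stdT_single, stdT_single_single, alpha_mul_beta] at h1
    exact h1
  set i0 : Fin a := ⟨0, ha⟩
  set k0 : Fin b := ⟨0, hb⟩
  have h00 := key i0 i0 k0 k0
  rw [if_pos rfl] at h00
  have hα : alphaM (A : Matrix (Fin a) (Fin a) F) i0 i0 = 1 := by
    have hsq := alpha_diag_sq hF (A : Matrix (Fin a) (Fin a) F) i0
    have hne : alphaM (A : Matrix (Fin a) (Fin a) F) i0 i0 ≠ 0 := by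
      intro h0
      rw [h0, zero_mul] at h00
      exact zero_ne_one h00
    have : alphaM (A : Matrix (Fin a) (Fin a) F) i0 i0 * (alphaM (A : Matrix (Fin a) (Fin a) F) i0 i0 - 1) = 0 := by
      rw [mul_sub, mul_one, ← sq, hsq, sub_self]
    rcases mul_eq_zero.mp this with h0 | h0
    · exact absurd h0 hne
    · exact sub_eq_zero.mp h0
  have hβ : alphaM (B : Matrix (Fin b) (Fin b) F) k0 k0 = 1 := by
    rw [hα, one_mul] at h00
    exact h00
  constructor
  · apply mem_GU_of_alpha hF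
    intro i j
    have h1 := key i j k0 k0
    rw [hβ, mul_one] at h1
    rw [h1]
    by_cases hij : i = j
    · subst hij; simp
    · rw [if_neg hij, if_neg]
      intro h2
      exact hij (Prod.mk.inj h2).1
  · apply mem_GU_of_alpha hF
    intro k l
    have h1 := key i0 i0 k l
    rw [hα, one_mul] at h1
    rw [h1]
    by_cases hkl : k = l
    · subst hkl; simp
    · rw [if_neg hkl, if_neg]
      intro h2
      exact hkl (Prod.mk.inj h2).2

end Cfsg.Agent.Lib.Helper14.AschU
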