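import Mathlib
import Cfsg.Agent.Lib.Helper15.BG1379Defs
import Cfsg.Agent.Lib.Helper11.BG144Glue
import Cfsg.Agent.Lib.Helper71.BG10Sub
import Cfsg.Agent.Lib.Helper71.BG11a
import Cfsg.Agent.Lib.Helper81.BG144R
import Cfsg.Agent.Lib.Helper01.BG134CJ
import Cfsg.Agent.Lib.Helper55.Uniq3
import Cfsg.Agent.S1350

/-!
# K-1379-V6 (keystone 137906, row S1379, architect helper15): the `τ₂` case of the covering.
`x ∈ N_σ - 1`, `r ∈ C_N(x) - 1` a `τ₂(N)`-element whose primes lie in `σ(L)` and with `C_G(r) ≤ N` uniquely: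
then `x r` lies in the tilde set of a conjugate of `L`.
-/

set_option autoImplicit false
set_option linter.unusedVariables false

namespace Cfsg.Agent.Lib.Helper14.BG1379

open Cfsg Subgroup Cfsg.Agent.Lib.Helper11.BG14D Cfsg.Agent.Lib.Helper11.BG144
  Cfsg.Agent.Lib.Helper15.BG1379

variable {G : Type*} [Group G] [Finite G]

/-- **LEAF V6 (137906).** -/
theorem cov_of_tau2 (hG : IsMinSimpleOddOrder G) {N : Subgroup G} (hN : IsCoatom N) {x r : G}
    (hx : x ∈ sigmaCore N) (hx1 : x ≠ 1) (hrN : r ∈ N) (hr1 : r ≠ 1) (hc : x * r = r * x)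
    (hτ : ∀ p : ℕ, p.Prime → p ∣ orderOf r → p ∈ tau2 N)
    (hL : ∃ L : Subgroup G, IsCoatom L ∧ ∀ p : ℕ, p.Prime → p ∣ orderOf r → p ∈ sigma L)
    (hC : centralizer ({r} : Set G) ≤ N ∧
      ∀ L : Subgroup G, IsCoatom L → centralizer ({r} : Set G) ≤ L → L = N) :
    Cov (x * r) := by
  obtain ⟨L, hLc, hLσ⟩ := hL
  -- `Y = ⟨r⟩` is a nontrivial `σ(L)`-group
  have hY1 : zpowers r ≠ ⊥ := by
    intro h
    exact hr1 (zpowers_eq_bot.mp h)
  have hYcard : Nat.card (zpowers r) = orderOf r := Nat.card_zpowers r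
  have hY : ∀ p : ℕ, p.Prime → p ∣ Nat.card (zpowers r) → p ∈ sigma L := by
    intro p hp hpd
    rw [hYcard] at hpd
    exact hLσ p hp hpd
  obtain ⟨h, hYL⟩ := Cfsg.Agent.Lib.Helper71.BG10.sigma_group_le_conj hG hLc
    (Cfsg.Agent.S1350.result hG L hLc).2.1 hY1 hY
  -- `L' = cj h L`
  have hL'c : IsCoatom (L.map (MulAut.conj h).toMonoidHom) := Cfsg.Agent.Lib.Helper55.isCoatom_cj h hLc
  have hσ' : ∀ p : ℕ, p ∈ sigma (L.map (MulAut.conj h).toMonoidHom) ↔ p ∈ sigma L := fun p =>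
    Cfsg.Agent.Lib.Helper01.BG134.mem_sigma_cj_iff h
  have hrσ : r ∈ sigmaCore (L.map (MulAut.conj h).toMonoidHom) := by
    have hle : zpowers r ≤ sigmaCore (L.map (MulAut.conj h).toMonoidHom) :=
      Cfsg.Agent.Lib.Helper71.BG10.le_of_isPiHallOf_normal
        (Cfsg.Agent.S1350.result hG _ hL'c).1
        (Cfsg.Agent.Lib.Helper71.BG11.le_normalizer_sigmaCore _) hYL
        (fun p hp hpd => (hσ' p).mpr (hY p hp hpd))
    exact hle (mem_zpowers r)
  -- `C_G(r)` is not contained in `L'`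
  have hnot : ¬ centralizer ({r} : Set G) ≤ L.map (MulAut.conj h).toMonoidHom := by
    intro hle
    have hLN := hC.2 _ hL'c hle
    have hord : orderOf r ≠ 1 := by
      intro h1
      exact hr1 (orderOf_eq_one_iff.mp h1)
    obtain ⟨p, hp, hpd⟩ := Nat.exists_prime_and_dvd hord
    have h1 : p ∉ sigma N := (hτ p hp hpd).2.1
    apply h1
    rw [← hLN]
    exact (hσ' p).mpr (hLσ p hp hpd)
  obtain ⟨N', hS⟩ := hB_main hG _ hL'c r hrσ hr1 hnot
  have hN' : N' = N := hC.2 N' hS.coatom hS.cent_le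
  have hsup := Cfsg.Agent.Lib.Helper81.BG144.supportR_eq (hC_main hG) hS
  have hxs : x ∈ supportR (L.map (MulAut.conj h).toMonoidHom) r := by
    rw [hsup, hN']
    refine ⟨hx, ?_⟩
    show x ∈ centralizer ({r} : Set G)
    rw [mem_centralizer_iff]
    intro y hy
    rw [Set.mem_singleton_iff.mp hy]
    exact hc.symm
  refine ⟨_, hL'c, r, ⟨hrσ, ?_⟩, x, hxs, 1, ?_⟩
  · simpa using hr1
  · rw [hc]
    simp

end Cfsg.Agent.Lib.Helper14.BG1379
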