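import Mathlib
import Cfsg.Agent.Lib.Helper16.BG1363Defs
import Cfsg.Agent.Lib.Helper55.Basic
import Cfsg.Agent.Lib.Helper80.PGroup

/-!
# K-1435-P16 (keystone 143521, row S1435, architect helper31): `T₀ ≤ M*` is impossible

Pure group theory: `K` of prime order `p` inside a `p`-group `Q` normal in `Ms`, `T₀ ≤ Ms` of prime
order normalized by `K` with `C_{T₀}(k) = 1` for `k ∈ K - 1`: `[T₀, k] ≤ T₀ ⊓ Q`, so `T₀ ≤ Q`, and
then `T₀ K` is a `p`-group in which `T₀` is normal of order `p`, hence central.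
-/

set_option autoImplicit false
set_option linter.unusedVariables false
set_option linter.style.haveILetI false

namespace Cfsg.Agent.Lib.Helper14.BG1435

open Cfsg Subgroup Cfsg.Agent.Lib.Helper55 Cfsg.Agent.Lib.Helper11.BG14D Cfsg.Agent.Lib.Helper16.BG1363

variable {G : Type*} [Group G] [Finite G]

/-- a non-identity element of a subgroup of prime order generates it -/
theorem le_of_mem_of_card_prime {T X : Subgroup G} (hT : (Nat.card T).Prime) {c : G} (hcT : c ∈ T)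
    (hc1 : c ≠ 1) (hcX : c ∈ X) : T ≤ X := by
  have hz : zpowers c ≤ T := zpowers_le.mpr hcT
  have hcard : Nat.card (zpowers c) = Nat.card T := by
    have hd : Nat.card (zpowers c) ∣ Nat.card T := Subgroup.card_dvd_of_le hz
    rcases (Nat.dvd_prime hT).1 hd with h | h
    · rw [Nat.card_zpowers, orderOf_eq_one_iff] at h
      exact absurd h hc1
    · exact h
  have heq : zpowers c = T := Subgroup.eq_of_le_of_card_ge hz (le_of_eq hcard.symm)
  rw [← heq]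
  exact zpowers_le.mpr hcX

/-- **KEYSTONE 143521.** -/
theorem false_T0_of_le_star {K Ms Q T₀ : Subgroup G} (hK1 : K ≠ ⊥) (hp : (Nat.card K).Prime)
    (hQMs : Q ≤ Ms) (hQn : Ms ≤ normalizer (Q : Set G)) (hQp : IsPGroup (Nat.card K) Q) (hKQ : K ≤ Q)
    (hTp : (Nat.card T₀).Prime) (hKT : K ≤ normalizer (T₀ : Set G))
    (hTK : ∀ x ∈ K, x ≠ 1 → T₀ ⊓ centralizer ({x} : Set G) = ⊥) (hTMs : T₀ ≤ Ms) : False := by
  obtain ⟨⟨k, hkK⟩, hk1'⟩ := Subgroup.ne_bot_iff_exists_ne_one.1 hK1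
  have hk1 : k ≠ 1 := fun h => hk1' (Subtype.ext h)
  have hT1 : T₀ ≠ ⊥ := by
    intro h
    rw [h, Subgroup.card_bot] at hTp
    exact Nat.not_prime_one hTp
  -- it suffices that `T₀` centralizes `k`
  have hfin : T₀ ≤ centralizer ({k} : Set G) → False := by
    intro hle
    have := hTK k hkK hk1
    rw [inf_eq_left.mpr hle] at this
    exact hT1 this
  -- the commutators `τ k τ⁻¹ k⁻¹` lie in `T₀ ⊓ Q`
  have hcomm : ∀ τ ∈ T₀, τ * k * τ⁻¹ * k⁻¹ ∈ T₀ ∧ τ * k * τ⁻¹ * k⁻¹ ∈ Q := by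
    intro τ hτ
    constructor
    · have h1 : k * τ⁻¹ * k⁻¹ ∈ T₀ :=
        (Subgroup.mem_normalizer_iff.1 (hKT hkK) τ⁻¹).1 (T₀.inv_mem hτ)
      have : τ * k * τ⁻¹ * k⁻¹ = τ * (k * τ⁻¹ * k⁻¹) := by group
      rw [this]
      exact T₀.mul_mem hτ h1
    · have h1 : τ * k * τ⁻¹ ∈ Q :=
        (Subgroup.mem_normalizer_iff.1 (hQn (hTMs hτ)) k).1 (hKQ hkK)
      exact Q.mul_mem h1 (Q.inv_mem (hKQ hkK))
  by_cases hall : ∀ τ ∈ T₀, τ * k * τ⁻¹ * k⁻¹ = 1
  · apply hfin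
    intro τ hτ
    rw [Subgroup.mem_centralizer_iff]
    intro x hx
    rw [Set.mem_singleton_iff] at hx
    subst hx
    have h := hall τ hτ
    have : τ * x = x * τ := by
      have h2 : τ * x * τ⁻¹ * x⁻¹ * (x * τ) = 1 * (x * τ) := by rw [h]
      rw [one_mul] at h2
      rw [← h2]
      group
    exact this.symm
  · obtain ⟨τ, hτ, hne⟩ : ∃ τ ∈ T₀, τ * k * τ⁻¹ * k⁻¹ ≠ 1 := by
      by_contra h
      apply hall
      intro τ hτ
      by_contra h2
      exact h ⟨τ, hτ, h2⟩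
    obtain ⟨hcT, hcQ⟩ := hcomm τ hτ
    have hTQ : T₀ ≤ Q := le_of_mem_of_card_prime hTp hcT hne hcQ
    -- `T₀ ⊔ K` is a `p`-group
    haveI : Fact (Nat.card K).Prime := ⟨hp⟩
    have hPQ : T₀ ⊔ K ≤ Q := sup_le hTQ hKQ
    have hPp : IsPGroup (Nat.card K) ↥(T₀ ⊔ K) := hQp.to_le hPQ
    -- `|T₀| = p`
    have hTcard : Nat.card T₀ = Nat.card K := by
      obtain ⟨n, hn⟩ := (IsPGroup.iff_card (p := Nat.card K)).1 (hQp.to_le hTQ)
      have hd : Nat.card T₀ ∣ Nat.card K := by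
        apply hTp.dvd_of_dvd_pow (n := n)
        rw [← hn]
      exact (Nat.prime_dvd_prime_iff_eq hTp hp).1 hd
    -- `T₀` is normal in `T₀ ⊔ K`
    have hnorm : T₀ ⊔ K ≤ normalizer (T₀ : Set G) := sup_le Subgroup.le_normalizer hKT
    haveI hN : (T₀.subgroupOf (T₀ ⊔ K)).Normal :=
      (Subgroup.normal_subgroupOf_iff_le_normalizer le_sup_left).mpr hnorm
    have hNcard : Nat.card (T₀.subgroupOf (T₀ ⊔ K)) = Nat.card K := by
      rw [← hTcard]
      exact Nat.card_congr (Subgroup.subgroupOfEquivOfLe le_sup_left).toEquiv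
    have hcen := Cfsg.Agent.Lib.Helper80.le_center_of_normal_of_card_prime hPp
      (T₀.subgroupOf (T₀ ⊔ K)) hNcard
    apply hfin
    intro σ hσ
    rw [Subgroup.mem_centralizer_iff]
    intro x hx
    rw [Set.mem_singleton_iff] at hx
    subst hx
    have hσP : σ ∈ T₀ ⊔ K := (le_sup_left : T₀ ≤ T₀ ⊔ K) hσ
    have hxP : x ∈ T₀ ⊔ K := (le_sup_right : K ≤ T₀ ⊔ K) hkK
    have hmem : (⟨σ, hσP⟩ : ↥(T₀ ⊔ K)) ∈ T₀.subgroupOf (T₀ ⊔ K) := Subgroup.mem_subgroupOf.mpr hσ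
    have hc := Subgroup.mem_center_iff.1 (hcen hmem) ⟨x, hxP⟩
    exact congrArg Subtype.val hc

end Cfsg.Agent.Lib.Helper14.BG1435
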