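import Mathlib
import Cfsg.Agent.S1350
import Cfsg.Agent.Lib.Helper12.CNMaxSub
import Cfsg.Agent.Lib.Helper13.BG12A
import Cfsg.Agent.Lib.Helper13.BG12B
import Cfsg.Agent.Lib.Helper55.SylowIn
import Cfsg.Agent.Lib.Helper71.BG11a
import Cfsg.Agent.Lib.Helper14.BG134G8

/-!
# K-S1353-F4 : `C_{Mσ}(S₀)` acts faithfully on an `E_{s²}` containing `S₀` (`s ∈ τ₃(M)`)
-/

set_option autoImplicit false
set_option linter.unusedSectionVars false
set_option linter.style.haveILetI false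

namespace Cfsg.Agent.Lib.Helper14.BG14

open Cfsg Cfsg.Agent.Lib.Helper55 Cfsg.Agent.Lib.Helper14.BG134

variable {G : Type*} [Group G] [Finite G]

theorem cent_inf_elemAb_eq_bot (hG : IsMinSimpleOddOrder G) {M S₀ A : Subgroup G} (hM : IsCoatom M)
    {s : ℕ} [Fact s.Prime] (hs : s ∈ tau3 M) (hS₀M : S₀ ≤ M) (hS₀c : Nat.card S₀ = s)
    (hS₀A : S₀ ≤ A) (hA : IsElementaryAbelian s A) (hAc : Nat.card A = s ^ 2)
    (hQ : ∀ (Mstar Y : Subgroup G) (t : ℕ) [Fact t.Prime], IsCoatom Mstar → Mstar ≠ M → t ∈ sigma M →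
      IsPGroup t Y → Y ≠ ⊥ → Y ≤ M → Subgroup.normalizer (Y : Set G) ≤ Mstar →
      IsComplIn (M ⊓ Mstar) (sigmaCore Mstar) Mstar) :
    sigmaCore M ⊓ Subgroup.centralizer (S₀ : Set G) ⊓ Subgroup.centralizer (A : Set G) = ⊥ := by
  have hsp : s.Prime := Fact.out
  by_contra hD
  have hS₀p : IsPGroup s S₀ := IsPGroup.of_card (n := 1) (by rw [hS₀c, pow_one])
  have hS₀1 : S₀ ≠ ⊥ := by
    intro h
    rw [h, Subgroup.card_bot] at hS₀c
    exact hsp.one_lt.ne hS₀c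
  have hs2 : s ≠ 2 := ms_prime_ne_two hG hS₀p hS₀1
  have hr1 : PRankLE s 1 M := hs.2.2.2
  have key : ∀ B : Subgroup G, B ≤ M → IsElementaryAbelian s B → Nat.card B = s ^ 2 → False := by
    intro B hBM hB hBc
    exact not_isCyclic_of_elemAb_sq hsp hB hBc
      (Cfsg.Agent.Lib.Helper13.BG12.isCyclic_of_pRankLE_one hs2 hr1 hBM (isPGroup_of_elemAb hB))
  have hcardD : Nat.card ↥(sigmaCore M ⊓ Subgroup.centralizer (S₀ : Set G) ⊓
      Subgroup.centralizer (A : Set G)) ≠ 1 := by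
    intro h
    exact hD (Subgroup.card_eq_one.mp h)
  obtain ⟨t, htp, htd⟩ := Nat.exists_prime_and_dvd hcardD
  haveI : Fact t.Prime := ⟨htp⟩
  obtain ⟨y, hy⟩ := exists_prime_orderOf_dvd_card' t htd
  have hyo : orderOf (y : G) = t := by rw [Subgroup.orderOf_coe]; exact hy
  have hYD : Subgroup.zpowers (y : G) ≤ sigmaCore M ⊓ Subgroup.centralizer (S₀ : Set G) ⊓
      Subgroup.centralizer (A : Set G) := by
    rw [Subgroup.zpowers_le]; exact y.2
  have hYc : Nat.card (Subgroup.zpowers (y : G)) = t := by rw [Nat.card_zpowers, hyo]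
  have hYt : IsPGroup t (Subgroup.zpowers (y : G)) :=
    IsPGroup.of_card (n := 1) (by rw [hYc, pow_one])
  have hY1 : Subgroup.zpowers (y : G) ≠ ⊥ := by
    intro h
    rw [h, Subgroup.card_bot] at hYc
    exact htp.one_lt.ne hYc
  have hYσ : Subgroup.zpowers (y : G) ≤ sigmaCore M := hYD.trans (inf_le_left.trans inf_le_left)
  have hYM : Subgroup.zpowers (y : G) ≤ M :=
    hYσ.trans (Cfsg.Agent.Lib.Helper71.BG11.sigmaCore_le M)
  have htσ : t ∈ sigma M := by
    apply Cfsg.Agent.Lib.Helper71.BG11.sigmaCore_pi hG hM htp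
    rw [← hYc]
    exact Subgroup.card_dvd_of_le hYσ
  have hYtop : Subgroup.zpowers (y : G) ≠ ⊤ := fun h => hM.1 (top_le_iff.mp (h ▸ hYM))
  obtain ⟨Ms, hMs, hNY⟩ := Cfsg.Agent.Lib.Helper12.CNMaxSub.exists_coatom_normalizer_le hG hY1 hYtop
  have hAC : A ≤ Subgroup.centralizer ((Subgroup.zpowers (y : G) : Subgroup G) : Set G) := by
    intro a ha
    rw [Subgroup.mem_centralizer_iff]
    intro z hz
    exact ((Subgroup.mem_centralizer_iff.mp (hYD hz).2) a ha).symm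
  have hAN : A ≤ Subgroup.normalizer ((Subgroup.zpowers (y : G) : Subgroup G) : Set G) :=
    hAC.trans (Subgroup.centralizer_le_normalizer _)
  have hAMs : A ≤ Ms := hAN.trans hNY
  by_cases hne : Ms = M
  · exact key A (hne ▸ hAMs) hA hAc
  · have hcompl := hQ Ms (Subgroup.zpowers (y : G)) t hMs hne htσ hYt hY1 hYM hNY
    have hHall := (Cfsg.Agent.S1350.result hG Ms hMs).1
    have hS₀I : S₀ ≤ M ⊓ Ms := le_inf hS₀M (hS₀A.trans hAMs)
    have hsσ : s ∉ sigma Ms := by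
      apply Cfsg.Agent.Lib.Helper13.BG12.complIn_prime_not_mem_sigma hHall hcompl s hsp
      rw [← hS₀c]
      exact Subgroup.card_dvd_of_le hS₀I
    have hK : ∀ p : ℕ, p.Prime → p ∣ Nat.card A → p ∉ sigma Ms := by
      intro p hp hpd
      rw [hAc] at hpd
      have := (Nat.prime_dvd_prime_iff_eq hp hsp).mp (hp.dvd_of_dvd_pow hpd)
      rw [this]
      exact hsσ
    obtain ⟨E₁, hE₁, hAE₁⟩ := Cfsg.Agent.Lib.Helper13.BG12.exists_complIn_ge hG hMs hHall hAMs hK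
    obtain ⟨x, -, hx⟩ := Cfsg.Agent.Lib.Helper13.BG12.complIn_conj hG hMs hHall hcompl hE₁
    have hBle : cj x A ≤ M ⊓ Ms := by
      rw [← hx]
      exact Subgroup.map_mono hAE₁
    exact key (cj x A) (hBle.trans inf_le_left) (isElementaryAbelian_cj' hA x)
      (by rw [card_cj, hAc])

end Cfsg.Agent.Lib.Helper14.BG14
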