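import Cfsg.Agent.Lib.Helper14.BG151G
import Cfsg.Agent.Lib.Helper01.BG151C

/-!
# K-151-G (keystone 135508; parallel hand): `structure_of_decomp` with the EXACT spec signature (leaf C plugged in).
-/

set_option autoImplicit false

namespace Cfsg.Agent.Lib.Helper14.BG151

open Cfsg

/-- K-151-G (transfer of CORE to `M`) -/
theorem structure_of_decomp {G : Type*} [Group G] [Finite G]
    (hG : IsMinSimpleOddOrder G) {M : Subgroup G} (hM : IsCoatom M) {K : Subgroup G}
    (hKU : IsSigmaDecomposition M K ⊥) (hK1 : K ≠ ⊥)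
    (hpr : (Nat.card ↥(sigmaCore M ⊓ Subgroup.centralizer (K : Set G))).Prime)
    (hnn : ¬ Group.IsNilpotent (sigmaCore M)) :
    ∃ Q D : Subgroup G, M ≤ Subgroup.normalizer (Q : Set G) ∧
      IsPGroup (Nat.card ↥(sigmaCore M ⊓ Subgroup.centralizer (K : Set G))) Q ∧
      (Nat.card Q).Coprime (Q.relIndex M) ∧
      sigmaCore M ⊓ Subgroup.centralizer (K : Set G) ≤ Q ∧ Q ⊔ D = sigmaCore M ∧
      Group.IsNilpotent D :=
  structure_of_decomp_of hG hM hKU hK1 hpr hnn
    (fun hodd H K' _ h1 h2 h3 h4 q hq h5 h6 h7 =>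
      Cfsg.Agent.Lib.Helper01.BG151.core hodd H K' h1 h2 h3 h4 q hq h5 h6 h7)

end Cfsg.Agent.Lib.Helper14.BG151
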