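import Mathlib
import Cfsg.Agent.Lib.Helper70.BQSDefs

/-! K-BQS leaf B1 `propB_of_mulEquiv` (S3912 pack, architect helper70). -/

set_option autoImplicit false

namespace Cfsg.Agent.Lib.Helper14.BQS

open Cfsg Cfsg.Agent.Lib.Helper70.BQS

/-- B1 (EASY). Property B is invariant under isomorphism. -/
theorem propB_of_mulEquiv {G : Type*} [Group G] {H : Type*} [Group H] (e : G ≃* H) (hB : PropB G) :
    PropB H := by
  intro A B hA hB' hcard
  have comm_comap : ∀ (X : Subgroup H), IsMulCommutative ↥X →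
      IsMulCommutative ↥(X.comap e.toMonoidHom) := by
    intro X hX
    refine ⟨⟨fun x y => ?_⟩⟩
    apply Subtype.ext
    apply e.injective
    have h := hX.is_comm.comm ⟨e x.1, x.2⟩ ⟨e y.1, y.2⟩
    have h' : e x.1 * e y.1 = e y.1 * e x.1 := congrArg Subtype.val h
    simp only [Subgroup.coe_mul, map_mul]
    exact h'
  have card_comap : ∀ (X : Subgroup H), Nat.card ↥(X.comap e.toMonoidHom) = Nat.card ↥X := by
    intro X
    exact Nat.card_congr (e.toEquiv.subtypeEquiv (fun _ => Iff.rfl))
  obtain ⟨g, hg⟩ := hB (A.comap e.toMonoidHom) (B.comap e.toMonoidHom) (comm_comap A hA)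
    (comm_comap B hB') (by rw [card_comap, card_comap, hcard])
  refine ⟨e g, ?_⟩
  ext y
  constructor
  · intro hy
    have h1 : e.symm y ∈ B.comap e.toMonoidHom := by
      change e (e.symm y) ∈ B
      rw [e.apply_symm_apply]; exact hy
    rw [hg] at h1
    obtain ⟨x, hx, hxy⟩ := h1
    refine ⟨e x, hx, ?_⟩
    have h2 : g * x * g⁻¹ = e.symm y := by simpa using hxy
    have h3 : e (g * x * g⁻¹) = y := by rw [h2, e.apply_symm_apply]
    simpa using h3
  · rintro ⟨a, ha, hay⟩
    have hx : e.symm a ∈ A.comap e.toMonoidHom := by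
      change e (e.symm a) ∈ A
      rw [e.apply_symm_apply]; exact ha
    have h1 : (MulAut.conj g).toMonoidHom (e.symm a) ∈ B.comap e.toMonoidHom := by
      rw [hg]; exact ⟨e.symm a, hx, rfl⟩
    have h2 : e (g * e.symm a * g⁻¹) ∈ B := by simpa using h1
    have h3 : e (g * e.symm a * g⁻¹) = y := by
      rw [map_mul, map_mul, e.apply_symm_apply, map_inv]
      simpa using hay
    rw [← h3]; exact h2

end Cfsg.Agent.Lib.Helper14.BQS
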