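import Mathlib
import Cfsg.Agent.Lib.Helper38.CD3.Defs
import Cfsg.Agent.Lib.Helper83.OneNonlinear

set_option autoImplicit false

/-!
# K-CD3 LEAF N2 (keystone 446002, S4460): characters of `G / H'` have `p`-power degree (Ito)
-/

namespace Cfsg.Agent.Lib.Helper14.CD3

open Cfsg Cfsg.Agent.Lib.Helper97 Cfsg.Agent.Lib.Helper38.CD3
open scoped commutatorElement

universe u

variable {G : Type u} [Group G] [Finite G]

/-- 446002 N2 : characters of `G / H'` have `p`-power degree (Ito). -/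
theorem ppow_degree_quot (p : ℕ) (hp : p.Prime) (H : Subgroup G) [H.Normal]
    (hidx : ∃ k : ℕ, H.index = p ^ k) (χ : IrrCharacter (G ⧸ ⁅H, H⁆)) :
    ∃ j : ℕ, charDegree (χ : G ⧸ ⁅H, H⁆ → ℂ) = p ^ j := by
  obtain ⟨k, hk⟩ := hidx
  have hsurj : Function.Surjective (QuotientGroup.mk' ⁅H, H⁆) := QuotientGroup.mk'_surjective _
  haveI hAn : (H.map (QuotientGroup.mk' ⁅H, H⁆)).Normal :=
    Subgroup.Normal.map inferInstance _ hsurj
  have hab : ∀ a ∈ H.map (QuotientGroup.mk' ⁅H, H⁆), ∀ b ∈ H.map (QuotientGroup.mk' ⁅H, H⁆),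
      a * b = b * a := by
    rintro _ ⟨x, hx, rfl⟩ _ ⟨y, hy, rfl⟩
    rw [← map_mul, ← map_mul]
    show (QuotientGroup.mk (x * y) : G ⧸ ⁅H, H⁆) = QuotientGroup.mk (y * x)
    rw [QuotientGroup.eq]
    have h1 : ⁅y⁻¹, x⁻¹⁆ ∈ ⁅H, H⁆ :=
      Subgroup.commutator_mem_commutator (H.inv_mem hy) (H.inv_mem hx)
    have h2 : (x * y)⁻¹ * (y * x) = ⁅y⁻¹, x⁻¹⁆ := by
      rw [commutatorElement_def]; group
    rw [h2]; exact h1
  have hker : (QuotientGroup.mk' ⁅H, H⁆).ker ≤ H := by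
    rw [QuotientGroup.ker_mk']
    exact Subgroup.commutator_le_left H H
  have hAidx : (H.map (QuotientGroup.mk' ⁅H, H⁆)).index = H.index :=
    Subgroup.index_map_eq H hsurj hker
  have hdvd := Cfsg.Agent.Lib.Helper83.ito_charDegree χ (H.map (QuotientGroup.mk' ⁅H, H⁆)) hab
  rw [hAidx, hk] at hdvd
  obtain ⟨j, _, hj⟩ := (Nat.dvd_prime_pow hp).1 hdvd
  exact ⟨j, hj⟩

end Cfsg.Agent.Lib.Helper14.CD3
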