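import Mathlib
import Cfsg.Agent.Lib.Helper38.CD3.Defs
import Cfsg.Agent.Lib.Helper83.CharMisc

set_option autoImplicit false

/-!
# K-CD3 LEAF N8 (keystone 446008, S4460): Taketa's argument for three character degrees

`ThreeDeg G m n`, `m ≤ n`, all irreducible characters monomial  =>  `derivedSeries G 3 = ⊥`.
-/

namespace Cfsg.Agent.Lib.Helper14.CD3

open Cfsg Cfsg.Agent.Lib.Helper97 Cfsg.Agent.Lib.Helper38.CD3
open Cfsg.Agent.Lib.Helper80 Cfsg.Agent.Lib.Helper85 Cfsg.Agent.Lib.Helper83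
open scoped ComplexConjugate commutatorElement

universe u

/-- If every irreducible character of degree `≤ d` takes at `y` its value at `1`, then `y` lies in every
subgroup of index `d + 1` (`d ≥ 1`). -/
theorem n8_mem_of_constituents {G : Type*} [Group G] [Fintype G] (H : Subgroup G) (d : ℕ)
    (hd : 1 ≤ d) (hidx : H.index = d + 1) (y : G)
    (hy : ∀ ψ : IrrCharacter G, charDegree (ψ : G → ℂ) ≤ d →
      (ψ : G → ℂ) y = (ψ : G → ℂ) 1) : y ∈ H := by
  classical
  letI : Fintype (IrrCharacter G) := Fintype.ofFinite _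
  apply td_mem_of_indFun_one_eq
  have hΦ : IsCharacter G (Cfsg.indFun H fun _ => (1 : ℂ)) :=
    Cfsg.Agent.Lib.Helper34.isCharacter_indFun H isCharacter_one
  have hdec := char_eq_sum_irrMult hΦ
  rw [congrFun hdec y, congrFun hdec 1]
  simp only [Finset.sum_apply, Pi.smul_apply, smul_eq_mul]
  apply Finset.sum_congr rfl
  intro ψ _
  by_cases hmψ : irrMult (Cfsg.indFun H fun _ => (1 : ℂ)) ψ = 0
  · rw [hmψ]; simp
  · obtain ⟨k, hk⟩ := char_one_eq_nat (IrrCharacter_isCharacter ψ)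
    have hkd := td_perm_const_degree H d hd hidx ψ hmψ k hk
    have hkdeg : charDegree (ψ : G → ℂ) = k := by
      have := charDegree_cast (IrrCharacter_isCharacter ψ)
      rw [hk] at this
      exact_mod_cast this
    rw [hy ψ (by omega)]

/-- A character induced from a linear character of `U` has `⁅N, N⁆` in its kernel, for every normal
subgroup `N ≤ U`. -/
theorem n8_ker_of_le {G : Type*} [Group G] [Fintype G] (χ : G → ℂ) (hχ : IsIrrCharacter G χ)
    (U : Subgroup G) (lam : U → ℂ) (hlam : IsCharacter U lam) (h1 : lam 1 = 1)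
    (hind : Cfsg.indFun U lam = χ) (N : Subgroup G) [hN : N.Normal] (hNU : N ≤ U) :
    ∀ x ∈ ⁅N, N⁆, χ x = χ 1 := by
  classical
  have hχc := isCharacter_of_irr hχ
  have hker : ⁅N, N⁆ ≤ charKer hχc := by
    rw [Subgroup.commutator_le]
    intro y₁ hy₁ y₂ hy₂
    rw [mem_charKer]
    have hval : ∀ c : G, (∀ g : G, ∃ hc : g⁻¹ * c * g ∈ U, lam ⟨g⁻¹ * c * g, hc⟩ = 1) →
        χ c = (Nat.card U : ℂ)⁻¹ * (Fintype.card G : ℂ) := by
      intro c hc
      rw [← hind, Cfsg.Agent.Lib.Helper04.indFun_apply]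
      congr 1
      have : ∀ g : G, Cfsg.extendByZero U lam (g⁻¹ * c * g) = 1 := by
        intro g
        obtain ⟨hc1, hc2⟩ := hc g
        rw [Cfsg.Agent.Lib.Helper04.extendByZero_apply_of_mem _ _ _ hc1, hc2]
      rw [Finset.sum_congr rfl fun g _ => this g]
      simp
    rw [hval ⁅y₁, y₂⁆, hval 1]
    · intro g
      refine ⟨by simp, ?_⟩
      have : (⟨g⁻¹ * 1 * g, by simp⟩ : U) = 1 := by
        apply Subtype.ext; simp
      rw [this, h1]
    · intro g
      have h1' : g⁻¹ * y₁ * g ∈ U := by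
        apply hNU
        have := hN.conj_mem y₁ hy₁ g⁻¹
        simpa using this
      have h2 : g⁻¹ * y₂ * g ∈ U := by
        apply hNU
        have := hN.conj_mem y₂ hy₂ g⁻¹
        simpa using this
      have heq : g⁻¹ * ⁅y₁, y₂⁆ * g = ⁅g⁻¹ * y₁ * g, g⁻¹ * y₂ * g⁆ := by
        simp only [commutatorElement_def]; group
      have hmem : g⁻¹ * ⁅y₁, y₂⁆ * g ∈ U := by
        rw [heq, commutatorElement_def]
        exact U.mul_mem (U.mul_mem (U.mul_mem h1' h2) (U.inv_mem h1')) (U.inv_mem h2)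
      refine ⟨hmem, ?_⟩
      have h3 : (⟨g⁻¹ * ⁅y₁, y₂⁆ * g, hmem⟩ : U) =
          ⁅(⟨g⁻¹ * y₁ * g, h1'⟩ : U), (⟨g⁻¹ * y₂ * g, h2⟩ : U)⁆ := by
        apply Subtype.ext
        show g⁻¹ * ⁅y₁, y₂⁆ * g = _
        rw [heq]
        simp [commutatorElement_def]
      rw [h3]
      apply char_deg_one_commutator hlam h1
      rw [commutator_def]
      exact Subgroup.commutator_mem_commutator (Subgroup.mem_top _) (Subgroup.mem_top _)
  intro x hx
  exact (mem_charKer hχc x).1 (hker hx)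

/-- The Taketa step: a monomial irreducible character `χ` of degree `≥ 2` such that all irreducible
characters of smaller degree are trivial on `derivedSeries G d` is trivial on
`derivedSeries G (d + 1)`. -/
theorem n8_mono_step {G : Type*} [Group G] [Fintype G] (d : ℕ) (χ : G → ℂ)
    (hχ : IsIrrCharacter G χ) (U : Subgroup G) (lam : U → ℂ) (hlam : IsCharacter U lam)
    (h1 : lam 1 = 1) (hind : Cfsg.indFun U lam = χ) (hdeg2 : 2 ≤ charDegree χ)
    (hlow : ∀ ψ : IrrCharacter G, charDegree (ψ : G → ℂ) < charDegree χ →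
      ∀ y ∈ derivedSeries G d, (ψ : G → ℂ) y = (ψ : G → ℂ) 1) :
    ∀ x ∈ derivedSeries G (d + 1), χ x = χ 1 := by
  have hχc := isCharacter_of_irr hχ
  have hcast := charDegree_cast hχc
  have hidx : U.index = charDegree χ := by
    have h2 : χ 1 = (U.index : ℂ) * lam 1 := by rw [← hind, indFun_apply_one]
    rw [h1, mul_one, ← hcast] at h2
    exact_mod_cast h2.symm
  have hsub : derivedSeries G d ≤ U := by
    intro y hy
    apply n8_mem_of_constituents U (charDegree χ - 1) (by omega) (by omega) y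
    intro ψ hψ
    exact hlow ψ (by omega) y hy
  haveI : (derivedSeries G d).Normal := derivedSeries_normal G d
  rw [derivedSeries_succ]
  exact n8_ker_of_le χ hχ U lam hlam h1 hind (derivedSeries G d) hsub

variable {G : Type u} [Group G] [Finite G]

/-- 446008 N8 : Taketa for three degrees. -/
theorem taketa_three [Fintype G] {m n : ℕ} (h : ThreeDeg G m n) (hmn : m ≤ n)
    (hM : ∀ χ : G → ℂ, IsIrrCharacter G χ →
      ∃ (U : Subgroup G) (lam : U → ℂ), IsCharacter U lam ∧ lam 1 = 1 ∧ indFun U lam = χ) :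
    derivedSeries G 3 = ⊥ := by
  classical
  have ha : ∀ ψ : IrrCharacter G, charDegree (ψ : G → ℂ) = 1 →
      ∀ y ∈ derivedSeries G 1, (ψ : G → ℂ) y = (ψ : G → ℂ) 1 := by
    intro ψ hψ y hy
    have hc := IrrCharacter_isCharacter ψ
    have h1 : (ψ : G → ℂ) 1 = 1 := by rw [← charDegree_cast hc, hψ]; simp
    rw [derivedSeries_one] at hy
    rw [char_deg_one_commutator hc h1 hy, h1]
  have h21 : derivedSeries G 2 ≤ derivedSeries G 1 := derivedSeries_antitone G (by norm_num)
  have h32 : derivedSeries G 3 ≤ derivedSeries G 2 := derivedSeries_antitone G (by norm_num)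
  have hstep : ∀ (d : ℕ) (χ : IrrCharacter G), 2 ≤ charDegree (χ : G → ℂ) →
      (∀ ψ : IrrCharacter G, charDegree (ψ : G → ℂ) < charDegree (χ : G → ℂ) →
        ∀ y ∈ derivedSeries G d, (ψ : G → ℂ) y = (ψ : G → ℂ) 1) →
      ∀ x ∈ derivedSeries G (d + 1), (χ : G → ℂ) x = (χ : G → ℂ) 1 := by
    intro d χ h2 hlow
    obtain ⟨U, lam, hlam, hl1, hind⟩ := hM χ.1 χ.2
    exact n8_mono_step d χ.1 χ.2 U lam hlam hl1 hind h2 hlow
  have hb : ∀ ψ : IrrCharacter G, charDegree (ψ : G → ℂ) = m →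
      ∀ y ∈ derivedSeries G 2, (ψ : G → ℂ) y = (ψ : G → ℂ) 1 := by
    intro ψ hψ y hy
    by_cases hm2 : 2 ≤ m
    · refine hstep 1 ψ (by omega) ?_ y hy
      intro φ hφ z hz
      apply ha φ _ z hz
      rcases h φ with h1 | h1 | h1 <;> omega
    · have hpos := irr_charDegree_pos ψ
      exact ha ψ (by omega) y (h21 hy)
  have hc : ∀ ψ : IrrCharacter G, charDegree (ψ : G → ℂ) = n →
      ∀ y ∈ derivedSeries G 3, (ψ : G → ℂ) y = (ψ : G → ℂ) 1 := by
    intro ψ hψ y hy
    by_cases hnm : n = m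
    · exact hb ψ (by omega) y (h32 hy)
    by_cases hn2 : 2 ≤ n
    · refine hstep 2 ψ (by omega) ?_ y hy
      intro φ hφ z hz
      rcases h φ with h1 | h1 | h1
      · exact ha φ h1 z (h21 hz)
      · exact hb φ h1 z hz
      · omega
    · have hpos := irr_charDegree_pos ψ
      exact ha ψ (by omega) y (h21 (h32 hy))
  rw [eq_bot_iff]
  intro x hx
  rw [Subgroup.mem_bot]
  by_contra hne
  obtain ⟨ψ, hψ⟩ := exists_irr_ne_of_ne_one hne
  apply hψ
  rcases h ψ with h1 | h1 | h1
  · exact ha ψ h1 x (h21 (h32 hx))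
  · exact hb ψ h1 x (h32 hx)
  · exact hc ψ h1 x hx

end Cfsg.Agent.Lib.Helper14.CD3
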