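import Mathlib

/-!
# K-CP-B (keystone 227202, row S2272, architect helper73)

`SL_d(F)`, `d ≥ 3`, sends two given standard basis vectors to any linearly independent pair.
-/

set_option autoImplicit false
set_option linter.unusedVariables false
set_option linter.style.haveILetI false

namespace Cfsg.Agent.Lib.Helper14.CP

open Matrix Module

variable {F : Type*} [Field F] {d : ℕ}

/-- a basis of `F^d` indexed by `Fin d` with prescribed values at two indices -/
theorem exists_basis_extending (i j : Fin d) (hij : i ≠ j) (v w : Fin d → F)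
    (h : LinearIndependent F ![v, w]) :
    ∃ b : Basis (Fin d) F (Fin d → F), b i = v ∧ b j = w := by
  classical
  have hs : LinearIndepOn F id (Set.range ![v, w]) := h.linearIndepOn_id
  have hsub : Set.range ![v, w] ⊆ hs.extend (Set.subset_univ _) := hs.subset_extend _
  have hvmem : v ∈ hs.extend (Set.subset_univ _) := hsub ⟨0, rfl⟩
  have hwmem : w ∈ hs.extend (Set.subset_univ _) := hsub ⟨1, rfl⟩
  have hvw : v ≠ w := h.injective.ne (show (0 : Fin 2) ≠ 1 by decide)
  set b₁ := Basis.extend hs with hb₁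
  haveI : Finite ↥(hs.extend (Set.subset_univ _)) := Module.Finite.finite_basis b₁
  haveI : Fintype ↥(hs.extend (Set.subset_univ _)) := Fintype.ofFinite _
  have hcard : Fintype.card ↥(hs.extend (Set.subset_univ _)) = d := by
    rw [← Module.finrank_eq_card_basis b₁, Module.finrank_fin_fun]
  set σ0 : ↥(hs.extend (Set.subset_univ _)) ≃ Fin d := Fintype.equivFinOfCardEq hcard with hσ0
  set iv : ↥(hs.extend (Set.subset_univ _)) := ⟨v, hvmem⟩ with hiv
  set iw : ↥(hs.extend (Set.subset_univ _)) := ⟨w, hwmem⟩ with hiw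
  have hivw : iv ≠ iw := fun hh => hvw (congrArg Subtype.val hh)
  set a := σ0 iv with ha
  set a' := σ0 iw with ha'
  have haa' : a ≠ a' := σ0.injective.ne hivw
  set a'' := Equiv.swap a i a' with ha''
  set π : Equiv.Perm (Fin d) := Equiv.swap a'' j * Equiv.swap a i with hπ
  have hia'' : i ≠ a'' := by
    intro hh
    have h1 : Equiv.swap a i a' = Equiv.swap a i a := by
      rw [← ha'', ← hh, Equiv.swap_apply_left]
    exact haa' ((Equiv.swap a i).injective h1).symm
  have hπa : π a = i := by
    rw [hπ, Equiv.Perm.mul_apply, Equiv.swap_apply_left,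
      Equiv.swap_apply_of_ne_of_ne hia'' hij]
  have hπa' : π a' = j := by
    rw [hπ, Equiv.Perm.mul_apply, ← ha'', Equiv.swap_apply_left]
  refine ⟨b₁.reindex (σ0.trans π), ?_, ?_⟩
  · rw [Basis.reindex_apply]
    have : (σ0.trans π).symm i = iv := by
      rw [Equiv.symm_apply_eq, Equiv.trans_apply, ← ha, hπa]
    rw [this, hb₁, Basis.extend_apply_self]
  · rw [Basis.reindex_apply]
    have : (σ0.trans π).symm j = iw := by
      rw [Equiv.symm_apply_eq, Equiv.trans_apply, ← ha', hπa']
    rw [this, hb₁, Basis.extend_apply_self]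

/-- **LEAF B.** -/
theorem exists_sl_mulVec_single (hd : 3 ≤ d) (i j : Fin d) (hij : i ≠ j) (v w : Fin d → F)
    (h : LinearIndependent F ![v, w]) :
    ∃ P : SpecialLinearGroup (Fin d) F,
      (P : Matrix (Fin d) (Fin d) F) *ᵥ Pi.single i 1 = v ∧
      (P : Matrix (Fin d) (Fin d) F) *ᵥ Pi.single j 1 = w := by
  classical
  obtain ⟨b, hbi, hbj⟩ := exists_basis_extending i j hij v w h
  -- the matrix with columns `b c`
  set P₀ : Matrix (Fin d) (Fin d) F := (Pi.basisFun F (Fin d)).toMatrix b with hP₀
  have hcol : ∀ c, P₀ *ᵥ Pi.single c 1 = b c := by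
    intro c
    rw [Matrix.mulVec_single_one]
    funext r
    show P₀ r c = b c r
    rw [hP₀, Basis.toMatrix_apply, Pi.basisFun_repr]
  have hdet : IsUnit P₀.det := by
    have := Basis.isUnit_det (Pi.basisFun F (Fin d)) b
    rwa [Basis.det_apply] at this
  have hdet0 : P₀.det ≠ 0 := hdet.ne_zero
  -- a third index
  obtain ⟨k, hki, hkj⟩ : ∃ k : Fin d, k ≠ i ∧ k ≠ j := by
    by_contra hcon
    push Not at hcon
    have hsub : (Finset.univ : Finset (Fin d)) ⊆ {i, j} := by
      intro k _
      by_cases hk : k = i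
      · rw [hk]; exact Finset.mem_insert_self _ _
      · rw [hcon k hk]
        exact Finset.mem_insert_of_mem (Finset.mem_singleton_self _)
    have hc := Finset.card_le_card hsub
    rw [Finset.card_univ, Fintype.card_fin] at hc
    have h2 : ({i, j} : Finset (Fin d)).card ≤ 2 := Finset.card_insert_le _ _ |>.trans (by simp)
    omega
  set D : Fin d → F := Function.update (fun _ => (1 : F)) k (P₀.det)⁻¹ with hD
  have hDprod : ∏ c, D c = (P₀.det)⁻¹ := by
    rw [hD, Finset.prod_update_of_mem (Finset.mem_univ k)]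
    simp
  have hdetP : (P₀ * Matrix.diagonal D).det = 1 := by
    rw [Matrix.det_mul, Matrix.det_diagonal, hDprod, mul_inv_cancel₀ hdet0]
  have hmv : ∀ c, c ≠ k → (P₀ * Matrix.diagonal D) *ᵥ Pi.single c 1 = b c := by
    intro c hck
    rw [← Matrix.mulVec_mulVec, Matrix.diagonal_mulVec_single, hD, Function.update_of_ne hck,
      mul_one, hcol]
  refine ⟨⟨P₀ * Matrix.diagonal D, hdetP⟩, ?_, ?_⟩
  · show (P₀ * Matrix.diagonal D) *ᵥ Pi.single i 1 = v
    rw [hmv i (Ne.symm hki), hbi]
  · show (P₀ * Matrix.diagonal D) *ᵥ Pi.single j 1 = w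
    rw [hmv j (Ne.symm hkj), hbj]

end Cfsg.Agent.Lib.Helper14.CP
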