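import Mathlib

/-!
# K-CP-C (keystone 227203, row S2272, architect helper73): the trace along a transvection family
-/

set_option autoImplicit false
set_option linter.unusedVariables false

namespace Cfsg.Agent.Lib.Helper14.CP

open Matrix

variable {F : Type*} [Field F] {d : ℕ}

theorem trace_single_mul' (i j : Fin d) (c : F) (M : Matrix (Fin d) (Fin d) F) :
    Matrix.trace (Matrix.single i j c * M) = c * M j i := by
  unfold Matrix.trace
  rw [Finset.sum_eq_single i]
  · rw [Matrix.diag_apply, Matrix.single_mul_apply_same]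
  · intro k _ hk
    rw [Matrix.diag_apply, Matrix.single_mul_apply_of_ne (h := hk)]
  · intro h
    exact absurd (Finset.mem_univ i) h

theorem trace_conj_single (A B : Matrix (Fin d) (Fin d) F) (i j : Fin d) (hij : i ≠ j) (s : F) :
    Matrix.trace ((1 + Matrix.single i j s) * A * (1 - Matrix.single i j s) * B) =
      Matrix.trace (A * B) + s * ((A * B) j i - (B * A) j i) - s ^ 2 * (A j i * B j i) := by
  have hexp : ∀ X : Matrix (Fin d) (Fin d) F, (1 + X) * A * (1 - X) * B =
      A * B + X * (A * B) - A * (X * B) - X * (A * X * B) := by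
    intro X
    noncomm_ring
  have h3 : (A * Matrix.single i j s * B) j i = A j i * s * B j i := by
    rw [Matrix.mul_apply, Finset.sum_eq_single j]
    · rw [Matrix.mul_single_apply_same]
    · intro l _ hl
      rw [Matrix.mul_single_apply_of_ne (hbj := hl), zero_mul]
    · intro h
      exact absurd (Finset.mem_univ j) h
  rw [hexp, Matrix.trace_sub, Matrix.trace_sub, Matrix.trace_add,
    Matrix.trace_mul_comm A (Matrix.single i j s * B), Matrix.mul_assoc (Matrix.single i j s) B A,
    trace_single_mul', trace_single_mul', trace_single_mul', h3]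
  ring

/-- normal form: `A e_{i0} = e_{i2}`, `B e_{i0} = e_{i1}`: every trace is reached -/
theorem exists_trace_eq (A B : Matrix (Fin d) (Fin d) F) (i0 i1 i2 : Fin d) (h01 : i0 ≠ i1)
    (h02 : i0 ≠ i2) (h12 : i1 ≠ i2)
    (hA : A *ᵥ Pi.single i0 1 = Pi.single i2 1) (hB : B *ᵥ Pi.single i0 1 = Pi.single i1 1) (t : F) :
    ∃ r s : F, Matrix.trace ((1 + Matrix.single i0 i1 s) * A * (1 - Matrix.single i0 i1 s) *
      ((1 - Matrix.single i0 i2 r) * B * (1 + Matrix.single i0 i2 r))) = t := by
  have hAcol : ∀ k, A k i0 = (Pi.single i2 (1 : F) : Fin d → F) k := by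
    intro k
    have := congrFun hA k
    rw [Matrix.mulVec_single_one] at this
    exact this
  have hBcol : ∀ k, B k i0 = (Pi.single i1 (1 : F) : Fin d → F) k := by
    intro k
    have := congrFun hB k
    rw [Matrix.mulVec_single_one] at this
    exact this
  have hA10 : A i1 i0 = 0 := by rw [hAcol, Pi.single_eq_of_ne h12]
  have hB10 : B i1 i0 = 1 := by rw [hBcol, Pi.single_eq_same]
  have hB20 : B i2 i0 = 0 := by rw [hBcol, Pi.single_eq_of_ne h12.symm]
  set r : F := A i1 i1 - B i1 i2 - 1 with hr
  set E : Matrix (Fin d) (Fin d) F := Matrix.single i0 i2 r with hE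
  set B'' : Matrix (Fin d) (Fin d) F := (1 - E) * B * (1 + E) with hB''
  -- column `i0` of `B''`
  have hcol : ∀ k, B'' k i0 = (Pi.single i1 (1 : F) : Fin d → F) k := by
    intro k
    rw [hB'', Matrix.mul_add, Matrix.mul_one, Matrix.add_apply, hE,
      Matrix.mul_single_apply_of_ne (hbj := h02), add_zero, Matrix.sub_mul, Matrix.one_mul,
      Matrix.sub_apply]
    by_cases hk : k = i0
    · rw [hk, Matrix.single_mul_apply_same, hB20, mul_zero, sub_zero, hBcol]
    · rw [Matrix.single_mul_apply_of_ne (h := hk), sub_zero, hBcol]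
  -- entry `(i1, i2)` of `B''`
  have h12e : B'' i1 i2 = B i1 i2 + r := by
    rw [hB'', Matrix.mul_add, Matrix.mul_one, Matrix.add_apply, hE, Matrix.mul_single_apply_same,
      Matrix.sub_mul, Matrix.one_mul, Matrix.sub_apply, Matrix.sub_apply,
      Matrix.single_mul_apply_of_ne (h := h01.symm), Matrix.single_mul_apply_of_ne (h := h01.symm),
      sub_zero, sub_zero, hB10, one_mul]
  have hAB : (A * B'') i1 i0 = A i1 i1 := by
    rw [Matrix.mul_apply, Finset.sum_eq_single i1]
    · rw [hcol, Pi.single_eq_same, mul_one]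
    · intro k _ hk
      rw [hcol, Pi.single_eq_of_ne hk, mul_zero]
    · intro h
      exact absurd (Finset.mem_univ i1) h
  have hBA : (B'' * A) i1 i0 = B'' i1 i2 := by
    rw [Matrix.mul_apply, Finset.sum_eq_single i2]
    · rw [hAcol, Pi.single_eq_same, mul_one]
    · intro k _ hk
      rw [hAcol, Pi.single_eq_of_ne hk, mul_zero]
    · intro h
      exact absurd (Finset.mem_univ i2) h
  refine ⟨r, t - Matrix.trace (A * B''), ?_⟩
  rw [trace_conj_single A B'' i0 i1 h01, hAB, hBA, h12e, hA10, hr]
  ring

end Cfsg.Agent.Lib.Helper14.CP
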