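import Mathlib
import Cfsg.Agent.Lib.Helper73.CT4Defs
import Cfsg.Agent.Lib.Helper73.BHMBasic

/-!
K-S4146-D1 (for helper73): for `cs(G) = {1, n, m, n m}`, `n < m`, the elements of class size
`1` or `n` form a normal subgroup `T`; without good elements for `n`, `T` is abelian and
`|T : T ∩ Z(G)|` is prime to `n`.
-/

set_option autoImplicit false

namespace Cfsg.Agent.Lib.Helper14.CT4

open Cfsg.Agent.Lib.Helper73 Cfsg.Agent.Lib.Helper73.CT4

variable {G : Type*} [Group G] {n m : ℕ}

local notation "Cz(" x ")" => Subgroup.centralizer ({x} : Set G)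

/-- the four possible class sizes -/
theorem idx_cases' (H : Hyp G n m) (x : G) :
    (Cz(x)).index = 1 ∨ (Cz(x)).index = n ∨ (Cz(x)).index = m ∨ (Cz(x)).index = n * m := by
  have h : (Cz(x)).index ∈ Set.range (fun x : G => (Cz(x)).index) := ⟨x, rfl⟩
  rw [H.range] at h
  simpa using h

/-- (E): primary elements for primes not dividing `n * m` are central. -/
theorem central_of_not_dvd' [Finite G] (H : Hyp G n m) {x : G} {r k : ℕ} (hr : r.Prime)
    (hxo : orderOf x = r ^ k) (hnd : ¬ r ∣ n * m) : x ∈ Subgroup.center G := by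
  have : Fact r.Prime := ⟨hr⟩
  have hrn : ¬ r ∣ n := fun h => hnd (h.mul_right m)
  have hrm : ¬ r ∣ m := fun h => hnd (h.mul_left n)
  obtain ⟨D, _, hD2, hD3⟩ := Cfsg.Agent.S4127.thmT (L := G) r (by
    intro z _ hdvd
    rcases idx_cases' H z with h1 | h1 | h1 | h1
    · rw [h1] at hdvd; exact hr.one_lt.ne' (Nat.dvd_one.1 hdvd)
    · rw [h1] at hdvd; exact hrn hdvd
    · rw [h1] at hdvd; exact hrm hdvd
    · rw [h1] at hdvd; exact hnd hdvd)
  have hDle : D ≤ Cz(x) := fun d hd => mem_Cz.2 (hD3 d hd x ⟨k, hxo⟩)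
  have h1 : (Cz(x)).index ∣ D.index := Subgroup.index_dvd_of_le hDle
  have h2 : D.index = r ^ (Nat.card G).factorization r := by
    have := Subgroup.card_mul_index D
    rw [← hD2] at this
    exact Nat.eq_of_mul_eq_mul_left Nat.card_pos this
  rw [h2] at h1
  obtain ⟨c, _, hc⟩ := (Nat.dvd_prime_pow hr).1 h1
  have hc0 : c = 0 := by
    by_contra hne
    have hrd : r ∣ (Cz(x)).index := hc ▸ dvd_pow_self r hne
    rcases idx_cases' H x with h3 | h3 | h3 | h3
    · rw [h3] at hrd; exact hr.one_lt.ne' (Nat.dvd_one.1 hrd)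
    · rw [h3] at hrd; exact hrn hrd
    · rw [h3] at hrd; exact hrm hrd
    · rw [h3] at hrd; exact hnd hrd
  rw [hc0, pow_zero] at hc
  exact (index_Cz_eq_one_iff x).1 hc

theorem Cz_inv (x : G) : Cz(x⁻¹) = Cz(x) := by
  ext y
  rw [mem_Cz, mem_Cz]
  exact Commute.inv_right_iff (a := y) (b := x)

theorem Cz_inf_le_mul (a b : G) : Cz(a) ⊓ Cz(b) ≤ Cz(a * b) := by
  intro y hy
  have h1 := mem_Cz.1 hy.1
  have h2 := mem_Cz.1 hy.2
  rw [mem_Cz]
  calc y * (a * b) = (y * a) * b := by group
    _ = (a * y) * b := by rw [h1]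
    _ = a * (y * b) := by group
    _ = a * (b * y) := by rw [h2]
    _ = a * b * y := by group

/-- KD1: for `n < m` the elements of class size `1` or `n` form a (normal) subgroup. -/
theorem exists_TN [Finite G] (H : Hyp G n m) (hlt : n < m) :
    ∃ T : Subgroup G, T.Normal ∧ ∀ g : G, g ∈ T ↔
      ((Subgroup.centralizer ({g} : Set G)).index = 1 ∨ (Subgroup.centralizer ({g} : Set G)).index = n) := by
  have hn := H.hn
  have hm := H.hm
  have hcop := H.cop
  have hmul : ∀ a b : G, ((Cz(a)).index = 1 ∨ (Cz(a)).index = n) →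
      ((Cz(b)).index = 1 ∨ (Cz(b)).index = n) →
      ((Cz(a * b)).index = 1 ∨ (Cz(a * b)).index = n) := by
    intro a b ha hb
    have hia : (Cz(a)).index.Coprime m := by
      rcases ha with h | h
      · rw [h]; exact Nat.coprime_one_left m
      · rw [h]; exact hcop
    have hib : (Cz(b)).index ≤ n := by
      rcases hb with h | h
      · rw [h]; exact hn.le
      · rw [h]
    -- the index of the intersection
    have h1 : (Cz(a) ⊓ Cz(b)).relIndex Cz(a) * (Cz(a)).index = (Cz(a) ⊓ Cz(b)).index :=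
      Subgroup.relIndex_mul_index inf_le_left
    have h2 : (Cz(a) ⊓ Cz(b)).relIndex Cz(a) = (Cz(b)).relIndex Cz(a) := by
      rw [inf_comm, Subgroup.inf_relIndex_right]
    have h3 : (Cz(b)).relIndex Cz(a) ≤ (Cz(b)).index := relIndex_le_index' _ _
    have hkpos : 0 < (Cz(b)).relIndex Cz(a) := by
      apply Nat.pos_of_ne_zero
      intro h0
      rw [h2, h0, zero_mul] at h1
      exact Subgroup.index_ne_zero_of_finite h1.symm
    have hdvd : (Cz(a * b)).index ∣ (Cz(b)).relIndex Cz(a) * (Cz(a)).index := by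
      rw [← h2, h1]
      exact Subgroup.index_dvd_of_le (Cz_inf_le_mul a b)
    have hnm : ¬ m ∣ (Cz(a * b)).index := by
      intro hmd
      have h4 : m ∣ (Cz(b)).relIndex Cz(a) * (Cz(a)).index := hmd.trans hdvd
      have h5 : m ∣ (Cz(b)).relIndex Cz(a) := (hia.symm).dvd_of_dvd_mul_right h4
      have h6 := Nat.le_of_dvd hkpos h5
      omega
    rcases idx_cases' H (a * b) with h | h | h | h
    · exact Or.inl h
    · exact Or.inr h
    · exact absurd (h ▸ dvd_rfl) hnm
    · exact absurd (h ▸ dvd_mul_left m n) hnm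
  refine ⟨{ carrier := {g | (Cz(g)).index = 1 ∨ (Cz(g)).index = n}
            mul_mem' := fun {a b} ha hb => hmul a b ha hb
            one_mem' := by
              left
              show (Cz((1 : G))).index = 1
              rw [index_Cz_eq_one_iff]
              exact Subgroup.one_mem _
            inv_mem' := fun {a} ha => by
              show (Cz(a⁻¹)).index = 1 ∨ (Cz(a⁻¹)).index = n
              rw [Cz_inv]
              exact ha }, ⟨?_⟩, fun g => Iff.rfl⟩
  intro g hg h
  show (Cz(h * g * h⁻¹)).index = 1 ∨ (Cz(h * g * h⁻¹)).index = n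
  rw [index_Cz_conj]
  exact hg

/-- KD1': without good elements for `n` that subgroup is abelian, and its index over the centre is
coprime to `n`. -/
theorem TN_comm [Finite G] (H : Hyp G n m) (hlt : n < m) (hN : ¬ Good G n)
    (T : Subgroup G) [T.Normal]
    (hT : ∀ g : G, g ∈ T ↔
      ((Subgroup.centralizer ({g} : Set G)).index = 1 ∨ (Subgroup.centralizer ({g} : Set G)).index = n)) :
    (∀ a ∈ T, ∀ b ∈ T, a * b = b * a) ∧ ((Subgroup.center G).relIndex T).Coprime n := by
  have hn := H.hn
  have hcop := H.cop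
  -- primary elements of `T` for primes not dividing `m` are central
  have hcen : ∀ x ∈ T, ∀ r k : ℕ, r.Prime → ¬ r ∣ m → orderOf x = r ^ k →
      x ∈ Subgroup.center G := by
    intro x hx r k hr hrm hxo
    by_cases hrn : r ∣ n
    · rcases (hT x).1 hx with h | h
      · exact (index_Cz_eq_one_iff x).1 h
      · exact absurd ⟨x, r, k, hr, hrn, hxo, h⟩ hN
    · apply central_of_not_dvd' H hr hxo
      intro hd
      rcases (Nat.Prime.dvd_mul hr).1 hd with h | h
      · exact hrn h
      · exact hrm h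
  have hcopZ : ((Subgroup.center G).relIndex T).Coprime n := by
    rw [Nat.coprime_iff_gcd_eq_one]
    by_contra hne
    obtain ⟨r, hr, hrd⟩ := Nat.exists_prime_and_dvd hne
    have hr1 : r ∣ (Subgroup.center G).relIndex T := hrd.trans (Nat.gcd_dvd_left _ _)
    have hr2 : r ∣ n := hrd.trans (Nat.gcd_dvd_right _ _)
    have hrm : ¬ r ∣ m := by
      intro h
      have := Nat.dvd_gcd hr2 h
      rw [hcop.gcd_eq_one] at this
      exact hr.one_lt.ne' (Nat.dvd_one.1 this)
    have : Fact r.Prime := ⟨hr⟩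
    obtain ⟨P⟩ : Nonempty (Sylow r T) := inferInstance
    have hPle : (P : Subgroup T) ≤ (Subgroup.center G).subgroupOf T := by
      intro x hx
      rw [Subgroup.mem_subgroupOf]
      obtain ⟨k, hk⟩ := (IsPGroup.iff_orderOf.1 P.2) ⟨x, hx⟩
      have hxo : orderOf (x : G) = r ^ k := by
        rw [Subgroup.orderOf_coe]
        have : orderOf (⟨x, hx⟩ : (P : Subgroup T)) = orderOf x := Subgroup.orderOf_mk x hx
        rw [← this, hk]
      exact hcen (x : G) x.2 r k hr hrm hxo
    have h1 : ((Subgroup.center G).subgroupOf T).index ∣ (P : Subgroup T).index :=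
      Subgroup.index_dvd_of_le hPle
    exact P.not_dvd_index (hr1.trans h1)
  refine ⟨?_, hcopZ⟩
  intro a ha b hb
  have h1 : (Cz(b)).relIndex T ∣ (Cz(b)).index := relIndex_dvd_index_of_normal_right _ _
  have h2 : (Cz(b)).relIndex T ∣ n := by
    rcases (hT b).1 hb with h | h
    · rw [h] at h1; exact h1.trans (one_dvd n)
    · rw [h] at h1; exact h1
  have h3 : (Cz(b)).relIndex T ∣ (Subgroup.center G).relIndex T :=
    Subgroup.relIndex_dvd_of_le_left T (center_le_Cz b)
  have h4 : (Cz(b)).relIndex T = 1 := by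
    have := Nat.dvd_gcd h3 h2
    rw [hcopZ.gcd_eq_one] at this
    exact Nat.dvd_one.1 this
  have h5 : T ≤ Cz(b) := Subgroup.relIndex_eq_one.1 h4
  exact mem_Cz.1 (h5 ha)

end Cfsg.Agent.Lib.Helper14.CT4
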