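import Cfsg.Agent.Lib.Helper57.KQBridge
import Cfsg.Agent.Lib.Helper02.RelSubnormal
import Cfsg.Agent.Lib.Helper54.Subnormal

/-!
Clifford's theorem along a subnormal chain, in the group-theoretic form used for the `K_∞`
subgroups: if every invariant subgroup of an abelian normal subgroup `W` has an invariant
complement for the action of `K`, the same holds for the action of every subnormal subgroup of
`K`.  Consequence: the stability-free replacement of `Helper57.KQ.KSetup.key`.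
-/

set_option autoImplicit false

namespace Cfsg.Agent.Lib.Helper14.CliffordSub

open Cfsg Cfsg.Agent.Lib.Helper57.KQ Cfsg.Agent.Lib.Helper02 Cfsg.Agent.Lib.Helper16.KComm
open scoped commutatorElement

section ss

variable {H : Type*} [Group H]

/-- every `K`-invariant subgroup of `W` has a `K`-invariant complement in `W` -/
def SS (K W : Subgroup H) : Prop :=
  ∀ U : Subgroup H, U ≤ W → K ≤ Subgroup.normalizer (U : Set H) →
    ∃ C : Subgroup H, C ≤ W ∧ K ≤ Subgroup.normalizer (C : Set H) ∧ U ⊓ C = ⊥ ∧ W ≤ U ⊔ C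

theorem bot_normalizer (K : Subgroup H) : K ≤ Subgroup.normalizer ((⊥ : Subgroup H) : Set H) := by
  intro n _
  rw [Subgroup.mem_normalizer_iff]
  intro x
  simp

/-- the base case: an abelian minimal normal subgroup -/
theorem ss_top {W : Subgroup H} (hW : MinAb W) : SS (⊤ : Subgroup H) W := by
  intro U hUW hU
  have hUn : U.Normal := Subgroup.normalizer_eq_top_iff.mp (top_le_iff.mp hU)
  rcases hW.min U hUn hUW with h | h
  · refine ⟨W, le_rfl, ?_, ?_, ?_⟩
    · have := hW.normal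
      exact Subgroup.le_normalizer_of_normal
    · rw [h]; exact bot_inf_eq _
    · exact le_sup_right
  · refine ⟨⊥, bot_le, bot_normalizer _, inf_bot_eq _, ?_⟩
    rw [h]; exact le_sup_left

/-- conjugating an invariant subgroup by an element normalizing the acting group -/
theorem normalizer_cj_of_mem {M U : Subgroup H} {k : H}
    (hk : k ∈ Subgroup.normalizer (M : Set H)) (hU : M ≤ Subgroup.normalizer (U : Set H)) :
    M ≤ Subgroup.normalizer ((cj k U : Subgroup H) : Set H) := by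
  intro n hn
  have hkn : k⁻¹ * n * k⁻¹⁻¹ ∈ M :=
    (Subgroup.mem_normalizer_iff.mp ((Subgroup.normalizer (M : Set H)).inv_mem hk) n).mp hn
  rw [Subgroup.mem_normalizer_iff]
  intro x
  rw [mem_cj, mem_cj]
  have h1 := Subgroup.mem_normalizer_iff.mp (hU hkn) (k⁻¹ * x * k)
  have e : k⁻¹ * n * k⁻¹⁻¹ * (k⁻¹ * x * k) * (k⁻¹ * n * k⁻¹⁻¹)⁻¹ = k⁻¹ * (n * x * n⁻¹) * k := by
    group
  rw [e] at h1
  exact h1

theorem isMinInv_cj_of_mem {M V : Subgroup H} {k : H}
    (hk : k ∈ Subgroup.normalizer (M : Set H)) (hV : IsMinInv M V) : IsMinInv M (cj k V) := by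
  obtain ⟨h1, h2, h3⟩ := hV
  have hk' : k⁻¹ ∈ Subgroup.normalizer (M : Set H) := (Subgroup.normalizer (M : Set H)).inv_mem hk
  refine ⟨?_, normalizer_cj_of_mem hk h2, ?_⟩
  · intro hbot
    apply h1
    rw [← cj_inv_cj k V, hbot, cj_bot]
  · intro V' hV' hN'
    have h4 : cj k⁻¹ V' ≤ V := by
      rw [← cj_inv_cj k V]
      exact cj_mono hV'
    rcases h3 _ h4 (normalizer_cj_of_mem hk' hN') with h5 | h5
    · left
      rw [← cj_cj_inv k V', h5, cj_bot]
    · right
      rw [← cj_cj_inv k V', h5]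

/-- **Clifford**: the complement property passes to normal subgroups of the acting group -/
theorem SS.of_normal [Finite H] {W K M : Subgroup H} [hWn : W.Normal]
    (hWab : W ≤ Subgroup.centralizer (W : Set H)) (hMK : M ≤ K)
    (hKM : K ≤ Subgroup.normalizer (M : Set H)) (hK : SS K W) : SS M W := by
  classical
  -- the socle
  set Soc : Subgroup H := sSup {V : Subgroup H | IsMinInv M V ∧ V ≤ W} with hSoc
  have hSocW : Soc ≤ W := sSup_le fun V hV => hV.2
  have hSocK : K ≤ Subgroup.normalizer (Soc : Set H) := by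
    apply Cfsg.Agent.Lib.Helper57.KQ.le_normalizer_of_conj_mem
    intro k hk x hx
    have hcj : cj k Soc ≤ Soc := by
      unfold cj
      rw [Subgroup.map_le_iff_le_comap, hSoc]
      apply sSup_le
      intro V hV
      rw [← Subgroup.map_le_iff_le_comap]
      apply le_sSup
      exact ⟨isMinInv_cj_of_mem (hKM hk) hV.1, cj_le_of_normal hV.2⟩
    exact hcj (conj_mem_cj hx)
  -- the socle is everything
  have hSocTop : W ≤ Soc := by
    obtain ⟨C, hCW, hCK, hSC, hWSC⟩ := hK Soc hSocW hSocK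
    have hCbot : C = ⊥ := by
      by_contra hCne
      obtain ⟨V₀, hV₀C, hV₀⟩ := Finite.exists_le_minimal
        (p := fun V : Subgroup H => V ≠ ⊥ ∧ M ≤ Subgroup.normalizer (V : Set H)) (a := C)
        ⟨hCne, hMK.trans hCK⟩
      have hV₀min : IsMinInv M V₀ := by
        refine ⟨hV₀.1.1, hV₀.1.2, ?_⟩
        intro V' hV' hN'
        by_cases hb : V' = ⊥
        · left; exact hb
        · right
          exact le_antisymm hV' (hV₀.2 ⟨hb, hN'⟩ hV')
      have h1 : V₀ ≤ Soc := le_sSup ⟨hV₀min, hV₀C.trans hCW⟩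
      have h2 : V₀ ≤ Soc ⊓ C := le_inf h1 hV₀C
      rw [hSC, le_bot_iff] at h2
      exact hV₀.1.1 h2
    rw [hCbot, sup_bot_eq] at hWSC
    exact hWSC
  -- complements
  intro U hUW hMU
  obtain ⟨C, -, hC⟩ := Finite.exists_le_maximal
    (p := fun C : Subgroup H => C ≤ W ∧ M ≤ Subgroup.normalizer (C : Set H) ∧ U ⊓ C = ⊥)
    (a := ⊥) ⟨bot_le, bot_normalizer _, inf_bot_eq _⟩
  obtain ⟨⟨hCW, hCM, hUC⟩, hCmax⟩ := hC
  refine ⟨C, hCW, hCM, hUC, ?_⟩
  by_contra hnot
  have hex : ∃ V : Subgroup H, (IsMinInv M V ∧ V ≤ W) ∧ ¬ V ≤ U ⊔ C := by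
    by_contra hall
    push Not at hall
    apply hnot
    refine hSocTop.trans ?_
    exact sSup_le fun V hV => hall V hV
  obtain ⟨V, ⟨hVmin, hVW⟩, hVn⟩ := hex
  have hUCM : M ≤ Subgroup.normalizer ((U ⊔ C : Subgroup H) : Set H) := normalizer_sup' hMU hCM
  have hmeet : V ⊓ (U ⊔ C) = ⊥ := by
    rcases hVmin.2.2 _ inf_le_left (normalizer_inf' hVmin.2.1 hUCM) with h1 | h1
    · exact h1
    · exfalso
      apply hVn
      rw [← h1]
      exact inf_le_right
  have hC' : C ⊔ V ≤ C := by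
    apply hCmax ⟨sup_le hCW hVW, normalizer_sup' hCM hVmin.2.1, ?_⟩ le_sup_left
    rw [eq_bot_iff]
    intro x hx
    rw [Subgroup.mem_inf] at hx
    obtain ⟨c, hc, v, hv, hxcv⟩ := mem_sup_ab hWab hCW hVW hx.2
    have hv' : v ∈ U ⊔ C := by
      have e : v = c⁻¹ * x := by rw [hxcv]; group
      rw [e, sup_comm]
      exact Subgroup.mul_mem_sup (C.inv_mem hc) hx.1
    have hv1 : v = 1 := by
      have : v ∈ V ⊓ (U ⊔ C) := Subgroup.mem_inf.mpr ⟨hv, hv'⟩
      rw [hmeet] at this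
      exact Subgroup.mem_bot.mp this
    rw [hv1, mul_one] at hxcv
    have : x ∈ U ⊓ C := Subgroup.mem_inf.mpr ⟨hx.1, hxcv ▸ hc⟩
    rw [hUC] at this
    exact this
  exact hVn ((le_sup_right.trans hC').trans le_sup_right)

/-- the complement property along a subnormal chain -/
theorem ss_of_rsn [Finite H] {G : Type*} [Group G] (π : G →* H) {W : Subgroup H} [hWn : W.Normal]
    (hWab : W ≤ Subgroup.centralizer (W : Set H)) {A K : Subgroup G} (h : RSn A K) :
    SS (K.map π) W → SS (A.map π) W := by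
  induction h with
  | refl => exact id
  | step M K _ hMK hKN ih =>
    intro hK
    exact ih (SS.of_normal hWab (Subgroup.map_mono hMK) (map_le_normalizer_map π hKN) hK)

end ss

section chain

variable {G : Type*} [Group G]

/-- a subgroup between `N₀` and `M` is subnormal in `M` when `M / N₀` is a `p`-group -/
theorem rsn_of_pquot [Finite G] {p : ℕ} [Fact p.Prime] (N₀ D M : Subgroup G) [hN : N₀.Normal]
    (hND : N₀ ≤ D) (hDM : D ≤ M) (hpow : ∀ m ∈ M, ∃ k : ℕ, m ^ (p ^ k) ∈ N₀) : RSn D M := by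
  set φ := QuotientGroup.mk' N₀ with hφ
  have hP : IsPGroup p ↥(M.map φ) := by
    rintro ⟨x, hx⟩
    obtain ⟨m, hm, rfl⟩ := hx
    obtain ⟨k, hk⟩ := hpow m hm
    refine ⟨k, ?_⟩
    apply Subtype.ext
    rw [Subgroup.coe_pow, Subgroup.coe_one]
    show (φ m) ^ (p ^ k) = 1
    rw [← map_pow, hφ, QuotientGroup.mk'_apply, QuotientGroup.eq_one_iff]
    exact hk
  have h1 : ((D.map φ).subgroupOf (M.map φ)).IsSubnormal :=
    Cfsg.Agent.Lib.Helper54.isSubnormal_of_isPGroup hP _
  have h2 : RSn (D.map φ) (M.map φ) := RSn.of_isSubnormal_subgroupOf (Subgroup.map_mono hDM) h1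
  have h3 := h2.comap φ
  have hker : φ.ker = N₀ := QuotientGroup.ker_mk' N₀
  rw [Subgroup.comap_map_eq, Subgroup.comap_map_eq, hker, sup_eq_left.mpr hND,
    sup_eq_left.mpr (hND.trans hDM)] at h3
  exact h3

end chain

section main

variable {G : Type*} [Group G] {p : ℕ} {B X Y N₀ : Subgroup G}

/-- **the stability-free key step**: in the situation of `Helper57.KQ.KSetup.key`, the subgroup `B`
is quadratic on the chief factor `X / Y`. -/
theorem quad_of_rad [Finite G] [Fact p.Prime] (h : KSetup p B X Y N₀) {P : Subgroup G}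
    (hPX : P ≤ X) (hNP : N₀ ≤ Subgroup.normalizer (P : Set G))
    (hBP : B ≤ Subgroup.normalizer (P : Set G))
    (hq1 : ⁅⁅P, B⁆, B⁆ ≤ Y) (hq2 : ⁅⁅X, B⁆, B⁆ ≤ P) : ⁅⁅X, B⁆, B⁆ ≤ Y := by
  classical
  have hYn := h.Yn
  have hXn := h.Xn
  have hNn := h.Nn
  set π := QuotientGroup.mk' Y with hπ
  have hπs : Function.Surjective π := QuotientGroup.mk'_surjective Y
  have hW : MinAb (X.map π) := h.minAb
  have hWn : (X.map π).Normal := hW.normal
  set M := Subgroup.normalClosure (B : Set G) with hM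
  have hMn : M.Normal := Subgroup.normalClosure_normal
  have hBM : B ≤ M := Subgroup.le_normalClosure
  have hpow : ∀ m ∈ M, ∃ k : ℕ, m ^ (p ^ k) ∈ N₀ := by
    intro m hm
    obtain ⟨n, -, hn⟩ := Cfsg.Agent.Lib.Helper54.exists_pow_coprime (p := p) m 0
    exact ⟨n, h.cop _ (Subgroup.pow_mem _ hm _) hn⟩
  have hchain : RSn (N₀ ⊔ B) M :=
    rsn_of_pquot (p := p) N₀ (N₀ ⊔ B) M le_sup_left (sup_le h.NM hBM) hpow
  have hMtop : RSn M (⊤ : Subgroup G) := by
    apply RSn.single le_top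
    rw [Subgroup.normalizer_eq_top]
  have hss : SS ((N₀ ⊔ B).map π) (X.map π) := by
    apply ss_of_rsn π hW.comm (hchain.trans hMtop)
    rw [← MonoidHom.range_eq_map, MonoidHom.range_eq_top.mpr hπs]
    exact ss_top hW
  have hDP : N₀ ⊔ B ≤ Subgroup.normalizer (P : Set G) := sup_le hNP hBP
  obtain ⟨C, hCW, hCD, hUC, hWUC⟩ := hss (P.map π) (Subgroup.map_mono hPX)
    (map_le_normalizer_map π hDP)
  have hBD : B.map π ≤ (N₀ ⊔ B).map π := Subgroup.map_mono le_sup_right
  -- quadratic action on the two pieces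
  have hU2 : ⁅⁅P.map π, B.map π⁆, B.map π⁆ = ⊥ := by
    rw [← Subgroup.map_commutator, ← Subgroup.map_commutator]
    exact map_le_bot_of_le hq1
  have hW2 : ⁅⁅X.map π, B.map π⁆, B.map π⁆ ≤ P.map π := by
    rw [← Subgroup.map_commutator, ← Subgroup.map_commutator]
    exact Subgroup.map_mono hq2
  have hCB : ⁅C, B.map π⁆ ≤ C := commutator_le_left_of_le_normalizer (hBD.trans hCD)
  have hC2 : ⁅⁅C, B.map π⁆, B.map π⁆ = ⊥ := by
    rw [eq_bot_iff, ← hUC]
    apply le_inf
    · exact (Subgroup.commutator_mono (Subgroup.commutator_mono hCW le_rfl) le_rfl).trans hW2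
    · exact (Subgroup.commutator_mono hCB le_rfl).trans hCB
  have hUc : ⁅P.map π, B.map π⁆ ≤ Subgroup.centralizer ((B.map π : Subgroup (G ⧸ Y)) : Set (G ⧸ Y)) :=
    Subgroup.commutator_eq_bot_iff_le_centralizer.mp hU2
  have hCc : ⁅C, B.map π⁆ ≤ Subgroup.centralizer ((B.map π : Subgroup (G ⧸ Y)) : Set (G ⧸ Y)) :=
    Subgroup.commutator_eq_bot_iff_le_centralizer.mp hC2
  have hfin : ⁅⁅X.map π, B.map π⁆, B.map π⁆ = ⊥ := by
    rw [Subgroup.commutator_eq_bot_iff_le_centralizer, Subgroup.commutator_le]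
    intro w hw b hb
    obtain ⟨u, hu, c, hc, rfl⟩ := mem_sup_ab hW.comm (Subgroup.map_mono hPX) hCW (hWUC hw)
    have hcb : ⁅c, b⁆ ∈ X.map π := by
      have h1 : b * c⁻¹ * b⁻¹ ∈ X.map π := hWn.conj_mem _ (Subgroup.inv_mem _ (hCW hc)) b
      have e : ⁅c, b⁆ = c * (b * c⁻¹ * b⁻¹) := by rw [commutatorElement_def]; group
      rw [e]
      exact Subgroup.mul_mem _ (hCW hc) h1
    have hcomm : u * ⁅c, b⁆ = ⁅c, b⁆ * u :=
      (Subgroup.mem_centralizer_iff.mp (hW.comm hcb) u (Subgroup.map_mono hPX hu))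
    have e : ⁅u * c, b⁆ = ⁅c, b⁆ * ⁅u, b⁆ := by
      have e1 : ⁅u * c, b⁆ = u * ⁅c, b⁆ * u⁻¹ * ⁅u, b⁆ := by
        simp only [commutatorElement_def]; group
      rw [e1, hcomm, mul_inv_cancel_right]
    rw [e]
    exact Subgroup.mul_mem _ (hCc (Subgroup.commutator_mem_commutator hc hb))
      (hUc (Subgroup.commutator_mem_commutator hu hb))
  rw [le_iff_map_mk_eq_bot Y, Subgroup.map_commutator, Subgroup.map_commutator]
  exact hfin

end main

end Cfsg.Agent.Lib.Helper14.CliffordSub
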