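import Mathlib.FieldTheory.Finite.Basic
import Mathlib.Algebra.Polynomial.Splits
import Mathlib.Algebra.Polynomial.AlgebraMap
import Mathlib.Algebra.Module.ZMod
import Mathlib.Algebra.Module.LinearMap.End

set_option autoImplicit false

namespace Cfsg.Agent.Lib.Helper14

open Polynomial

theorem prod_X_sub_C_eq_X_pow_card_sub_X (K : Type*) [Field K] [Fintype K] :
    ∏ a : K, (X - C a : K[X]) = X ^ Fintype.card K - X := by
  have hq : 1 < Fintype.card K := Fintype.one_lt_card
  have h1 : roots (X ^ Fintype.card K - X : K[X]) = Finset.univ.val :=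
    FiniteField.roots_X_pow_card_sub_X K
  have h2 := FiniteField.X_pow_card_sub_X_natDegree_eq K hq
  have hsplit : Splits (X ^ Fintype.card K - X : K[X]) := by
    rw [splits_iff_card_roots, h1, ← Finset.card_def, Finset.card_univ, h2]
  have hmonic : (X ^ Fintype.card K - X : K[X]).Monic := by
    apply Polynomial.monic_X_pow_sub
    rw [degree_X]
    exact_mod_cast hq
  have := hsplit.eq_prod_roots_of_monic hmonic
  rw [h1] at this
  rw [this]
  rfl

theorem exists_eigenvector_of_aeval_prod {K V : Type*} [Field K] [AddCommGroup V] [Module K V]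
    (T : V →ₗ[K] V) (s : Finset K) :
    ∀ v : V, v ≠ 0 → (aeval T (∏ a ∈ s, (X - C a : K[X]))) v = 0 →
      ∃ a ∈ s, ∃ w : V, w ≠ 0 ∧ T w = a • w := by
  classical
  induction s using Finset.induction_on with
  | empty =>
    intro v hv h
    simp at h
    exact absurd h hv
  | insert a s ha ih =>
    intro v hv h
    rw [Finset.prod_insert ha, map_mul] at h
    by_cases hw : (aeval T (∏ a ∈ s, (X - C a : K[X]))) v = 0
    · obtain ⟨b, hb, w, hw0, hw1⟩ := ih v hv hw
      exact ⟨b, Finset.mem_insert_of_mem hb, w, hw0, hw1⟩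
    · refine ⟨a, Finset.mem_insert_self a s, _, hw, ?_⟩
      have h' : (aeval T (X - C a : K[X])) ((aeval T (∏ a ∈ s, (X - C a : K[X]))) v) = 0 := h
      simp only [map_sub, aeval_X, aeval_C, LinearMap.sub_apply, Module.algebraMap_end_apply] at h'
      exact sub_eq_zero.mp h'

/-- A linear endomorphism `T` of a nontrivial module over a finite field `K` with
`T ^ |K| = T` has an eigenvector with eigenvalue in `K`. -/
theorem exists_eigenvector_of_pow_card_eq {K V : Type*} [Field K] [Fintype K] [AddCommGroup V]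
    [Module K V] [Nontrivial V] (T : V →ₗ[K] V) (hT : T ^ Fintype.card K = T) :
    ∃ (μ : K) (v : V), v ≠ 0 ∧ T v = μ • v := by
  obtain ⟨v, hv⟩ := exists_ne (0 : V)
  have h : (aeval T (∏ a ∈ (Finset.univ : Finset K), (X - C a : K[X]))) v = 0 := by
    rw [prod_X_sub_C_eq_X_pow_card_sub_X]
    simp only [map_sub, map_pow, aeval_X, hT, sub_self, LinearMap.zero_apply]
  obtain ⟨a, -, w, hw0, hw1⟩ := exists_eigenvector_of_aeval_prod T Finset.univ v hv h
  exact ⟨a, w, hw0, hw1⟩

end Cfsg.Agent.Lib.Helper14

namespace Cfsg.Agent.Lib.Helper14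

theorem exists_nsmul_eigen {A : Type*} [AddCommGroup A] [Nontrivial A] {p : ℕ} [Fact p.Prime]
    [Module (ZMod p) A] (T' : A →+ A) (hT : ∀ x, T'^[p - 1] x = x) :
    ∃ (k : ℕ) (x : A), x ≠ 0 ∧ T' x = k • x := by
  have hp : p.Prime := Fact.out
  let L : A →ₗ[ZMod p] A := AddMonoidHom.toZModLinearMap p T'
  have hL : ∀ x : A, L x = T' x := fun x => rfl
  have hiter : ∀ (j : ℕ) (x : A), (L ^ j) x = T'^[j] x := by
    intro j
    induction j with
    | zero => intro x; rfl
    | succ j ih =>
      intro x
      rw [pow_succ', Module.End.mul_apply, ih, hL, Function.iterate_succ_apply']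
  have hLp : L ^ Fintype.card (ZMod p) = L := by
    rw [ZMod.card]
    have h1 : L ^ p = L ^ ((p - 1) + 1) := by
      congr 1
      have := hp.one_lt; omega
    apply LinearMap.ext
    intro x
    rw [h1, pow_succ', Module.End.mul_apply, hiter, hT]
  obtain ⟨μ, v, hv0, hv⟩ := exists_eigenvector_of_pow_card_eq L hLp
  refine ⟨μ.val, v, hv0, ?_⟩
  have h1 : μ • v = (μ.val : ZMod p) • v := by rw [ZMod.natCast_zmod_val]
  rw [h1, Nat.cast_smul_eq_nsmul, hL] at hv
  exact hv

/-- An endomorphism `T` of a nontrivial abelian group of exponent `p` with `T^(p-1) = id`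
acts on some nonidentity element as a power map. -/
theorem exists_pow_eigen {N : Type*} [CommGroup N] [Nontrivial N] {p : ℕ} [Fact p.Prime]
    (hexp : ∀ n : N, n ^ p = 1) (T : N →* N) (hT : ∀ n, T^[p - 1] n = n) :
    ∃ (k : ℕ) (n : N), n ≠ 1 ∧ T n = n ^ k := by
  have : Module (ZMod p) (Additive N) := AddCommGroup.zmodModule (n := p) (by
    intro x
    exact congrArg Additive.ofMul (hexp x.toMul))
  have hT' : ∀ x : Additive N, (MonoidHom.toAdditive T)^[p - 1] x = x := by
    intro x
    have : ∀ (j : ℕ) (y : Additive N),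
        (MonoidHom.toAdditive T)^[j] y = Additive.ofMul (T^[j] y.toMul) := by
      intro j
      induction j with
      | zero => intro y; rfl
      | succ j ih =>
        intro y
        rw [Function.iterate_succ_apply', ih, Function.iterate_succ_apply']
        rfl
    rw [this, hT]
    rfl
  obtain ⟨k, x, hx0, hx⟩ := exists_nsmul_eigen (p := p) (MonoidHom.toAdditive T) hT'
  refine ⟨k, x.toMul, ?_, ?_⟩
  · intro h
    apply hx0
    exact congrArg Additive.ofMul h
  · exact congrArg Additive.toMul hx

end Cfsg.Agent.Lib.Helper14
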