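import Mathlib.Algebra.Group.ForwardDiff
import Mathlib.GroupTheory.Subgroup.Center
import Mathlib.Data.Nat.Choose.Dvd
import Mathlib.Tactic.Group

/-!
# The norm of a `p`-cycle of conjugates is an iterated commutator (mod `p`)
-/

set_option autoImplicit false
set_option linter.unusedSectionVars false

namespace Cfsg.Agent.Lib.Helper14

open Finset fwdDiff

/-- In an abelian group of exponent `p`, the sum of `f 0, …, f (p-1)` is the `(p-1)`-st forward
difference of `f` at `0`. -/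
theorem sum_range_eq_fwdDiff_iter {M : Type*} [AddCommGroup M] {p : ℕ} (hp : p.Prime)
    (hM : ∀ m : M, p • m = 0) (f : ℕ → M) :
    ∑ j ∈ range p, f j = (Δ_[1]^[p - 1] f) 0 := by
  let F : ℕ → M := fun n => ∑ j ∈ range n, f j
  have hF : Δ_[1] F = f := by
    ext n
    simp only [fwdDiff, F, Finset.sum_range_succ, add_sub_cancel_left]
  have hN := shift_eq_sum_fwdDiff_iter (1 : ℕ) F p 0
  have hp1 : p - 1 + 1 = p := Nat.sub_add_cancel hp.one_le
  have hlhs : F (0 + p • 1) = ∑ j ∈ range p, f j := by simp [F]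
  rw [hlhs] at hN
  rw [hN, Finset.sum_range_succ]
  have hzero : ∑ k ∈ range p, p.choose k • (Δ_[1]^[k] F) 0 = 0 := by
    apply Finset.sum_eq_zero
    intro k hk
    rcases Nat.eq_zero_or_pos k with rfl | hk0
    · simp [F]
    · have hlt : k < p := Finset.mem_range.mp hk
      obtain ⟨c, hc⟩ := hp.dvd_choose_self hk0.ne' hlt
      rw [hc, mul_comm, mul_smul, hM, smul_zero]
  rw [hzero, zero_add, Nat.choose_self, one_smul]
  conv_lhs => rw [← hp1]
  rw [Function.iterate_succ_apply, hF]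

variable {U : Type*} [Group U]

/-- the iterated commutator `[v, z, …, z]` stays in a normal subgroup containing `v` -/
theorem iterate_comm_mem (U₀ : Subgroup U) [hn : U₀.Normal] (z : U) {v : U} (hv : v ∈ U₀)
    (k : ℕ) : (fun y : U => y⁻¹ * z⁻¹ * y * z)^[k] v ∈ U₀ := by
  induction k with
  | zero => simpa using hv
  | succ k ih =>
    rw [Function.iterate_succ_apply']
    have h1 := hn.conj_mem _ ih z⁻¹
    have h2 := U₀.mul_mem (U₀.inv_mem ih) h1
    simpa [mul_assoc] using h2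

theorem conj_pow_mem (U₀ : Subgroup U) [hn : U₀.Normal] (z : U) {v : U} (hv : v ∈ U₀)
    (j : ℕ) : (z ^ j)⁻¹ * v * z ^ j ∈ U₀ := by
  have := hn.conj_mem v hv (z ^ j)⁻¹
  simpa using this

/-- `ν (z⁻ʲ [v, z; k] zʲ)`, written additively, is the `k`-th forward difference of
`j ↦ ν (z⁻ʲ v zʲ)`. -/
theorem ofMul_conj_iterate_eq_fwdDiff_iter {A : Type*} [CommGroup A] (U₀ : Subgroup U)
    [hn : U₀.Normal] (ν : U₀ →* A) (z : U) {v : U} (hv : v ∈ U₀) (k j : ℕ) :
    Additive.ofMul (ν ⟨(z ^ j)⁻¹ * (fun y : U => y⁻¹ * z⁻¹ * y * z)^[k] v * z ^ j,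
        conj_pow_mem U₀ z (iterate_comm_mem U₀ z hv k) j⟩) =
      (Δ_[1]^[k] (fun j : ℕ => Additive.ofMul
        (ν ⟨(z ^ j)⁻¹ * v * z ^ j, conj_pow_mem U₀ z hv j⟩))) j := by
  let c : ℕ → U := fun k => (fun y : U => y⁻¹ * z⁻¹ * y * z)^[k] v
  have hc : ∀ k, c k ∈ U₀ := fun k => iterate_comm_mem U₀ z hv k
  let a : ℕ → ℕ → Additive A := fun k j =>
    Additive.ofMul (ν ⟨(z ^ j)⁻¹ * c k * z ^ j, conj_pow_mem U₀ z (hc k) j⟩)
  have hstep : ∀ k, a (k + 1) = Δ_[1] (a k) := by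
    intro k
    ext j
    simp only [fwdDiff, a]
    have hel : (⟨(z ^ j)⁻¹ * c (k + 1) * z ^ j, conj_pow_mem U₀ z (hc (k + 1)) j⟩ : U₀) =
        (⟨(z ^ j)⁻¹ * c k * z ^ j, conj_pow_mem U₀ z (hc k) j⟩ : U₀)⁻¹ *
          ⟨(z ^ (j + 1))⁻¹ * c k * z ^ (j + 1), conj_pow_mem U₀ z (hc k) (j + 1)⟩ := by
      apply Subtype.ext
      simp only [Subgroup.coe_mul, Subgroup.coe_inv, c]
      rw [Function.iterate_succ_apply']
      simp only [pow_succ]
      group
    rw [hel, map_mul, map_inv, mul_comm, ofMul_mul, ofMul_inv, sub_eq_add_neg]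
  have hiter : ∀ k, a k = Δ_[1]^[k] (a 0) := by
    intro k
    induction k with
    | zero => rfl
    | succ k ih => rw [Function.iterate_succ_apply', ← ih, hstep]
  exact congrFun (hiter k) j

/-- **Norm = iterated commutator**: for `ν : U₀ →* A` with `A` of exponent `p`, `U₀` normal,
`∏_{j<p} ν (z⁻ʲ v zʲ) = ν [v, z, …, z]` (`p - 1` copies of `z`). -/
theorem prod_conj_eq_iterate_comm {A : Type*} [CommGroup A] {p : ℕ} (hp : p.Prime)
    (hA : ∀ a : A, a ^ p = 1) (U₀ : Subgroup U) [hn : U₀.Normal] (ν : U₀ →* A) (z : U)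
    {v : U} (hv : v ∈ U₀) :
    ∏ j ∈ range p, ν ⟨(z ^ j)⁻¹ * v * z ^ j, conj_pow_mem U₀ z hv j⟩ =
      ν ⟨(fun y : U => y⁻¹ * z⁻¹ * y * z)^[p - 1] v, iterate_comm_mem U₀ z hv (p - 1)⟩ := by
  have hM : ∀ m : Additive A, p • m = 0 := by
    intro m
    have := hA (Additive.toMul m)
    exact congrArg Additive.ofMul this
  have hsum := sum_range_eq_fwdDiff_iter hp hM (fun j : ℕ => Additive.ofMul
        (ν ⟨(z ^ j)⁻¹ * v * z ^ j, conj_pow_mem U₀ z hv j⟩))
  rw [← ofMul_conj_iterate_eq_fwdDiff_iter U₀ ν z hv (p - 1) 0] at hsum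
  have h1 : (∑ j ∈ range p, Additive.ofMul
        (ν ⟨(z ^ j)⁻¹ * v * z ^ j, conj_pow_mem U₀ z hv j⟩)) =
      Additive.ofMul (∏ j ∈ range p, ν ⟨(z ^ j)⁻¹ * v * z ^ j, conj_pow_mem U₀ z hv j⟩) := by
    rw [ofMul_prod]
  rw [h1] at hsum
  have h2 := congrArg Additive.toMul hsum
  simpa using h2

/-- if `j ↦ ν (z⁻ʲ v zʲ)` is `p`-periodic then `ν [v, z; p] = 1` (exponent `p`) -/
theorem iterate_comm_p_eq_one {A : Type*} [CommGroup A] {p : ℕ} (hp : p.Prime)
    (hA : ∀ a : A, a ^ p = 1) (U₀ : Subgroup U) [hn : U₀.Normal] (ν : U₀ →* A) (z : U)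
    {v : U} (hv : v ∈ U₀)
    (hper : ν ⟨(z ^ p)⁻¹ * v * z ^ p, conj_pow_mem U₀ z hv p⟩ = ν ⟨v, hv⟩) :
    ν ⟨(fun y : U => y⁻¹ * z⁻¹ * y * z)^[p] v, iterate_comm_mem U₀ z hv p⟩ = 1 := by
  have hM : ∀ m : Additive A, p • m = 0 := by
    intro m
    have := hA (Additive.toMul m)
    exact congrArg Additive.ofMul this
  let f : ℕ → Additive A := fun j : ℕ => Additive.ofMul
        (ν ⟨(z ^ j)⁻¹ * v * z ^ j, conj_pow_mem U₀ z hv j⟩)
  have hN := shift_eq_sum_fwdDiff_iter (1 : ℕ) f p 0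
  rw [Finset.sum_range_succ] at hN
  have hzero : ∑ k ∈ range (p - 1), p.choose (k + 1) • (Δ_[1]^[k + 1] f) 0 = 0 := by
    apply Finset.sum_eq_zero
    intro k hk
    have hlt : k + 1 < p := by have := Finset.mem_range.mp hk; omega
    obtain ⟨c, hc⟩ := hp.dvd_choose_self (Nat.succ_ne_zero k) hlt
    rw [hc, mul_comm, mul_smul, hM, smul_zero]
  have hp1 : p = (p - 1) + 1 := (Nat.sub_add_cancel hp.one_le).symm
  have h0 : ∑ k ∈ range p, p.choose k • (Δ_[1]^[k] f) 0 =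
      ∑ k ∈ range (p - 1), p.choose (k + 1) • (Δ_[1]^[k + 1] f) 0 + f 0 := by
    have h := Finset.sum_range_succ' (fun k => p.choose k • (Δ_[1]^[k] f) 0) (p - 1)
    rw [← hp1] at h
    rw [h]
    simp
  rw [h0, hzero, zero_add, zero_add, Nat.choose_self, one_smul] at hN
  have hf0 : f 0 = Additive.ofMul (ν ⟨v, hv⟩) := by
    simp only [f]
    congr 2
    apply Subtype.ext
    simp
  have hfp : f (p • 1) = Additive.ofMul (ν ⟨v, hv⟩) := by
    simp only [f, smul_eq_mul, mul_one]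
    rw [hper]
  rw [hfp, hf0] at hN
  have hΔ : (Δ_[1]^[p] f) 0 = 0 := by
    have := hN
    rwa [left_eq_add] at this
  have h3 := ofMul_conj_iterate_eq_fwdDiff_iter U₀ ν z hv p 0
  rw [hΔ] at h3
  have h4 := congrArg Additive.toMul h3
  simp only [toMul_ofMul, toMul_zero] at h4
  rw [← h4]
  congr 1
  apply Subtype.ext
  simp

end Cfsg.Agent.Lib.Helper14
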