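import Cfsg.Agent.Lib.Helper14.HallWielandt

/-!
# Transfer and Engel elements (Glauberman)

The transfer `G → S → A` evaluated on a normal subgroup `X ≤ S` of `G`, in the presence of a set
`E ⊆ S` of elements acting on `X / Y` with `(e - 1)^(p-1) = 0`.
-/

set_option autoImplicit false
set_option linter.unusedSectionVars false
set_option linter.style.haveILetI false

namespace Cfsg.Agent.Lib.Helper14

open Subgroup MulAction Finset

section Basic

variable {G : Type*} [Group G] {A : Type*} [CommGroup A]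

/-- the transfer of an element all of whose conjugates lie in `H` -/
theorem transfer_eq_prod_conj {H : Subgroup G} [H.FiniteIndex] (ϕ : H →* A) (g : G)
    (hg : ∀ y : G, y⁻¹ * g * y ∈ H) :
    letI : Fintype (G ⧸ H) := H.fintypeQuotientOfFiniteIndex
    MonoidHom.transfer ϕ g = ∏ q : G ⧸ H, ϕ ⟨(Quotient.out q)⁻¹ * g * Quotient.out q, hg _⟩ := by
  letI : Fintype (G ⧸ H) := H.fintypeQuotientOfFiniteIndex
  exact transfer_eq_prod_of_equiv ϕ (Equiv.refl (G ⧸ H)) (fun q => Quotient.out q)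
    (fun q => Quotient.out_eq' q) g id (fun q => hg _)

/-- **Norm = iterated commutator**, for `ν` with values of order dividing `p`. -/
theorem prod_conj_eq_iterate_comm' {p : ℕ} (hp : p.Prime) (U₀ : Subgroup G) [hn : U₀.Normal]
    (ν : U₀ →* A) (hν : ∀ u : U₀, ν u ^ p = 1) (z : G) {v : G} (hv : v ∈ U₀) :
    ∏ j ∈ range p, ν ⟨(z ^ j)⁻¹ * v * z ^ j, conj_pow_mem U₀ z hv j⟩ =
      ν ⟨(fun y : G => y⁻¹ * z⁻¹ * y * z)^[p - 1] v, iterate_comm_mem U₀ z hv (p - 1)⟩ := by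
  have hA : ∀ a : ν.range, a ^ p = 1 := by
    rintro ⟨a, u, rfl⟩
    apply Subtype.ext
    simpa using hν u
  have h := prod_conj_eq_iterate_comm hp hA U₀ ν.rangeRestrict z hv
  have h2 := congrArg (ν.range.subtype) h
  rw [map_prod] at h2
  simpa using h2

end Basic

section PStep

variable {U : Type*} [Group U] [Finite U] {A : Type*} [CommGroup A] {p : ℕ} [Fact p.Prime]

theorem conj_conj_pow_mem (X' : Subgroup U) [hn : X'.Normal] {x : U} (hx : x ∈ X') (e r : U)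
    (j : ℕ) : r⁻¹ * ((e ^ j)⁻¹ * x * e ^ j) * r ∈ X' := by
  have h1 := conj_pow_mem X' e hx j
  have h2 := hn.conj_mem _ h1 r⁻¹
  simpa using h2

/-- In a finite `p`-group `U = ⟨E'⟩ Q'`, the transfer into a proper subgroup `St ≥ Q'` of an element
of a normal subgroup `X' ≤ St` is trivial, provided that the norms `∏_{j<p} ψ (r⁻¹ e⁻ʲ x eʲ r)`
are trivial for all `e ∈ E'`. -/
theorem transfer_eq_one_of_norm_eq_one (hU : IsPGroup p U) (St : Subgroup U) (hSt : St ≠ ⊤)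
    (ψ : St →* A) (X' : Subgroup U) [hn : X'.Normal] (hXSt : X' ≤ St) (E' : Set U)
    (Q' : Subgroup U) (hQSt : Q' ≤ St) (hgen : closure E' ⊔ Q' = ⊤)
    (hstar : ∀ e ∈ E', ∀ (r x : U) (hx : x ∈ X'),
      ∏ j ∈ range p, ψ ⟨r⁻¹ * ((e ^ j)⁻¹ * x * e ^ j) * r,
        hXSt (conj_conj_pow_mem X' hx e r j)⟩ = 1)
    (x : U) (hx : x ∈ X') : MonoidHom.transfer ψ x = 1 := by
  classical
  have hp : p.Prime := Fact.out
  obtain ⟨U₀, hU₀, hStU₀⟩ := (eq_top_or_exists_le_coatom St).resolve_left hSt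
  haveI hnU₀ : U₀.Normal := Cfsg.Agent.Lib.Helper03.normal_of_isCoatom_of_isPGroup hU hU₀
  have hidx : U₀.index = p := Cfsg.Agent.Lib.Helper03.index_of_isCoatom_of_isPGroup hU hU₀
  have hxU₀ : x ∈ U₀ := hStU₀ (hXSt hx)
  -- some `e ∈ E'` lies outside `U₀`
  have hex : ∃ e ∈ E', e ∉ U₀ := by
    by_contra hcon
    push Not at hcon
    apply hU₀.1
    rw [eq_top_iff, ← hgen]
    exact sup_le ((closure_le U₀).mpr hcon) (hQSt.trans hStU₀)
  obtain ⟨e, heE, heU₀⟩ := hex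
  rw [transfer_eq_prod_conj_of_normal U₀ St hStU₀ (fun j : Fin p => e ^ (j : ℕ))
    (exists_unique_pow_of_index_prime U₀ hidx heU₀) ψ x hxU₀]
  -- each factor is a product over the cosets of `St` in `U₀`
  have hconj : ∀ (j : ℕ) (y : U₀),
      y⁻¹ * (⟨(e ^ j)⁻¹ * x * e ^ j, conj_pow_mem U₀ e hxU₀ j⟩ : U₀) * y ∈ St.subgroupOf U₀ := by
    intro j y
    rw [mem_subgroupOf]
    have := conj_conj_pow_mem X' hx e (y : U) j
    exact hXSt (by simpa using this)
  letI : Fintype (↥U₀ ⧸ St.subgroupOf U₀) := (St.subgroupOf U₀).fintypeQuotientOfFiniteIndex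
  have hfac : ∀ j : Fin p, MonoidHom.transfer (subHom (U₀ := U₀) ψ)
      (⟨(e ^ (j : ℕ))⁻¹ * x * e ^ (j : ℕ), conj_pow_mem U₀ e hxU₀ j⟩ : U₀) =
      ∏ q : ↥U₀ ⧸ St.subgroupOf U₀, ψ ⟨((Quotient.out q : U₀) : U)⁻¹ *
        ((e ^ (j : ℕ))⁻¹ * x * e ^ (j : ℕ)) * ((Quotient.out q : U₀) : U),
          hXSt (conj_conj_pow_mem X' hx e _ j)⟩ := by
    intro j
    rw [transfer_eq_prod_conj (subHom (U₀ := U₀) ψ) _ (hconj j)]
    apply Finset.prod_congr rfl
    intro q _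
    rw [subHom_apply]
    congr 1
  rw [Finset.prod_congr rfl (fun j _ => hfac j), Finset.prod_comm]
  apply Finset.prod_eq_one
  intro q _
  rw [Fin.prod_univ_eq_prod_range (fun j : ℕ => ψ ⟨((Quotient.out q : U₀) : U)⁻¹ *
        ((e ^ j)⁻¹ * x * e ^ j) * ((Quotient.out q : U₀) : U),
          hXSt (conj_conj_pow_mem X' hx e _ j)⟩) p]
  exact hstar e heE _ x hx

end PStep

section KT

variable {G : Type*} [Group G] [Finite G] {A : Type*} [CommGroup A] {p : ℕ} [Fact p.Prime]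

theorem inv_conj_mem (X : Subgroup G) [hn : X.Normal] {x : G} (hx : x ∈ X) (g : G) :
    g⁻¹ * x * g ∈ X := by
  have := hn.conj_mem x hx g⁻¹
  simpa using this

theorem mem_stabilizer_of_conj_mem {S : Subgroup G} (K : Subgroup G) (x : G) (s : K)
    (hs : x⁻¹ * (s : G) * x ∈ S) : s ∈ stabilizer K ((x : G) : G ⧸ S) := by
  rw [mem_stabilizer_iff, subgroup_smul_coe, QuotientGroup.eq]
  have := S.inv_mem hs
  simpa [mul_assoc] using this

/-- the norm `∏_{j<p} ϕ (g₁⁻¹ e⁻ʲ x eʲ g₁)` is trivial when `e` acts on `X / Y` with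
`(e - 1)^(p-1) = 0`, `X / Y` has exponent `p` and `ϕ` kills `Y` -/
theorem engel_norm_eq_one (S : Subgroup G) (ϕ : S →* A) (X Y : Subgroup G) [hX : X.Normal]
    [hY : Y.Normal] (hXS : X ≤ S) (hYX : Y ≤ X)
    (hYker : ∀ y (hy : y ∈ Y), ϕ ⟨y, hXS (hYX hy)⟩ = 1)
    (hpow : ∀ x ∈ X, x ^ p ∈ Y) {e : G}
    (he : ∀ x ∈ X, (fun y : G => y⁻¹ * e⁻¹ * y * e)^[p - 1] x ∈ Y)
    (g₁ x : G) (hx : x ∈ X) :
    ∏ j ∈ range p, ϕ ⟨g₁⁻¹ * ((e ^ j)⁻¹ * x * e ^ j) * g₁,
      hXS (conj_conj_pow_mem X hx e g₁ j)⟩ = 1 := by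
  have hp : p.Prime := Fact.out
  let ν : X →* A :=
    { toFun := fun c => ϕ ⟨g₁⁻¹ * (c : G) * g₁, hXS (inv_conj_mem X c.2 g₁)⟩
      map_one' := by
        have : (⟨g₁⁻¹ * ((1 : X) : G) * g₁, hXS (inv_conj_mem X (1 : X).2 g₁)⟩ : S) = 1 := by
          apply Subtype.ext; simp
        rw [this, map_one]
      map_mul' := fun a b => by
        rw [← map_mul]
        congr 1
        apply Subtype.ext
        simp [mul_assoc] }
  have hνY : ∀ (c : X), (c : G) ∈ Y → ν c = 1 := by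
    intro c hc
    exact hYker _ (inv_conj_mem Y hc g₁)
  have hν : ∀ u : X, ν u ^ p = 1 := by
    intro u
    rw [← map_pow]
    apply hνY
    simpa using hpow u u.2
  have h := prod_conj_eq_iterate_comm' hp X ν hν e hx
  have h2 : ν ⟨(fun y : G => y⁻¹ * e⁻¹ * y * e)^[p - 1] x, iterate_comm_mem X e hx (p - 1)⟩ = 1 :=
    hνY _ (he x hx)
  rw [h2] at h
  exact h

/-- **Glauberman's transfer computation.** Let `S` be a Sylow `p`-subgroup of `G`, `ϕ : S → A`,
`Y ≤ X ≤ Q ≤ S` normal subgroups of `G` with `X / Y` of exponent `p` and `ϕ (Y) = 1`, and `E ⊆ S`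
a set of elements acting on `X / Y` with `(e - 1)^(p-1) = 0`. If `ϕ` is stable on `X` under every
`g` conjugating `E` into `S`, then the transfer of `x ∈ X` is a `p'`-power of `ϕ x`. -/
theorem transfer_eq_pow_of_engel (S : Subgroup G) (hS : IsPGroup p S) (hidx : ¬ p ∣ S.index)
    (ϕ : S →* A) (Q X Y : Subgroup G) [hQ : Q.Normal] [hX : X.Normal] [hY : Y.Normal]
    (hQS : Q ≤ S) (hXQ : X ≤ Q) (hYX : Y ≤ X)
    (hYker : ∀ y (hy : y ∈ Y), ϕ ⟨y, hQS (hXQ (hYX hy))⟩ = 1)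
    (hpow : ∀ x ∈ X, x ^ p ∈ Y) (E : Set G) (hES : E ⊆ S)
    (hE1 : ∀ e ∈ E, ∀ x ∈ X, (fun y : G => y⁻¹ * e⁻¹ * y * e)^[p - 1] x ∈ Y)
    (hE2 : ∀ g : G, (∀ e ∈ E, g⁻¹ * e * g ∈ S) → ∀ x (hx : x ∈ X),
      ϕ ⟨g⁻¹ * x * g, hQS (hXQ (inv_conj_mem X hx g))⟩ = ϕ ⟨x, hQS (hXQ hx)⟩)
    (x : G) (hx : x ∈ X) :
    ∃ m : ℕ, ¬ p ∣ m ∧ MonoidHom.transfer ϕ x = ϕ ⟨x, hQS (hXQ hx)⟩ ^ m := by
  classical
  have hp : p.Prime := Fact.out
  set K : Subgroup G := closure E ⊔ Q with hK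
  have hEK : E ⊆ K := fun e he => mem_sup_left (subset_closure he)
  have hQK : Q ≤ K := le_sup_right
  have hKS : K ≤ S := sup_le ((closure_le S).mpr hES) hQS
  have hKp : IsPGroup p K := hS.to_le hKS
  have hXS : X ≤ S := hXQ.trans hQS
  letI : Fintype (orbitRel.Quotient K (G ⧸ S)) := Fintype.ofFinite _
  let φ : orbitRel.Quotient K (G ⧸ S) → G := fun ω => Quotient.out (Quotient.out ω)
  have hφ' : ∀ ω, ((φ ω : G) : G ⧸ S) = Quotient.out ω := fun ω => Quotient.out_eq' _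
  have hφ : ∀ ω, (Quotient.mk'' ((φ ω : G) : G ⧸ S) : orbitRel.Quotient K (G ⧸ S)) = ω := by
    intro ω
    rw [hφ']
    exact Quotient.out_eq' ω
  let k : K := ⟨x, hQK (hXQ hx)⟩
  have hmackey := transfer_eq_prod_orbits ϕ K φ hφ k
  -- the contribution of each orbit
  have horbit : ∀ ω, MonoidHom.transfer (stabHom ϕ K (φ ω)) k =
      if stabilizer K ((φ ω : G) : G ⧸ S) = ⊤ then ϕ ⟨x, hQS (hXQ hx)⟩ else 1 := by
    intro ω
    split_ifs with htop
    · rw [transfer_eq_of_eq_top _ htop, stabHom_apply]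
      have hconj : ∀ e ∈ E, (φ ω)⁻¹ * e * φ ω ∈ S := by
        intro e he
        exact conj_mem_of_mem_stabilizer K (φ ω) ⟨e, hEK he⟩ (by rw [htop]; trivial)
      exact hE2 (φ ω) hconj x hx
    · have hXSt : X.subgroupOf K ≤ stabilizer K ((φ ω : G) : G ⧸ S) := by
        intro s hs
        exact mem_stabilizer_of_conj_mem K (φ ω) s (hXS (inv_conj_mem X (mem_subgroupOf.mp hs) _))
      have hQSt : Q.subgroupOf K ≤ stabilizer K ((φ ω : G) : G ⧸ S) := by
        intro s hs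
        exact mem_stabilizer_of_conj_mem K (φ ω) s (hQS (inv_conj_mem Q (mem_subgroupOf.mp hs) _))
      have hgen : closure {s : K | (s : G) ∈ E} ⊔ Q.subgroupOf K = ⊤ := by
        apply Subgroup.map_injective K.subtype_injective
        rw [Subgroup.map_sup, MonoidHom.map_closure, ← MonoidHom.range_eq_map,
          Subgroup.range_subtype, Subgroup.map_subgroupOf_eq_of_le hQK]
        have himg : (K.subtype '' {s : K | (s : G) ∈ E}) = E := by
          ext e
          constructor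
          · rintro ⟨s, hs, rfl⟩
            exact hs
          · intro he
            exact ⟨⟨e, hEK he⟩, he, rfl⟩
        rw [himg]
      apply transfer_eq_one_of_norm_eq_one hKp _ htop (stabHom ϕ K (φ ω)) (X.subgroupOf K) hXSt
        {s : K | (s : G) ∈ E} (Q.subgroupOf K) hQSt hgen _ k (mem_subgroupOf.mpr hx)
      intro e he r x' hx'
      have h1 := engel_norm_eq_one S ϕ X Y hXS hYX hYker hpow (hE1 (e : G) he)
        ((r : G) * φ ω) (x' : G) (mem_subgroupOf.mp hx')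
      rw [← h1]
      apply Finset.prod_congr rfl
      intro j _
      rw [stabHom_apply]
      congr 1
      apply Subtype.ext
      simp [mul_assoc]
  rw [hmackey, Finset.prod_congr rfl (fun ω _ => horbit ω), Finset.prod_ite, Finset.prod_const,
    Finset.prod_const_one, mul_one]
  refine ⟨_, ?_, rfl⟩
  -- the number of fixed points is prime to `p`
  have hmod := hKp.card_modEq_card_fixedPoints (G ⧸ S)
  have hcard : (Finset.univ.filter (fun ω : orbitRel.Quotient K (G ⧸ S) =>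
      stabilizer K ((φ ω : G) : G ⧸ S) = ⊤)).card = Nat.card (fixedPoints K (G ⧸ S)) := by
    rw [← Fintype.card_subtype, ← Nat.card_eq_fintype_card]
    apply Nat.card_congr
    refine Equiv.ofBijective (fun ω => ⟨((φ ω.1 : G) : G ⧸ S), ?_⟩) ⟨?_, ?_⟩
    · intro s
      have : s ∈ stabilizer K ((φ ω.1 : G) : G ⧸ S) := by rw [ω.2]; trivial
      exact this
    · intro ω ω' h
      have h1 := congrArg Subtype.val h
      simp only at h1
      apply Subtype.ext
      rw [← hφ ω.1, ← hφ ω'.1, h1]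
    · intro q
      have hq : ∀ s : K, s • (q : G ⧸ S) = q := fun s => q.2 s
      have hrel := Quotient.exact (hφ (Quotient.mk'' (q : G ⧸ S)))
      obtain ⟨s, hs⟩ := hrel
      have heq : ((φ (Quotient.mk'' (q : G ⧸ S)) : G) : G ⧸ S) = q :=
        hs.symm.trans (hq s)
      refine ⟨⟨Quotient.mk'' (q : G ⧸ S), ?_⟩, Subtype.ext heq⟩
      rw [eq_top_iff]
      intro s _
      rw [mem_stabilizer_iff, heq]
      exact hq s
  rw [hcard]
  intro hdvd
  apply hidx
  rw [Subgroup.index_eq_card]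
  exact (Nat.modEq_zero_iff_dvd.mp (hmod.trans (Nat.modEq_zero_iff_dvd.mpr hdvd)))

end KT

end Cfsg.Agent.Lib.Helper14
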