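import Mathlib
import Cfsg.Agent.Lib.Helper96.FC91Defs

/-!
# S4291, keystone K-MNORM: the `30'`-part of `G₀ = S M` is normal
-/

set_option autoImplicit false

universe u

namespace Cfsg.Agent.Lib.Helper14.FC91

/-- The set of products `s * m` of two elementwise commuting subgroups is a subgroup. -/
def prodSub {G : Type u} [Group G] (S M : Subgroup G)
    (hcomm : ∀ s ∈ S, ∀ x ∈ M, s * x = x * s) : Subgroup G where
  carrier := {x | ∃ s ∈ S, ∃ m ∈ M, x = s * m}
  one_mem' := ⟨1, S.one_mem, 1, M.one_mem, by simp⟩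
  mul_mem' := by
    rintro _ _ ⟨s, hs, m, hm, rfl⟩ ⟨s', hs', m', hm', rfl⟩
    refine ⟨s * s', S.mul_mem hs hs', m * m', M.mul_mem hm hm', ?_⟩
    have h := hcomm s' hs' m hm
    calc s * m * (s' * m') = s * (m * s') * m' := by group
      _ = s * (s' * m) * m' := by rw [h]
      _ = s * s' * (m * m') := by group
  inv_mem' := by
    rintro _ ⟨s, hs, m, hm, rfl⟩
    refine ⟨s⁻¹, S.inv_mem hs, m⁻¹, M.inv_mem hm, ?_⟩
    have h := hcomm s⁻¹ (S.inv_mem hs) m⁻¹ (M.inv_mem hm)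
    rw [mul_inv_rev, h]

theorem sup_le_prodSub {G : Type u} [Group G] (S M : Subgroup G)
    (hcomm : ∀ s ∈ S, ∀ x ∈ M, s * x = x * s) : S ⊔ M ≤ prodSub S M hcomm := by
  apply sup_le
  · intro s hs
    exact ⟨s, hs, 1, M.one_mem, by simp⟩
  · intro m hm
    exact ⟨1, S.one_mem, m, hm, by simp⟩

/-- **K-MNORM.** -/
theorem normal_of_coprime_thirty {G : Type u} [Group G] [Finite G] (G₀ S M : Subgroup G) (hG₀ : G₀.Normal)
    (hsup : S ⊔ M = G₀) (hcomm : ∀ s ∈ S, ∀ x ∈ M, s * x = x * s) (hS : Nat.card S = 120)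
    (hM : (Nat.card M).Coprime 30) : M.Normal := by
  constructor
  intro x hx g
  have hxG₀ : x ∈ G₀ := by rw [← hsup]; exact (le_sup_right : M ≤ S ⊔ M) hx
  have hconj : g * x * g⁻¹ ∈ G₀ := hG₀.conj_mem x hxG₀ g
  rw [← hsup] at hconj
  obtain ⟨s, hs, m, hm, hsm⟩ := sup_le_prodSub S M hcomm hconj
  set k := Nat.card M with hk
  -- (g x g⁻¹)^k = 1
  have hxk : x ^ k = 1 :=
    orderOf_dvd_iff_pow_eq_one.mp (Subgroup.orderOf_dvd_natCard M hx)
  have hck : (g * x * g⁻¹) ^ k = 1 := by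
    rw [conj_pow, hxk, mul_one, mul_inv_cancel]
  have hmk : m ^ k = 1 :=
    orderOf_dvd_iff_pow_eq_one.mp (Subgroup.orderOf_dvd_natCard M hm)
  have hsk : s ^ k = 1 := by
    have hc : Commute s m := hcomm s hs m hm
    rw [hsm, hc.mul_pow, hmk, mul_one] at hck
    exact hck
  have hs120 : s ^ 120 = 1 := by
    have := Subgroup.orderOf_dvd_natCard S hs
    rw [hS] at this
    exact orderOf_dvd_iff_pow_eq_one.mp this
  have hcop : Nat.Coprime k 120 := by
    have h1 : Nat.Coprime k (30 ^ 3) := Nat.Coprime.pow_right 3 hM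
    exact Nat.Coprime.coprime_dvd_right (by norm_num) h1
  have hs1 : s = 1 := by
    have h1 : orderOf s ∣ k := orderOf_dvd_of_pow_eq_one hsk
    have h2 : orderOf s ∣ 120 := orderOf_dvd_of_pow_eq_one hs120
    have h3 : orderOf s ∣ Nat.gcd k 120 := Nat.dvd_gcd h1 h2
    rw [hcop] at h3
    exact orderOf_eq_one_iff.mp (Nat.dvd_one.mp h3)
  rw [hsm, hs1, one_mul]
  exact hm

end Cfsg.Agent.Lib.Helper14.FC91
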