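import Cfsg.Agent.Lib.Helper14.Yoshida

/-!
# An abstract evaluation of the transfer (for Yoshida's theorem in fusion systems)

`G` a finite group, `H ≤ G` of index prime to `p`, `ϕ : H → Z_p`, `K ≤ G` a `p`-subgroup that has no
quotient `Z_p ≀ Z_p`.  If `ϕ (x⁻¹ k x) = (lam k)⁻¹` on the cosets `x H` fixed by `K`, then the
transfer `G → Z_p` takes the value `(lam u)⁻¹ ^ n` (`n` prime to `p`, independent of `u`) at every
`u ∈ K` such that `ϕ` is trivial at the conjugates in `H` of the powers `u ^ j`, `p ∣ j`.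
-/

set_option autoImplicit false
set_option linter.unusedSectionVars false
set_option linter.style.haveILetI false

namespace Cfsg.Agent.Lib.Helper14.FusYoshida

open Subgroup MulAction Cfsg.Agent.Lib.Helper14

variable {G : Type*} [Group G] [Finite G] {p : ℕ} [Fact p.Prime]

theorem zcard : Nat.card (Multiplicative (ZMod p)) = p := by
  rw [Nat.card_eq_fintype_card]
  exact (Fintype.card_multiplicative _).trans (ZMod.card p)

theorem zpow (a : Multiplicative (ZMod p)) : a ^ p = 1 := by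
  have := pow_card_eq_one' (G := Multiplicative (ZMod p)) (x := a)
  rwa [zcard] at this

/-- a homomorphism from a `p`-group `K` with normal subgroup `U₀` of index `p`, nontrivial at an
iterated commutator `[v, z; p - 1]`, gives `Z_p ≀ Z_p` as a quotient of `K` -/
theorem exists_surj_of_nu_ne_one {K : Type*} [Group K] [Finite K] (hK : IsPGroup p K)
    (U₀ : Subgroup K) [hn : U₀.Normal] (hidx : U₀.index = p) (ν : U₀ →* Multiplicative (ZMod p))
    (z : K) {v : K} (hv : v ∈ U₀)
    (hc : ν ⟨(fun y : K => y⁻¹ * z⁻¹ * y * z)^[p - 1] v, iterate_comm_mem U₀ z hv (p - 1)⟩ ≠ 1) :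
    ∃ (P : Sylow p (Equiv.Perm (Fin (p ^ 2))))
      (f : K →* ↥(P : Subgroup (Equiv.Perm (Fin (p ^ 2))))), Function.Surjective f := by
  have hp : p.Prime := Fact.out
  have hcore := pow_dvd_index_normalCore U₀ hidx zcard ν z hv hc
  haveI : Fact (Nat.card (Multiplicative (ZMod p))).Prime := ⟨by rw [zcard]; exact hp⟩
  have hrange : ν.range = ⊤ := by
    rcases (ν.range).eq_bot_or_eq_top_of_prime_card with h | h
    · exfalso
      apply hc
      have : ν ⟨(fun y : K => y⁻¹ * z⁻¹ * y * z)^[p - 1] v, iterate_comm_mem U₀ z hv (p - 1)⟩ ∈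
          ν.range := ⟨_, rfl⟩
      rw [h, Subgroup.mem_bot] at this
      exact this
    · exact h
  have hker : ν.ker.index = p := by
    rw [Subgroup.index_ker, hrange, Nat.card_congr (Subgroup.topEquiv).toEquiv, zcard]
  have hKidx : (ν.ker.map U₀.subtype).index = p ^ 2 := by
    rw [Subgroup.index_map_subtype, hker, hidx, pow_two]
  exact exists_surjective_sylow_perm hK _ hKidx hcore

section Eval

variable (H : Subgroup G) (ϕ : H →* Multiplicative (ZMod p)) (K : Subgroup G)

/-- the contribution of an orbit of `K` on `G ⧸ H` that is not a fixed point -/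
theorem contrib_eq_one (hK : IsPGroup p K)
    (hno : ¬ ∃ (P : Sylow p (Equiv.Perm (Fin (p ^ 2))))
      (f : K →* ↥(P : Subgroup (Equiv.Perm (Fin (p ^ 2))))), Function.Surjective f)
    (x : G) (hx : stabilizer K ((x : G) : G ⧸ H) ≠ ⊤) (u : K)
    (hpow : ∀ (j : ℕ) (y : G) (hy : y⁻¹ * ((u : G) ^ j) * y ∈ H), p ∣ j → ϕ ⟨_, hy⟩ = 1) :
    MonoidHom.transfer (stabHom ϕ K x) u = 1 := by
  classical
  have hp : p.Prime := Fact.out
  have hA : ∀ a : Multiplicative (ZMod p), a ^ p = 1 := zpow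
  set S' : Subgroup K := stabilizer K ((x : G) : G ⧸ H) with hS'
  by_cases hfix : ∃ y : K, y⁻¹ * u * y ∈ S'
  · obtain ⟨y, hy⟩ := hfix
    have hconj : MonoidHom.transfer (stabHom ϕ K x) (y⁻¹ * u * y) =
        MonoidHom.transfer (stabHom ϕ K x) u := by
      rw [map_mul, map_mul, map_inv, mul_comm, mul_inv_cancel_left]
    rw [← hconj]
    have hgen : zpowers (y⁻¹ * u * y) ⊔ (⊤ : Subgroup K) = ⊤ := sup_top_eq _
    have hWS : ¬ (⊤ : Subgroup K) ≤ S' := fun h => hx (top_le_iff.mp h)
    obtain ⟨z, -, U₀, hn, hidx, -, hv, hv₀, ν, heq⟩ :=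
      exists_transfer_eq_iterate_comm hK hA S' (stabHom ϕ K x) hy ⊤ hgen hWS
    rw [heq]
    by_contra hne
    exact hno (exists_surj_of_nu_ne_one hK U₀ hidx ν z hv hne)
  · push Not at hfix
    apply transfer_eq_one_of_no_fixed S' (stabHom ϕ K x) u (IsPGroup.iff_orderOf.mp hK u) hfix
    intro n y hmem hn
    rw [stabHom_apply]
    have hmem' : ((y : G) * x)⁻¹ * ((u : G) ^ n) * ((y : G) * x) ∈ H := by
      have := conj_mem_of_mem_stabilizer (H := H) K x (y⁻¹ * u ^ n * y) hmem
      have e : ((y : G) * x)⁻¹ * ((u : G) ^ n) * ((y : G) * x) =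
          x⁻¹ * ((y⁻¹ * u ^ n * y : K) : G) * x := by
        simp only [Subgroup.coe_mul, Subgroup.coe_inv, Subgroup.coe_pow]
        group
      rw [e]
      exact this
    have h1 := hpow n ((y : G) * x) hmem' hn
    rw [← h1]
    congr 1
    apply Subtype.ext
    simp only [Subgroup.coe_mul, Subgroup.coe_inv, Subgroup.coe_pow]
    group

/-- the contribution of a fixed point of `K` on `G ⧸ H` -/
theorem contrib_fixed (x : G) (hx : stabilizer K ((x : G) : G ⧸ H) = ⊤) (u : K) :
    ∃ hu : x⁻¹ * (u : G) * x ∈ H,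
      MonoidHom.transfer (stabHom ϕ K x) u = ϕ ⟨x⁻¹ * (u : G) * x, hu⟩ := by
  have hmem : u ∈ stabilizer K ((x : G) : G ⧸ H) := hx ▸ Subgroup.mem_top u
  refine ⟨conj_mem_of_mem_stabilizer (H := H) K x u hmem, ?_⟩
  rw [transfer_eq_of_eq_top _ hx (stabHom ϕ K x) u, stabHom_apply]

/-- **Evaluation of the transfer.** -/
theorem transfer_eval (hK : IsPGroup p K) (hidx : ¬ p ∣ H.index)
    (hno : ¬ ∃ (P : Sylow p (Equiv.Perm (Fin (p ^ 2))))
      (f : K →* ↥(P : Subgroup (Equiv.Perm (Fin (p ^ 2))))), Function.Surjective f)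
    (lam : K →* Multiplicative (ZMod p))
    (hfix : ∀ x : G, (∀ k : K, x⁻¹ * (k : G) * x ∈ H) →
      ∀ (k : K) (hk : x⁻¹ * (k : G) * x ∈ H), ϕ ⟨_, hk⟩ = (lam k)⁻¹) :
    ∃ n : ℕ, ¬ p ∣ n ∧ ∀ u : K,
      (∀ (j : ℕ) (x : G) (hx : x⁻¹ * ((u : G) ^ j) * x ∈ H), p ∣ j → ϕ ⟨_, hx⟩ = 1) →
      MonoidHom.transfer ϕ (u : G) = (lam u)⁻¹ ^ n := by
  classical
  letI : Fintype (orbitRel.Quotient K (G ⧸ H)) := Fintype.ofFinite _
  -- representatives of the orbits
  have hex : ∀ ω : orbitRel.Quotient K (G ⧸ H), ∃ x : G,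
      (Quotient.mk'' ((x : G) : G ⧸ H) : orbitRel.Quotient K (G ⧸ H)) = ω := by
    intro ω
    obtain ⟨q, rfl⟩ := Quotient.exists_rep ω
    obtain ⟨x, rfl⟩ := QuotientGroup.mk_surjective q
    exact ⟨x, rfl⟩
  choose φ hφ using hex
  set T : Finset (orbitRel.Quotient K (G ⧸ H)) :=
    Finset.univ.filter (fun ω => stabilizer K ((φ ω : G) : G ⧸ H) = ⊤) with hT
  refine ⟨T.card, ?_, ?_⟩
  · -- the number of fixed points is prime to `p`
    have hmod := hK.card_modEq_card_fixedPoints (G ⧸ H)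
    have hcard : Nat.card (fixedPoints K (G ⧸ H)) = T.card := by
      rw [← Nat.card_eq_finsetCard T]
      apply Nat.card_congr
      refine Equiv.ofBijective (fun q => ⟨Quotient.mk'' (q : G ⧸ H), ?_⟩) ⟨?_, ?_⟩
      · rw [hT, Finset.mem_filter]
        refine ⟨Finset.mem_univ _, ?_⟩
        have h1 := hφ (Quotient.mk'' (q : G ⧸ H))
        obtain ⟨k, hk⟩ := Quotient.exact h1
        have hq : ∀ k : K, k • (q : G ⧸ H) = q := fun k => q.2 k
        have h2 : ((φ (Quotient.mk'' (q : G ⧸ H)) : G) : G ⧸ H) = q := by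
          have : k • (q : G ⧸ H) = ((φ (Quotient.mk'' (q : G ⧸ H)) : G) : G ⧸ H) := hk
          rw [← this, hq]
        rw [eq_top_iff]
        intro k _
        rw [mem_stabilizer_iff, h2]
        exact hq k
      · intro q q' hqq
        have h0 : (Quotient.mk'' (q : G ⧸ H) : orbitRel.Quotient K (G ⧸ H)) =
            Quotient.mk'' (q' : G ⧸ H) := congrArg Subtype.val hqq
        obtain ⟨k, hk⟩ := Quotient.exact h0
        apply Subtype.ext
        have : k • (q' : G ⧸ H) = (q : G ⧸ H) := hk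
        rw [← this]
        exact q'.2 k
      · rintro ⟨ω, hω⟩
        rw [hT, Finset.mem_filter] at hω
        have hfixed : ((φ ω : G) : G ⧸ H) ∈ fixedPoints K (G ⧸ H) := by
          intro k
          have : k ∈ stabilizer K ((φ ω : G) : G ⧸ H) := hω.2 ▸ Subgroup.mem_top k
          exact this
        refine ⟨⟨_, hfixed⟩, ?_⟩
        apply Subtype.ext
        exact hφ ω
    intro hdvd
    apply hidx
    rw [Subgroup.index_eq_card]
    have h1 : Nat.card (fixedPoints K (G ⧸ H)) ≡ 0 [MOD p] := by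
      rw [hcard]
      exact (Nat.modEq_zero_iff_dvd).mpr hdvd
    exact (Nat.modEq_zero_iff_dvd).mp (hmod.trans h1)
  · intro u hpow
    have key := transfer_eq_prod_orbits ϕ K φ hφ u
    rw [key]
    have hterm : ∀ ω, MonoidHom.transfer (stabHom ϕ K (φ ω)) u =
        if ω ∈ T then (lam u)⁻¹ else 1 := by
      intro ω
      by_cases hω : stabilizer K ((φ ω : G) : G ⧸ H) = ⊤
      · have hωT : ω ∈ T := by
          rw [hT, Finset.mem_filter]
          exact ⟨Finset.mem_univ _, hω⟩
        rw [if_pos hωT]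
        obtain ⟨hu, he⟩ := contrib_fixed H ϕ K (φ ω) hω u
        rw [he]
        apply hfix (φ ω) _ u hu
        intro k
        have hmem : k ∈ stabilizer K ((φ ω : G) : G ⧸ H) := hω ▸ Subgroup.mem_top k
        exact conj_mem_of_mem_stabilizer (H := H) K (φ ω) k hmem
      · have hωT : ω ∉ T := by
          rw [hT, Finset.mem_filter]
          exact fun h => hω h.2
        rw [if_neg hωT]
        exact contrib_eq_one H ϕ K hK hno (φ ω) hω u hpow
    rw [Finset.prod_congr rfl (fun ω _ => hterm ω), Finset.prod_ite_mem, Finset.univ_inter,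
      Finset.prod_const]

end Eval

end Cfsg.Agent.Lib.Helper14.FusYoshida
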