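import Mathlib
import Cfsg.Prelude.Def_Solvable
import Cfsg.Agent.Lib.Helper72.G42Defs

set_option autoImplicit false

/-!
# K-G42 LEAF L3a (keystone 255303, S2553): a perfect minimal normal subgroup
-/

namespace Cfsg.Agent.Lib.Helper14.G42

open Cfsg.Agent.Lib.Helper72.G42

/-- conjugation by an element normalizing `N` normalizes `⁅N, N⁆` -/
theorem normalizedBy_commutator {G : Type*} [Group G] {K N : Subgroup G} (h : NormalizedBy K N) :
    NormalizedBy K ⁅N, N⁆ := by
  intro k hk m hm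
  have hle : N.map (MulAut.conj k).toMonoidHom ≤ N := by
    rintro _ ⟨n, hn, rfl⟩
    exact h k hk n hn
  have h1 : (MulAut.conj k).toMonoidHom m ∈ (⁅N, N⁆).map (MulAut.conj k).toMonoidHom :=
    Subgroup.mem_map_of_mem _ hm
  rw [Subgroup.map_commutator] at h1
  have h2 := Subgroup.commutator_mono hle hle h1
  simpa [MulAut.conj_apply] using h2

/-- 255303 L3a -/
theorem exists_minNormal_perfect (K : Subgroup (Equiv.Perm (Fin 8))) (hK : K ≠ ⊥)
    (hsolv : ∀ M : Subgroup (Equiv.Perm (Fin 8)), M ≤ K → NormalizedBy K M → Group.IsSolvable ↥M → M = ⊥) :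
    ∃ N : Subgroup (Equiv.Perm (Fin 8)), N ≤ K ∧ NormalizedBy K N ∧ N ≠ ⊥ ∧ ⁅N, N⁆ = N ∧
      ∀ M : Subgroup (Equiv.Perm (Fin 8)), M ≤ N → NormalizedBy K M → M = ⊥ ∨ M = N := by
  classical
  let S : Set (Subgroup (Equiv.Perm (Fin 8))) := {M | M ≤ K ∧ NormalizedBy K M ∧ M ≠ ⊥}
  have hne : S.Nonempty := by
    refine ⟨K, le_refl K, ?_, hK⟩
    intro k hk m hm
    exact K.mul_mem (K.mul_mem hk hm) (K.inv_mem hk)
  obtain ⟨N, hNS, hmin⟩ := (wellFounded_lt (α := Subgroup (Equiv.Perm (Fin 8)))).has_min S hne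
  obtain ⟨hNK, hNn, hN1⟩ := hNS
  have hminimal : ∀ M : Subgroup (Equiv.Perm (Fin 8)), M ≤ N → NormalizedBy K M → M = ⊥ ∨ M = N := by
    intro M hMN hMn
    by_cases hM1 : M = ⊥
    · exact Or.inl hM1
    · right
      have hMS : M ∈ S := ⟨hMN.trans hNK, hMn, hM1⟩
      have := hmin M hMS
      by_contra hne'
      exact this (lt_of_le_of_ne hMN hne')
  refine ⟨N, hNK, hNn, hN1, ?_, hminimal⟩
  have hcle : ⁅N, N⁆ ≤ N := by
    rw [Subgroup.commutator_le]
    intro a ha b hb
    rw [commutatorElement_def]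
    exact N.mul_mem (N.mul_mem (N.mul_mem ha hb) (N.inv_mem ha)) (N.inv_mem hb)
  rcases hminimal ⁅N, N⁆ hcle (normalizedBy_commutator hNn) with h0 | h0
  · exfalso
    apply hN1
    apply hsolv N hNK hNn
    rw [Subgroup.commutator_eq_bot_iff_le_centralizer] at h0
    apply Group.isSolvable_of_comm
    intro a b
    apply Subtype.ext
    have := h0 b.2
    rw [Subgroup.mem_centralizer_iff] at this
    exact this a a.2
  · exact h0

end Cfsg.Agent.Lib.Helper14.G42
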