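import Cfsg.Agent.Lib.Helper14.EngelTransfer
import Cfsg.Agent.Lib.Helper40.Cores
import Cfsg.Prelude.Def_LocalEven

/-!
# Glauberman: the structure of a minimal failure of transfer control

Framework-free forms of the two transfer arguments in the theorem on a minimal failure of control
of transfer: `M = N_G(T ∩ O_p(G))` is proper, and no element of `S \ O_p(G)` acts on all chief
factors below `O_p(G)` with `(u - 1)^(p-1) = 0`.
-/

set_option autoImplicit false
set_option linter.unusedSectionVars false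
set_option linter.style.haveILetI false

namespace Cfsg.Agent.Lib.Helper14

open Subgroup
open scoped commutatorElement

section QuotHom

variable {G : Type*} [Group G]

/-- the natural map `S → S / T` (for `S' ≤ T ≤ S`), with values in a commutative group -/
noncomputable def quotHom (S T : Subgroup G) :
    S →* Abelianization S ⧸ ((T.subgroupOf S).map Abelianization.of) :=
  (QuotientGroup.mk' _).comp Abelianization.of

theorem quotHom_eq_one_of_mem (S T : Subgroup G) (s : S) (hs : (s : G) ∈ T) :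
    quotHom S T s = 1 := by
  unfold quotHom
  rw [MonoidHom.comp_apply, QuotientGroup.mk'_apply, QuotientGroup.eq_one_iff]
  exact ⟨s, mem_subgroupOf.mpr hs, rfl⟩

theorem mem_of_quotHom_eq_one (S T : Subgroup G) (hST : ⁅S, S⁆ ≤ T) (s : S)
    (hs : quotHom S T s = 1) : (s : G) ∈ T := by
  unfold quotHom at hs
  rw [MonoidHom.comp_apply, QuotientGroup.mk'_apply, QuotientGroup.eq_one_iff] at hs
  obtain ⟨t, ht, hts⟩ := hs
  have h1 : Abelianization.of (t⁻¹ * s) = 1 := by
    rw [map_mul, map_inv, hts, inv_mul_cancel]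
  rw [← MonoidHom.mem_ker, Abelianization.ker_of] at h1
  have h2 : ((t⁻¹ * s : S) : G) ∈ (commutator S).map S.subtype := ⟨_, h1, rfl⟩
  rw [commutator_def, Subgroup.map_commutator, ← MonoidHom.range_eq_map,
    Subgroup.range_subtype] at h2
  have h3 := hST h2
  have h4 : (s : G) = (t : G) * ((t⁻¹ * s : S) : G) := by simp
  rw [h4]
  exact T.mul_mem (mem_subgroupOf.mp ht) h3

theorem quotHom_eq_of_mul_inv_mem (S T : Subgroup G) (a b : S) (h : (a : G) * (b : G)⁻¹ ∈ T) :
    quotHom S T a = quotHom S T b := by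
  have h1 : quotHom S T (a * b⁻¹) = 1 := quotHom_eq_one_of_mem S T _ (by simpa using h)
  rw [map_mul, map_inv, mul_inv_eq_one] at h1
  exact h1

/-- an element of a `p`-group whose image in `S / T` has order prime to `p` lies in `T` -/
theorem mem_of_quotHom_pow_eq_one {p : ℕ} [Fact p.Prime] (S T : Subgroup G) (hS : IsPGroup p S)
    (hST : ⁅S, S⁆ ≤ T) (s : S) {m : ℕ} (hm : ¬ p ∣ m) (h : quotHom S T s ^ m = 1) :
    (s : G) ∈ T := by
  have hp : p.Prime := Fact.out
  apply mem_of_quotHom_eq_one S T hST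
  obtain ⟨k, hk⟩ := hS s
  have h2 : quotHom S T s ^ p ^ k = 1 := by rw [← map_pow, hk, map_one]
  have hcop : Nat.Coprime m (p ^ k) :=
    Nat.Coprime.pow_right k ((Nat.Prime.coprime_iff_not_dvd hp).mpr hm).symm
  have := pow_gcd_eq_one.mpr ⟨h, h2⟩
  rwa [hcop, pow_one] at this

end QuotHom

section B2

variable {G : Type*} [Group G] [Finite G] {p : ℕ} [Fact p.Prime]

/-- If `N_G(S)` acts trivially on `Q / (T ∩ Q)` and `T ∩ Q` is normal in `G`, then all of `G` acts
trivially on `Q / (T ∩ Q)` (Frattini argument). -/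
theorem conj_mul_inv_mem_of_inf_normal (S : Sylow p G) (Q T : Subgroup G) [hQ : Q.Normal]
    (hQS : Q ≤ S) (hS'T : ⁅(S : Subgroup G), (S : Subgroup G)⁆ ≤ T) (hR : (T ⊓ Q).Normal)
    (hNS : ∀ h ∈ normalizer ((S : Subgroup G) : Set G), ∀ x ∈ Q, h⁻¹ * x * h * x⁻¹ ∈ T)
    (g : G) (x : G) (hx : x ∈ Q) : g⁻¹ * x * g * x⁻¹ ∈ T := by
  haveI := hR
  let f := QuotientGroup.mk' (T ⊓ Q)
  let C : Subgroup G := (centralizer ((Q.map f : Subgroup (G ⧸ (T ⊓ Q))) : Set (G ⧸ (T ⊓ Q)))).comap f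
  haveI hQf : (Q.map f).Normal := Subgroup.Normal.map hQ f (QuotientGroup.mk'_surjective _)
  haveI hCn : C.Normal := Subgroup.Normal.comap inferInstance f
  have hmemC : ∀ c : G, c ∈ C ↔ ∀ y ∈ Q, c⁻¹ * y * c * y⁻¹ ∈ T ⊓ Q := by
    intro c
    show f c ∈ centralizer _ ↔ _
    rw [mem_centralizer_iff]
    constructor
    · intro h y hy
      have h1 := h (f y) ⟨y, hy, rfl⟩
      -- f y * f c = f c * f y
      have h2 : f (c⁻¹ * y * c * y⁻¹) = 1 := by
        rw [map_mul, map_mul, map_mul, map_inv, map_inv, mul_assoc (f c)⁻¹, h1]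
        group
      exact (QuotientGroup.eq_one_iff _).mp h2
    · rintro h _ ⟨y, hy, rfl⟩
      have h2 : f (c⁻¹ * y * c * y⁻¹) = 1 := (QuotientGroup.eq_one_iff _).mpr (h y hy)
      rw [map_mul, map_mul, map_mul, map_inv, map_inv] at h2
      have h3 : f y * f c = f c * ((f c)⁻¹ * f y * f c * (f y)⁻¹) * f y := by group
      rw [h3, h2, mul_one]
  have hSC : (S : Subgroup G) ≤ C := by
    intro s hs
    rw [hmemC]
    intro y hy
    refine ⟨?_, ?_⟩
    · apply hS'T
      have : s⁻¹ * y * s * y⁻¹ = ⁅s⁻¹, y⁆ := by rw [commutatorElement_def, inv_inv]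
      rw [this]
      exact commutator_mem_commutator (inv_mem hs) (hQS hy)
    · exact Q.mul_mem (inv_conj_mem Q hy s) (inv_mem hy)
  have hNC : normalizer ((S : Subgroup G) : Set G) ≤ C := by
    intro h hh
    rw [hmemC]
    intro y hy
    exact ⟨hNS h hh y hy, Q.mul_mem (inv_conj_mem Q hy h) (inv_mem hy)⟩
  have hfr := Sylow.normalizer_sup_eq_top' S hSC
  have hCtop : C = ⊤ := by
    rw [eq_top_iff, ← hfr]
    exact sup_le hNC le_rfl
  have hg : g ∈ C := by rw [hCtop]; trivial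
  exact ((hmemC g).mp hg x hx).1

/-- **`M ≠ G`**: if `T ∩ Q` is normal in `G` and `N_G(S)` acts trivially on `Q / (T ∩ Q)`, then
`Q ∩ G' ≤ T` (evaluate the transfer `G → S / T` on `Q`). -/
theorem inf_commutator_le_of_inf_normal (S : Sylow p G) (Q T : Subgroup G) [hQ : Q.Normal]
    (hQS : Q ≤ S) (hS'T : ⁅(S : Subgroup G), (S : Subgroup G)⁆ ≤ T) (hR : (T ⊓ Q).Normal)
    (hNS : ∀ h ∈ normalizer ((S : Subgroup G) : Set G), ∀ x ∈ Q, h⁻¹ * x * h * x⁻¹ ∈ T) :
    Q ⊓ commutator G ≤ T := by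
  rintro x ⟨hxQ, hxG⟩
  have hstab := conj_mul_inv_mem_of_inf_normal S Q T hQS hS'T hR hNS
  let ϕ := quotHom (S : Subgroup G) T
  have hxk : ∀ k : ℕ, x ^ k ∈ Q := fun k => Q.pow_mem hxQ k
  have key : ∀ (k : ℕ) (g₀ : G) (hk : g₀⁻¹ * x ^ k * g₀ ∈ (S : Subgroup G)),
      ϕ ⟨g₀⁻¹ * x ^ k * g₀, hk⟩ = ϕ ⟨x, hQS hxQ⟩ ^ k := by
    intro k g₀ hk
    rw [← map_pow]
    apply quotHom_eq_of_mul_inv_mem
    simpa using hstab g₀ (x ^ k) (hxk k)
  have htr := transfer_eq_pow_of_conj_eq ϕ x (hQS hxQ) key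
  have h1 : MonoidHom.transfer ϕ x = 1 :=
    Abelianization.commutator_subset_ker (MonoidHom.transfer ϕ) hxG
  rw [h1] at htr
  exact mem_of_quotHom_pow_eq_one (S : Subgroup G) T S.2 hS'T ⟨x, hQS hxQ⟩ S.not_dvd_index htr.symm

end B2

section IterComm

variable {G : Type*} [Group G]

theorem iterate_comm_mem_iterCommutator (U : Subgroup G) (e : G) {x : G} (hx : x ∈ U) (k : ℕ) :
    (fun y : G => y⁻¹ * e⁻¹ * y * e)^[k] x ∈ Cfsg.iterCommutator U (zpowers e) k := by
  induction k with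
  | zero => simpa [Cfsg.iterCommutator] using hx
  | succ k ih =>
    rw [Function.iterate_succ_apply']
    show _ ∈ ⁅Cfsg.iterCommutator U (zpowers e) k, zpowers e⁆
    have h1 := commutator_mem_commutator (inv_mem ih) (inv_mem (mem_zpowers e))
    rw [commutatorElement_def, inv_inv, inv_inv] at h1
    exact h1

theorem iterCommutator_map (U H : Subgroup G) {G' : Type*} [Group G'] (f : G →* G') (k : ℕ) :
    (Cfsg.iterCommutator U H k).map f = Cfsg.iterCommutator (U.map f) (H.map f) k := by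
  induction k with
  | zero => rfl
  | succ k ih =>
    show (⁅Cfsg.iterCommutator U H k, H⁆).map f = ⁅Cfsg.iterCommutator (U.map f) (H.map f) k, H.map f⁆
    rw [Subgroup.map_commutator, ih]

theorem map_conj_eq_of_normal (X : Subgroup G) [hX : X.Normal] (g : G) :
    X.map (MulAut.conj g).toMonoidHom = X :=
  Subgroup.normal_iff_map_conj_eq.mp hX g

/-- the Engel condition on a normal section is invariant under conjugation -/
theorem iterCommutator_conj_le (X Y : Subgroup G) [hX : X.Normal] [hY : Y.Normal] (g e : G)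
    (k : ℕ) (h : Cfsg.iterCommutator X (zpowers e) k ≤ Y) :
    Cfsg.iterCommutator X (zpowers (g * e * g⁻¹)) k ≤ Y := by
  have h1 := iterCommutator_map X (zpowers e) (MulAut.conj g).toMonoidHom k
  rw [map_conj_eq_of_normal X g, MonoidHom.map_zpowers] at h1
  have h2 : (MulAut.conj g).toMonoidHom e = g * e * g⁻¹ := by simp
  rw [h2] at h1
  rw [← h1, ← map_conj_eq_of_normal Y g]
  exact Subgroup.map_mono h

end IterComm

section Chief

variable {G : Type*} [Group G] [Finite G] {p : ℕ} [Fact p.Prime]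

/-- a chief factor `X / Y` with `X` a `p`-group has exponent `p` -/
theorem pow_mem_of_isChiefFactor {X Y : Subgroup G} (h : Cfsg.IsChiefFactor X Y)
    (hXp : IsPGroup p X) : ∀ x ∈ X, x ^ p ∈ Y := by
  obtain ⟨hlt, hXn, hYn, hmin⟩ := h
  haveI := hXn
  haveI := hYn
  have hne : Y.subgroupOf X ≠ ⊤ := by
    intro htop
    exact (not_le_of_gt hlt) (Subgroup.subgroupOf_eq_top.mp htop)
  obtain ⟨X₀, hX₀, hYX₀⟩ := (eq_top_or_exists_le_coatom (Y.subgroupOf X)).resolve_left hne
  haveI hX₀n : X₀.Normal := Cfsg.Agent.Lib.Helper03.normal_of_isCoatom_of_isPGroup hXp hX₀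
  have hidx : X₀.index = p := Cfsg.Agent.Lib.Helper03.index_of_isCoatom_of_isPGroup hXp hX₀
  have hpowX₀ : ∀ x : X, x ^ p ∈ X₀ := by
    intro x
    have := X₀.pow_index_mem x
    rwa [hidx] at this
  set X₁ : Subgroup G := Subgroup.normalClosure {z : G | ∃ x ∈ X, z = x ^ p} with hX₁
  have hX₁le : X₁ ≤ X₀.map X.subtype := by
    rw [hX₁, Subgroup.normalClosure]
    apply (closure_le _).mpr
    intro a ha
    obtain ⟨b, ⟨x, hx, rfl⟩, hconj⟩ := Group.mem_conjugatesOfSet_iff.mp ha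
    obtain ⟨c, hc⟩ := isConj_iff.mp hconj
    have hcx : c * x * c⁻¹ ∈ X := hXn.conj_mem x hx c
    refine ⟨(⟨c * x * c⁻¹, hcx⟩ : X) ^ p, hpowX₀ _, ?_⟩
    rw [← hc]
    simp [conj_pow]
  have hYle : Y ≤ X₀.map X.subtype := by
    rw [← Subgroup.map_subgroupOf_eq_of_le hlt.le]
    exact Subgroup.map_mono hYX₀
  have hmaple : X₀.map X.subtype ≤ X := by
    rintro _ ⟨x, _, rfl⟩
    exact x.2
  have hN := hmin (Y ⊔ X₁) inferInstance le_sup_left (sup_le hlt.le (hX₁le.trans hmaple))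
  rcases hN with hN | hN
  · intro x hx
    have h1 : x ^ p ∈ X₁ := Subgroup.subset_normalClosure ⟨x, hx, rfl⟩
    rw [← hN]
    exact mem_sup_right h1
  · exfalso
    apply hX₀.1
    rw [eq_top_iff]
    intro x _
    have hx : (x : G) ∈ X₀.map X.subtype := by
      apply sup_le hYle hX₁le
      rw [hN]
      exact x.2
    obtain ⟨x', hx', hxx'⟩ := hx
    have : x' = x := Subtype.ext hxx'
    rw [← this]
    exact hx'

/-- a normal subgroup `X ≰ T` inside `D` contains a chief factor `X' / Y` with `X' ≰ T`, `Y ≤ T` -/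
theorem exists_chiefFactor_not_le {D T : Subgroup G} [hD : D.Normal] (hDT : ¬ D ≤ T) :
    ∃ X Y : Subgroup G, Cfsg.IsChiefFactor X Y ∧ X ≤ D ∧ ¬ X ≤ T ∧ Y ≤ T := by
  obtain ⟨X, ⟨hXn, hXD, hXT⟩, hXmin⟩ := (wellFounded_lt (α := Subgroup G)).has_min
    {N : Subgroup G | N.Normal ∧ N ≤ D ∧ ¬ N ≤ T} ⟨D, hD, le_rfl, hDT⟩
  have hXbot : (⊥ : Subgroup G) < X := by
    rw [bot_lt_iff_ne_bot]
    rintro rfl
    exact hXT bot_le
  obtain ⟨Y, ⟨hYn, hYX⟩, hYmax⟩ := (wellFounded_gt (α := Subgroup G)).has_min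
    {N : Subgroup G | N.Normal ∧ N < X} ⟨⊥, inferInstance, hXbot⟩
  refine ⟨X, Y, ⟨hYX, hXn, hYn, ?_⟩, hXD, hXT, ?_⟩
  · intro N hN hYN hNX
    by_cases hNX' : N = X
    · exact Or.inr hNX'
    · left
      have hlt : N < X := lt_of_le_of_ne hNX hNX'
      by_contra hne
      exact hYmax N ⟨hN, hlt⟩ (lt_of_le_of_ne hYN (Ne.symm hne))
  · by_contra hYT
    exact hXmin Y ⟨hYn, hYX.le.trans hXD, hYT⟩ hYX

end Chief

section D

variable {G : Type*} [Group G] [Finite G] {p : ℕ} [Fact p.Prime]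

/-- **No Engel elements outside `O_p(G)`** in a minimal failure of transfer control: if `M ≥ S`
contains every proper overgroup of `S`, `[O_p(G), M] ≤ T` and `O_p(G) ∩ G' ≰ T` (with `S' ≤ T`),
then every `u ∈ S \ O_p(G)` has `[X, u; p - 1] ≰ Y` for some chief factor `X / Y` below
`O_p(G)`. -/
theorem exists_chiefFactor_not_engel (S : Sylow p G) (T M : Subgroup G)
    (hS'T : ⁅(S : Subgroup G), (S : Subgroup G)⁆ ≤ T)
    (hmax : ∀ H : Subgroup G, (S : Subgroup G) ≤ H → H ≠ ⊤ → H ≤ M)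
    (hQM : ∀ x ∈ Cfsg.pCore p G, ∀ m ∈ M, m⁻¹ * x * m * x⁻¹ ∈ T)
    (hfail : ¬ Cfsg.pCore p G ⊓ commutator G ≤ T)
    (u : G) (huS : u ∈ (S : Subgroup G)) (huQ : u ∉ Cfsg.pCore p G) :
    ∃ U V : Subgroup G, Cfsg.IsChiefFactor U V ∧ U ≤ Cfsg.pCore p G ∧
      ¬ Cfsg.iterCommutator U (zpowers u) (p - 1) ≤ V := by
  classical
  have hp : p.Prime := Fact.out
  set Q := Cfsg.pCore p G with hQdef
  haveI hQn : Q.Normal := Subgroup.sSup_normal _ (fun _ h => h.1)
  have hQS : Q ≤ (S : Subgroup G) := Cfsg.Agent.Lib.Helper40.pCore_le_sylow' S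
  have hQp : IsPGroup p Q := Cfsg.Agent.Lib.Helper40.pCore_isPGroup' p G
  haveI hDn : (Q ⊓ commutator G).Normal := inferInstance
  obtain ⟨X, Y, hchief, hXD, hXT, hYT⟩ :=
    exists_chiefFactor_not_le (D := Q ⊓ commutator G) (T := T) hfail
  have hXQ : X ≤ Q := hXD.trans inf_le_left
  by_contra hcon
  push Not at hcon
  have huXY := hcon X Y hchief hXQ
  have hpow := pow_mem_of_isChiefFactor (p := p) hchief (hQp.to_le hXQ)
  obtain ⟨hYX, hXn, hYn, -⟩ := hchief
  haveI := hXn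
  haveI := hYn
  -- the set of Engel elements
  let E : Set G := {e | e ∈ (S : Subgroup G) ∧ e ∉ Q ∧
    Cfsg.iterCommutator X (zpowers e) (p - 1) ≤ Y}
  have huE : u ∈ E := ⟨huS, huQ, huXY⟩
  have hES : E ⊆ (S : Subgroup G) := fun e he => he.1
  have hEconj : ∀ e ∈ E, ∀ g : G, g * e * g⁻¹ ∈ (S : Subgroup G) → g * e * g⁻¹ ∈ E := by
    intro e he g hg
    refine ⟨hg, ?_, iterCommutator_conj_le X Y g e (p - 1) he.2.2⟩
    intro hmem
    apply he.2.1
    have := inv_conj_mem Q hmem g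
    simpa [mul_assoc] using this
  have hnorm : ∀ g : G, (∀ e ∈ E, g * e * g⁻¹ ∈ (S : Subgroup G)) →
      g ∈ normalizer ((closure E : Subgroup G) : Set G) := by
    intro g hg
    apply Subgroup.mem_normalizer_fintype
    intro n hn
    have hn' : n ∈ closure E := hn
    show g * n * g⁻¹ ∈ closure E
    induction hn' using Subgroup.closure_induction with
    | mem e he => exact subset_closure (hEconj e he g (hg e he))
    | one => simp
    | mul a b _ _ iha ihb =>
      have : g * (a * b) * g⁻¹ = (g * a * g⁻¹) * (g * b * g⁻¹) := by group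
      rw [this]
      exact (closure E).mul_mem (iha (by assumption)) (ihb (by assumption))
    | inv a _ iha =>
      have : g * a⁻¹ * g⁻¹ = (g * a * g⁻¹)⁻¹ := by group
      rw [this]
      exact (closure E).inv_mem (iha (by assumption))
  have hSN : (S : Subgroup G) ≤ normalizer ((closure E : Subgroup G) : Set G) := by
    intro s hs
    apply hnorm
    intro e he
    exact (S : Subgroup G).mul_mem ((S : Subgroup G).mul_mem hs he.1) (inv_mem hs)
  have hNtop : normalizer ((closure E : Subgroup G) : Set G) ≠ ⊤ := by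
    intro htop
    have hn : (closure E).Normal := Subgroup.normalizer_eq_top_iff.mp htop
    have hle : closure E ≤ Q :=
      Cfsg.Agent.Lib.Helper40.le_pCore' hn (S.2.to_le ((closure_le _).mpr hES))
    exact huQ (hle (subset_closure huE))
  have hNM := hmax _ hSN hNtop
  -- the homomorphism `S → S / T`
  let ϕ := quotHom (S : Subgroup G) T
  have hYker : ∀ y (hy : y ∈ Y), ϕ ⟨y, hQS (hXQ (hYX.le hy))⟩ = 1 :=
    fun y hy => quotHom_eq_one_of_mem _ _ _ (hYT hy)
  have hE1 : ∀ e ∈ E, ∀ x ∈ X, (fun y : G => y⁻¹ * e⁻¹ * y * e)^[p - 1] x ∈ Y :=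
    fun e he x hx => he.2.2 (iterate_comm_mem_iterCommutator X e hx (p - 1))
  have hE2 : ∀ g : G, (∀ e ∈ E, g⁻¹ * e * g ∈ (S : Subgroup G)) → ∀ x (hx : x ∈ X),
      ϕ ⟨g⁻¹ * x * g, hQS (hXQ (inv_conj_mem X hx g))⟩ = ϕ ⟨x, hQS (hXQ hx)⟩ := by
    intro g hg x hx
    have hginv : g⁻¹ ∈ normalizer ((closure E : Subgroup G) : Set G) := by
      apply hnorm
      intro e he
      simpa using hg e he
    have hgM : g ∈ M := by
      have := hNM hginv
      simpa using M.inv_mem this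
    apply quotHom_eq_of_mul_inv_mem
    exact hQM x (hXQ hx) g hgM
  apply hXT
  intro x hx
  obtain ⟨m, hm, htr⟩ := transfer_eq_pow_of_engel (S : Subgroup G) S.2 S.not_dvd_index ϕ Q X Y
    hQS hXQ hYX.le hYker hpow E hES hE1 hE2 x hx
  have h1 : MonoidHom.transfer ϕ x = 1 :=
    Abelianization.commutator_subset_ker (MonoidHom.transfer ϕ) (hXD hx).2
  rw [h1] at htr
  exact mem_of_quotHom_pow_eq_one (S : Subgroup G) T S.2 hS'T ⟨x, hQS (hXQ hx)⟩ hm htr.symm

end D

end Cfsg.Agent.Lib.Helper14
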