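import Mathlib.GroupTheory.Sylow
import Mathlib.GroupTheory.Nilpotent
import Mathlib.GroupTheory.Complement
import Mathlib.GroupTheory.QuotientGroup.Basic
import Mathlib.GroupTheory.SpecificGroups.Cyclic
import Mathlib.Tactic.Group
import Cfsg.Agent.S0051
import Cfsg.Prelude.Def_Transfer
import Cfsg.Agent.Lib.Helper03.PGroupFrattini
import Cfsg.Agent.Lib.Helper03.PResidual

/-!
# A lifting lemma of Gaschütz type and Tate's theorem for subgroups of index prime to `p`
-/

set_option autoImplicit false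
set_option linter.unusedSectionVars false
set_option linter.style.haveILetI false

universe u

namespace Cfsg.Agent.Lib.Helper14

open Subgroup
open scoped commutatorElement

section Lift

variable {G H' Gb : Type*} [Group G] [Finite G] [Group H'] [Finite H'] [Group Gb]

/-- **Lifting along an abelian `p`-kernel**: a homomorphism `π : G → Ḡ` lifts along a surjection
`β : H' → Ḡ` with abelian `p`-group kernel as soon as its restriction to a subgroup of index
prime to `p` lifts. -/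
theorem exists_lift_of_coprime_index {p : ℕ} [Fact p.Prime] (π : G →* Gb) (β : H' →* Gb)
    (hβ : Function.Surjective β) (hZ : ∀ a ∈ β.ker, ∀ b ∈ β.ker, a * b = b * a)
    (hZp : IsPGroup p β.ker) (H : Subgroup G) (hH : ¬ p ∣ H.index) (ρ₀ : H →* H')
    (hρ₀ : ∀ h : H, β (ρ₀ h) = π h) :
    ∃ ψ : G →* H', ∀ g, β (ψ g) = π g := by
  classical
  let E : Subgroup (G × H') :=
    (π.comp (MonoidHom.fst G H')).eqLocus (β.comp (MonoidHom.snd G H'))
  let φ : E →* G := (MonoidHom.fst G H').comp E.subtype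
  let ρ : E →* H' := (MonoidHom.snd G H').comp E.subtype
  have hspec : ∀ x : E, π (φ x) = β (ρ x) := fun x => x.2
  have hext : ∀ {x y : E}, φ x = φ y → ρ x = ρ y → x = y :=
    fun h1 h2 => Subtype.ext (Prod.ext h1 h2)
  have hρker : ∀ k ∈ φ.ker, ρ k ∈ β.ker := by
    intro k hk
    rw [MonoidHom.mem_ker, ← hspec, MonoidHom.mem_ker.mp hk, map_one]
  haveI hKc : IsMulCommutative φ.ker :=
    ⟨⟨fun a b => by
      apply Subtype.ext
      apply hext
      · show φ (a.1 * b.1) = φ (b.1 * a.1)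
        rw [map_mul, map_mul, MonoidHom.mem_ker.mp a.2, MonoidHom.mem_ker.mp b.2]
      · show ρ (a.1 * b.1) = ρ (b.1 * a.1)
        rw [map_mul, map_mul]
        exact hZ _ (hρker _ a.2) _ (hρker _ b.2)⟩⟩
  have hKp : IsPGroup p φ.ker := by
    intro k
    obtain ⟨j, hj⟩ := hZp ⟨ρ k.1, hρker _ k.2⟩
    refine ⟨j, ?_⟩
    apply Subtype.ext
    apply hext
    · show φ ((k ^ p ^ j : φ.ker) : E) = φ ((1 : φ.ker) : E)
      rw [Subgroup.coe_pow, map_pow, MonoidHom.mem_ker.mp k.2, one_pow, Subgroup.coe_one, map_one]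
    · show ρ ((k ^ p ^ j : φ.ker) : E) = ρ ((1 : φ.ker) : E)
      rw [Subgroup.coe_pow, map_pow, Subgroup.coe_one, map_one]
      have := congrArg Subtype.val hj
      simpa using this
  let σ : H →* E := MonoidHom.codRestrict (H.subtype.prod ρ₀) E (fun h => (hρ₀ h).symm)
  have hφσ : ∀ h : H, φ (σ h) = h := fun _ => rfl
  have hφsurj : Function.Surjective φ := by
    intro g
    obtain ⟨h', hh'⟩ := hβ (π g)
    exact ⟨⟨(g, h'), hh'.symm⟩, rfl⟩
  have hKU : φ.ker ≤ H.comap φ := by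
    intro k hk
    rw [Subgroup.mem_comap, MonoidHom.mem_ker.mp hk]
    exact one_mem _
  have hAU : σ.range ≤ H.comap φ := by
    rintro _ ⟨h, rfl⟩
    rw [Subgroup.mem_comap, hφσ]
    exact h.2
  have hAK : σ.range ⊓ φ.ker = ⊥ := by
    rw [eq_bot_iff]
    rintro _ ⟨⟨h, rfl⟩, hk⟩
    have hk' : φ (σ h) = 1 := MonoidHom.mem_ker.mp hk
    rw [hφσ] at hk'
    have hu : h = 1 := Subtype.ext hk'
    rw [hu, map_one]
    exact Subgroup.mem_bot.mpr rfl
  have hKA : φ.ker ⊔ σ.range = H.comap φ := by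
    apply le_antisymm (sup_le hKU hAU)
    intro x hx
    rw [Subgroup.mem_comap] at hx
    have hx1 : x = (x * (σ ⟨φ x, hx⟩)⁻¹) * σ ⟨φ x, hx⟩ := by group
    rw [hx1]
    apply Subgroup.mul_mem_sup
    · rw [MonoidHom.mem_ker, map_mul, map_inv, hφσ]
      exact mul_inv_cancel _
    · exact ⟨_, rfl⟩
  have hcop : (Nat.card φ.ker).Coprime (H.comap φ).index := by
    obtain ⟨j, hj⟩ := IsPGroup.iff_card.mp hKp
    rw [hj]
    apply Nat.Coprime.pow_left
    rw [Nat.Prime.coprime_iff_not_dvd (Fact.out : p.Prime)]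
    rw [Subgroup.index_comap_of_surjective _ hφsurj]
    exact hH
  obtain ⟨C, hC⟩ := Cfsg.Agent.S0051.result φ.ker (H.comap φ) hKU hcop σ.range hAU hAK hKA
  have hdisj : φ.ker ⊓ C = ⊥ := hC.disjoint.eq_bot
  have hinj : Function.Injective (φ.comp C.subtype) := by
    rw [injective_iff_map_eq_one]
    intro c hc
    have h1 : (c : E) ∈ φ.ker ⊓ C := ⟨MonoidHom.mem_ker.mpr hc, c.2⟩
    rw [hdisj, Subgroup.mem_bot] at h1
    exact Subtype.ext h1
  have hsurj : Function.Surjective (φ.comp C.subtype) := by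
    intro g
    obtain ⟨e, rfl⟩ := hφsurj g
    obtain ⟨⟨a, b⟩, hab⟩ := hC.2 e
    have hab' : (a : E) * (b : E) = e := hab
    refine ⟨b, ?_⟩
    rw [← hab', map_mul, MonoidHom.mem_ker.mp a.2, one_mul]
    rfl
  let eC : C ≃* G := MulEquiv.ofBijective (φ.comp C.subtype) ⟨hinj, hsurj⟩
  refine ⟨(ρ.comp C.subtype).comp eC.symm.toMonoidHom, fun g => ?_⟩
  have h1 : φ ((eC.symm g : C) : E) = g := eC.apply_symm_apply g
  show β (ρ ((eC.symm g : C) : E)) = π g
  rw [← hspec, h1]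

end Lift

section Nil

variable {X : Type*} [Group X]

theorem eq_bot_of_le_commutator_top_of_nilpotent [hG : Group.IsNilpotent X]
    (N : Subgroup X) (h : N ≤ ⁅N, (⊤ : Subgroup X)⁆) : N = ⊥ := by
  have key : ∀ k : ℕ, N ≤ (⊤ : Subgroup X).lowerCentralSeries k := by
    intro k
    induction k with
    | zero => exact le_top
    | succ k ih =>
      rw [Subgroup.lowerCentralSeries_succ]
      exact h.trans (Subgroup.commutator_mono ih le_rfl)
  rw [eq_bot_iff, ← Subgroup.lowerCentralSeries_nilpotencyClass (G := X)]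
  exact key _

/-- relative version: `X / U` nilpotent and `V ≤ U [V, X]` imply `V ≤ U` -/
theorem le_of_le_sup_commutator_top_of_quotient_nilpotent (U V : Subgroup X) [U.Normal]
    [Group.IsNilpotent (X ⧸ U)] (h : V ≤ U ⊔ ⁅V, (⊤ : Subgroup X)⁆) : V ≤ U := by
  have hN : V.map (QuotientGroup.mk' U) ≤
      ⁅V.map (QuotientGroup.mk' U), (⊤ : Subgroup (X ⧸ U))⁆ := by
    have h1 := Subgroup.map_mono (f := QuotientGroup.mk' U) h
    rw [Subgroup.map_sup, Subgroup.map_commutator, QuotientGroup.map_mk'_self, bot_sup_eq,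
      Subgroup.map_top_of_surjective _ (QuotientGroup.mk'_surjective U)] at h1
    exact h1
  have := eq_bot_of_le_commutator_top_of_nilpotent _ hN
  rw [Subgroup.map_eq_bot_iff, QuotientGroup.ker_mk'] at this
  exact this

/-- a homomorphism to a `p`-group kills `O^p` -/
theorem pResidual_le_ker_of_isPGroup {Y : Type*} [Group Y] {p : ℕ} (hY : IsPGroup p Y)
    (f : X →* Y) : Cfsg.pResidual p X ≤ f.ker := by
  unfold Cfsg.pResidual
  rw [Subgroup.closure_le]
  intro y hy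
  rw [SetLike.mem_coe, MonoidHom.mem_ker]
  have hy' : Nat.Coprime (orderOf y) p := hy
  obtain ⟨k, hk⟩ := hY (f y)
  have h1 : f y ^ orderOf y = 1 := by rw [← map_pow, pow_orderOf_eq_one, map_one]
  have h2 := pow_gcd_eq_one.mpr ⟨h1, hk⟩
  rw [Nat.Coprime.pow_right k hy', pow_one] at h2
  exact h2

/-- a homomorphism to a group of exponent `p` kills `O^p` -/
theorem hom_eq_one_of_mem_pResidual {A : Type*} [Group A] {p : ℕ} (hA : ∀ a : A, a ^ p = 1)
    (f : X →* A) {x : X} (hx : x ∈ Cfsg.pResidual p X) : f x = 1 := by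
  have hY : IsPGroup p A := fun a => ⟨1, by rw [pow_one]; exact hA a⟩
  exact MonoidHom.mem_ker.mp (pResidual_le_ker_of_isPGroup hY f hx)

theorem pResidual_map_le' {Y : Type*} [Group Y] (p : ℕ) (f : X →* Y) :
    (Cfsg.pResidual p X).map f ≤ Cfsg.pResidual p Y := by
  unfold Cfsg.pResidual
  rw [MonoidHom.map_closure, Subgroup.closure_le]
  rintro _ ⟨x, hx, rfl⟩
  apply Subgroup.subset_closure
  have hx' : Nat.Coprime (orderOf x) p := hx
  exact Nat.Coprime.coprime_dvd_left (orderOf_map_dvd f x) hx'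

end Nil

section Tate

variable {G : Type u} [Group G] [Finite G] {p : ℕ} [Fact p.Prime]

/-- a subgroup of index prime to `p` covers `G / O^p(G)` -/
theorem sup_pResidual_eq_top_of_not_dvd_index (H : Subgroup G) (hH : ¬ p ∣ H.index) :
    H ⊔ Cfsg.pResidual p G = ⊤ := by
  have hp : p.Prime := Fact.out
  haveI : (Cfsg.pResidual p G).Normal := Cfsg.Agent.Lib.Helper03.pResidual_normal p G
  have hQ : IsPGroup p (G ⧸ Cfsg.pResidual p G) :=
    Cfsg.Agent.Lib.Helper03.isPGroup_quotient_pResidual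
  obtain ⟨k, hk⟩ := IsPGroup.iff_card.mp hQ
  have h1 : (H ⊔ Cfsg.pResidual p G).index ∣ H.index := Subgroup.index_dvd_of_le le_sup_left
  have h2 : (H ⊔ Cfsg.pResidual p G).index ∣ p ^ k := by
    rw [← hk, ← Subgroup.index_eq_card]
    exact Subgroup.index_dvd_of_le le_sup_right
  rw [← Subgroup.index_eq_one]
  obtain ⟨i, _, hi⟩ := (Nat.dvd_prime_pow hp).mp h2
  rcases Nat.eq_zero_or_pos i with rfl | hpos
  · rw [hi, pow_zero]
  · exfalso
    apply hH
    exact (hi ▸ dvd_pow_self p hpos.ne').trans h1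

/-- **Tate's theorem for a subgroup of index prime to `p`**: if every homomorphism from `H` to the
group of order `p` is trivial on `H ∩ O^p(G)` then `O^p(H) = H ∩ O^p(G)`. -/
theorem map_pResidual_eq_inf_of_hom_trivial (H : Subgroup G) (hH : ¬ p ∣ H.index)
    (hχ : ∀ (χ : ↥H →* Multiplicative (ZMod p)) (x : ↥H),
      (x : G) ∈ Cfsg.pResidual p G → χ x = 1) :
    (Cfsg.pResidual p ↥H).map H.subtype = Cfsg.pResidual p G ⊓ H := by
  classical
  have hp : p.Prime := Fact.out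
  haveI hNG : (Cfsg.pResidual p G).Normal := Cfsg.Agent.Lib.Helper03.pResidual_normal p G
  haveI hNH : (Cfsg.pResidual p ↥H).Normal := Cfsg.Agent.Lib.Helper03.pResidual_normal p ↥H
  apply le_antisymm
  · apply le_inf (pResidual_map_le' p H.subtype)
    rintro _ ⟨x, _, rfl⟩
    exact x.2
  -- the hard inclusion
  have hRK : Cfsg.pResidual p ↥H ≤ (Cfsg.pResidual p G).subgroupOf H := by
    intro x hx
    exact pResidual_map_le' p H.subtype ⟨x, hx, rfl⟩
  suffices hKR : (Cfsg.pResidual p G).subgroupOf H ≤ Cfsg.pResidual p ↥H by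
    rintro x ⟨hxG, hxH⟩
    exact ⟨⟨x, hxH⟩, hKR (mem_subgroupOf.mpr hxG), rfl⟩
  by_contra hKR
  -- the quotient `H / O^p(H)` is a `p`-group
  have hQH : IsPGroup p (↥H ⧸ Cfsg.pResidual p ↥H) :=
    Cfsg.Agent.Lib.Helper03.isPGroup_quotient_pResidual
  haveI : Group.IsNilpotent (↥H ⧸ Cfsg.pResidual p ↥H) := hQH.isNilpotent
  -- the subgroup `K₀`
  let K₀ : Subgroup ↥H := Cfsg.pResidual p ↥H ⊔
    ⁅(Cfsg.pResidual p G).subgroupOf H, (⊤ : Subgroup ↥H)⁆
  haveI hK₀n : K₀.Normal := inferInstance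
  have hK₀K : K₀ ≤ (Cfsg.pResidual p G).subgroupOf H :=
    sup_le hRK (Subgroup.commutator_le_left _ _)
  have hKK₀ : ¬ (Cfsg.pResidual p G).subgroupOf H ≤ K₀ := by
    intro hle
    exact hKR (le_of_le_sup_commutator_top_of_quotient_nilpotent _ _ hle)
  have hH'p : IsPGroup p (↥H ⧸ K₀) := by
    intro q
    obtain ⟨h, rfl⟩ := QuotientGroup.mk_surjective q
    obtain ⟨k, hk⟩ := hQH (QuotientGroup.mk h)
    refine ⟨k, ?_⟩
    rw [← QuotientGroup.mk_pow, QuotientGroup.eq_one_iff] at hk ⊢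
    exact le_sup_left (a := Cfsg.pResidual p ↥H) hk
  -- the maps
  let π : G →* G ⧸ Cfsg.pResidual p G := QuotientGroup.mk' _
  let β : ↥H ⧸ K₀ →* G ⧸ Cfsg.pResidual p G :=
    QuotientGroup.lift K₀ (π.comp H.subtype) (by
      intro x hx
      rw [MonoidHom.mem_ker]
      show ((x : G) : G ⧸ Cfsg.pResidual p G) = 1
      rw [QuotientGroup.eq_one_iff]
      exact mem_subgroupOf.mp (hK₀K hx))
  have hβmk : ∀ h : ↥H, β (QuotientGroup.mk h) = ((h : G) : G ⧸ Cfsg.pResidual p G) :=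
    fun _ => rfl
  have hβker : ∀ h : ↥H, (QuotientGroup.mk h : ↥H ⧸ K₀) ∈ β.ker ↔
      h ∈ (Cfsg.pResidual p G).subgroupOf H := by
    intro h
    rw [MonoidHom.mem_ker, hβmk, QuotientGroup.eq_one_iff, mem_subgroupOf]
  have hcover := sup_pResidual_eq_top_of_not_dvd_index H hH
  have hβ : Function.Surjective β := by
    intro q
    obtain ⟨g, rfl⟩ := QuotientGroup.mk_surjective q
    have hg : g ∈ H ⊔ Cfsg.pResidual p G := by rw [hcover]; trivial
    rw [← SetLike.mem_coe, Subgroup.mul_normal, Set.mem_mul] at hg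
    obtain ⟨h, hh, r, hr, rfl⟩ := hg
    refine ⟨QuotientGroup.mk ⟨h, hh⟩, ?_⟩
    rw [hβmk]
    apply QuotientGroup.eq.mpr
    have : h⁻¹ * (h * r) = r := by group
    rw [this]
    exact hr
  have hZ : ∀ a ∈ β.ker, ∀ b ∈ β.ker, a * b = b * a := by
    intro a ha b hb
    obtain ⟨x, rfl⟩ := QuotientGroup.mk_surjective a
    obtain ⟨y, rfl⟩ := QuotientGroup.mk_surjective b
    rw [hβker] at ha hb
    rw [← QuotientGroup.mk_mul, ← QuotientGroup.mk_mul, QuotientGroup.eq]
    have : (x * y)⁻¹ * (y * x) = ⁅y⁻¹, x⁻¹⁆ := by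
      rw [commutatorElement_def]; group
    rw [this]
    exact le_sup_right (a := Cfsg.pResidual p ↥H)
      (Subgroup.commutator_mem_commutator (inv_mem hb) (Subgroup.mem_top _))
  have hZp : IsPGroup p β.ker := hH'p.to_subgroup _
  obtain ⟨ψ, hψ⟩ := exists_lift_of_coprime_index π β hβ hZ hZp H hH (QuotientGroup.mk' K₀)
    (fun _ => rfl)
  have hψres : ∀ g ∈ Cfsg.pResidual p G, ψ g = 1 := fun g hg =>
    MonoidHom.mem_ker.mp (pResidual_le_ker_of_isPGroup hH'p ψ hg)
  -- `M = ψ(G)` and `Z = ker β`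
  have hMZ : ψ.range ⊓ β.ker = ⊥ := by
    rw [eq_bot_iff]
    rintro _ ⟨⟨g, rfl⟩, hk⟩
    have hk : β (ψ g) = 1 := MonoidHom.mem_ker.mp hk
    rw [hψ] at hk
    rw [Subgroup.mem_bot]
    exact hψres g ((QuotientGroup.eq_one_iff g).mp hk)
  have hMZtop : ψ.range ⊔ β.ker = ⊤ := by
    rw [eq_top_iff]
    intro h' _
    obtain ⟨g, hg⟩ := QuotientGroup.mk'_surjective (Cfsg.pResidual p G) (β h')
    have h1 : h' = ψ g * ((ψ g)⁻¹ * h') := by group
    rw [h1]
    apply Subgroup.mul_mem_sup (MonoidHom.mem_range.mpr ⟨g, rfl⟩)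
    rw [MonoidHom.mem_ker, map_mul, map_inv, hψ]
    show (π g)⁻¹ * β h' = 1
    rw [← hg]
    exact inv_mul_cancel _
  obtain ⟨x, hxK, hxK₀⟩ := SetLike.not_le_iff_exists.mp hKK₀
  have hMtop : ψ.range ≠ ⊤ := by
    intro htop
    rw [htop, top_inf_eq] at hMZ
    have h1 : (QuotientGroup.mk x : ↥H ⧸ K₀) ∈ β.ker := (hβker x).mpr hxK
    rw [hMZ, Subgroup.mem_bot, QuotientGroup.eq_one_iff] at h1
    exact hxK₀ h1
  obtain ⟨M₁, hM₁, hMM₁⟩ := (eq_top_or_exists_le_coatom ψ.range).resolve_left hMtop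
  haveI hM₁n : M₁.Normal := Cfsg.Agent.Lib.Helper03.normal_of_isCoatom_of_isPGroup hH'p hM₁
  have hM₁i : M₁.index = p := Cfsg.Agent.Lib.Helper03.index_of_isCoatom_of_isPGroup hH'p hM₁
  have hZM₁ : ¬ β.ker ≤ M₁ := by
    intro hle
    apply hM₁.1
    rw [eq_top_iff, ← hMZtop]
    exact sup_le hMM₁ hle
  obtain ⟨z', hz'Z, hz'M₁⟩ := SetLike.not_le_iff_exists.mp hZM₁
  obtain ⟨y, rfl⟩ := QuotientGroup.mk_surjective z'
  have hyG : (y : G) ∈ Cfsg.pResidual p G := mem_subgroupOf.mp ((hβker y).mp hz'Z)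
  have hcard1 : Nat.card ((↥H ⧸ K₀) ⧸ M₁) = p := by rw [← hM₁i, Subgroup.index_eq_card]
  have hcard2 : Nat.card (Multiplicative (ZMod p)) = p := by
    rw [Nat.card_eq_fintype_card]
    exact (Fintype.card_multiplicative _).trans (ZMod.card p)
  let e : (↥H ⧸ K₀) ⧸ M₁ ≃* Multiplicative (ZMod p) := mulEquivOfPrimeCardEq hcard1 hcard2
  let χ : ↥H →* Multiplicative (ZMod p) :=
    e.toMonoidHom.comp ((QuotientGroup.mk' M₁).comp (QuotientGroup.mk' K₀))
  have h1 := hχ χ y hyG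
  have h2 : e (QuotientGroup.mk (QuotientGroup.mk y : ↥H ⧸ K₀)) = 1 := h1
  rw [MulEquiv.map_eq_one_iff, QuotientGroup.eq_one_iff] at h2
  exact hz'M₁ h2

end Tate

end Cfsg.Agent.Lib.Helper14
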