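import Cfsg.Agent.Lib.Helper14.HallWielandt
import Cfsg.Agent.Lib.Helper14.TateGen

/-!
# Hall–Wielandt: control of `p`-transfer by the normaliser of a weakly closed subgroup
-/

set_option autoImplicit false
set_option linter.unusedSectionVars false
set_option linter.style.haveILetI false

universe u

namespace Cfsg.Agent.Lib.Helper14

open Subgroup

section Control

variable {G : Type u} [Group G] [Finite G] {p : ℕ} [Fact p.Prime]
variable {W : Subgroup G} {P : Sylow p G}

theorem zmod_mul_pow_eq_one (a : Multiplicative (ZMod p)) : a ^ p = 1 := by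
  have hcard : Nat.card (Multiplicative (ZMod p)) = p := by
    rw [Nat.card_eq_fintype_card]
    exact (Fintype.card_multiplicative _).trans (ZMod.card p)
  have := pow_card_eq_one' (G := Multiplicative (ZMod p)) (x := a)
  rwa [hcard] at this

theorem not_dvd_index_normalizer (hW : Cfsg.IsWeaklyClosed W (P : Subgroup G)) :
    ¬ p ∣ (normalizer (W : Set G)).index := fun h =>
  P.not_dvd_index (h.trans (Subgroup.index_dvd_of_le (isWeaklyClosed_le_normalizer hW)))

/-- **Hall–Wielandt**: if there is no bad configuration, `N = N_G(W)` controls `p`-transfer: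
`O^p(N) = O^p(G) ∩ N`. -/
theorem map_pResidual_normalizer_eq_of_not_hwBad' (hW : Cfsg.IsWeaklyClosed W (P : Subgroup G))
    (hnot : ¬ HWBad' p (P : Subgroup G) W) :
    (Cfsg.pResidual p ↥(normalizer (W : Set G))).map (normalizer (W : Set G)).subtype =
      Cfsg.pResidual p G ⊓ normalizer (W : Set G) := by
  have hp : p.Prime := Fact.out
  have hPN := isWeaklyClosed_le_normalizer hW
  apply map_pResidual_eq_inf_of_hom_trivial _ (not_dvd_index_normalizer hW)
  intro χ x hx
  have hA : ∀ a : Multiplicative (ZMod p), a ^ p = 1 := zmod_mul_pow_eq_one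
  haveI : (Cfsg.pResidual p ↥(normalizer (W : Set G))).Normal :=
    Cfsg.Agent.Lib.Helper03.pResidual_normal p _
  have htop := Cfsg.Agent.Lib.Helper03.sylow_sup_pResidual_eq_top (P.subtype hPN)
  have hx' : x ∈ ((P.subtype hPN : Sylow p ↥(normalizer (W : Set G))) :
      Subgroup ↥(normalizer (W : Set G))) ⊔ Cfsg.pResidual p ↥(normalizer (W : Set G)) := by
    rw [htop]; trivial
  rw [← SetLike.mem_coe, Subgroup.mul_normal, Set.mem_mul] at hx'
  obtain ⟨u, hu, r, hr, rfl⟩ := hx'
  have huP : (u : G) ∈ (P : Subgroup G) := by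
    have : u ∈ (P : Subgroup G).subgroupOf (normalizer (W : Set G)) := hu
    exact mem_subgroupOf.mp this
  have hrG : (r : G) ∈ Cfsg.pResidual p G :=
    pResidual_map_le' p (normalizer (W : Set G)).subtype ⟨r, hr, rfl⟩
  have huG : (u : G) ∈ Cfsg.pResidual p G := by
    have h1 : (u : G) = ((u * r : ↥(normalizer (W : Set G))) : G) * (r : G)⁻¹ := by
      simp
    rw [h1]
    exact (Cfsg.pResidual p G).mul_mem hx ((Cfsg.pResidual p G).inv_mem hrG)
  have hχr : χ r = 1 := hom_eq_one_of_mem_pResidual hA χ hr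
  rw [map_mul, hχr, mul_one]
  -- transfer from `P`
  have hst := hwStable_of_not_hwBad' hW hA hnot χ
  have h1 := transfer_eq_pow_of_conj_eq (χ.comp (Subgroup.inclusion hPN)) (u : G) huP (by
    intro k g₀ hk
    have hukP : (u : G) ^ k ∈ (P : Subgroup G) := (P : Subgroup G).pow_mem huP k
    have := hst ((u : G) ^ k) g₀ (hPN hukP) (hPN hk) hukP hk
    show χ ⟨g₀⁻¹ * (u : G) ^ k * g₀, hPN hk⟩ = χ ⟨(u : G), hPN huP⟩ ^ k
    rw [this, ← map_pow]
    rfl)
  have h2 : MonoidHom.transfer (χ.comp (Subgroup.inclusion hPN)) (u : G) = 1 :=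
    hom_eq_one_of_mem_pResidual hA _ huG
  rw [h2] at h1
  have h3 : χ u = (χ.comp (Subgroup.inclusion hPN)) ⟨(u : G), huP⟩ := rfl
  rw [h3]
  have h4 := pow_gcd_eq_one.mpr ⟨h1.symm, hA ((χ.comp (Subgroup.inclusion hPN)) ⟨(u : G), huP⟩)⟩
  have hcop : Nat.gcd (P : Subgroup G).index p = 1 := by
    rw [Nat.gcd_comm]
    exact (Nat.Prime.coprime_iff_not_dvd hp).mpr P.not_dvd_index
  rw [hcop, pow_one] at h4
  exact h4

theorem map_pResidual_normalizer_eq_of_not_hwBad (hW : Cfsg.IsWeaklyClosed W (P : Subgroup G))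
    (hnot : ¬ HWBad p (P : Subgroup G) W) :
    (Cfsg.pResidual p ↥(normalizer (W : Set G))).map (normalizer (W : Set G)).subtype =
      Cfsg.pResidual p G ⊓ normalizer (W : Set G) :=
  map_pResidual_normalizer_eq_of_not_hwBad' hW (fun h => hnot h.hwBad)

end Control

section Focal

theorem coprime_orderOf_of_mem_pResidual_comm {B : Type*} [CommGroup B] {p : ℕ} {a : B}
    (ha : a ∈ Cfsg.pResidual p B) : (orderOf a).Coprime p := by
  unfold Cfsg.pResidual at ha
  induction ha using Subgroup.closure_induction with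
  | mem x hx => exact hx
  | one => simp
  | mul x y _ _ hx hy =>
    exact Nat.Coprime.coprime_dvd_left
      (((Commute.all x y).orderOf_mul_dvd_lcm).trans (Nat.lcm_dvd_mul _ _))
      (Nat.Coprime.mul_left hx hy)
  | inv x _ hx => rwa [orderOf_inv]

variable {G : Type u} [Group G] [Finite G] {p : ℕ} [Fact p.Prime]

/-- If `H ≥ P` controls `p`-transfer (`O^p(H) = O^p(G) ∩ H`) then `P ∩ G' ≤ H'`. -/
theorem inf_commutator_le_of_control (P : Sylow p G) (H : Subgroup G)
    (hPH : (P : Subgroup G) ≤ H)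
    (hctl : (Cfsg.pResidual p ↥H).map H.subtype = Cfsg.pResidual p G ⊓ H) :
    (P : Subgroup G) ⊓ commutator G ≤ ⁅H, H⁆ := by
  have hp : p.Prime := Fact.out
  haveI hNG : (Cfsg.pResidual p G).Normal := Cfsg.Agent.Lib.Helper03.pResidual_normal p G
  have hidx : ¬ p ∣ H.index := fun h =>
    P.not_dvd_index (h.trans (Subgroup.index_dvd_of_le hPH))
  have hcover := sup_pResidual_eq_top_of_not_dvd_index H hidx
  let f : ↥H →* G ⧸ Cfsg.pResidual p G := (QuotientGroup.mk' _).comp H.subtype
  have hf : Function.Surjective f := by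
    intro q
    obtain ⟨g, rfl⟩ := QuotientGroup.mk_surjective q
    have hg : g ∈ H ⊔ Cfsg.pResidual p G := by rw [hcover]; trivial
    rw [← SetLike.mem_coe, Subgroup.mul_normal, Set.mem_mul] at hg
    obtain ⟨h, hh, r, hr, rfl⟩ := hg
    refine ⟨⟨h, hh⟩, ?_⟩
    show ((h : G) : G ⧸ Cfsg.pResidual p G) = ((h * r : G) : G ⧸ Cfsg.pResidual p G)
    apply QuotientGroup.eq.mpr
    have : h⁻¹ * (h * r) = r := by group
    rw [this]
    exact hr
  have hker : ∀ y : ↥H, f y = 1 → y ∈ Cfsg.pResidual p ↥H := by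
    intro y hy
    have h1 : (y : G) ∈ Cfsg.pResidual p G := (QuotientGroup.eq_one_iff (y : G)).mp hy
    have h2 : (y : G) ∈ (Cfsg.pResidual p ↥H).map H.subtype := by
      rw [hctl]; exact ⟨h1, y.2⟩
    obtain ⟨y', hy', hyy'⟩ := h2
    have : y' = y := Subtype.ext hyy'
    rw [← this]; exact hy'
  rintro x ⟨hxP, hxG⟩
  -- the image of `x` lies in the derived subgroup of the quotient
  have h1 : f ⟨x, hPH hxP⟩ ∈ (commutator ↥H).map f := by
    rw [commutator_def, Subgroup.map_commutator, Subgroup.map_top_of_surjective f hf]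
    have h2 : (QuotientGroup.mk' (Cfsg.pResidual p G)) x ∈
        (commutator G).map (QuotientGroup.mk' (Cfsg.pResidual p G)) := ⟨x, hxG, rfl⟩
    rw [commutator_def, Subgroup.map_commutator,
      Subgroup.map_top_of_surjective _ (QuotientGroup.mk'_surjective _)] at h2
    exact h2
  obtain ⟨y, hy, hyx⟩ := h1
  have hr : y⁻¹ * ⟨x, hPH hxP⟩ ∈ Cfsg.pResidual p ↥H := by
    apply hker
    rw [map_mul, map_inv, hyx]
    exact inv_mul_cancel _
  -- pass to the abelianization of `H`
  have hq1 : Abelianization.of (⟨x, hPH hxP⟩ : ↥H) = Abelianization.of (y⁻¹ * ⟨x, hPH hxP⟩) := by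
    have hy' : Abelianization.of y = 1 := by
      rw [← MonoidHom.mem_ker, Abelianization.ker_of]; exact hy
    rw [map_mul, map_inv, hy', inv_one, one_mul]
  have hq2 : (orderOf (Abelianization.of (⟨x, hPH hxP⟩ : ↥H))).Coprime p := by
    rw [hq1]
    exact coprime_orderOf_of_mem_pResidual_comm
      (pResidual_map_le' p Abelianization.of ⟨_, hr, rfl⟩)
  obtain ⟨k, hk⟩ := P.isPGroup' ⟨x, hxP⟩
  have hk' : x ^ p ^ k = 1 := by
    have := congrArg Subtype.val hk
    simpa using this
  have hq3 : orderOf (Abelianization.of (⟨x, hPH hxP⟩ : ↥H)) ∣ p ^ k := by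
    apply orderOf_dvd_of_pow_eq_one
    rw [← map_pow]
    have : (⟨x, hPH hxP⟩ : ↥H) ^ p ^ k = 1 := Subtype.ext (by simpa using hk')
    rw [this, map_one]
  have hq4 := Nat.Coprime.eq_one_of_dvd (Nat.Coprime.pow_right k hq2) hq3
  rw [orderOf_eq_one_iff, ← MonoidHom.mem_ker, Abelianization.ker_of] at hq4
  have h5 : x ∈ (commutator ↥H).map H.subtype := ⟨_, hq4, rfl⟩
  rw [commutator_def, Subgroup.map_commutator, ← MonoidHom.range_eq_map,
    Subgroup.range_subtype] at h5
  exact h5

variable {W : Subgroup G} {P : Sylow p G}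

/-- no bad configuration: the focal subgroups of `P` in `G` and in `N_G(W)` coincide -/
theorem inf_commutator_eq_of_not_hwBad' (hW : Cfsg.IsWeaklyClosed W (P : Subgroup G))
    (hnot : ¬ HWBad' p (P : Subgroup G) W) :
    (P : Subgroup G) ⊓ commutator G =
      (P : Subgroup G) ⊓ ⁅normalizer (W : Set G), normalizer (W : Set G)⁆ := by
  apply le_antisymm
  · apply le_inf inf_le_left
    exact inf_commutator_le_of_control P _ (isWeaklyClosed_le_normalizer hW)
      (map_pResidual_normalizer_eq_of_not_hwBad' hW hnot)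
  · apply le_inf inf_le_left
    rw [commutator_def]
    exact inf_le_right.trans (Subgroup.commutator_mono le_top le_top)

theorem inf_commutator_eq_of_not_hwBad (hW : Cfsg.IsWeaklyClosed W (P : Subgroup G))
    (hnot : ¬ HWBad p (P : Subgroup G) W) :
    (P : Subgroup G) ⊓ commutator G =
      (P : Subgroup G) ⊓ ⁅normalizer (W : Set G), normalizer (W : Set G)⁆ :=
  inf_commutator_eq_of_not_hwBad' hW (fun h => hnot h.hwBad)

theorem isWeaklyClosed_self (P : Sylow p G) :
    Cfsg.IsWeaklyClosed (P : Subgroup G) (P : Subgroup G) := by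
  refine ⟨le_rfl, fun g hle => ?_⟩
  have hg : g ∈ Subgroup.normalizer ((P : Subgroup G) : Set G) := by
    apply Subgroup.mem_normalizer_fintype
    intro n hn
    exact hle ⟨n, hn, rfl⟩
  exact Subgroup.mem_normalizer_iff_map_conj_eq.mp hg

end Focal

end Cfsg.Agent.Lib.Helper14
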