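import Mathlib.GroupTheory.Transfer
import Mathlib.GroupTheory.GroupAction.Quotient
import Mathlib.Tactic.Group

/-!
# Evaluating the transfer along an arbitrary indexed transversal
-/

set_option autoImplicit false
set_option linter.unusedSectionVars false

namespace Cfsg.Agent.Lib.Helper14

open Subgroup MulAction

section X

variable {G : Type*} [Group G] {H : Subgroup G} {A : Type*} [CommGroup A]

/-- The classical formula for the transfer: for a left transversal `t i` (`i : ι`) of `H` in `G`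
and `σ` with `g * t i ∈ t (σ i) * H`, `V g = ∏ i, ϕ ((t (σ i))⁻¹ * g * t i)`. -/
theorem transfer_eq_prod_of_equiv [H.FiniteIndex] (ϕ : H →* A) {ι : Type*} [Fintype ι]
    (e : ι ≃ G ⧸ H) (t : ι → G) (ht : ∀ i, (t i : G ⧸ H) = e i)
    (g : G) (σ : ι → ι) (h : ∀ i, (t (σ i))⁻¹ * g * t i ∈ H) :
    MonoidHom.transfer ϕ g = ∏ i, ϕ ⟨(t (σ i))⁻¹ * g * t i, h i⟩ := by
  classical
  let f : G ⧸ H → G := fun q => t (e.symm q)
  have hf : ∀ q, (f q : G ⧸ H) = q := fun q => by simp [f, ht]
  let T : H.LeftTransversal := ⟨Set.range f, isComplement_range_left hf⟩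
  have hσ : ∀ i, e (σ i) = g • e i := by
    intro i
    rw [← ht, ← ht]
    rw [MulAction.Quotient.smul_coe, QuotientGroup.eq]
    have := h i
    simpa [mul_assoc, smul_eq_mul] using this
  have hσinj : Function.Injective σ := by
    intro i j hij
    have h1 := hσ i
    have h2 := hσ j
    rw [hij, h2] at h1
    exact (e.injective (smul_left_cancel g h1)).symm
  have hσbij : Function.Bijective σ := Finite.injective_iff_bijective.mp hσinj
  let σe : ι ≃ ι := Equiv.ofBijective σ hσbij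
  rw [MonoidHom.transfer_def ϕ T g]
  unfold Subgroup.leftTransversals.diff
  simp only
  -- reindex by q = e (σ i)
  refine (@Fintype.prod_equiv _ _ _ _ H.fintypeQuotientOfFiniteIndex _ (σe.trans e) _ _ ?_).symm
  intro i
  congr 1
  apply Subtype.ext
  simp only [Equiv.trans_apply]
  have hα : ((T.2.leftQuotientEquiv (e (σe i))) : G) = t (σ i) := by
    have := IsComplement.leftQuotientEquiv_apply hf (e (σe i))
    rw [this]
    simp [f, σe]
  have hβ : (((g • T).2.leftQuotientEquiv (e (σe i))) : G) = g * t i := by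
    rw [smul_apply_eq_smul_apply_inv_smul]
    have h1 : g⁻¹ • e (σe i) = e i := by
      show g⁻¹ • e (σ i) = e i
      rw [hσ, inv_smul_smul]
    rw [h1]
    have := IsComplement.leftQuotientEquiv_apply hf (e i)
    rw [this]
    simp [f]
  rw [hα, hβ, mul_assoc]

end X

section Mackey

variable {G : Type*} [Group G] [Finite G] {H : Subgroup G} {A : Type*} [CommGroup A]

theorem subgroup_smul_coe (K : Subgroup G) (s : K) (x : G) :
    s • ((x : G) : G ⧸ H) = (((s : G) * x : G) : G ⧸ H) := rfl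

/-- `s` fixes the coset `x H` iff `x⁻¹ s x ∈ H`. -/
theorem conj_mem_of_mem_stabilizer (K : Subgroup G) (x : G)
    (s : K) (hs : s ∈ stabilizer K ((x : G) : G ⧸ H)) : x⁻¹ * (s : G) * x ∈ H := by
  rw [mem_stabilizer_iff, subgroup_smul_coe, QuotientGroup.eq] at hs
  have := H.inv_mem hs
  simpa [mul_assoc] using this

/-- The homomorphism on the stabilizer in `K` of the coset `x H` induced by `ϕ : H →* A`:
`s ↦ ϕ (x⁻¹ s x)`. -/
def stabHom (ϕ : H →* A) (K : Subgroup G) (x : G) : stabilizer K ((x : G) : G ⧸ H) →* A where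
  toFun s := ϕ ⟨x⁻¹ * ((s : K) : G) * x, conj_mem_of_mem_stabilizer K x s s.2⟩
  map_one' := by
    have : (⟨x⁻¹ * (((1 : stabilizer K ((x : G) : G ⧸ H)) : K) : G) * x,
        conj_mem_of_mem_stabilizer K x _ (1 : stabilizer K ((x : G) : G ⧸ H)).2⟩ : H) = 1 := by
      apply Subtype.ext; simp
    rw [this, map_one]
  map_mul' a b := by
    rw [← map_mul]
    congr 1
    apply Subtype.ext
    simp [mul_assoc]

theorem stabHom_apply (ϕ : H →* A) (K : Subgroup G) (x : G)
    (s : stabilizer K ((x : G) : G ⧸ H)) :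
    stabHom ϕ K x s = ϕ ⟨x⁻¹ * ((s : K) : G) * x, conj_mem_of_mem_stabilizer K x s s.2⟩ := rfl

/-- **Mackey decomposition of the transfer**: for `K ≤ G` and representatives `φ ω` of the
`K`-orbits on `G ⧸ H`, the transfer `G → A` restricted to `K` is the product over the orbits of
the transfers `K → A` from the stabilizers. -/
theorem transfer_eq_prod_orbits (ϕ : H →* A) (K : Subgroup G)
    [Fintype (orbitRel.Quotient K (G ⧸ H))]
    (φ : orbitRel.Quotient K (G ⧸ H) → G)
    (hφ : ∀ ω, (Quotient.mk'' ((φ ω : G) : G ⧸ H) : orbitRel.Quotient K (G ⧸ H)) = ω)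
    (k : K) :
    MonoidHom.transfer ϕ (k : G) = ∏ ω, MonoidHom.transfer (stabHom ϕ K (φ ω)) k := by
  classical
  let S : orbitRel.Quotient K (G ⧸ H) → Subgroup K := fun ω => stabilizer K ((φ ω : G) : G ⧸ H)
  let ι := Σ ω, K ⧸ S ω
  letI : ∀ ω, Fintype (K ⧸ S ω) := fun ω => Fintype.ofFinite _
  let t : ι → G := fun i => ((Quotient.out i.2 : K) : G) * φ i.1
  have hbij : Function.Bijective (fun i : ι => ((t i : G) : G ⧸ H)) := by
    constructor
    · rintro ⟨ω, q⟩ ⟨ω', q'⟩ hqq
      simp only [t] at hqq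
      have h1 : ∀ (ω : orbitRel.Quotient K (G ⧸ H)) (q : K ⧸ S ω),
          (Quotient.mk'' ((((Quotient.out q : K) : G) * φ ω : G) : G ⧸ H) :
            orbitRel.Quotient K (G ⧸ H)) = ω := by
        intro ω q
        have : ((((Quotient.out q : K) : G) * φ ω : G) : G ⧸ H) =
            (Quotient.out q : K) • ((φ ω : G) : G ⧸ H) := rfl
        rw [this]
        exact (orbitRel.Quotient.quotient_smul_eq).trans (hφ ω)
      have hω : ω = ω' := by
        rw [← h1 ω q, ← h1 ω' q', hqq]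
      subst hω
      congr 1
      rw [← Quotient.out_eq' q, ← Quotient.out_eq' q']
      apply (QuotientGroup.eq).mpr
      rw [mem_stabilizer_iff, mul_smul, inv_smul_eq_iff, subgroup_smul_coe, subgroup_smul_coe]
      exact hqq.symm
    · intro q
      let ω : orbitRel.Quotient K (G ⧸ H) := Quotient.mk'' q
      have hω : (Quotient.mk'' ((φ ω : G) : G ⧸ H) : orbitRel.Quotient K (G ⧸ H)) =
          Quotient.mk'' q := hφ ω
      obtain ⟨k₀, hk₀⟩ := Quotient.exact hω
      -- hk₀ : k₀ • q = ↑(φ ω)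
      have hk₁ : (k₀⁻¹ : K) • ((φ ω : G) : G ⧸ H) = q := by
        rw [← hk₀, inv_smul_smul]
      obtain ⟨s, hs⟩ := QuotientGroup.mk_out_eq_mul (S ω) (k₀⁻¹ : K)
      refine ⟨⟨ω, (QuotientGroup.mk (k₀⁻¹ : K) : K ⧸ S ω)⟩, ?_⟩
      simp only [t]
      rw [hs]
      have : (((((k₀⁻¹ : K) * (s : K) : K) : G) * φ ω : G) : G ⧸ H) =
          ((k₀⁻¹ : K) * (s : K)) • ((φ ω : G) : G ⧸ H) := rfl
      rw [this, mul_smul, mem_stabilizer_iff.mp s.2, hk₁]
  let e : ι ≃ G ⧸ H := Equiv.ofBijective _ hbij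
  let σ : ι → ι := fun i => ⟨i.1, k • i.2⟩
  have hS : ∀ (ω : orbitRel.Quotient K (G ⧸ H)) (q : K ⧸ S ω),
      (Quotient.out (k • q) : K)⁻¹ * k * (Quotient.out q : K) ∈ S ω := by
    intro ω q
    have h1 : (QuotientGroup.mk (k * (Quotient.out q : K)) : K ⧸ S ω) = k • q := by
      conv_rhs => rw [← Quotient.out_eq' q]
      rfl
    have h2 : (QuotientGroup.mk (Quotient.out (k • q) : K) : K ⧸ S ω) = k • q :=
      Quotient.out_eq' _
    have := QuotientGroup.eq.mp (h2.trans h1.symm)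
    simpa [mul_assoc] using this
  have h : ∀ i : ι, (t (σ i))⁻¹ * (k : G) * t i ∈ H := by
    rintro ⟨ω, q⟩
    have := conj_mem_of_mem_stabilizer (H := H) K (φ ω) _ (hS ω q)
    simp only [t, σ]
    convert this using 1
    simp [mul_assoc]
  rw [transfer_eq_prod_of_equiv ϕ e t (fun _ => rfl) (k : G) σ h]
  rw [Fintype.prod_sigma]
  apply Fintype.prod_congr
  intro ω
  have h' : ∀ q : K ⧸ S ω, (Quotient.out (k • q) : K)⁻¹ * k * (Quotient.out q : K) ∈ S ω := hS ω
  rw [transfer_eq_prod_of_equiv (stabHom ϕ K (φ ω)) (Equiv.refl (K ⧸ S ω))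
    (fun q => (Quotient.out q : K)) (fun q => Quotient.out_eq' q) k (fun q => k • q) h']
  apply Fintype.prod_congr
  intro q
  rw [stabHom_apply]
  congr 1
  apply Subtype.ext
  simp [t, σ, mul_assoc]

end Mackey

section NormalStep

variable {U : Type*} [Group U] [Finite U] {A : Type*} [CommGroup A]

/-- The restriction of a homomorphism on `S ≤ U₀` to `S` viewed inside `U₀`. -/
def subHom {U₀ S : Subgroup U} (ϕ : S →* A) : S.subgroupOf U₀ →* A where
  toFun s := ϕ ⟨((s : U₀) : U), s.2⟩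
  map_one' := by
    have : (⟨(((1 : S.subgroupOf U₀) : U₀) : U), (1 : S.subgroupOf U₀).2⟩ : S) = 1 := by
      apply Subtype.ext; simp
    rw [this, map_one]
  map_mul' a b := by
    rw [← map_mul]
    congr 1

theorem subHom_apply {U₀ S : Subgroup U} (ϕ : S →* A) (s : S.subgroupOf U₀) :
    subHom ϕ s = ϕ ⟨((s : U₀) : U), s.2⟩ := rfl

/-- Transfer through a normal intermediate subgroup: if `S ≤ U₀ ⊴ U` and `x j` are coset
representatives of `U₀` in `U`, then for `v ∈ U₀` the transfer `U → S` at `v` is the product of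
the transfers `U₀ → S` at the conjugates `(x j)⁻¹ v (x j)`. -/
theorem transfer_eq_prod_conj_of_normal (U₀ S : Subgroup U) [hn : U₀.Normal] (hS : S ≤ U₀)
    {ι₀ : Type*} [Fintype ι₀] (x : ι₀ → U) (hx : ∀ u : U, ∃! j : ι₀, (x j)⁻¹ * u ∈ U₀)
    (ϕ : S →* A) (v : U) (hv : v ∈ U₀) :
    MonoidHom.transfer ϕ v = ∏ j : ι₀, MonoidHom.transfer (subHom (U₀ := U₀) ϕ)
      (⟨(x j)⁻¹ * v * x j, by
        have := hn.conj_mem v hv (x j)⁻¹
        simpa using this⟩ : U₀) := by
  classical
  let S₀ : Subgroup U₀ := S.subgroupOf U₀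
  letI : Fintype (U₀ ⧸ S₀) := Fintype.ofFinite _
  let ι := ι₀ × (U₀ ⧸ S₀)
  let t : ι → U := fun i => x i.1 * ((Quotient.out i.2 : U₀) : U)
  have hbij : Function.Bijective (fun i : ι => ((t i : U) : U ⧸ S)) := by
    constructor
    · rintro ⟨j, q⟩ ⟨j', q'⟩ hqq
      simp only [t] at hqq
      have hmem := QuotientGroup.eq.mp hqq
      -- (x j * r)⁻¹ * (x j' * r') ∈ S ≤ U₀
      have h1 : (x j)⁻¹ * (x j' * ((Quotient.out q' : U₀) : U)) ∈ U₀ := by
        have h2 := hS hmem
        have h3 : (x j)⁻¹ * (x j' * ((Quotient.out q' : U₀) : U)) =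
            ((Quotient.out q : U₀) : U) *
              ((x j * ((Quotient.out q : U₀) : U))⁻¹ * (x j' * ((Quotient.out q' : U₀) : U))) := by
          group
        rw [h3]
        exact U₀.mul_mem (Quotient.out q : U₀).2 h2
      have h4 : (x j')⁻¹ * (x j' * ((Quotient.out q' : U₀) : U)) ∈ U₀ := by
        rw [inv_mul_cancel_left]
        exact (Quotient.out q' : U₀).2
      have hj : j = j' := (hx (x j' * ((Quotient.out q' : U₀) : U))).unique h1 h4
      subst hj
      congr 1
      rw [← Quotient.out_eq' q, ← Quotient.out_eq' q']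
      apply (QuotientGroup.eq).mpr
      rw [Subgroup.mem_subgroupOf]
      have : (x j * ((Quotient.out q : U₀) : U))⁻¹ * (x j * ((Quotient.out q' : U₀) : U)) =
          (((Quotient.out q : U₀)⁻¹ * (Quotient.out q' : U₀) : U₀) : U) := by
        simp [mul_assoc]
      rw [← this]
      exact hmem
    · intro q
      induction q using QuotientGroup.induction_on with
      | H u =>
        obtain ⟨j, hj, -⟩ := hx u
        obtain ⟨s, hs⟩ := QuotientGroup.mk_out_eq_mul S₀ (⟨(x j)⁻¹ * u, hj⟩ : U₀)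
        refine ⟨⟨j, (QuotientGroup.mk (⟨(x j)⁻¹ * u, hj⟩ : U₀) : U₀ ⧸ S₀)⟩, ?_⟩
        simp only [t]
        rw [hs]
        apply (QuotientGroup.eq).mpr
        have : (x j * (((⟨(x j)⁻¹ * u, hj⟩ : U₀) * (s : U₀) : U₀) : U))⁻¹ * u =
            (((s : U₀)⁻¹ : U₀) : U) := by
          simp [mul_assoc]
        rw [this]
        exact Subgroup.mem_subgroupOf.mp (S₀.inv_mem s.2)
  let e : ι ≃ U ⧸ S := Equiv.ofBijective _ hbij
  let w : ι₀ → U₀ := fun j => ⟨(x j)⁻¹ * v * x j, by
        have := hn.conj_mem v hv (x j)⁻¹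
        simpa using this⟩
  let σ : ι → ι := fun i => ⟨i.1, w i.1 • i.2⟩
  have hS' : ∀ (j : ι₀) (q : U₀ ⧸ S₀),
      (Quotient.out (w j • q) : U₀)⁻¹ * w j * (Quotient.out q : U₀) ∈ S₀ := by
    intro j q
    have h1 : (QuotientGroup.mk (w j * (Quotient.out q : U₀)) : U₀ ⧸ S₀) = w j • q := by
      conv_rhs => rw [← Quotient.out_eq' q]
      rfl
    have h2 : (QuotientGroup.mk (Quotient.out (w j • q) : U₀) : U₀ ⧸ S₀) = w j • q :=
      Quotient.out_eq' _
    have := QuotientGroup.eq.mp (h2.trans h1.symm)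
    simpa [mul_assoc] using this
  have h : ∀ i : ι, (t (σ i))⁻¹ * v * t i ∈ S := by
    rintro ⟨j, q⟩
    have := Subgroup.mem_subgroupOf.mp (hS' j q)
    simp only [t, σ]
    convert this using 1
    simp [w, mul_assoc]
  rw [transfer_eq_prod_of_equiv ϕ e t (fun _ => rfl) v σ h]
  rw [Fintype.prod_prod_type]
  apply Fintype.prod_congr
  intro j
  rw [transfer_eq_prod_of_equiv (subHom (U₀ := U₀) ϕ) (Equiv.refl (U₀ ⧸ S₀))
    (fun q => (Quotient.out q : U₀)) (fun q => Quotient.out_eq' q) (w j) (fun q => w j • q)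
    (hS' j)]
  apply Fintype.prod_congr
  intro q
  rw [subHom_apply]
  congr 1
  apply Subtype.ext
  simp [t, σ, w, mul_assoc]

end NormalStep

end Cfsg.Agent.Lib.Helper14
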