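import Mathlib.GroupTheory.Transfer
import Mathlib.GroupTheory.Sylow
import Mathlib.GroupTheory.Frattini
import Mathlib.GroupTheory.Nilpotent
import Mathlib.Tactic.Group
import Cfsg.Prelude.Def_Transfer
import Cfsg.Agent.Lib.Helper14.TransferX
import Cfsg.Agent.Lib.Helper14.EngelSum
import Cfsg.Agent.Lib.Helper03.PGroupFrattini
import Cfsg.Agent.Lib.Helper03.PGroupNormal

/-!
# The Hall–Wielandt transfer theorem for weakly closed subgroups
-/

set_option autoImplicit false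
set_option linter.unusedSectionVars false
set_option linter.style.haveILetI false

namespace Cfsg.Agent.Lib.Helper14

open Subgroup MulAction

section Basic

variable {G : Type*} [Group G]

/-- iterating the commutator map commutes with the coercion from a subgroup -/
theorem coe_iterate_comm (U : Subgroup G) (z v : U) (k : ℕ) :
    (((fun y : U => y⁻¹ * z⁻¹ * y * z)^[k] v : U) : G) =
      (fun y : G => y⁻¹ * (z : G)⁻¹ * y * (z : G))^[k] (v : G) := by
  induction k with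
  | zero => rfl
  | succ k ih =>
    rw [Function.iterate_succ_apply', Function.iterate_succ_apply', ← ih]
    simp

/-- the iterated commutator `[v, z, …, z]` lies in `W` when `v` normalises `W ∋ z` (at least one
`z`). -/
theorem iterate_comm_mem_of_mem_normalizer (W : Subgroup G) {v z : G}
    (hv : v ∈ normalizer (W : Set G)) (hz : z ∈ W) (k : ℕ) :
    (fun y : G => y⁻¹ * z⁻¹ * y * z)^[k + 1] v ∈ W := by
  induction k with
  | zero =>
    simp only [zero_add, Function.iterate_one]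
    have h1 : v⁻¹ * z⁻¹ * v ∈ W := by
      have := (mem_normalizer_iff''.mp hv z⁻¹).mp (W.inv_mem hz)
      exact this
    exact W.mul_mem h1 hz
  | succ k ih =>
    rw [Function.iterate_succ_apply']
    have h1 := W.mul_mem (W.mul_mem (W.inv_mem ih) (W.inv_mem hz)) ih
    exact W.mul_mem h1 hz

variable {A : Type*} [CommGroup A]

/-- `V g = ϕ g ^ |G : H|` when `ϕ` takes the value `ϕ g ^ k` on all conjugates of `g ^ k`
lying in `H`. -/
theorem transfer_eq_pow_of_conj_eq {H : Subgroup G} [H.FiniteIndex]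
    (ϕ : H →* A) (g : G) (hg : g ∈ H)
    (key : ∀ (k : ℕ) (g₀ : G) (hk : g₀⁻¹ * g ^ k * g₀ ∈ H),
      ϕ ⟨g₀⁻¹ * g ^ k * g₀, hk⟩ = ϕ ⟨g, hg⟩ ^ k) :
    MonoidHom.transfer ϕ g = ϕ ⟨g, hg⟩ ^ H.index := by
  classical
  have : Fintype (Quotient (MulAction.orbitRel (zpowers (g : G)) (G ⧸ H))) :=
    Fintype.ofFinite _
  rw [index_eq_sum_minimalPeriod H g, ← Finset.prod_pow_eq_pow_sum,
    MonoidHom.transfer_eq_prod_quotient_orbitRel_zpowers_quot]
  apply Finset.prod_congr rfl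
  intro q _
  exact key _ _ _

/-- the transfer from a subgroup that is everything is the homomorphism itself -/
theorem transfer_eq_of_eq_top [Finite G] (H : Subgroup G) (hH : H = ⊤) (ϕ : H →* A) (g : G) :
    MonoidHom.transfer ϕ g = ϕ ⟨g, hH ▸ Subgroup.mem_top g⟩ := by
  have hg : g ∈ H := hH ▸ Subgroup.mem_top g
  have h1 := transfer_eq_pow_of_conj_eq ϕ g hg (by
    intro k g₀ hk
    have hg₀ : g₀ ∈ H := hH ▸ Subgroup.mem_top g₀
    have : (⟨g₀⁻¹ * g ^ k * g₀, hk⟩ : H) = (⟨g₀, hg₀⟩ : H)⁻¹ * ⟨g, hg⟩ ^ k * ⟨g₀, hg₀⟩ := by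
      apply Subtype.ext; simp
    rw [this, map_mul, map_mul, map_inv, map_pow, mul_comm, mul_inv_cancel_left])
  rw [h1]
  have : H.index = 1 := by rw [hH]; exact Subgroup.index_top
  rw [this, pow_one]

end Basic

section SylowWC

variable {G : Type*} [Group G] [Finite G] {p : ℕ} [Fact p.Prime]

/-- a `p`-subgroup of `N ≥ P` is `N`-conjugate into the Sylow subgroup `P` -/
theorem exists_conj_mem_sylow_of_le (P : Sylow p G) {N B : Subgroup G}
    (hPN : (P : Subgroup G) ≤ N) (hBN : B ≤ N) (hB : IsPGroup p B) :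
    ∃ n ∈ N, ∀ b ∈ B, n⁻¹ * b * n ∈ (P : Subgroup G) := by
  let PN : Sylow p N := P.subtype hPN
  have hB' : IsPGroup p (B.subgroupOf N) := hB.comap_subtype
  obtain ⟨Q, hQ⟩ := hB'.exists_le_sylow
  obtain ⟨n, hn⟩ := MulAction.exists_smul_eq N Q PN
  refine ⟨((n⁻¹ : N) : G), (n⁻¹).2, fun b hb => ?_⟩
  have h1 : n * ⟨b, hBN hb⟩ * n⁻¹ ∈ ((n • Q : Sylow p N) : Subgroup N) := by
    rw [Sylow.coe_subgroup_smul]
    exact ⟨⟨b, hBN hb⟩, hQ (mem_subgroupOf.mpr hb), rfl⟩
  rw [hn] at h1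
  have h2 : (n * ⟨b, hBN hb⟩ * n⁻¹ : N) ∈ (P : Subgroup G).subgroupOf N := h1
  rw [mem_subgroupOf] at h2
  simpa using h2

variable {W : Subgroup G} {P : Sylow p G}

theorem isWeaklyClosed_le_normalizer (hW : Cfsg.IsWeaklyClosed W (P : Subgroup G)) :
    (P : Subgroup G) ≤ normalizer (W : Set G) := by
  intro g hg
  rw [mem_normalizer_iff_map_conj_eq]
  apply hW.2 g
  rintro _ ⟨w, hw, rfl⟩
  exact (P : Subgroup G).mul_mem ((P : Subgroup G).mul_mem hg (hW.1 hw)) ((P : Subgroup G).inv_mem hg)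

/-- if `x⁻¹ W x ≤ N_G(W)` for a weakly closed subgroup `W` of a Sylow subgroup then `x`
normalises `W` -/
theorem mem_normalizer_of_conj_le (hW : Cfsg.IsWeaklyClosed W (P : Subgroup G)) (x : G)
    (hx : ∀ w ∈ W, x⁻¹ * w * x ∈ normalizer (W : Set G)) : x ∈ normalizer (W : Set G) := by
  have hPN := isWeaklyClosed_le_normalizer hW
  -- the conjugate of `W`
  let B : Subgroup G := W.map (MulAut.conj x⁻¹).toMonoidHom
  have hBN : B ≤ normalizer (W : Set G) := by
    rintro _ ⟨w, hw, rfl⟩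
    have := hx w hw
    simpa using this
  have hWp : IsPGroup p W := P.isPGroup'.to_le hW.1
  have hB : IsPGroup p B := hWp.map _
  obtain ⟨n, hnN, hn⟩ := exists_conj_mem_sylow_of_le P hPN hBN hB
  have h1 : W.map (MulAut.conj (n⁻¹ * x⁻¹)).toMonoidHom ≤ (P : Subgroup G) := by
    rintro _ ⟨w, hw, rfl⟩
    have := hn (x⁻¹ * w * x) ⟨w, hw, by simp⟩
    simpa [mul_assoc] using this
  have h2 := hW.2 _ h1
  have h3 : n⁻¹ * x⁻¹ ∈ normalizer (W : Set G) := mem_normalizer_iff_map_conj_eq.mpr h2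
  have h4 := (normalizer (W : Set G)).mul_mem hnN h3
  rw [mul_inv_cancel_left] at h4
  exact (normalizer (W : Set G)).inv_mem_iff.mp h4

end SylowWC

section PGroupStep

variable {U : Type*} [Group U] [Finite U] {A : Type*} [CommGroup A] {p : ℕ} [Fact p.Prime]

/-- powers of an element outside a normal subgroup of prime index form a transversal -/
theorem exists_unique_pow_of_index_prime (U₀ : Subgroup U) [U₀.Normal] (hidx : U₀.index = p)
    {z : U} (hz : z ∉ U₀) (u : U) : ∃! j : Fin p, (z ^ (j : ℕ))⁻¹ * u ∈ U₀ := by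
  classical
  have hp : p.Prime := Fact.out
  have hcard : Nat.card (U ⧸ U₀) = p := by rw [← hidx, Subgroup.index_eq_card]
  have hq1 : (QuotientGroup.mk z : U ⧸ U₀) ≠ 1 := by
    rwa [Ne, QuotientGroup.eq_one_iff]
  have hord : orderOf (QuotientGroup.mk z : U ⧸ U₀) = p := by
    apply orderOf_eq_prime _ hq1
    rw [← hcard]
    exact pow_card_eq_one'
  have htop := zpowers_eq_top_of_prime_card hcard hq1
  have hu : (QuotientGroup.mk u : U ⧸ U₀) ∈ zpowers (QuotientGroup.mk z : U ⧸ U₀) := by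
    rw [htop]; trivial
  rw [mem_zpowers_iff_mem_range_orderOf, hord, Finset.mem_image] at hu
  obtain ⟨j, hj, hju⟩ := hu
  rw [Finset.mem_range] at hj
  have hmem : ∀ i : ℕ, (z ^ i)⁻¹ * u ∈ U₀ ↔
      (QuotientGroup.mk z : U ⧸ U₀) ^ i = (QuotientGroup.mk u : U ⧸ U₀) := by
    intro i
    rw [← QuotientGroup.mk_pow, QuotientGroup.eq]
  refine ⟨⟨j, hj⟩, (hmem j).mpr hju, ?_⟩
  rintro ⟨i, hi⟩ hiu
  have h1 := (hmem i).mp hiu
  have h2 : (QuotientGroup.mk z : U ⧸ U₀) ^ i = (QuotientGroup.mk z : U ⧸ U₀) ^ j := by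
    rw [h1]; exact hju.symm
  rw [pow_eq_pow_iff_modEq, hord] at h2
  apply Fin.ext
  show i = j
  have := Nat.ModEq.eq_of_lt_of_lt h2 hi hj
  exact this

/-- In a finite `p`-group `U = ⟨v⟩ W`, for `v ∈ S` and `W ≰ S`, the transfer `U → S` composed with
`ϕ : S → A` (`A` of exponent `p`) takes at `v` the value `ν [v, z, …, z]` for some `z ∈ W`, a
normal subgroup `U₀ ∌ z` of index `p` and a homomorphism `ν : U₀ → A`. -/
theorem exists_transfer_eq_iterate_comm (hU : IsPGroup p U) (hA : ∀ a : A, a ^ p = 1)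
    (S : Subgroup U) (ϕ : S →* A) {v : U} (hv : v ∈ S) (Wu : Subgroup U)
    (hgen : zpowers v ⊔ Wu = ⊤) (hWS : ¬ Wu ≤ S) :
    ∃ z ∈ Wu, ∃ (U₀ : Subgroup U) (_ : U₀.Normal), U₀.index = p ∧ z ∉ U₀ ∧ v ∈ U₀ ∧
      ∃ (hv₀ : (fun y : U => y⁻¹ * z⁻¹ * y * z)^[p - 1] v ∈ U₀) (ν : U₀ →* A),
        MonoidHom.transfer ϕ v = ν ⟨(fun y : U => y⁻¹ * z⁻¹ * y * z)^[p - 1] v, hv₀⟩ := by
  classical
  have hp : p.Prime := Fact.out
  have hStop : S ≠ ⊤ := by
    rintro rfl
    exact hWS le_top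
  obtain ⟨U₀, hU₀, hSU₀⟩ := (eq_top_or_exists_le_coatom S).resolve_left hStop
  have hn : U₀.Normal := Cfsg.Agent.Lib.Helper03.normal_of_isCoatom_of_isPGroup hU hU₀
  have hidx : U₀.index = p := Cfsg.Agent.Lib.Helper03.index_of_isCoatom_of_isPGroup hU hU₀
  have hvU₀ : v ∈ U₀ := hSU₀ hv
  have hWU₀ : ¬ Wu ≤ U₀ := by
    intro hle
    apply hU₀.1
    rw [eq_top_iff, ← hgen]
    exact sup_le (zpowers_le.mpr hvU₀) hle
  obtain ⟨z, hzW, hzU₀⟩ := SetLike.not_le_iff_exists.mp hWU₀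
  refine ⟨z, hzW, U₀, hn, hidx, hzU₀, hvU₀, iterate_comm_mem U₀ z hvU₀ (p - 1),
    MonoidHom.transfer (subHom (U₀ := U₀) ϕ), ?_⟩
  rw [transfer_eq_prod_conj_of_normal U₀ S hSU₀ (fun j : Fin p => z ^ (j : ℕ))
    (exists_unique_pow_of_index_prime U₀ hidx hzU₀) ϕ v hvU₀]
  rw [← prod_conj_eq_iterate_comm hp hA U₀ (MonoidHom.transfer (subHom (U₀ := U₀) ϕ)) z hvU₀]
  exact Fin.prod_univ_eq_prod_range (fun j : ℕ => MonoidHom.transfer (subHom (U₀ := U₀) ϕ)
    (⟨(z ^ j)⁻¹ * v * z ^ j, conj_pow_mem U₀ z hvU₀ j⟩ : U₀)) p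

end PGroupStep

section NoFix

variable {K : Type*} [Group K] [Finite K] {A : Type*} [CommGroup A] {p : ℕ} [Fact p.Prime]

/-- If no conjugate of the `p`-element `v` lies in `S`, the transfer at `v` is a product of values
of `ϕ` at conjugates of powers `v ^ n` with `p ∣ n`. -/
theorem transfer_eq_one_of_no_fixed (S : Subgroup K) (ϕ : S →* A) (v : K)
    (hvp : ∃ k, orderOf v = p ^ k) (hnofix : ∀ y : K, y⁻¹ * v * y ∉ S)
    (hterm : ∀ (n : ℕ) (y : K) (hmem : y⁻¹ * v ^ n * y ∈ S), p ∣ n → ϕ ⟨_, hmem⟩ = 1) :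
    MonoidHom.transfer ϕ v = 1 := by
  classical
  have hp : p.Prime := Fact.out
  have : Fintype (Quotient (orbitRel (zpowers v) (K ⧸ S))) := Fintype.ofFinite _
  rw [MonoidHom.transfer_eq_prod_quotient_orbitRel_zpowers_quot]
  apply Finset.prod_eq_one
  intro q _
  apply hterm
  have hdvd : Function.minimalPeriod (v • ·) q.out ∣ orderOf v := by
    apply Function.IsPeriodicPt.minimalPeriod_dvd
    show (v • ·)^[orderOf v] q.out = q.out
    rw [smul_iterate, pow_orderOf_eq_one]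
    exact one_smul _ _
  obtain ⟨k, hk⟩ := hvp
  rw [hk] at hdvd
  obtain ⟨i, hi, hn⟩ := (Nat.dvd_prime_pow hp).mp hdvd
  rcases Nat.eq_zero_or_pos i with rfl | hpos
  · exfalso
    rw [pow_zero] at hn
    have hfix : v • q.out = q.out := Function.minimalPeriod_eq_one_iff_isFixedPt.mp hn
    apply hnofix q.out.out
    have h1 : (q.out : K ⧸ S) = QuotientGroup.mk q.out.out := (QuotientGroup.out_eq' _).symm
    rw [h1, MulAction.Quotient.smul_mk, QuotientGroup.eq] at hfix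
    have := S.inv_mem hfix
    simpa [mul_assoc, smul_eq_mul] using this
  · rw [hn]
    exact dvd_pow_self p hpos.ne'

end NoFix

section Core

variable {G : Type*} [Group G] [Finite G] {p : ℕ} [Fact p.Prime] {A : Type*} [CommGroup A]

/-- the configuration produced by a failure of transfer control: an iterated commutator
`[x, z; p - 1]` in a maximal subgroup `W₀` of `W` but outside `Φ(W₀)` -/
def HWBad (p : ℕ) (P W : Subgroup G) : Prop :=
  ∃ x ∈ P, ∃ z ∈ W, ∃ W₀ : Subgroup ↥W, IsCoatom W₀ ∧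
    (fun y : G => y⁻¹ * z⁻¹ * y * z)^[p - 1] x ∈ W₀.map W.subtype ∧
    (fun y : G => y⁻¹ * z⁻¹ * y * z)^[p - 1] x ∉
      ((frattini ↥W₀).map W₀.subtype).map W.subtype

/-- the bad configuration with two more pieces of information: `z ∉ W₀`, and `x ∈ W₀` in case
`x ∈ W` -/
def HWBad' (p : ℕ) (P W : Subgroup G) : Prop :=
  ∃ x ∈ P, ∃ z, ∃ hz : z ∈ W, ∃ W₀ : Subgroup ↥W, IsCoatom W₀ ∧ (⟨z, hz⟩ : ↥W) ∉ W₀ ∧
    (∀ hx : x ∈ W, (⟨x, hx⟩ : ↥W) ∈ W₀) ∧
    (fun y : G => y⁻¹ * z⁻¹ * y * z)^[p - 1] x ∈ W₀.map W.subtype ∧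
    (fun y : G => y⁻¹ * z⁻¹ * y * z)^[p - 1] x ∉
      ((frattini ↥W₀).map W₀.subtype).map W.subtype

theorem HWBad'.hwBad {p : ℕ} {P W : Subgroup G} (h : HWBad' p P W) : HWBad p P W := by
  obtain ⟨x, hx, z, hz, W₀, h1, -, -, h2, h3⟩ := h
  exact ⟨x, hx, z, hz, W₀, h1, h2, h3⟩

/-- a homomorphism from a finite group to an abelian group of exponent `p` kills the Frattini
subgroup -/
theorem frattini_le_ker_of_exponent {Q : Type*} [Group Q] [Finite Q] (hA : ∀ a : A, a ^ p = 1)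
    (f : Q →* A) : frattini Q ≤ f.ker := by
  apply Cfsg.Agent.Lib.Helper03.frattini_le_of_elementary_abelian_quotient (p := p) f.ker
  · intro x
    rw [MonoidHom.mem_ker, map_pow]
    exact hA _
  · exact Abelianization.commutator_subset_ker f

variable {W : Subgroup G} {P : Sylow p G}

/-- the contribution of an orbit with a fixed point of `v` outside `N_G(W)` is trivial when there
is no bad configuration -/
theorem transfer_eq_one_of_fixed (hW : Cfsg.IsWeaklyClosed W (P : Subgroup G))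
    (hA : ∀ a : A, a ^ p = 1) (hnot : ¬ HWBad' p (P : Subgroup G) W) {v : G}
    (hv : v ∈ (P : Subgroup G)) (S : Subgroup ↥(zpowers v ⊔ W)) (ϕ : S →* A)
    (hvS : (⟨v, mem_sup_left (mem_zpowers v)⟩ : ↥(zpowers v ⊔ W)) ∈ S)
    (hWS : ¬ W.subgroupOf (zpowers v ⊔ W) ≤ S) :
    MonoidHom.transfer ϕ (⟨v, mem_sup_left (mem_zpowers v)⟩ : ↥(zpowers v ⊔ W)) = 1 := by
  classical
  have hp : p.Prime := Fact.out
  have hPN := isWeaklyClosed_le_normalizer hW
  have hUP : zpowers v ⊔ W ≤ (P : Subgroup G) := sup_le (zpowers_le.mpr hv) hW.1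
  have hWU : W ≤ zpowers v ⊔ W := le_sup_right
  have hU : IsPGroup p ↥(zpowers v ⊔ W) := P.isPGroup'.to_le hUP
  have hgen : zpowers (⟨v, mem_sup_left (mem_zpowers v)⟩ : ↥(zpowers v ⊔ W)) ⊔
      W.subgroupOf (zpowers v ⊔ W) = ⊤ := by
    apply Subgroup.map_injective (zpowers v ⊔ W).subtype_injective
    rw [Subgroup.map_sup, MonoidHom.map_zpowers, ← MonoidHom.range_eq_map, Subgroup.range_subtype,
      Subgroup.map_subgroupOf_eq_of_le hWU]
    rfl
  obtain ⟨z, hzW, U₀, hn, hidx, hzU₀, hvU₀', hv₀, ν, heq⟩ :=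
    exists_transfer_eq_iterate_comm hU hA S ϕ hvS (W.subgroupOf (zpowers v ⊔ W)) hgen hWS
  rw [heq]
  -- the iterated commutator in `G`
  have hzW' : (z : G) ∈ W := mem_subgroupOf.mp hzW
  have hcoe := coe_iterate_comm (zpowers v ⊔ W) z ⟨v, mem_sup_left (mem_zpowers v)⟩ (p - 1)
  have hp1 : p - 1 = (p - 2) + 1 := by have := hp.two_le; omega
  have hcW : (fun y : G => y⁻¹ * (z : G)⁻¹ * y * (z : G))^[p - 1] v ∈ W := by
    rw [hp1]
    exact iterate_comm_mem_of_mem_normalizer W (hPN hv) hzW' (p - 2)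
  -- the maximal subgroup of `W`
  let ι : ↥W →* ↥(zpowers v ⊔ W) := Subgroup.inclusion hWU
  let W₀ : Subgroup ↥W := U₀.comap ι
  have hW₀ : IsCoatom W₀ := by
    apply Cfsg.Agent.Lib.Helper03.isCoatom_of_index_eq_prime hp
    have hker : W₀ = ((QuotientGroup.mk' U₀).comp ι).ker := by
      rw [← MonoidHom.comap_ker, QuotientGroup.ker_mk']
    rw [hker, Subgroup.index_ker]
    have hcard : Nat.card (↥(zpowers v ⊔ W) ⧸ U₀) = p := by
      rw [← hidx, Subgroup.index_eq_card]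
    haveI : Fact (Nat.card (↥(zpowers v ⊔ W) ⧸ U₀)).Prime := ⟨by rw [hcard]; exact hp⟩
    rcases (((QuotientGroup.mk' U₀).comp ι).range).eq_bot_or_eq_top_of_prime_card with h | h
    · exfalso
      have h1 : ((QuotientGroup.mk' U₀).comp ι) ⟨(z : G), hzW'⟩ ∈
          ((QuotientGroup.mk' U₀).comp ι).range := ⟨_, rfl⟩
      rw [h, Subgroup.mem_bot] at h1
      apply hzU₀
      have h2 : ι ⟨(z : G), hzW'⟩ = z := Subtype.ext rfl
      rw [MonoidHom.comp_apply, h2] at h1
      exact (QuotientGroup.eq_one_iff z).mp h1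
    · rw [h]
      rw [Nat.card_congr (Subgroup.topEquiv (G := ↥(zpowers v ⊔ W) ⧸ U₀)).toEquiv]
      exact hcard
  have hcW₀ : (⟨_, hcW⟩ : ↥W) ∈ W₀ := by
    show ι ⟨_, hcW⟩ ∈ U₀
    have : ι ⟨_, hcW⟩ = (fun y : ↥(zpowers v ⊔ W) => y⁻¹ * z⁻¹ * y * z)^[p - 1]
        ⟨v, mem_sup_left (mem_zpowers v)⟩ := Subtype.ext hcoe.symm
    rw [this]
    exact hv₀
  have hmem1 : (fun y : G => y⁻¹ * (z : G)⁻¹ * y * (z : G))^[p - 1] v ∈ W₀.map W.subtype :=
    ⟨⟨_, hcW⟩, hcW₀, rfl⟩
  have hmem2 : (fun y : G => y⁻¹ * (z : G)⁻¹ * y * (z : G))^[p - 1] v ∈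
      ((frattini ↥W₀).map W₀.subtype).map W.subtype := by
    by_contra hcon
    refine hnot ⟨v, hv, (z : G), hzW', W₀, hW₀, ?_, ?_, hmem1, hcon⟩
    · intro hzW₀
      apply hzU₀
      have h2 : ι ⟨(z : G), hzW'⟩ = z := Subtype.ext rfl
      have h3 : ι ⟨(z : G), hzW'⟩ ∈ U₀ := hzW₀
      rwa [h2] at h3
    · intro hx
      show ι ⟨v, hx⟩ ∈ U₀
      have h2 : ι ⟨v, hx⟩ = (⟨v, mem_sup_left (mem_zpowers v)⟩ : ↥(zpowers v ⊔ W)) :=
        Subtype.ext rfl
      rw [h2]
      exact hvU₀'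
  obtain ⟨w₁, ⟨w₀, hw₀, rfl⟩, hw₁⟩ := hmem2
  let ν' : ↥W₀ →* A := ν.comp (ι.subgroupComap U₀)
  have hker := frattini_le_ker_of_exponent hA ν' hw₀
  rw [MonoidHom.mem_ker] at hker
  rw [← hker]
  show _ = ν (ι.subgroupComap U₀ w₀)
  congr 1
  apply Subtype.ext
  apply Subtype.ext
  rw [hcoe]
  exact hw₁.symm

/-- stability of `lam` at `y`: `lam` takes the same value at `y` and at its conjugates in `P` -/
def HWStable (P : Sylow p G) (W : Subgroup G) (lam : normalizer (W : Set G) →* A) (y : G) :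
    Prop :=
  ∀ (g : G) (h1 : y ∈ normalizer (W : Set G)) (h2 : g⁻¹ * y * g ∈ normalizer (W : Set G)),
    y ∈ (P : Subgroup G) → g⁻¹ * y * g ∈ (P : Subgroup G) → lam ⟨g⁻¹ * y * g, h2⟩ = lam ⟨y, h1⟩

/-- `lam` is trivial at conjugates in `N_G(W)` of the powers `v ^ n`, `p ∣ n`, if it is stable
at these powers -/
theorem lam_conj_pow_eq_one (hW : Cfsg.IsWeaklyClosed W (P : Subgroup G))
    (hA : ∀ a : A, a ^ p = 1) (lam : normalizer (W : Set G) →* A) {v : G}
    (hv : v ∈ (P : Subgroup G)) (hmin : ∀ n, p ∣ n → HWStable P W lam (v ^ n))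
    (n : ℕ) (hn : p ∣ n) (g : G) (he : g⁻¹ * v ^ n * g ∈ normalizer (W : Set G)) :
    lam ⟨g⁻¹ * v ^ n * g, he⟩ = 1 := by
  have hPN := isWeaklyClosed_le_normalizer hW
  have hvn : v ^ n ∈ (P : Subgroup G) := (P : Subgroup G).pow_mem hv n
  let B : Subgroup G := (zpowers (v ^ n)).map (MulAut.conj g⁻¹).toMonoidHom
  have hB : IsPGroup p B := (P.isPGroup'.to_le (zpowers_le.mpr hvn)).map _
  have heB : g⁻¹ * v ^ n * g ∈ B := ⟨v ^ n, mem_zpowers _, by simp⟩
  have hBN : B ≤ normalizer (W : Set G) := by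
    rintro _ ⟨y, hy, rfl⟩
    obtain ⟨k, rfl⟩ := mem_zpowers_iff.mp hy
    have : (MulAut.conj g⁻¹).toMonoidHom ((v ^ n) ^ k) = (g⁻¹ * v ^ n * g) ^ k := by
      rw [map_zpow]; simp
    rw [this]
    exact (normalizer (W : Set G)).zpow_mem he k
  obtain ⟨n₁, hn₁N, hn₁⟩ := exists_conj_mem_sylow_of_le P hPN hBN hB
  have h3 := hn₁ _ heB
  have h4 : (g * n₁)⁻¹ * v ^ n * (g * n₁) = n₁⁻¹ * (g⁻¹ * v ^ n * g) * n₁ := by group
  have h5 : (g * n₁)⁻¹ * v ^ n * (g * n₁) ∈ (P : Subgroup G) := by rw [h4]; exact h3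
  have h6 := hmin n hn (g * n₁) (hPN hvn) (hPN h5) hvn h5
  have h7 : (⟨(g * n₁)⁻¹ * v ^ n * (g * n₁), hPN h5⟩ : normalizer (W : Set G)) =
      (⟨n₁, hn₁N⟩ : normalizer (W : Set G))⁻¹ * ⟨g⁻¹ * v ^ n * g, he⟩ * ⟨n₁, hn₁N⟩ := by
    apply Subtype.ext
    exact h4
  rw [h7, map_mul, map_mul, map_inv, mul_comm, mul_inv_cancel_left] at h6
  rw [h6]
  have h8 : (⟨v ^ n, hPN hvn⟩ : normalizer (W : Set G)) = ⟨v, hPN hv⟩ ^ n := Subtype.ext rfl
  rw [h8, map_pow]
  obtain ⟨m, rfl⟩ := hn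
  rw [pow_mul, hA, one_pow]

/-- **Evaluation of the transfer**: if `lam` is stable at the powers `v ^ n` with `p ∣ n` and there
is no bad configuration, the transfer of `lam : N_G(W) → A` takes the value `lam v` at `v ∈ P`. -/
theorem transfer_eq_self_of_stable_pow (hW : Cfsg.IsWeaklyClosed W (P : Subgroup G))
    (hA : ∀ a : A, a ^ p = 1) (hnot : ¬ HWBad' p (P : Subgroup G) W)
    (lam : normalizer (W : Set G) →* A) {v : G} (hv : v ∈ (P : Subgroup G))
    (hmin : ∀ n, p ∣ n → HWStable P W lam (v ^ n)) :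
    MonoidHom.transfer lam v = lam ⟨v, isWeaklyClosed_le_normalizer hW hv⟩ := by
  classical
  have hPN := isWeaklyClosed_le_normalizer hW
  have hUP : zpowers v ⊔ W ≤ (P : Subgroup G) := sup_le (zpowers_le.mpr hv) hW.1
  have hUN : zpowers v ⊔ W ≤ normalizer (W : Set G) := hUP.trans hPN
  have hU : IsPGroup p ↥(zpowers v ⊔ W) := P.isPGroup'.to_le hUP
  letI : Fintype (orbitRel.Quotient ↥(zpowers v ⊔ W) (G ⧸ normalizer (W : Set G))) :=
    Fintype.ofFinite _
  -- orbit representatives, fixed by `v` whenever possible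
  have hex : ∀ ω : orbitRel.Quotient ↥(zpowers v ⊔ W) (G ⧸ normalizer (W : Set G)),
      ∃ x : G, (Quotient.mk'' ((x : G) : G ⧸ normalizer (W : Set G)) :
        orbitRel.Quotient ↥(zpowers v ⊔ W) (G ⧸ normalizer (W : Set G))) = ω ∧
      ((∃ x' : G, (Quotient.mk'' ((x' : G) : G ⧸ normalizer (W : Set G)) :
        orbitRel.Quotient ↥(zpowers v ⊔ W) (G ⧸ normalizer (W : Set G))) = ω ∧
          ((v * x' : G) : G ⧸ normalizer (W : Set G)) = (x' : G)) →
        ((v * x : G) : G ⧸ normalizer (W : Set G)) = (x : G)) := by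
    intro ω
    by_cases h : ∃ x' : G, (Quotient.mk'' ((x' : G) : G ⧸ normalizer (W : Set G)) :
        orbitRel.Quotient ↥(zpowers v ⊔ W) (G ⧸ normalizer (W : Set G))) = ω ∧
          ((v * x' : G) : G ⧸ normalizer (W : Set G)) = (x' : G)
    · obtain ⟨x', h1, h2⟩ := h
      exact ⟨x', h1, fun _ => h2⟩
    · obtain ⟨q, rfl⟩ := Quotient.exists_rep ω
      obtain ⟨x, rfl⟩ := QuotientGroup.mk_surjective q
      exact ⟨x, rfl, fun h' => absurd h' h⟩
  choose φ hφ hφfix using hex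
  have key := transfer_eq_prod_orbits lam (zpowers v ⊔ W) φ hφ ⟨v, mem_sup_left (mem_zpowers v)⟩
  rw [key]
  rw [Finset.prod_eq_single (Quotient.mk'' (((1 : G) : G) : G ⧸ normalizer (W : Set G)) :
    orbitRel.Quotient ↥(zpowers v ⊔ W) (G ⧸ normalizer (W : Set G)))]
  · -- the orbit of the trivial coset
    set ω₀ : orbitRel.Quotient ↥(zpowers v ⊔ W) (G ⧸ normalizer (W : Set G)) :=
      Quotient.mk'' (((1 : G) : G) : G ⧸ normalizer (W : Set G)) with hω₀
    obtain ⟨k₀, hk₀⟩ := Quotient.exact (hφ ω₀)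
    have hx₀ : φ ω₀ ∈ normalizer (W : Set G) := by
      replace hk₀ : k₀ • (((1 : G) : G) : G ⧸ normalizer (W : Set G)) =
        ((φ ω₀ : G) : G ⧸ normalizer (W : Set G)) := hk₀
      rw [subgroup_smul_coe, QuotientGroup.eq] at hk₀
      have h1 := (normalizer (W : Set G)).mul_mem (hUN k₀.2) hk₀
      simpa using h1
    have hstab : stabilizer ↥(zpowers v ⊔ W) ((φ ω₀ : G) : G ⧸ normalizer (W : Set G)) = ⊤ := by
      rw [eq_top_iff]
      intro s _
      rw [mem_stabilizer_iff, subgroup_smul_coe, QuotientGroup.eq]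
      have h1 := (normalizer (W : Set G)).mul_mem
        ((normalizer (W : Set G)).mul_mem ((normalizer (W : Set G)).inv_mem hx₀)
          ((normalizer (W : Set G)).inv_mem (hUN s.2))) hx₀
      simpa [mul_assoc] using h1
    rw [transfer_eq_of_eq_top _ hstab, stabHom_apply]
    have h2 : (⟨(φ ω₀)⁻¹ * v * φ ω₀, (normalizer (W : Set G)).mul_mem
        ((normalizer (W : Set G)).mul_mem ((normalizer (W : Set G)).inv_mem hx₀) (hPN hv)) hx₀⟩ :
          normalizer (W : Set G)) =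
        (⟨φ ω₀, hx₀⟩ : normalizer (W : Set G))⁻¹ * ⟨v, hPN hv⟩ * ⟨φ ω₀, hx₀⟩ := Subtype.ext rfl
    have h3 : lam ⟨(φ ω₀)⁻¹ * v * φ ω₀, (normalizer (W : Set G)).mul_mem
        ((normalizer (W : Set G)).mul_mem ((normalizer (W : Set G)).inv_mem hx₀) (hPN hv)) hx₀⟩ =
          lam ⟨v, hPN hv⟩ := by
      rw [h2, map_mul, map_mul, map_inv, mul_comm, mul_inv_cancel_left]
    exact h3
  · -- the other orbits
    intro ω _ hω
    by_cases hfix : ∃ x' : G, (Quotient.mk'' ((x' : G) : G ⧸ normalizer (W : Set G)) :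
        orbitRel.Quotient ↥(zpowers v ⊔ W) (G ⧸ normalizer (W : Set G))) = ω ∧
          ((v * x' : G) : G ⧸ normalizer (W : Set G)) = (x' : G)
    · -- a fixed point
      have hfx := hφfix ω hfix
      have hxN : φ ω ∉ normalizer (W : Set G) := by
        intro hx
        apply hω
        rw [← hφ ω]
        congr 1
        rw [QuotientGroup.eq]
        simpa using hx
      apply transfer_eq_one_of_fixed hW hA hnot hv
      · rw [mem_stabilizer_iff, subgroup_smul_coe]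
        exact hfx
      · intro hle
        apply hxN
        apply mem_normalizer_of_conj_le hW
        intro w hw
        have h1 : (⟨w, le_sup_right (a := zpowers v) hw⟩ : ↥(zpowers v ⊔ W)) ∈
            W.subgroupOf (zpowers v ⊔ W) := mem_subgroupOf.mpr hw
        exact conj_mem_of_mem_stabilizer (zpowers v ⊔ W) (φ ω) _ (hle h1)
    · -- no fixed point
      apply transfer_eq_one_of_no_fixed (p := p)
      · exact IsPGroup.iff_orderOf.mp hU _
      · intro y hy
        apply hfix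
        refine ⟨(y : G) * φ ω, ?_, ?_⟩
        · have : ((((y : G) * φ ω : G) : G) : G ⧸ normalizer (W : Set G)) =
              y • ((φ ω : G) : G ⧸ normalizer (W : Set G)) := rfl
          rw [this]
          exact (orbitRel.Quotient.quotient_smul_eq).trans (hφ ω)
        · rw [mem_stabilizer_iff, subgroup_smul_coe, QuotientGroup.eq] at hy
          rw [QuotientGroup.eq]
          have h1 := (normalizer (W : Set G)).inv_mem hy
          have h2 : (v * ((y : G) * φ ω))⁻¹ * ((y : G) * φ ω) =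
              (φ ω)⁻¹ * (y : G)⁻¹ * v⁻¹ * (y : G) * φ ω := by group
          rw [h2]
          have h3 : ((((y⁻¹ * ⟨v, mem_sup_left (mem_zpowers v)⟩ * y : ↥(zpowers v ⊔ W)) : G) *
              φ ω)⁻¹ * φ ω)⁻¹ = ((φ ω)⁻¹ * (y : G)⁻¹ * v⁻¹ * (y : G) * φ ω)⁻¹ := by
            simp only [Subgroup.coe_mul, Subgroup.coe_inv]
            group
          rw [h3] at h1
          exact (normalizer (W : Set G)).inv_mem_iff.mp h1
      · intro n y hmem hn
        rw [stabHom_apply]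
        have h1 := lam_conj_pow_eq_one hW hA lam hv hmin n hn ((y : G) * φ ω) (by
          have := conj_mem_of_mem_stabilizer (zpowers v ⊔ W) (φ ω) _ hmem
          have h2 : ((y : G) * φ ω)⁻¹ * v ^ n * ((y : G) * φ ω) =
              (φ ω)⁻¹ * ((y⁻¹ * ⟨v, mem_sup_left (mem_zpowers v)⟩ ^ n * y :
                ↥(zpowers v ⊔ W)) : G) * φ ω := by
            simp only [Subgroup.coe_mul, Subgroup.coe_inv, Subgroup.coe_pow]
            group
          rw [h2]
          exact this)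
        rw [← h1]
        congr 1
        apply Subtype.ext
        simp only [Subgroup.coe_mul, Subgroup.coe_inv, Subgroup.coe_pow]
        group
  · intro h
    exact absurd (Finset.mem_univ _) h

theorem orderOf_pow_lt_of_dvd {u : G} {k : ℕ} (hu : orderOf u = p ^ k) {n : ℕ} (hn : p ∣ n)
    (h1 : u ^ n ≠ 1) : orderOf (u ^ n) < orderOf u := by
  have hp : p.Prime := Fact.out
  have hn0 : n ≠ 0 := by
    rintro rfl
    exact h1 (pow_zero u)
  have hk0 : k ≠ 0 := by
    rintro rfl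
    rw [pow_zero, orderOf_eq_one_iff] at hu
    exact h1 (by rw [hu, one_pow])
  rw [orderOf_pow' u hn0]
  apply Nat.div_lt_self (orderOf_pos u)
  have hpd : p ∣ Nat.gcd (orderOf u) n := Nat.dvd_gcd (by rw [hu]; exact dvd_pow_self p hk0) hn
  have hpos : 0 < Nat.gcd (orderOf u) n := Nat.gcd_pos_of_pos_left _ (orderOf_pos u)
  exact lt_of_lt_of_le hp.one_lt (Nat.le_of_dvd hpos hpd)

/-- **Hall–Wielandt, core**: if there is no bad configuration then every homomorphism from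
`N_G(W)` to an abelian group of exponent `p` is `G`-stable on `P`. -/
theorem hwStable_of_not_hwBad' (hW : Cfsg.IsWeaklyClosed W (P : Subgroup G))
    (hA : ∀ a : A, a ^ p = 1) (hnot : ¬ HWBad' p (P : Subgroup G) W)
    (lam : normalizer (W : Set G) →* A) (y : G) : HWStable P W lam y := by
  have key : ∀ m : ℕ, ∀ y : G, orderOf y = m → HWStable P W lam y := by
    intro m
    induction m using Nat.strong_induction_on with
    | _ m ih =>
      intro y hym g h1 h2 hyP hgP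
      have hmin : ∀ u : G, u ∈ (P : Subgroup G) → orderOf u = m →
          ∀ n, p ∣ n → HWStable P W lam (u ^ n) := by
        intro u huP hum n hn
        by_cases hun : u ^ n = 1
        · intro g' h1' h2' _ _
          congr 1
          apply Subtype.ext
          simp [hun]
        · obtain ⟨k, hk⟩ := IsPGroup.iff_orderOf.mp P.isPGroup' ⟨u, huP⟩
          rw [Subgroup.orderOf_mk] at hk
          have hlt := orderOf_pow_lt_of_dvd hk hn hun
          rw [hum] at hlt
          exact ih _ hlt _ rfl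
      have hord : orderOf (g⁻¹ * y * g) = m := by
        have := (MulAut.conj g⁻¹).orderOf_eq y
        rw [← hym, ← this]
        simp
      have e1 := transfer_eq_self_of_stable_pow hW hA hnot lam hyP (hmin y hyP hym)
      have e2 := transfer_eq_self_of_stable_pow hW hA hnot lam hgP (hmin _ hgP hord)
      have e3 : MonoidHom.transfer lam (g⁻¹ * y * g) = MonoidHom.transfer lam y := by
        rw [map_mul, map_mul, map_inv, mul_comm, mul_inv_cancel_left]
      rw [e1, e2] at e3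
      exact e3
  exact key _ y rfl

theorem hwStable_of_not_hwBad (hW : Cfsg.IsWeaklyClosed W (P : Subgroup G))
    (hA : ∀ a : A, a ^ p = 1) (hnot : ¬ HWBad p (P : Subgroup G) W)
    (lam : normalizer (W : Set G) →* A) (y : G) : HWStable P W lam y :=
  hwStable_of_not_hwBad' hW hA (fun h => hnot h.hwBad) lam y

end Core

end Cfsg.Agent.Lib.Helper14
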