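import Mathlib.GroupTheory.Sylow
import Mathlib.GroupTheory.Solvable
import Mathlib.GroupTheory.Nilpotent
import Mathlib.GroupTheory.Frattini

set_option autoImplicit false

namespace Cfsg.Agent.Lib.Helper14

open Subgroup

/-- If `M` contains the normalizer of a Sylow `p`-subgroup, then its index is `1` modulo `p`. -/
theorem index_modEq_one_of_normalizer_le {G : Type*} [Group G] [Finite G] {p : ℕ} [Fact p.Prime]
    (P : Sylow p G) (M : Subgroup G) (hM : normalizer ((P : Subgroup G) : Set G) ≤ M) :
    M.index ≡ 1 [MOD p] := by
  have hPM : (P : Subgroup G) ≤ M := le_normalizer.trans hM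
  have h1 : (normalizer ((P : Subgroup G) : Set G)).index ≡ 1 [MOD p] := by
    have h := P.card_eq_index_normalizer
    change _ = (normalizer ((P : Subgroup G) : Set G)).index at h
    rw [← h]
    exact card_sylow_modEq_one p G
  have h2 : (normalizer ((P : Subgroup G) : Set G)).relIndex M ≡ 1 [MOD p] := by
    have h := (P.subtype hPM).card_eq_index_normalizer
    change _ = (normalizer (((P.subtype hPM : Sylow p M) : Subgroup M) : Set M)).index at h
    rw [Sylow.coe_subtype, ← subgroupOf_normalizer_eq hPM] at h
    unfold Subgroup.relIndex
    rw [← h]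
    exact card_sylow_modEq_one p M
  have h3 := Subgroup.relIndex_mul_index hM
  have h4 : 1 * M.index ≡ 1 [MOD p] := by
    calc 1 * M.index ≡ (normalizer ((P : Subgroup G) : Set G)).relIndex M * M.index [MOD p] :=
          Nat.ModEq.mul_right _ h2.symm
      _ = (normalizer ((P : Subgroup G) : Set G)).index := h3
      _ ≡ 1 [MOD p] := h1
  simpa using h4

/-- If every maximal subgroup has prime index, then the Sylow subgroups for the largest prime
are normal. -/
theorem sylow_normal_of_coatoms_prime_index {G : Type*} [Group G] [Finite G]
    (h : ∀ M : Subgroup G, IsCoatom M → M.index.Prime) {p : ℕ} [Fact p.Prime]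
    (hp : ∀ q : ℕ, q.Prime → q ∣ Nat.card G → q ≤ p) (P : Sylow p G) :
    (P : Subgroup G).Normal := by
  rw [← normalizer_eq_top_iff]
  by_contra hne
  obtain ⟨M, hM, hle⟩ := (eq_top_or_exists_le_coatom (normalizer ((P : Subgroup G) : Set G))).resolve_left hne
  have hq := h M hM
  have hmod := index_modEq_one_of_normalizer_le P M hle
  have hqp : M.index ≤ p := hp _ hq (Subgroup.index_dvd_card M)
  have hp2 : 2 ≤ p := (Fact.out : p.Prime).two_le
  have hq2 : 2 ≤ M.index := hq.two_le
  rcases Nat.lt_or_ge M.index p with hlt | hge
  · have : M.index % p = 1 % p := hmod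
    rw [Nat.mod_eq_of_lt hlt, Nat.mod_eq_of_lt (by omega)] at this
    omega
  · have heq : M.index = p := le_antisymm hqp hge
    have : M.index % p = 1 % p := hmod
    rw [heq, Nat.mod_self, Nat.mod_eq_of_lt (by omega)] at this
    omega

/-- A finite group all of whose maximal subgroups have prime index is solvable. -/
theorem isSolvable_of_coatoms_prime_index_aux (n : ℕ) :
    ∀ (G : Type*) [Group G] [Finite G], Nat.card G = n →
      (∀ M : Subgroup G, IsCoatom M → M.index.Prime) → Group.IsSolvable G := by
  induction n using Nat.strong_induction_on with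
  | _ n ih =>
    intro G _ _ hn h
    rcases subsingleton_or_nontrivial G with hs | hnt
    · infer_instance
    · have hcard : 1 < Nat.card G := Finite.one_lt_card
      -- largest prime factor
      have hne : (Nat.card G).primeFactors.Nonempty := by
        rw [Nat.nonempty_primeFactors]; exact hcard
      set p := (Nat.card G).primeFactors.max' hne with hpdef
      have hpmem : p ∈ (Nat.card G).primeFactors := Finset.max'_mem _ _
      have hpprime : p.Prime := Nat.prime_of_mem_primeFactors hpmem
      have hpdvd : p ∣ Nat.card G := Nat.dvd_of_mem_primeFactors hpmem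
      have : Fact p.Prime := ⟨hpprime⟩
      have hmax : ∀ q : ℕ, q.Prime → q ∣ Nat.card G → q ≤ p := by
        intro q hq hqd
        apply Finset.le_max'
        rw [Nat.mem_primeFactors]
        exact ⟨hq, hqd, by omega⟩
      obtain ⟨P⟩ : Nonempty (Sylow p G) := inferInstance
      have hPn : (P : Subgroup G).Normal := sylow_normal_of_coatoms_prime_index h hmax P
      -- the quotient
      have hPcard : 1 < Nat.card (P : Subgroup G) := by
        have := P.card_eq_multiplicity
        rw [this]
        have hpos : 0 < (Nat.card G).factorization p :=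
          (Nat.Prime.factorization_pos_of_dvd hpprime (by omega) hpdvd)
        exact Nat.one_lt_pow hpos.ne' hpprime.one_lt
      have hquot : Nat.card (G ⧸ (P : Subgroup G)) < n := by
        have := Subgroup.card_eq_card_quotient_mul_card_subgroup (P : Subgroup G)
        rw [← hn, this]
        have hpos : 0 < Nat.card (G ⧸ (P : Subgroup G)) := Nat.card_pos
        nlinarith
      have : Group.IsSolvable (G ⧸ (P : Subgroup G)) := by
        refine ih _ hquot (G ⧸ (P : Subgroup G)) rfl ?_
        intro M hM
        have hco := isCoatom_comap_of_surjective (QuotientGroup.mk'_surjective (P : Subgroup G)) hM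
        have := h _ hco
        rwa [Subgroup.index_comap_of_surjective _ (QuotientGroup.mk'_surjective (P : Subgroup G))] at this
      have : Group.IsSolvable (P : Subgroup G) := by
        have := P.2.isNilpotent
        infer_instance
      exact (Group.isSolvable_iff_subgroup_quotient (P : Subgroup G)).mpr ⟨inferInstance, inferInstance⟩

theorem isSolvable_of_coatoms_prime_index {G : Type*} [Group G] [Finite G]
    (h : ∀ M : Subgroup G, IsCoatom M → M.index.Prime) : Group.IsSolvable G :=
  isSolvable_of_coatoms_prime_index_aux _ G rfl h

end Cfsg.Agent.Lib.Helper14
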