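import Mathlib
import Cfsg.Agent.Lib.Helper14.NilpHall
import Cfsg.Agent.Lib.Helper14.Eigen
import Cfsg.Agent.Lib.Helper14.MaxPrimeIndex
import Cfsg.Agent.Lib.Helper32.CoprimeDecomp
import Cfsg.Agent.S0050

set_option autoImplicit false

namespace Cfsg.Agent.Lib.Helper14

open scoped commutatorElement Pointwise

section PrimeNormal

variable {X : Type*} [Group X]

/-- Commutators and `(p-1)`-th powers centralize a normal subgroup of prime order `p`. -/
theorem centralize_prime_normal (Z : Subgroup X) [Z.Normal] {p : ℕ} [Fact p.Prime]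
    (hZ : Nat.card Z = p) :
    (∀ a b : X, ∀ z ∈ Z, ⁅a, b⁆ * z = z * ⁅a, b⁆) ∧
      (∀ a : X, ∀ z ∈ Z, a ^ (p - 1) * z = z * a ^ (p - 1)) ∧
      (∀ y ∈ Z, ∀ z ∈ Z, y * z = z * y) := by
  have hp : p.Prime := Fact.out
  have hcyc : IsCyclic Z := isCyclic_of_prime_card hZ
  have hfin : Finite Z := Nat.finite_of_card_ne_zero (by rw [hZ]; exact hp.ne_zero)
  have hcomm : ∀ u v : MulAut Z, u * v = v * u := by
    intro u v
    apply (IsCyclic.mulAutMulEquiv Z).injective
    rw [map_mul, map_mul, mul_comm]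
  have hpow : ∀ u : MulAut Z, u ^ (p - 1) = 1 := by
    intro u
    have : Nat.card (MulAut Z) = p - 1 := by
      rw [IsCyclic.card_mulAut, hZ, Nat.totient_prime hp]
    rw [← this]
    exact pow_card_eq_one'
  have key : ∀ y : X, (MulAut.conjNormal y : MulAut Z) = 1 → ∀ z ∈ Z, y * z = z * y := by
    intro y hy z hz
    have := congrArg (fun f : MulAut Z => ((f ⟨z, hz⟩ : Z) : X)) hy
    simp only [MulAut.conjNormal_apply, MulAut.one_apply] at this
    calc y * z = (y * z * y⁻¹) * y := by group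
      _ = z * y := by rw [this]
  refine ⟨fun a b z hz => key _ ?_ z hz, fun a z hz => key _ ?_ z hz, ?_⟩
  · rw [map_commutatorElement, commutatorElement_eq_one_iff_mul_comm]
    exact hcomm _ _
  · rw [map_pow]
    exact hpow _
  · intro y hy z hz
    obtain ⟨g, hg⟩ := hcyc.exists_generator
    obtain ⟨i, hi⟩ := Subgroup.mem_zpowers_iff.mp (hg ⟨y, hy⟩)
    obtain ⟨j, hj⟩ := Subgroup.mem_zpowers_iff.mp (hg ⟨z, hz⟩)
    have hi' : y = (g : X) ^ i := by rw [← Subgroup.coe_zpow, hi]
    have hj' : z = (g : X) ^ j := by rw [← Subgroup.coe_zpow, hj]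
    rw [hi', hj', ← zpow_add, ← zpow_add, add_comm]

end PrimeNormal

section Coatom

variable {G : Type*} [Group G] [Finite G]

/-- If `P` is a normal `p`-subgroup not contained in the maximal subgroup `M` of prime index,
then `P ⊓ M` is normal of index `p` in `P`, and commutators, `(p-1)`-th powers and elements of
`P` act trivially on `P / (P ⊓ M)`. -/
theorem comm_mem_coatom {p : ℕ} [Fact p.Prime] {P M : Subgroup G} [hPn : P.Normal]
    (hPp : IsPGroup p P) (hM : IsCoatom M) (hMi : M.index.Prime) (hPM : ¬ P ≤ M) :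
    (∀ a b : G, ∀ x ∈ P, ⁅⁅a, b⁆, x⁆ ∈ M) ∧ (∀ a : G, ∀ x ∈ P, ⁅a ^ (p - 1), x⁆ ∈ M) ∧
      (∀ y ∈ P, ∀ x ∈ P, ⁅y, x⁆ ∈ M) := by
  have hp : p.Prime := Fact.out
  have hsup : M ⊔ P = ⊤ := by
    apply hM.2
    refine lt_of_le_of_ne le_sup_left ?_
    intro h
    apply hPM
    rw [h]
    exact le_sup_right
  -- index computation
  have hidx : M.relIndex P = M.index := by
    have e1 : P.relIndex M = P.index := by
      have := Subgroup.relIndex_sup_right (H := M) (K := P)
      rw [hsup, Subgroup.relIndex_top_right] at this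
      exact this.symm
    have e2 : Nat.card (P ⊓ M : Subgroup G) * P.relIndex M = Nat.card M := by
      have := card_mul_relIndex_of_le (inf_le_right : P ⊓ M ≤ M)
      rwa [Subgroup.inf_relIndex_right] at this
    have e3 : Nat.card (P ⊓ M : Subgroup G) * M.relIndex P = Nat.card P := by
      have := card_mul_relIndex_of_le (inf_le_left : P ⊓ M ≤ P)
      rwa [Subgroup.inf_relIndex_left] at this
    have e4 : Nat.card P * P.index = Nat.card G := Subgroup.card_mul_index P
    have e5 : Nat.card M * M.index = Nat.card G := Subgroup.card_mul_index M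
    have hpos : 0 < Nat.card (P ⊓ M : Subgroup G) * P.relIndex M := by
      rw [e2]; exact Nat.card_pos
    have : (Nat.card (P ⊓ M : Subgroup G) * P.relIndex M) * M.relIndex P =
        (Nat.card (P ⊓ M : Subgroup G) * P.relIndex M) * M.index := by
      calc (Nat.card (P ⊓ M : Subgroup G) * P.relIndex M) * M.relIndex P
          = (Nat.card (P ⊓ M : Subgroup G) * M.relIndex P) * P.relIndex M := by ring
        _ = Nat.card P * P.index := by rw [e3, e1]
        _ = Nat.card M * M.index := by rw [e4, e5]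
        _ = (Nat.card (P ⊓ M : Subgroup G) * P.relIndex M) * M.index := by rw [e2]
    exact Nat.eq_of_mul_eq_mul_left hpos this
  obtain ⟨a, ha⟩ := IsPGroup.iff_card.mp hPp
  have hMp : M.index = p := by
    have h1 : M.index ∣ p ^ a := by
      rw [← hidx, ← ha]; exact Subgroup.relIndex_dvd_card M P
    exact (Nat.prime_dvd_prime_iff_eq hMi hp).mp (hMi.dvd_of_dvd_pow h1)
  have ha0 : a ≠ 0 := by
    rintro rfl
    rw [pow_zero] at ha
    apply hPM
    rw [Subgroup.card_eq_one.mp ha]
    exact bot_le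
  set P₁ : Subgroup G := P ⊓ M with hP₁
  -- P₁ is normal in G
  have hP₁n : P₁.Normal := by
    have h1 : (P₁.subgroupOf P).Normal := by
      apply Subgroup.normal_of_index_eq_minFac_card
      rw [ha, Nat.Prime.pow_minFac hp ha0]
      have : (P₁.subgroupOf P).index = P₁.relIndex P := rfl
      rw [this, hP₁, Subgroup.inf_relIndex_left, hidx, hMp]
    have h2 : P ≤ Subgroup.normalizer (P₁ : Set G) :=
      (Subgroup.normal_subgroupOf_iff_le_normalizer inf_le_left).mp h1
    have h3 : M ≤ Subgroup.normalizer (P₁ : Set G) := by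
      apply le_normalizer_of_forall_conj_mem
      intro m hm x hx
      exact ⟨hPn.conj_mem x hx.1 m, M.mul_mem (M.mul_mem hm hx.2) (M.inv_mem hm)⟩
    have h4 : Subgroup.normalizer (P₁ : Set G) = ⊤ := by
      rw [eq_top_iff, ← hsup]
      exact sup_le h3 h2
    exact Subgroup.normalizer_eq_top_iff.mp h4
  -- the quotient
  set Z : Subgroup (G ⧸ P₁) := P.map (QuotientGroup.mk' P₁) with hZdef
  have hZn : Z.Normal := hPn.map _ (QuotientGroup.mk'_surjective P₁)
  have hZcard : Nat.card Z = p := by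
    have := Subgroup.relIndex_ker P (QuotientGroup.mk' P₁)
    rw [QuotientGroup.ker_mk'] at this
    rw [hZdef, ← this, hP₁, Subgroup.inf_relIndex_left, hidx, hMp]
  obtain ⟨hc1, hc2, hc3⟩ := centralize_prime_normal Z hZcard
  have key : ∀ y : G, (∀ z ∈ Z, (QuotientGroup.mk' P₁ y) * z = z * (QuotientGroup.mk' P₁ y)) →
      ∀ x ∈ P, ⁅y, x⁆ ∈ M := by
    intro y hy x hx
    have h1 : (QuotientGroup.mk' P₁) ⁅y, x⁆ = 1 := by
      rw [map_commutatorElement, commutatorElement_eq_one_iff_mul_comm]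
      exact hy _ ⟨x, hx, rfl⟩
    have h2 : ⁅y, x⁆ ∈ P₁ := by
      rw [← QuotientGroup.ker_mk' P₁, MonoidHom.mem_ker]
      exact h1
    exact h2.2
  refine ⟨fun a b x hx => key _ ?_ x hx, fun a x hx => key _ ?_ x hx, fun y hy x hx => key _ ?_ x hx⟩
  · intro z hz
    rw [map_commutatorElement]
    exact hc1 _ _ z hz
  · intro z hz
    rw [map_pow]
    exact hc2 _ z hz
  · intro z hz
    exact hc3 _ ⟨y, hy, rfl⟩ z hz

/-- The elements acting trivially on `P / D`, for normal subgroups `D`, `P`. -/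
def centMod (P D : Subgroup G) [hD : D.Normal] : Subgroup G where
  carrier := {g | ∀ x ∈ P, ⁅g, x⁆ ∈ D}
  one_mem' := fun x _ => by rw [commutatorElement_one_left]; exact one_mem _
  mul_mem' := by
    intro g h hg hh x hx
    have : ⁅g * h, x⁆ = g * ⁅h, x⁆ * g⁻¹ * ⁅g, x⁆ := by
      simp only [commutatorElement_def]; group
    rw [this]
    exact mul_mem (hD.conj_mem _ (hh x hx) g) (hg x hx)
  inv_mem' := by
    intro g hg x hx
    have : ⁅g⁻¹, x⁆ = g⁻¹ * ⁅g, x⁆⁻¹ * g⁻¹⁻¹ := by
      simp only [commutatorElement_def]; group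
    rw [this]
    exact hD.conj_mem _ (inv_mem (hg x hx)) g⁻¹

omit [Finite G] in
theorem mem_centMod {P D : Subgroup G} [D.Normal] {g : G} :
    g ∈ centMod P D ↔ ∀ x ∈ P, ⁅g, x⁆ ∈ D := Iff.rfl

instance centMod_normal (P D : Subgroup G) [hP : P.Normal] [hD : D.Normal] :
    (centMod P D).Normal := by
  constructor
  intro g hg n x hx
  have hx' : n⁻¹ * x * n⁻¹⁻¹ ∈ P := hP.conj_mem x hx n⁻¹
  have : ⁅n * g * n⁻¹, x⁆ = n * ⁅g, n⁻¹ * x * n⁻¹⁻¹⁆ * n⁻¹ := by
    simp only [commutatorElement_def]; group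
  rw [this]
  exact hD.conj_mem _ (hg _ hx') n

/-- In a group all of whose maximal subgroups have prime index, commutators, `(p-1)`-th powers
and elements of the normal `p`-subgroup `P` act trivially on `P / (P ⊓ Φ(G))`. -/
theorem mem_centMod_frattini {p : ℕ} [Fact p.Prime] {P : Subgroup G} [hPn : P.Normal]
    (hPp : IsPGroup p P) (h : ∀ M : Subgroup G, IsCoatom M → M.index.Prime) :
    (∀ a b : G, ⁅a, b⁆ ∈ centMod P (P ⊓ frattini G)) ∧
      (∀ a : G, a ^ (p - 1) ∈ centMod P (P ⊓ frattini G)) ∧ P ≤ centMod P (P ⊓ frattini G) := by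
  have key : ∀ y : G, (∀ M : Subgroup G, IsCoatom M → ¬ P ≤ M → ∀ x ∈ P, ⁅y, x⁆ ∈ M) →
      y ∈ centMod P (P ⊓ frattini G) := by
    intro y hy x hx
    have hxP : ⁅y, x⁆ ∈ P := by
      rw [commutatorElement_def]
      exact P.mul_mem (hPn.conj_mem x hx y) (P.inv_mem hx)
    refine ⟨hxP, ?_⟩
    have hmem : ⁅y, x⁆ ∈ frattini G := by
      unfold frattini Order.radical
      rw [Subgroup.mem_iInf]
      intro M
      rw [Subgroup.mem_iInf]
      intro hM
      by_cases hPM : P ≤ M
      · exact hPM hxP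
      · exact hy M hM hPM x hx
    exact hmem
  refine ⟨fun a b => key _ fun M hM hPM => (comm_mem_coatom hPp hM (h M hM) hPM).1 a b,
    fun a => key _ fun M hM hPM => (comm_mem_coatom hPp hM (h M hM) hPM).2.1 a,
    fun y hy => key _ fun M hM hPM => (comm_mem_coatom hPp hM (h M hM) hPM).2.2 y hy⟩

/-- Let `P` be a normal Sylow `p`-subgroup of the solvable group `G` and `D ≤ Φ(G)` a normal
subgroup. Then the elements acting trivially on `P / D` lie in `P ⊔ Y` for a normal
subgroup `Y` of order prime to `p`. -/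
theorem centMod_le_sup_normal {p : ℕ} [Fact p.Prime] (P : Sylow p G)
    [hPn : (P : Subgroup G).Normal] (hsolv : Group.IsSolvable G) (D : Subgroup G) [hDn : D.Normal]
    (hDΦ : D ≤ frattini G) (hPC : (P : Subgroup G) ≤ centMod (P : Subgroup G) D) :
    ∃ Y : Subgroup G, Y.Normal ∧ (Nat.card Y).Coprime p ∧
      centMod (P : Subgroup G) D ≤ (P : Subgroup G) ⊔ Y := by
  have hp : p.Prime := Fact.out
  set C := centMod (P : Subgroup G) D with hC
  obtain ⟨a, ha⟩ := IsPGroup.iff_card.mp P.2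
  have hcop : (Nat.card (P : Subgroup G)).Coprime (P : Subgroup G).index := by
    rw [ha]
    exact Nat.Coprime.pow_left _ ((Nat.Prime.coprime_iff_not_dvd hp).mpr P.not_dvd_index)
  obtain ⟨K, hK⟩ := Subgroup.exists_right_complement'_of_coprime hcop
  set Y : Subgroup G := C ⊓ K with hY
  have hKcop : (Nat.card K).Coprime p := by
    rw [← hK.symm.index_eq_card]
    exact ((Nat.Prime.coprime_iff_not_dvd hp).mpr P.not_dvd_index).symm
  have hYcop : (Nat.card Y).Coprime p :=
    Nat.Coprime.coprime_dvd_left (Subgroup.card_dvd_of_le inf_le_right) hKcop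
  -- Dedekind
  have hCPY : C ≤ (P : Subgroup G) ⊔ Y := by
    intro c hc
    have hcm : c ∈ (P : Subgroup G) ⊔ K := by rw [hK.sup_eq_top]; trivial
    rw [← SetLike.mem_coe, Subgroup.normal_mul] at hcm
    obtain ⟨x, hx, k, hk, rfl⟩ := hcm
    have hkC : k ∈ C := by
      have : k = x⁻¹ * (x * k) := by group
      rw [this]
      exact C.mul_mem (C.inv_mem (hPC hx)) hc
    exact Subgroup.mul_mem_sup hx ⟨hkC, hk⟩
  -- Hall condition
  have hrel : Y.relIndex C = Nat.card (P : Subgroup G) := by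
    rw [hY, Subgroup.inf_relIndex_left]
    apply le_antisymm
    · have h1 : K.relIndex C ≤ K.relIndex ⊤ :=
        Subgroup.relIndex_le_of_le_right le_top (by
          rw [Subgroup.relIndex_top_right]; exact Subgroup.index_ne_zero_of_finite)
      rw [Subgroup.relIndex_top_right, hK.index_eq_card] at h1
      exact h1
    · have h1 : K.relIndex (P : Subgroup G) ≤ K.relIndex C :=
        Subgroup.relIndex_le_of_le_right hPC (by
          intro h0
          have := Subgroup.relIndex_dvd_card K C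
          rw [h0, zero_dvd_iff] at this
          exact Nat.card_pos.ne' this)
      have h2 : K.relIndex (P : Subgroup G) = Nat.card (P : Subgroup G) := by
        rw [← Subgroup.inf_relIndex_left, hK.isCompl.inf_eq_bot, Subgroup.relIndex_bot_left]
      rwa [h2] at h1
  have hHall : (Nat.card Y).Coprime (Y.relIndex C) := by
    rw [hrel, ha]
    exact Nat.Coprime.pow_right _ hYcop
  have hCsolv : Group.IsSolvable C := inferInstance
  have hfrat := Cfsg.Agent.S0050.result C hCsolv Y inf_le_left hHall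
  -- coprime action
  have hdecomp := Cfsg.Agent.Lib.Helper32.le_centralizer_sup_commutator (R := (P : Subgroup G))
    (B := Y) (Subgroup.le_normalizer_of_normal) (by rw [ha]; exact (Nat.Coprime.pow_right _ hYcop).symm)
    (Or.inl (by
      have := P.2.isNilpotent
      infer_instance))
  have hcommD : ⁅(P : Subgroup G), Y⁆ ≤ D := by
    rw [Subgroup.commutator_le]
    intro x hx y hy
    have := hy.1 x hx
    rw [← commutatorElement_inv]
    exact D.inv_mem this
  have hPN : (P : Subgroup G) ≤ Subgroup.normalizer (Y : Set G) ⊔ frattini G := by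
    refine hdecomp.trans (sup_le ?_ ?_)
    · exact (inf_le_right.trans (Subgroup.centralizer_le_normalizer _)).trans le_sup_left
    · exact (hcommD.trans hDΦ).trans le_sup_right
  have htop : Subgroup.normalizer (Y : Set G) ⊔ frattini G = ⊤ := by
    rw [eq_top_iff, ← hfrat]
    apply sup_le
    · refine hCPY.trans (sup_le hPN ?_)
      exact Subgroup.le_normalizer.trans le_sup_left
    · exact le_sup_left
  have hYn : Y.Normal := Subgroup.normalizer_eq_top_iff.mp (frattini_nongenerating htop)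
  exact ⟨Y, hYn, hYcop, hCPY⟩

/-- `Ω₁(Z(P))`: the elements of order dividing `p` in the centre of `P`. -/
def omegaCenter (p : ℕ) (P : Subgroup G) : Subgroup G where
  carrier := {x | x ∈ P ∧ x ∈ Subgroup.centralizer (P : Set G) ∧ x ^ p = 1}
  one_mem' := ⟨one_mem _, one_mem _, one_pow _⟩
  mul_mem' := by
    rintro x y ⟨hx1, hx2, hx3⟩ ⟨hy1, hy2, hy3⟩
    refine ⟨mul_mem hx1 hy1, mul_mem hx2 hy2, ?_⟩
    have hc : Commute x y := (Subgroup.mem_centralizer_iff.mp hx2 y hy1).symm
    rw [hc.mul_pow, hx3, hy3, one_mul]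
  inv_mem' := by
    rintro x ⟨hx1, hx2, hx3⟩
    exact ⟨inv_mem hx1, inv_mem hx2, by rw [inv_pow, hx3, inv_one]⟩

instance omegaCenter_normal (p : ℕ) (P : Subgroup G) [hP : P.Normal] :
    (omegaCenter p P).Normal := by
  constructor
  rintro x ⟨hx1, hx2, hx3⟩ g
  refine ⟨hP.conj_mem x hx1 g, ?_, ?_⟩
  · have : (Subgroup.centralizer (P : Set G)).Normal := Subgroup.normal_centralizer
    exact this.conj_mem x hx2 g
  · rw [conj_pow, hx3]; group

omit [Finite G] in
theorem omegaCenter_ne_bot {p : ℕ} [Fact p.Prime] {P : Subgroup G} [Finite P]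
    (hPp : IsPGroup p P) (hP : P ≠ ⊥) : omegaCenter p P ≠ ⊥ := by
  have hnt : Nontrivial P := (Subgroup.nontrivial_iff_ne_bot P).mpr hP
  have hcn : Nontrivial (Subgroup.center P) := hPp.center_nontrivial
  have hcard : p ∣ Nat.card (Subgroup.center P) := by
    obtain ⟨k, hk⟩ := IsPGroup.iff_card.mp (hPp.to_subgroup (Subgroup.center P))
    rw [hk]
    apply dvd_pow_self
    rintro rfl
    rw [pow_zero] at hk
    have := Finite.one_lt_card_iff_nontrivial.mpr hcn
    omega
  obtain ⟨z, hz⟩ := exists_prime_orderOf_dvd_card' p hcard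
  intro hbot
  have hzmem : ((z : P) : G) ∈ omegaCenter p P := by
    refine ⟨(z : P).2, ?_, ?_⟩
    · rw [Subgroup.mem_centralizer_iff]
      intro y hy
      have := Subgroup.mem_center_iff.mp z.2 ⟨y, hy⟩
      exact congrArg Subtype.val this
    · have h1 : z ^ p = 1 := by rw [← hz]; exact pow_orderOf_eq_one z
      have h2 := congrArg (fun w : Subgroup.center P => ((w : P) : G)) h1
      simpa using h2
  rw [hbot, Subgroup.mem_bot] at hzmem
  have hz1 : z = 1 := by
    apply Subtype.ext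
    apply Subtype.ext
    exact hzmem
  rw [hz1, orderOf_one] at hz
  exact (Fact.out : p.Prime).one_lt.ne hz

/-- If `G` acts on a nontrivial normal elementary abelian `p`-subgroup `N` through an abelian
group of exponent dividing `p - 1`, then `G` has a normal subgroup of order `p`. -/
theorem exists_normal_prime_of_abelian_action {p : ℕ} [Fact p.Prime] (N : Subgroup G)
    [hNn : N.Normal] (hN : N ≠ ⊥) (hcomm : ∀ a ∈ N, ∀ b ∈ N, a * b = b * a)
    (hexp : ∀ a ∈ N, a ^ p = 1)
    (hc : ∀ g h : G, ⁅g, h⁆ ∈ Subgroup.centralizer (N : Set G))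
    (hpow : ∀ g : G, g ^ (p - 1) ∈ Subgroup.centralizer (N : Set G)) :
    ∃ Z : Subgroup G, Z.Normal ∧ Nat.card Z = p := by
  classical
  obtain ⟨N₀, hN₀⟩ := Set.Finite.exists_minimal
    (s := {S : Subgroup G | S.Normal ∧ S ≠ ⊥ ∧ S ≤ N}) (Set.toFinite _) ⟨N, hNn, hN, le_refl _⟩
  obtain ⟨hN₀n, hN₀ne, hN₀N⟩ := hN₀.1
  have hmin : ∀ S : Subgroup G, S.Normal → S ≠ ⊥ → S ≤ N₀ → N₀ ≤ S :=
    fun S h1 h2 h3 => hN₀.2 ⟨h1, h2, h3.trans hN₀N⟩ h3
  have hcent : ∀ c ∈ Subgroup.centralizer (N : Set G), ∀ n ∈ N₀, c * n * c⁻¹ = n := by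
    intro c hc' n hn
    have := Subgroup.mem_centralizer_iff.mp hc' n (hN₀N hn)
    rw [← this]; group
  have hstep : ∀ g : G, ∃ k : ℕ, ∀ n ∈ N₀, g * n * g⁻¹ = n ^ k := by
    intro g
    let _ : CommGroup ↥N₀ :=
      { (inferInstance : Group ↥N₀) with
        mul_comm := fun a b => Subtype.ext (hcomm a (hN₀N a.2) b (hN₀N b.2)) }
    have hnt : Nontrivial ↥N₀ := (Subgroup.nontrivial_iff_ne_bot N₀).mpr hN₀ne
    let T : ↥N₀ →* ↥N₀ := (MulAut.conjNormal g : MulAut N₀).toMonoidHom
    have hTcoe : ∀ n : ↥N₀, ((T n : ↥N₀) : G) = g * n * g⁻¹ := fun n => rfl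
    have hexp' : ∀ n : ↥N₀, n ^ p = 1 := fun n => Subtype.ext (hexp n (hN₀N n.2))
    have hiter : ∀ (j : ℕ) (n : ↥N₀), ((T^[j] n : ↥N₀) : G) = g ^ j * n * (g ^ j)⁻¹ := by
      intro j
      induction j with
      | zero => intro n; simp
      | succ j ih =>
        intro n
        rw [Function.iterate_succ_apply', hTcoe, ih, pow_succ']; group
    have hT : ∀ n : ↥N₀, T^[p - 1] n = n := by
      intro n
      apply Subtype.ext
      rw [hiter]
      exact hcent _ (hpow g) n n.2
    obtain ⟨k, n₁, hn₁, hTn₁⟩ := exists_pow_eigen hexp' T hT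
    refine ⟨k, ?_⟩
    let E : Subgroup G :=
      { carrier := {n | n ∈ N₀ ∧ g * n * g⁻¹ = n ^ k}
        one_mem' := ⟨one_mem _, by simp⟩
        mul_mem' := by
          rintro a b ⟨ha, ha'⟩ ⟨hb, hb'⟩
          refine ⟨mul_mem ha hb, ?_⟩
          have hcab : Commute a b := hcomm a (hN₀N ha) b (hN₀N hb)
          rw [hcab.mul_pow, ← ha', ← hb']; group
        inv_mem' := by
          rintro a ⟨ha, ha'⟩
          refine ⟨inv_mem ha, ?_⟩
          rw [inv_pow, ← ha']; group }
    have hEn : E.Normal := by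
      constructor
      rintro n ⟨hn, hn'⟩ h
      refine ⟨hN₀n.conj_mem n hn h, ?_⟩
      have hcc := hcent _ (hc g⁻¹ h⁻¹) n hn
      rw [commutatorElement_def] at hcc
      have e1 : g * (h * n * h⁻¹) * g⁻¹ =
          h * (g * ((g⁻¹ * h⁻¹ * g⁻¹⁻¹ * h⁻¹⁻¹) * n * (g⁻¹ * h⁻¹ * g⁻¹⁻¹ * h⁻¹⁻¹)⁻¹) * g⁻¹) * h⁻¹ := by
        group
      rw [e1, hcc, hn', conj_pow]
    have hEne : E ≠ ⊥ := by
      intro hbot
      have hmem : (n₁ : G) ∈ E := by
        refine ⟨n₁.2, ?_⟩
        have := congrArg (Subtype.val) hTn₁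
        rw [hTcoe] at this
        rw [this]; rfl
      rw [hbot, Subgroup.mem_bot] at hmem
      exact hn₁ (Subtype.ext hmem)
    have hEle : E ≤ N₀ := fun n hn => hn.1
    intro n hn
    exact (hmin E hEn hEne hEle hn).2
  obtain ⟨n₀, hn₀1⟩ := (Subgroup.ne_bot_iff_exists_ne_one).mp hN₀ne
  refine ⟨Subgroup.zpowers (n₀ : G), ?_, ?_⟩
  · constructor
    intro z hz g
    obtain ⟨i, rfl⟩ := Subgroup.mem_zpowers_iff.mp hz
    obtain ⟨k, hk⟩ := hstep g
    rw [← conj_zpow, hk _ n₀.2, ← zpow_natCast, ← zpow_mul]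
    exact Subgroup.zpow_mem_zpowers _ _
  · rw [Nat.card_zpowers]
    apply orderOf_eq_prime (hexp _ (hN₀N n₀.2))
    intro h
    exact hn₀1 (Subtype.ext h)

/-- A nontrivial finite group all of whose maximal subgroups have prime index has a normal
subgroup of prime order. -/
theorem exists_normal_prime_card_of_coatoms_prime_index [Nontrivial G]
    (h : ∀ M : Subgroup G, IsCoatom M → M.index.Prime) :
    ∃ Z : Subgroup G, Z.Normal ∧ (Nat.card Z).Prime := by
  have hcard : 1 < Nat.card G := Finite.one_lt_card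
  have hne : (Nat.card G).primeFactors.Nonempty := by
    rw [Nat.nonempty_primeFactors]; exact hcard
  set p := (Nat.card G).primeFactors.max' hne with hpdef
  have hpmem : p ∈ (Nat.card G).primeFactors := Finset.max'_mem _ _
  have hpprime : p.Prime := Nat.prime_of_mem_primeFactors hpmem
  have hpdvd : p ∣ Nat.card G := Nat.dvd_of_mem_primeFactors hpmem
  have : Fact p.Prime := ⟨hpprime⟩
  have hmax : ∀ q : ℕ, q.Prime → q ∣ Nat.card G → q ≤ p := by
    intro q hq hqd
    apply Finset.le_max'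
    rw [Nat.mem_primeFactors]
    exact ⟨hq, hqd, by omega⟩
  obtain ⟨P⟩ : Nonempty (Sylow p G) := inferInstance
  have hPn : (P : Subgroup G).Normal := sylow_normal_of_coatoms_prime_index h hmax P
  have hsolv : Group.IsSolvable G := isSolvable_of_coatoms_prime_index h
  have hPne : (P : Subgroup G) ≠ ⊥ := P.ne_bot_of_dvd_card hpdvd
  have hΦn : (frattini G).Normal := inferInstance
  have hDn : ((P : Subgroup G) ⊓ frattini G).Normal := inferInstance
  obtain ⟨h1, h2, h3⟩ := mem_centMod_frattini (P := (P : Subgroup G)) P.2 h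
  obtain ⟨Y, hYn, hYcop, hCle⟩ :=
    centMod_le_sup_normal P hsolv ((P : Subgroup G) ⊓ frattini G) inf_le_right h3
  -- Y centralizes P
  have hdisj : Disjoint (P : Subgroup G) Y := by
    rw [disjoint_iff, ← Subgroup.card_eq_one]
    obtain ⟨a, ha⟩ := IsPGroup.iff_card.mp P.2
    have d1 : Nat.card ((P : Subgroup G) ⊓ Y : Subgroup G) ∣ p ^ a := by
      rw [← ha]; exact Subgroup.card_dvd_of_le inf_le_left
    have d2 : Nat.card ((P : Subgroup G) ⊓ Y : Subgroup G) ∣ Nat.card Y :=
      Subgroup.card_dvd_of_le inf_le_right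
    exact Nat.Coprime.eq_one_of_dvd
      (Nat.Coprime.coprime_dvd_left d2 (Nat.Coprime.pow_right a hYcop)) d1
  have hYP : ∀ x ∈ (P : Subgroup G), ∀ y ∈ Y, x * y = y * x := fun x hx y hy =>
    (Subgroup.commute_of_normal_of_disjoint _ _ hPn hYn hdisj x y hx hy).eq
  -- the subgroup N
  set N := omegaCenter p (P : Subgroup G) with hNdef
  have hNne : N ≠ ⊥ := omegaCenter_ne_bot P.2 hPne
  have hNP : N ≤ (P : Subgroup G) := fun x hx => hx.1
  have hCN : centMod (P : Subgroup G) ((P : Subgroup G) ⊓ frattini G) ≤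
      Subgroup.centralizer (N : Set G) := by
    refine hCle.trans (sup_le ?_ ?_)
    · intro x hx
      rw [Subgroup.mem_centralizer_iff]
      intro n hn
      exact (Subgroup.mem_centralizer_iff.mp hn.2.1 x hx).symm
    · intro y hy
      rw [Subgroup.mem_centralizer_iff]
      intro n hn
      exact hYP n (hNP hn) y hy
  obtain ⟨Z, hZn, hZ⟩ := exists_normal_prime_of_abelian_action (p := p) N hNne
    (fun a ha b hb => (Subgroup.mem_centralizer_iff.mp ha.2.1 b (hNP hb)).symm)
    (fun a ha => ha.2.2) (fun g k => hCN (h1 g k)) (fun g => hCN (h2 g))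
  exact ⟨Z, hZn, by rw [hZ]; exact hpprime⟩

end Coatom

end Cfsg.Agent.Lib.Helper14
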