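import Cfsg.Agent.Lib.Helper14.QuadCoreMul
import Cfsg.Agent.Lib.Lead.ChiefEngel

/-!
Bridge from the abstract core lemma to a chief factor `X / Y` of a finite group.
-/

set_option autoImplicit false
set_option linter.unusedSectionVars false
set_option linter.style.haveILetI false

namespace Cfsg.Agent.Lib.Helper14.KInfBridge

open Cfsg Cfsg.Agent.Lib.Lead
open scoped commutatorElement

variable {H : Type*} [Group H]

theorem comm_mul_left (x y b : H) (h : y * b = b * y) : ⁅x * y, b⁆ = ⁅x, b⁆ := by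
  rw [commutatorElement_def, commutatorElement_def]
  have : x * y * b * (x * y)⁻¹ = x * (y * b * y⁻¹) * x⁻¹ := by group
  rw [this, h]
  group

theorem comm_mul_right (a x y : H) (h : y * a = a * y) : ⁅a, x * y⁆ = ⁅a, x⁆ := by
  rw [commutatorElement_def, commutatorElement_def]
  have h' : y * a⁻¹ * y⁻¹ = a⁻¹ := by
    have : y * a⁻¹ = a⁻¹ * y := by
      calc y * a⁻¹ = a⁻¹ * (a * y) * a⁻¹ := by group
        _ = a⁻¹ * (y * a) * a⁻¹ := by rw [h]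
        _ = a⁻¹ * y := by group
    rw [this]; group
  have : a * (x * y) * a⁻¹ * (x * y)⁻¹ = a * x * (y * a⁻¹ * y⁻¹) * x⁻¹ := by group
  rw [this, h']

section lifts

variable (X Y : Subgroup H) [hXn : X.Normal] [hYn : Y.Normal]

/-- the quotient map `X → XY/Y` -/
noncomputable def mkW : ↥X →* ↥(cfBar X Y) := (QuotientGroup.mk' Y).subgroupMap X

theorem mkW_surjective : Function.Surjective (mkW X Y) :=
  MonoidHom.subgroupMap_surjective _ _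

theorem mkW_coe (x : X) : ((mkW X Y x : cfBar X Y) : H ⧸ Y) = QuotientGroup.mk' Y (x : H) := rfl

theorem mkW_eq_iff (x x' : X) : mkW X Y x = mkW X Y x' ↔ (x : H)⁻¹ * x' ∈ Y := by
  rw [Subtype.ext_iff, mkW_coe, mkW_coe]
  exact QuotientGroup.eq

theorem mkW_eq_one_iff (x : X) : mkW X Y x = 1 ↔ (x : H) ∈ Y := by
  rw [Subtype.ext_iff, mkW_coe]
  exact QuotientGroup.eq_one_iff _

theorem cfAct_mkW (g : H) (x : X) :
    cfAct X Y g (mkW X Y x) = mkW X Y ⟨g * x * g⁻¹, hXn.conj_mem x x.2 g⟩ := by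
  apply Subtype.ext
  rw [cfAct_coe, mkW_coe, mkW_coe]
  simp only [map_mul, map_inv]

/-- a chosen lift -/
noncomputable def lf (w : cfBar X Y) : ↥X := Classical.choose (mkW_surjective X Y w)

theorem mkW_lf (w : cfBar X Y) : mkW X Y (lf X Y w) = w :=
  Classical.choose_spec (mkW_surjective X Y w)

variable {X Y}

/-- the commutator pairing on `X / Y` with values in `Y` -/
noncomputable def cW (hXXY : ∀ x ∈ X, ∀ y ∈ X, ⁅x, y⁆ ∈ Y) (w z : cfBar X Y) : ↥Y :=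
  ⟨⁅(lf X Y w : H), (lf X Y z : H)⁆, hXXY _ (lf X Y w).2 _ (lf X Y z).2⟩

theorem cW_mkW (hXXY : ∀ x ∈ X, ∀ y ∈ X, ⁅x, y⁆ ∈ Y)
    (hYc : Y ≤ Subgroup.centralizer (X : Set H)) (x x' : X) :
    ((cW hXXY (mkW X Y x) (mkW X Y x') : Y) : H) = ⁅(x : H), (x' : H)⁆ := by
  show ⁅(lf X Y (mkW X Y x) : H), (lf X Y (mkW X Y x') : H)⁆ = _
  set l := lf X Y (mkW X Y x) with hl
  set l' := lf X Y (mkW X Y x') with hl'
  have h1 : (x : H)⁻¹ * l ∈ Y := (mkW_eq_iff X Y x l).mp (mkW_lf X Y _).symm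
  have h2 : (x' : H)⁻¹ * l' ∈ Y := (mkW_eq_iff X Y x' l').mp (mkW_lf X Y _).symm
  have e1 : (l : H) = x * ((x : H)⁻¹ * l) := by group
  have e2 : (l' : H) = x' * ((x' : H)⁻¹ * l') := by group
  have c1 : ∀ z ∈ X, ((x : H)⁻¹ * l) * z = z * ((x : H)⁻¹ * l) := by
    intro z hz
    exact (Subgroup.mem_centralizer_iff.mp (hYc h1) z hz).symm
  have c2 : ∀ z ∈ X, ((x' : H)⁻¹ * l') * z = z * ((x' : H)⁻¹ * l') := by
    intro z hz
    exact (Subgroup.mem_centralizer_iff.mp (hYc h2) z hz).symm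
  rw [e1, comm_mul_left _ _ _ (c1 _ l'.2), e2, comm_mul_right _ _ _ (c2 _ x.2)]

theorem comm_mem {x y : H} (hx : x ∈ X) (hy : y ∈ X) : ⁅x, y⁆ ∈ X := by
  rw [commutatorElement_def]
  exact X.mul_mem (X.mul_mem (X.mul_mem hx hy) (X.inv_mem hx)) (X.inv_mem hy)

theorem cW_mul_left (hXXY : ∀ x ∈ X, ∀ y ∈ X, ⁅x, y⁆ ∈ Y)
    (hYc : Y ≤ Subgroup.centralizer (X : Set H)) (w w' z : cfBar X Y) :
    cW hXXY (w * w') z = cW hXXY w z * cW hXXY w' z := by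
  obtain ⟨x, rfl⟩ := mkW_surjective X Y w
  obtain ⟨x', rfl⟩ := mkW_surjective X Y w'
  obtain ⟨x'', rfl⟩ := mkW_surjective X Y z
  apply Subtype.ext
  rw [← map_mul, Subgroup.coe_mul, cW_mkW hXXY hYc, cW_mkW hXXY hYc, cW_mkW hXXY hYc]
  have h1 : ⁅(x' : H), (x'' : H)⁆ ∈ Y := hXXY _ x'.2 _ x''.2
  have h2 : (x : H) * ⁅(x' : H), (x'' : H)⁆ = ⁅(x' : H), (x'' : H)⁆ * x :=
    Subgroup.mem_centralizer_iff.mp (hYc h1) x x.2
  have h3 : ⁅(x : H), (x'' : H)⁆ ∈ Y := hXXY _ x.2 _ x''.2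
  have h4 : ⁅(x' : H), (x'' : H)⁆ * ⁅(x : H), (x'' : H)⁆ =
      ⁅(x : H), (x'' : H)⁆ * ⁅(x' : H), (x'' : H)⁆ :=
    Subgroup.mem_centralizer_iff.mp (hYc h3) _ (comm_mem x'.2 x''.2)
  have e : ⁅((x * x' : X) : H), (x'' : H)⁆ =
      ((x : H) * ⁅(x' : H), (x'' : H)⁆) * (x : H)⁻¹ * ⁅(x : H), (x'' : H)⁆ := by
    simp only [commutatorElement_def, Subgroup.coe_mul]
    group
  rw [e, h2, mul_inv_cancel_right, h4]

theorem cW_mul_right (hXXY : ∀ x ∈ X, ∀ y ∈ X, ⁅x, y⁆ ∈ Y)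
    (hYc : Y ≤ Subgroup.centralizer (X : Set H)) (z w w' : cfBar X Y) :
    cW hXXY z (w * w') = cW hXXY z w * cW hXXY z w' := by
  obtain ⟨x, rfl⟩ := mkW_surjective X Y w
  obtain ⟨x', rfl⟩ := mkW_surjective X Y w'
  obtain ⟨x'', rfl⟩ := mkW_surjective X Y z
  apply Subtype.ext
  rw [← map_mul, Subgroup.coe_mul, cW_mkW hXXY hYc, cW_mkW hXXY hYc, cW_mkW hXXY hYc]
  have h1 : ⁅(x'' : H), (x' : H)⁆ ∈ Y := hXXY _ x''.2 _ x'.2
  have h2 : (x : H) * ⁅(x'' : H), (x' : H)⁆ = ⁅(x'' : H), (x' : H)⁆ * x :=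
    Subgroup.mem_centralizer_iff.mp (hYc h1) x x.2
  have e : ⁅(x'' : H), ((x * x' : X) : H)⁆ =
      ⁅(x'' : H), (x : H)⁆ * (((x : H) * ⁅(x'' : H), (x' : H)⁆) * (x : H)⁻¹) := by
    simp only [commutatorElement_def, Subgroup.coe_mul]
    group
  rw [e, h2, mul_inv_cancel_right]

theorem cW_self (hXXY : ∀ x ∈ X, ∀ y ∈ X, ⁅x, y⁆ ∈ Y) (w : cfBar X Y) : cW hXXY w w = 1 := by
  apply Subtype.ext
  show ⁅(lf X Y w : H), (lf X Y w : H)⁆ = 1
  exact commutatorElement_self _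

end lifts

section bridge

variable [Finite H] {p : ℕ} [Fact p.Prime]

theorem le_normalizer_of_conj_mem' {A K : Subgroup H}
    (h : ∀ a ∈ A, ∀ x ∈ K, a * x * a⁻¹ ∈ K) : A ≤ Subgroup.normalizer (K : Set H) := by
  intro a ha
  rw [Subgroup.mem_normalizer_iff]
  intro x
  constructor
  · exact h a ha x
  · intro hx
    have := h a⁻¹ (A.inv_mem ha) _ hx
    have e : a⁻¹ * (a * x * a⁻¹) * a⁻¹⁻¹ = x := by group
    rwa [e] at this

theorem bridge (hp2 : p ≠ 2) (X Y : Subgroup H) [hXn : X.Normal] [hYn : Y.Normal]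
    (hchief : IsChiefFactor X Y) (hXp : IsPGroup p X)
    (hYc : Y ≤ Subgroup.centralizer (X : Set H)) (hXXY : ∀ x ∈ X, ∀ y ∈ X, ⁅x, y⁆ ∈ Y)
    (P L B : Subgroup H) [hLn : L.Normal] {q : ℕ} (hq : q.Prime) (hqp : q ≠ p)
    (hPker : P ≤ (cfAct X Y).ker)
    (hLab : ∀ g ∈ L, ∀ h ∈ L, g * h * g⁻¹ * h⁻¹ ∈ P) (hLexp : ∀ g ∈ L, g ^ q ∈ P)
    (hLX' : ∀ g ∈ L, ∀ x ∈ X, ∀ y ∈ X, g * ⁅x, y⁆ * g⁻¹ = ⁅x, y⁆)
    (hB : IsPGroup p B)
    (hfam : ∀ A : Subgroup H, Y ≤ A → A ≤ X → (∀ x ∈ A, ∀ y ∈ A, x * y = y * x) →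
      B ≤ Subgroup.normalizer (A : Set H) → ∀ b ∈ B, ∀ x ∈ A, b * ⁅b, x⁆ = ⁅b, x⁆ * b) :
    ∀ b ∈ B, ∀ l ∈ L, b * l * b⁻¹ * l⁻¹ ∈ (cfAct X Y).ker := by
  classical
  obtain ⟨hlt, -, -, hmin⟩ := hchief
  have hYX : Y ≤ X := hlt.le
  have hcomm := cf_comm hlt hXp hmin
  have hexp := cf_exp hlt hXp hmin
  set a := cfAct X Y with ha
  have hYab : ∀ u v : Y, u * v = v * u := by
    intro u v
    apply Subtype.ext
    have := Subgroup.mem_centralizer_iff.mp (hYc u.2) v (hYX v.2)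
    simp only [Subgroup.coe_mul]
    exact this.symm
  letI : CommGroup Y := { (inferInstance : Group Y) with mul_comm := hYab }
  set Λ : Subgroup (MulAut (cfBar X Y)) := L.map a with hΛ
  set B' : Subgroup (MulAut (cfBar X Y)) := B.map a with hB'
  have hker1 : ∀ g ∈ P, a g = 1 := fun g hg => MonoidHom.mem_ker.mp (hPker hg)
  have hΛab : ∀ x ∈ Λ, ∀ y ∈ Λ, x * y = y * x := by
    rintro _ ⟨g, hg, rfl⟩ _ ⟨h, hh, rfl⟩
    have h1 := hker1 _ (hLab g hg h hh)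
    simp only [map_mul, map_inv] at h1
    calc a g * a h = (a g * a h * (a g)⁻¹ * (a h)⁻¹) * (a h * a g) := by group
      _ = a h * a g := by rw [h1, one_mul]
  have hΛexp : ∀ x ∈ Λ, x ^ q = 1 := by
    rintro _ ⟨g, hg, rfl⟩
    rw [← map_pow]
    exact hker1 _ (hLexp g hg)
  have hBΛ : ∀ b ∈ B', ∀ l ∈ Λ, b * l * b⁻¹ ∈ Λ := by
    rintro _ ⟨b, _, rfl⟩ _ ⟨l, hl, rfl⟩
    exact ⟨b * l * b⁻¹, hLn.conj_mem l hl b, by simp only [map_mul, map_inv]⟩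
  have hcinv : ∀ l ∈ Λ, ∀ w z : cfBar X Y,
      cW hXXY ((MonoidHom.id _ l : MulAut (cfBar X Y)) w) ((MonoidHom.id _ l : MulAut (cfBar X Y)) z) =
        cW hXXY w z := by
    rintro _ ⟨g, hg, rfl⟩ w z
    obtain ⟨x, rfl⟩ := mkW_surjective X Y w
    obtain ⟨x', rfl⟩ := mkW_surjective X Y z
    apply Subtype.ext
    show ((cW hXXY (a g (mkW X Y x)) (a g (mkW X Y x')) : Y) : H) = _
    rw [ha, cfAct_mkW, cfAct_mkW, cW_mkW hXXY hYc, cW_mkW hXXY hYc]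
    have e : ⁅g * (x : H) * g⁻¹, g * (x' : H) * g⁻¹⁆ = g * ⁅(x : H), (x' : H)⁆ * g⁻¹ := by
      simp only [commutatorElement_def]
      group
    show ⁅g * (x : H) * g⁻¹, g * (x' : H) * g⁻¹⁆ = _
    rw [e, hLX' g hg _ x.2 _ x'.2]
  have hQ : ∀ N : Subgroup (cfBar X Y),
      (∀ b ∈ B', ∀ w ∈ N, (MonoidHom.id _ b : MulAut (cfBar X Y)) w ∈ N) →
      (∀ w ∈ N, ∀ z ∈ N, cW hXXY w z = 1) →
      ∀ b ∈ B', ∀ w ∈ N, (MonoidHom.id _ b : MulAut (cfBar X Y))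
        ((MonoidHom.id _ b : MulAut (cfBar X Y)) w * w⁻¹) =
          (MonoidHom.id _ b : MulAut (cfBar X Y)) w * w⁻¹ := by
    intro N hNinv hNiso
    set A : Subgroup H := (N.comap (mkW X Y)).map X.subtype with hA
    have hmemA : ∀ x : X, mkW X Y x ∈ N → (x : H) ∈ A := fun x hx => ⟨x, hx, rfl⟩
    have hYA : Y ≤ A := by
      intro y hy
      refine hmemA ⟨y, hYX hy⟩ ?_
      rw [(mkW_eq_one_iff X Y _).mpr hy]
      exact N.one_mem
    have hAX : A ≤ X := Subgroup.map_subtype_le _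
    have hAab : ∀ x ∈ A, ∀ y ∈ A, x * y = y * x := by
      rintro _ ⟨x, hx, rfl⟩ _ ⟨y, hy, rfl⟩
      have h1 := hNiso _ hx _ hy
      have h2 := congrArg (fun u : Y => (u : H)) h1
      simp only [cW_mkW hXXY hYc, Subgroup.coe_one] at h2
      exact (commutatorElement_eq_one_iff_commute.mp h2).eq
    have hBA : B ≤ Subgroup.normalizer (A : Set H) := by
      apply le_normalizer_of_conj_mem'
      rintro b hb _ ⟨x, hx, rfl⟩
      have := hNinv (a b) ⟨b, hb, rfl⟩ _ hx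
      rw [MonoidHom.id_apply, ha, cfAct_mkW] at this
      exact hmemA _ this
    rintro _ ⟨b, hb, rfl⟩ w hw
    obtain ⟨x, rfl⟩ := mkW_surjective X Y w
    have hxA : (x : H) ∈ A := hmemA x hw
    have hc := hfam A hYA hAX hAab hBA b hb x hxA
    simp only [MonoidHom.id_apply]
    have e1 : a b (mkW X Y x) * (mkW X Y x)⁻¹ =
        mkW X Y ⟨⁅b, (x : H)⁆, by
          rw [commutatorElement_def]
          exact X.mul_mem (hXn.conj_mem x x.2 b) (X.inv_mem x.2)⟩ := by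
      rw [ha, cfAct_mkW, ← map_inv, ← map_mul]
      congr 1
    rw [e1, ha, cfAct_mkW]
    congr 1
    apply Subtype.ext
    show b * ⁅b, (x : H)⁆ * b⁻¹ = ⁅b, (x : H)⁆
    rw [hc, mul_inv_cancel_right]
  have key := Cfsg.Agent.Lib.Helper14.QuadCore.core_mul (Γ := MulAut (cfBar X Y))
    (W := cfBar X Y) (Zm := Y) hp2 hcomm hexp
    (MonoidHom.id _) Λ B' hΛab hq hqp hΛexp hBΛ (hB.map a) (fun l _ h => h) (cW hXXY)
    (cW_mul_left hXXY hYc) (cW_mul_right hXXY hYc) (cW_self hXXY) hcinv hQ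
  intro b hb l hl
  rw [MonoidHom.mem_ker]
  have h1 := key (a b) ⟨b, hb, rfl⟩ (a l) ⟨l, hl, rfl⟩
  simp only [map_mul, map_inv]
  rw [h1]
  group

end bridge

end Cfsg.Agent.Lib.Helper14.KInfBridge
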