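import Cfsg.Agent.Lib.Helper16.KInfCtl
import Cfsg.Agent.Lib.Helper54.Coprime

/-!
A minimal normal subgroup `X` of a normal `p`-subgroup `P ⊇ C(P)` on which the `p'`-elements act
nontrivially: `X` has class at most two, its proper normal subgroups lie in `Y₀ = C_X(O^p)` which is
central in `X`, and `X / Y₀` is a chief factor centralized by `P`.
-/

set_option autoImplicit false
set_option linter.unusedSectionVars false
set_option linter.style.haveILetI false

namespace Cfsg.Agent.Lib.Helper14.KInfSpecial

open Cfsg Cfsg.Agent.Lib.Helper16.KComm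
open scoped commutatorElement

variable {H : Type*} [Group H] [Finite H] {p : ℕ} [Fact p.Prime]

/-- the set of `p'`-elements -/
def pPrimeElts (p : ℕ) (H : Type*) [Group H] : Set H := {g | (orderOf g).Coprime p}

/-- the subgroup generated by the `p'`-elements -/
def oUp (p : ℕ) (H : Type*) [Group H] : Subgroup H := Subgroup.normalClosure (pPrimeElts p H)

instance oUp_normal : (oUp p H).Normal := Subgroup.normalClosure_normal

theorem mem_oUp {g : H} (hg : (orderOf g).Coprime p) : g ∈ oUp p H :=
  Subgroup.subset_normalClosure hg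

theorem oUp_le {N : Subgroup H} [N.Normal] (h : ∀ g : H, (orderOf g).Coprime p → g ∈ N) :
    oUp p H ≤ N := Subgroup.normalClosure_le_normal h

/-- a `p'`-element centralizing `Y` and acting trivially on `X / Y` centralizes the `p`-group `X` -/
theorem centralizes_of_chain {X Y : Subgroup H} (hXp : IsPGroup p X) (hYX : Y ≤ X) {g : H}
    (hg : (orderOf g).Coprime p) (hY : g ∈ Subgroup.centralizer (Y : Set H))
    (hXY : ∀ a ∈ X, ⁅a, g⁆ ∈ Y) : g ∈ Subgroup.centralizer (X : Set H) := by
  set B : ℕ → Subgroup H := fun i => match i with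
    | 0 => ⊥
    | 1 => Y
    | _ + 2 => X with hB
  have hstep : ∀ i, ∀ a ∈ B (i + 1), ⁅a, g⁆ ∈ B i := by
    intro i a ha
    match i with
    | 0 =>
      show ⁅a, g⁆ ∈ (⊥ : Subgroup H)
      rw [Subgroup.mem_bot, commutatorElement_eq_one_iff_commute]
      exact Subgroup.mem_centralizer_iff.mp hY a ha
    | 1 => exact hXY a ha
    | i + 2 =>
      show ⁅a, g⁆ ∈ X
      exact hYX (hXY a ha)
  have hp : ∀ i, ∀ a ∈ B i, ∃ k : ℕ, a ^ (p ^ k) = 1 := by
    intro i a ha
    have haX : a ∈ X := by
      match i with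
      | 0 =>
        have : a = 1 := Subgroup.mem_bot.mp ha
        rw [this]; exact X.one_mem
      | 1 => exact hYX ha
      | i + 2 => exact ha
    obtain ⟨k, hk⟩ := hXp ⟨a, haX⟩
    refine ⟨k, ?_⟩
    have := congrArg Subtype.val hk
    simpa using this
  have key := Cfsg.Agent.Lib.Helper54.commutator_eq_one_of_chain g hg B rfl hstep hp 2
  rw [Subgroup.mem_centralizer_iff]
  intro a ha
  have h1 := key a ha
  rw [commutatorElement_eq_one_iff_commute] at h1
  exact h1.eq

/-- the predicate defining the family of candidate subgroups -/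
def Cand (p : ℕ) (P X : Subgroup H) : Prop :=
  X.Normal ∧ X ≤ P ∧ ¬ oUp p H ≤ Subgroup.centralizer (X : Set H)

theorem isPGroup_of_oUp_le (P : Subgroup H) (hPp : IsPGroup p P) (h : oUp p H ≤ P) :
    IsPGroup p H := by
  have hpp : p.Prime := Fact.out
  have hcard : Nat.card H = p ^ (Nat.card H).primeFactorsList.length := by
    apply Nat.eq_prime_pow_of_unique_prime_dvd Nat.card_pos.ne'
    intro r hr hrd
    by_contra hne
    haveI : Fact r.Prime := ⟨hr⟩
    obtain ⟨g, hg⟩ := exists_prime_orderOf_dvd_card' r hrd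
    have hcop : (orderOf g).Coprime p := by
      rw [hg]
      exact (Nat.coprime_primes hr hpp).mpr hne
    have hgP : g ∈ P := h (mem_oUp hcop)
    obtain ⟨k, hk⟩ := hPp ⟨g, hgP⟩
    have hk' : g ^ (p ^ k) = 1 := by
      have := congrArg Subtype.val hk
      simpa using this
    have h1 : r ∣ p ^ k := by
      rw [← hg]
      exact orderOf_dvd_of_pow_eq_one hk'
    exact hne ((Nat.prime_dvd_prime_iff_eq hr hpp).mp (hr.dvd_of_dvd_pow h1))
  exact IsPGroup.of_card hcard

theorem exists_special (P : Subgroup H) [hPn : P.Normal] (hPp : IsPGroup p P)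
    (hCP : Subgroup.centralizer (P : Set H) ≤ P) (hnp : ¬ IsPGroup p H) :
    ∃ X Y : Subgroup H, X.Normal ∧ Y.Normal ∧ X ≤ P ∧ IsChiefFactor X Y ∧
      Y ≤ Subgroup.centralizer (X : Set H) ∧ ⁅X, P⁆ ≤ Y ∧
      oUp p H ≤ Subgroup.centralizer (Y : Set H) ∧
      ¬ oUp p H ≤ Subgroup.centralizer (X : Set H) ∧
      (∀ N : Subgroup H, N.Normal → N < X → N ≤ Y) := by
  set O := oUp p H with hO
  have hPc : Cand p P P := ⟨hPn, le_rfl, fun h => hnp (isPGroup_of_oUp_le P hPp (h.trans hCP))⟩
  obtain ⟨X, hXc, hXmin⟩ := WellFounded.has_min (wellFounded_lt (α := Subgroup H))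
    {X | Cand p P X} ⟨P, hPc⟩
  obtain ⟨hXn, hXP, hXO⟩ := hXc
  have hXp : IsPGroup p X := hPp.to_le hXP
  -- proper normal subgroups are centralized by O
  have hprop : ∀ N : Subgroup H, N.Normal → N < X → O ≤ Subgroup.centralizer (N : Set H) := by
    intro N hN hNX
    by_contra hc
    exact hXmin N ⟨hN, hNX.le.trans hXP, hc⟩ hNX
  -- X = [X, O]
  have hXO' : ⁅X, O⁆ = X := by
    have hle : ⁅X, O⁆ ≤ X := Subgroup.commutator_le_left X O
    by_contra hne
    have hlt : ⁅X, O⁆ < X := lt_of_le_of_ne hle hne
    have hn : (⁅X, O⁆).Normal := inferInstance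
    have h1 := hprop _ hn hlt
    apply hXO
    haveI : (Subgroup.centralizer (X : Set H)).Normal := Subgroup.normal_centralizer
    apply oUp_le
    intro g hg
    apply centralizes_of_chain hXp hle hg (h1 (mem_oUp hg))
    intro a ha
    exact Subgroup.commutator_mem_commutator ha (mem_oUp hg)
  set Y : Subgroup H := X ⊓ Subgroup.centralizer (O : Set H) with hY
  haveI hCOn : (Subgroup.centralizer (O : Set H)).Normal := Subgroup.normal_centralizer
  have hYn : Y.Normal := inferInstance
  have hYX : Y ≤ X := inf_le_left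
  have hYO : O ≤ Subgroup.centralizer (Y : Set H) :=
    Subgroup.le_centralizer_iff.mp inf_le_right
  have hYne : Y ≠ X := by
    intro h
    apply hXO
    have : X ≤ Subgroup.centralizer (O : Set H) := by
      rw [← h]; exact inf_le_right
    exact Subgroup.le_centralizer_iff.mp this
  have hYlt : Y < X := lt_of_le_of_ne hYX hYne
  have hall : ∀ N : Subgroup H, N.Normal → N < X → N ≤ Y := by
    intro N hN hNX
    exact le_inf hNX.le (Subgroup.le_centralizer_iff.mp (hprop N hN hNX))
  -- proper normal subgroups are central in X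
  have hcent : ∀ N : Subgroup H, N.Normal → N < X → N ≤ Subgroup.centralizer (X : Set H) := by
    intro N hN hNX
    have h1 : ⁅⁅X, N⁆, O⁆ = ⊥ := by
      rw [Subgroup.commutator_eq_bot_iff_le_centralizer]
      have : ⁅X, N⁆ ≤ N := Subgroup.commutator_le_right X N
      exact this.trans (Subgroup.le_centralizer_iff.mp (hprop N hN hNX))
    have h2 : ⁅⁅N, O⁆, X⁆ = ⊥ := by
      have : ⁅N, O⁆ = ⊥ := by
        rw [Subgroup.commutator_eq_bot_iff_le_centralizer]
        exact Subgroup.le_centralizer_iff.mp (hprop N hN hNX)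
      rw [this]
      exact Subgroup.commutator_bot_left X
    have h3 := Subgroup.commutator_commutator_eq_bot_of_rotate h1 h2
    rw [Subgroup.commutator_comm O X, hXO', Subgroup.commutator_eq_bot_iff_le_centralizer] at h3
    exact Subgroup.le_centralizer_iff.mp h3
  have hchief : IsChiefFactor X Y := by
    refine ⟨hYlt, hXn, hYn, ?_⟩
    intro N hN hYN hNX
    by_cases h : N = X
    · right; exact h
    · left
      exact le_antisymm (hall N hN (lt_of_le_of_ne hNX h)) hYN
  have hXPY : ⁅X, P⁆ ≤ Y := by
    have hn : (⁅X, P⁆).Normal := inferInstance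
    have hle : ⁅X, P⁆ ≤ X := Subgroup.commutator_le_left X P
    have hne : ⁅X, P⁆ ≠ X := by
      intro h
      obtain ⟨c, hc⟩ := iter_eq_bot_of_pgroup hPp hXP (le_refl P)
      have hall' : ∀ n, iterCommutator X P n = X := by
        intro n
        induction n with
        | zero => rfl
        | succ n ih =>
          show ⁅iterCommutator X P n, P⁆ = X
          rw [ih, h]
      rw [hall' c] at hc
      apply hXO
      rw [hc]
      intro g _
      rw [Subgroup.mem_centralizer_iff]
      intro x hx
      rw [Subgroup.coe_bot, Set.mem_singleton_iff] at hx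
      rw [hx]; simp
    exact hall _ hn (lt_of_le_of_ne hle hne)
  exact ⟨X, Y, hXn, hYn, hXP, hchief, hcent Y hYn hYlt, hXPY, hYO, hXO, hall⟩

end Cfsg.Agent.Lib.Helper14.KInfSpecial
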