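import Cfsg.Agent.Lib.Helper14.KInfBridge
import Cfsg.Agent.Lib.Helper14.KInfSpecial
import Cfsg.Agent.Lib.Helper14.KInfCoatomStruct
import Cfsg.Agent.Lib.Helper16.KInfCtl

/-!
**Normality of Glauberman's `K_∞`** (`p` odd) in a finite group `H` with `C_H(O_p(H)) ≤ O_p(H)`,
`H / O_p(H)` having a normal `p`-complement, and a Sylow `p`-subgroup `T` that is a maximal subgroup
of `H`: the lower `K_∞` subgroup of `T` is normal in `H`.
-/

set_option autoImplicit false
set_option linter.unusedSectionVars false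
set_option linter.style.haveILetI false

universe u

namespace Cfsg.Agent.Lib.Helper14.KInfCoatom

open Cfsg Cfsg.Agent.Lib.Lead Cfsg.Agent.Lib.Helper16.KComm Cfsg.Agent.Lib.Helper16.KSub
open Cfsg.Agent.Lib.Helper14.KInfBridge Cfsg.Agent.Lib.Helper14.KInfSpecial
open Cfsg.Agent.Lib.Helper14.KInfCoatomStruct
open scoped commutatorElement

section act

variable {H : Type*} [Group H] (X Y : Subgroup H) [hXn : X.Normal] [hYn : Y.Normal]

theorem cfAct_eq_one_of {g : H} (h : ∀ x ∈ X, ⁅x, g⁆ ∈ Y) : cfAct X Y g = 1 := by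
  ext w
  obtain ⟨x, rfl⟩ := mkW_surjective X Y w
  rw [cfAct_mkW, MulAut.one_apply]
  congr 1
  rw [mkW_eq_iff]
  have h1 := Y.inv_mem (h (x : H)⁻¹ (X.inv_mem x.2))
  have e : (⁅(x : H)⁻¹, g⁆)⁻¹ = (g * (x : H) * g⁻¹)⁻¹ * (x : H) := by
    rw [commutatorElement_def]; group
  rw [e] at h1
  exact h1

theorem comm_mem_of_cfAct_eq_one {g : H} (h : cfAct X Y g = 1) : ∀ x ∈ X, ⁅x, g⁆ ∈ Y := by
  intro x hx
  exact cf_commutator_le g h (Subgroup.commutator_mem_commutator hx (Subgroup.mem_zpowers g))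

end act

section main

variable {H : Type u} [Group H] [Finite H] {p : ℕ} [Fact p.Prime]

/-- **`K_∞` is normal.** -/
theorem kInf_normal_of_coatom (hp2 : p ≠ 2)
    (hC : Subgroup.centralizer ((pCore p H : Subgroup H) : Set H) ≤ pCore p H)
    (hq : HasNormalPComplement p (H ⧸ pCore p H)) (T : Sylow p H)
    (hT : IsCoatom (T : Subgroup H)) :
    (inducedFunctor kInfLower (T : Subgroup H)).Normal := by
  classical
  have hpp : p.Prime := Fact.out
  set P := pCore p H with hP
  have hPp : IsPGroup p P := Cfsg.Agent.Lib.Helper53.pCore_isPGroup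
  have hPT : P ≤ (T : Subgroup H) := Cfsg.Agent.Lib.Helper53.pCore_le_sylow T
  obtain ⟨L, q, hLn, hPL, hqprime, hqp, hLab, hLexp, hpL, hdich, hend, hnp⟩ :=
    coatom_structure hq T hT
  obtain ⟨X, Y, hXn, hYn, hXP, hchief, hYc, hXPY, hOY, hOX, hall⟩ :=
    exists_special P hPp hC hnp
  have hXp : IsPGroup p X := hPp.to_le hXP
  have hYX : Y ≤ X := hchief.1.le
  have hXT : X ≤ (T : Subgroup H) := hXP.trans hPT
  have hXXY : ∀ x ∈ X, ∀ y ∈ X, ⁅x, y⁆ ∈ Y := fun x hx y hy =>
    hXPY (Subgroup.commutator_mem_commutator hx (hXP hy))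
  have hcXX : ⁅X, X⁆ ≤ Y := (Subgroup.commutator_mono le_rfl hXP).trans hXPY
  have hCXn : (Subgroup.centralizer (X : Set H)).Normal := Subgroup.normal_centralizer
  -- P acts trivially on X / Y
  have hPker : P ≤ (cfAct X Y).ker := by
    intro g hg
    rw [MonoidHom.mem_ker]
    apply cfAct_eq_one_of
    intro x hx
    exact hXPY (Subgroup.commutator_mem_commutator hx hg)
  -- a p'-element not centralizing X
  obtain ⟨g₀, hg₀, hg₀X⟩ : ∃ g₀ : H, (orderOf g₀).Coprime p ∧
      g₀ ∉ Subgroup.centralizer (X : Set H) := by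
    by_contra hcon
    push Not at hcon
    exact hOX (oUp_le hcon)
  have hg₀P : g₀ ∉ P := by
    intro h
    obtain ⟨k, hk⟩ := hPp ⟨g₀, h⟩
    have hk' : g₀ ^ (p ^ k) = 1 := by
      have := congrArg Subtype.val hk
      simpa using this
    have h1 : orderOf g₀ ∣ p ^ k := orderOf_dvd_of_pow_eq_one hk'
    have h2 : orderOf g₀ ∣ Nat.gcd (orderOf g₀) (p ^ k) := Nat.dvd_gcd dvd_rfl h1
    rw [Nat.Coprime.pow_right k hg₀] at h2
    have h3 : g₀ = 1 := orderOf_eq_one_iff.mp (Nat.dvd_one.mp h2)
    apply hg₀X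
    rw [h3]
    exact Subgroup.one_mem _
  -- the kernel meets L in P
  have hKL : (cfAct X Y).ker ⊓ L ≤ P := by
    rcases hdich _ (MonoidHom.normal_ker _) hPker with h | h
    · exact h
    · exfalso
      apply hOX
      apply oUp_le
      intro g hg
      have hgker : cfAct X Y g = 1 := MonoidHom.mem_ker.mp (h (hpL g hg))
      exact centralizes_of_chain hXp hYX hg (hOY (mem_oUp hg))
        (comm_mem_of_cfAct_eq_one X Y hgker)
  -- L centralizes X'
  have hLX' : ∀ g ∈ L, ∀ x ∈ X, ∀ y ∈ X, g * ⁅x, y⁆ * g⁻¹ = ⁅x, y⁆ := by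
    have hn : (⁅X, X⁆).Normal := inferInstance
    have hKn : (Subgroup.centralizer ((⁅X, X⁆ : Subgroup H) : Set H)).Normal :=
      Subgroup.normal_centralizer
    have hPK : P ≤ Subgroup.centralizer ((⁅X, X⁆ : Subgroup H) : Set H) := by
      have h1 : ⁅⁅X, P⁆, X⁆ = ⊥ := by
        rw [Subgroup.commutator_eq_bot_iff_le_centralizer]
        exact hXPY.trans hYc
      have h2 : ⁅⁅P, X⁆, X⁆ = ⊥ := by
        rw [Subgroup.commutator_comm P X]; exact h1
      have h3 := Subgroup.commutator_commutator_eq_bot_of_rotate h1 h2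
      rw [Subgroup.commutator_eq_bot_iff_le_centralizer] at h3
      exact Subgroup.le_centralizer_iff.mp h3
    have hLK : L ≤ Subgroup.centralizer ((⁅X, X⁆ : Subgroup H) : Set H) := by
      rcases hdich _ hKn hPK with h | h
      · exfalso
        apply hg₀P
        apply h
        refine ⟨?_, hpL g₀ hg₀⟩
        exact (Subgroup.centralizer_le hcXX) (hOY (mem_oUp hg₀))
      · exact h
    intro g hg x hx y hy
    have := Subgroup.mem_centralizer_iff.mp (hLK hg) ⁅x, y⁆
      (Subgroup.commutator_mem_commutator hx hy)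
    rw [← this, mul_inv_cancel_right]
  -- the endgame
  have hendgame : ∀ g ∈ (T : Subgroup H),
      (∀ l ∈ L, g * l * g⁻¹ * l⁻¹ ∈ (cfAct X Y).ker) → g ∈ P := by
    intro g hg h
    apply hend g hg
    intro l hl
    apply hKL
    exact ⟨h l hl, L.mul_mem (hLn.conj_mem l hl g) (L.inv_mem hl)⟩
  -- elements acting trivially on X / Y lie in P
  have hkerT : ∀ g ∈ (T : Subgroup H), ⁅X, Subgroup.zpowers g⁆ ≤ Y → g ∈ P := by
    intro g hg h
    have hgk : g ∈ (cfAct X Y).ker := by
      rw [MonoidHom.mem_ker]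
      apply cfAct_eq_one_of
      intro x hx
      exact h (Subgroup.commutator_mem_commutator hx (Subgroup.mem_zpowers g))
    apply hendgame g hg
    intro l _
    have hkn : ((cfAct X Y).ker).Normal := MonoidHom.normal_ker _
    have h1 : l * g⁻¹ * l⁻¹ ∈ (cfAct X Y).ker := hkn.conj_mem _ (Subgroup.inv_mem _ hgk) l
    have := Subgroup.mul_mem _ hgk h1
    have e : g * (l * g⁻¹ * l⁻¹) = g * l * g⁻¹ * l⁻¹ := by group
    rwa [e] at this
  -- quadratic elements of T act trivially on X / Y
  have h2p : 2 ≤ p - 1 := by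
    have h3 : 3 ≤ p := by
      have := hpp.two_le
      omega
    omega
  have hquadT : ∀ g ∈ (T : Subgroup H), iterCommutator X (Subgroup.zpowers g) 2 ≤ Y →
      ⁅X, Subgroup.zpowers g⁆ ≤ Y := by
    intro g hg h
    have hV : Subgroup.zpowers g ≤ Subgroup.normalizer (Y : Set H) := by
      rw [Subgroup.normalizer_eq_top]; exact le_top
    exact engel_chief_commutator_le p hq T hT g hg X Y hchief hXP (iter_le_of_le hV h h2p)
  -- class two
  have hcl_of_le : ∀ A : Subgroup H, A ≤ X → A ∈ classTwoSubgroups H := by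
    intro A hA
    show ⁅A, A⁆ ≤ Subgroup.centralizer (A : Set H)
    exact ((Subgroup.commutator_mono hA hA).trans hcXX).trans
      (hYc.trans (Subgroup.centralizer_le hA))
  have hXcl : X ∈ classTwoSubgroups H := hcl_of_le X le_rfl
  apply kInf_normal_of_le T P hPT
  intro n
  induction n using Nat.strong_induction_on with
  | _ n ih =>
  -- subgroups between Y and X lie in the n-th odd term
  have hsub : ∀ A : Subgroup H, Y ≤ A → A ≤ X → A ≤ oSeq (T : Subgroup H) n := by
    intro A hYA hAX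
    cases n with
    | zero => exact hAX.trans hXT
    | succ m =>
      have hE : lowerIn (T : Subgroup H) (oSeq (T : Subgroup H) m) ≤ P :=
        (ih m (Nat.lt_succ_self m)).1
      refine le_sSup ⟨⟨hcl_of_le A hAX, ?_⟩, hAX.trans hXT⟩
      have h1 : ⁅A, lowerIn (T : Subgroup H) (oSeq (T : Subgroup H) m)⁆ ≤ Y :=
        (Subgroup.commutator_mono hAX hE).trans hXPY
      exact h1.trans (le_inf hYA (hYc.trans (Subgroup.centralizer_le hAX)))
  have hOT : oSeq (T : Subgroup H) n ≤ (T : Subgroup H) := oSeq_le _ n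
  -- lower part
  have hlow : lowerIn (T : Subgroup H) (oSeq (T : Subgroup H) n) ≤ P := by
    unfold lowerIn
    rw [sSup_le_iff]
    rintro B ⟨⟨hBcl, hBnorm, hBcond⟩, hBT⟩
    have hBp : IsPGroup p B := T.2.to_le hBT
    have hfam : ∀ A : Subgroup H, Y ≤ A → A ≤ X → (∀ x ∈ A, ∀ y ∈ A, x * y = y * x) →
        B ≤ Subgroup.normalizer (A : Set H) → ∀ b ∈ B, ∀ x ∈ A, b * ⁅b, x⁆ = ⁅b, x⁆ * b := by
      intro A hYA hAX hAab hBA b hb x hx
      have hAA : ⁅A, A⁆ = ⊥ := by
        rw [Subgroup.commutator_eq_bot_iff_le_centralizer]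
        intro u hu
        rw [Subgroup.mem_centralizer_iff]
        intro v hv
        exact hAab v hv u hu
      have h1 : ⁅B, ⁅A, A⁆⁆ = ⊥ := by rw [hAA]; exact Subgroup.commutator_bot_right B
      have hBAA : ⁅B, A⁆ ≤ A := by
        rw [Subgroup.commutator_comm]
        exact commutator_le_left_of_normalizer hBA
      have h2 : ⁅⁅B ⊓ Subgroup.centralizer (B : Set H), A⁆, A⁆ = ⊥ := by
        rw [eq_bot_iff, ← hAA]
        exact Subgroup.commutator_mono
          ((Subgroup.commutator_mono inf_le_left le_rfl).trans hBAA) le_rfl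
      have h3 := hBcond A (hcl_of_le A hAX) (hsub A hYA hAX) hBA h1 h2
      have h4 : ⁅b, x⁆ ∈ B ⊓ Subgroup.centralizer (B : Set H) :=
        h3 (Subgroup.commutator_mem_commutator hb hx)
      exact (Subgroup.mem_centralizer_iff.mp h4.2 b hb)
    intro b hb
    apply hendgame b (hBT hb)
    exact bridge hp2 X Y hchief hXp hYc hXXY P L B hqprime hqp hPker hLab hLexp hLX' hBp hfam b hb
  refine ⟨hlow, ?_⟩
  -- upper part
  show upperIn (T : Subgroup H) (lowerIn (T : Subgroup H) (oSeq (T : Subgroup H) n)) ≤ P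
  unfold upperIn
  rw [sSup_le_iff]
  rintro B ⟨⟨hBcl, hBE⟩, hBT⟩
  -- X is a member of the lower family
  have hXlow : X ∈ kLowerStarFamily (oSeq (T : Subgroup H) n) := by
    refine ⟨hXcl, ?_, ?_⟩
    · rw [Subgroup.normalizer_eq_top]; exact le_top
    · intro A hAcl hAO hXA h1 _
      by_cases hXab : X ≤ Subgroup.centralizer (X : Set H)
      · exact le_inf (Subgroup.commutator_le_left X A) ((Subgroup.commutator_le_left X A).trans hXab)
      · have hZn : (X ⊓ Subgroup.centralizer (X : Set H)).Normal := inferInstance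
        have hZlt : X ⊓ Subgroup.centralizer (X : Set H) < X := by
          refine lt_of_le_of_ne inf_le_left ?_
          intro h
          exact hXab (h.symm.le.trans inf_le_right)
        have hZY : X ⊓ Subgroup.centralizer (X : Set H) ≤ Y := hall _ hZn hZlt
        have hAAX : ⁅A, A⁆ ≤ Subgroup.centralizer (X : Set H) := by
          rw [Subgroup.commutator_eq_bot_iff_le_centralizer] at h1
          exact Subgroup.le_centralizer_iff.mp h1
        have hXAA : ⁅X, A⁆ ≤ A := by
          rw [Subgroup.commutator_comm]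
          exact commutator_le_left_of_normalizer hXA
        rw [Subgroup.commutator_le]
        intro x hx g hg
        have hgT : g ∈ (T : Subgroup H) := hOT (hAO hg)
        have hzA : Subgroup.zpowers g ≤ A := by rwa [Subgroup.zpowers_le]
        have hq2 : iterCommutator X (Subgroup.zpowers g) 2 ≤ Y := by
          show ⁅⁅X, Subgroup.zpowers g⁆, Subgroup.zpowers g⁆ ≤ Y
          have e1 : ⁅X, Subgroup.zpowers g⁆ ≤ A ⊓ X :=
            le_inf ((Subgroup.commutator_mono le_rfl hzA).trans hXAA)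
              (Subgroup.commutator_le_left X _)
          have e2 : ⁅⁅X, Subgroup.zpowers g⁆, Subgroup.zpowers g⁆ ≤ ⁅A, A⁆ :=
            Subgroup.commutator_mono (e1.trans inf_le_left) hzA
          have e3 : ⁅⁅X, Subgroup.zpowers g⁆, Subgroup.zpowers g⁆ ≤ X :=
            (Subgroup.commutator_mono (e1.trans inf_le_right) le_rfl).trans
              (Subgroup.commutator_le_left X _)
          exact (le_inf e3 (e2.trans hAAX)).trans hZY
        have h5 := hquadT g hgT hq2
        have h6 : ⁅x, g⁆ ∈ Y :=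
          h5 (Subgroup.commutator_mem_commutator hx (Subgroup.mem_zpowers g))
        exact ⟨hYX h6, hYc h6⟩
  have hXE : X ≤ lowerIn (T : Subgroup H) (oSeq (T : Subgroup H) n) := le_sSup ⟨hXlow, hXT⟩
  have hBX : ⁅B, X⁆ ≤ B ⊓ Subgroup.centralizer (B : Set H) :=
    (Subgroup.commutator_mono le_rfl hXE).trans hBE
  have hXB2 : iterCommutator X B 2 = ⊥ := iter2_of_le_center hBX
  intro g hg
  have hzB : Subgroup.zpowers g ≤ B := by rwa [Subgroup.zpowers_le]
  have hq2 : iterCommutator X (Subgroup.zpowers g) 2 ≤ Y := by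
    have := iter_mono_right X hzB 2
    rw [hXB2] at this
    exact this.trans bot_le
  exact hkerT g (hBT hg) (hquadT g (hBT hg) hq2)

end main

end Cfsg.Agent.Lib.Helper14.KInfCoatom
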