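import Cfsg.Agent.Lib.Helper21.KRDefs
import Cfsg.Agent.Lib.Helper82.SubsectionBlocks

/-!
K-S4651-B (for helper21): Brauer's `k(B) - l(B)` formula, all-elements form.
`brauer_kl_of` takes KR-A (for a fixed `Fintype` structure) as a hypothesis.
-/

set_option autoImplicit false
set_option linter.style.haveILetI false
set_option linter.unusedSectionVars false
open Cfsg

namespace Cfsg.Agent.Lib.Helper14.KR

open Cfsg.Agent.Lib.Helper82 Cfsg.Agent.Lib.Helper83

universe u

/-- the statement of KR-A for a fixed `θ` -/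
def SectionsFormula {G : Type u} [Group G] [Fintype G] (p : ℕ)
    [∀ x : G, Fintype (Subgroup.centralizer ({x} : Set G))] (θ : G → ℂ) : Prop :=
  (Nat.card G : ℂ) * (classInner θ θ - classInner (pRegularPart p θ) θ) =
    ∑ᶠ x ∈ {x : G | x ≠ 1 ∧ ∃ k : ℕ, orderOf x = p ^ k},
      (Nat.card (Subgroup.centralizer ({x} : Set G)) : ℂ) *
        classInner (secLin p x θ) (secLin p x θ)

/-- KR-B with KR-A as a hypothesis -/
theorem brauer_kl_of {G : Type u} [Group G] [Fintype G] {p : ℕ} {M : Ideal AlgInt}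
    [∀ x : G, Fintype (Subgroup.centralizer ({x} : Set G))]
    (hA : ∀ χ : IrrCharacter G, SectionsFormula p (χ : G → ℂ))
    (hM : IsPModular p M) (B : Set (IrrCharacter G)) (hB : IsPBlock M B) :
    (Nat.card G : ℤ) * ((Nat.card B : ℤ) - (blockRank p B : ℤ)) =
      ∑ᶠ x ∈ {x : G | x ≠ 1 ∧ ∃ k : ℕ, orderOf x = p ^ k},
        (Nat.card (Subgroup.centralizer ({x} : Set G)) : ℤ) *
          ((∑ᶠ e ∈ {e : Set (IrrCharacter ↥(Subgroup.centralizer ({x} : Set G))) |
              IsInducedBlock M (Subgroup.centralizer ({x} : Set G)) e B}, blockRank p e : ℕ) : ℤ) := by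
  classical
  haveI : Fintype (IrrCharacter G) := Fintype.ofFinite _
  haveI : ∀ x : G, Fintype (IrrCharacter (Subgroup.centralizer ({x} : Set G))) :=
    fun x => Fintype.ofFinite _
  obtain ⟨χ₀, rfl⟩ := hB
  apply Int.cast_injective (α := ℂ)
  have hfin : ({x : G | x ≠ 1 ∧ ∃ k : ℕ, orderOf x = p ^ k}).Finite := Set.toFinite _
  rw [finsum_mem_eq_finite_toFinset_sum _ hfin]
  simp only [Int.cast_sum, Int.cast_mul, Int.cast_natCast, Int.cast_sub]
  have hL : (Nat.card (blockOf M (χ₀ : G → ℂ)) : ℂ) =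
      ∑ χ : IrrCharacter G, if χ ∈ blockOf M (χ₀ : G → ℂ) then
        classInner (χ : G → ℂ) (χ : G → ℂ) else 0 := by
    have h1 : ∀ χ : IrrCharacter G, (if χ ∈ blockOf M (χ₀ : G → ℂ) then
        classInner (χ : G → ℂ) (χ : G → ℂ) else 0) =
        if χ ∈ blockOf M (χ₀ : G → ℂ) then (1 : ℂ) else 0 := by
      intro χ
      rw [irr_orthonormal, if_pos rfl]
    rw [Finset.sum_congr rfl fun χ _ => h1 χ, Finset.sum_boole, Nat.card_eq_fintype_card,
      Fintype.card_subtype]
  rw [hL, blockRank_eq_sum hM χ₀, ← Finset.sum_sub_distrib, Finset.mul_sum]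
  have h2 : ∀ χ : IrrCharacter G,
      (Nat.card G : ℂ) * ((if χ ∈ blockOf M (χ₀ : G → ℂ) then
        classInner (χ : G → ℂ) (χ : G → ℂ) else 0) -
        (if χ ∈ blockOf M (χ₀ : G → ℂ) then
          classInner (pRegularPart p (χ : G → ℂ)) (χ : G → ℂ) else 0)) =
      ∑ x ∈ hfin.toFinset, (Nat.card (Subgroup.centralizer ({x} : Set G)) : ℂ) *
        (if χ ∈ blockOf M (χ₀ : G → ℂ) then
          classInner (secLin p x (χ : G → ℂ)) (secLin p x (χ : G → ℂ)) else 0) := by
    intro χ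
    split_ifs with h
    · have := hA χ
      unfold SectionsFormula at this
      rw [this, finsum_mem_eq_finite_toFinset_sum _ hfin]
    · simp
  rw [Finset.sum_congr rfl fun χ _ => h2 χ, Finset.sum_comm]
  refine Finset.sum_congr rfl fun x hx => ?_
  have hx' : x ≠ 1 ∧ ∃ k : ℕ, orderOf x = p ^ k := by simpa using hx
  rw [← Finset.mul_sum, section_identity hM hx'.2 χ₀]
  rw [finsum_blockRank_eq hM
    (fun b => IsInducedBlock M (Subgroup.centralizer ({x} : Set G)) b (blockOf M (χ₀ : G → ℂ)))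
    (fun b hb => hb.1)]

end Cfsg.Agent.Lib.Helper14.KR
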