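import Cfsg.Agent.Lib.Helper14.KRB
import Cfsg.Agent.Lib.Helper38.KRA

/-!
K-S4651-B (for helper21): Brauer's `k(B) - l(B)` formula, all-elements form (exact signature).
-/

set_option autoImplicit false
set_option linter.style.haveILetI false
open Cfsg

namespace Cfsg.Agent.Lib.Helper14.KR

open Cfsg.Agent.Lib.Helper82 Cfsg.Agent.Lib.Helper83

universe u

theorem brauer_kl {G : Type u} [Group G] [Finite G] {p : ℕ} {M : Ideal AlgInt}
    (hM : IsPModular p M) (B : Set (IrrCharacter G)) (hB : IsPBlock M B) :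
    (Nat.card G : ℤ) * ((Nat.card B : ℤ) - (blockRank p B : ℤ)) =
      ∑ᶠ x ∈ {x : G | x ≠ 1 ∧ ∃ k : ℕ, orderOf x = p ^ k},
        (Nat.card (Subgroup.centralizer ({x} : Set G)) : ℤ) *
          ((∑ᶠ e ∈ {e : Set (IrrCharacter ↥(Subgroup.centralizer ({x} : Set G))) |
              IsInducedBlock M (Subgroup.centralizer ({x} : Set G)) e B}, blockRank p e : ℕ) : ℤ) := by
  haveI : Fintype G := Fintype.ofFinite G
  haveI : ∀ x : G, Fintype (Subgroup.centralizer ({x} : Set G)) := fun x => Fintype.ofFinite _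
  have hA : ∀ χ : IrrCharacter G, SectionsFormula p (χ : G → ℂ) := by
    intro χ
    unfold SectionsFormula
    exact Cfsg.Agent.Lib.Helper38.KR.card_mul_inner_sub_eq_sum_sections hM.1 (χ : G → ℂ)
  exact brauer_kl_of hA hM B hB

end Cfsg.Agent.Lib.Helper14.KR
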