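import Cfsg.Agent.Lib.Helper57.KQSetup

/-!
The chief factor attached to a subgroup `B ≰ O_p(G)` (as in `Helper57.KQ.exists_kSetup`), found
inside a given normal subgroup `A ≤ O_p(G)` with `C_G(A) ≤ O_p(G)`; and the fact that a critical
subgroup `A` of `O_p(G)` has `C_G(A) ≤ O_p(G)` when `C_G(O_p(G)) ≤ O_p(G)`.
-/

set_option autoImplicit false

namespace Cfsg.Agent.Lib.Helper14.KSetupIn

open Cfsg Cfsg.Agent.Lib.Helper54 Cfsg.Agent.Lib.Helper16.KComm Cfsg.Agent.Lib.Helper57.KQ
open scoped commutatorElement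

variable {G : Type*} [Group G]

/-- if every `p'`-automorphism of `O_p(G)` centralizing `A` is trivial and
`C_G(O_p(G)) ≤ O_p(G)`, then `C_G(A) ≤ O_p(G)` -/
theorem centralizer_le_pCore_of_critical [Finite G] {p : ℕ} [Fact p.Prime] (A : Subgroup G)
    [hAn : A.Normal]
    (hc : Subgroup.centralizer (Cfsg.pCore p G : Set G) ≤ Cfsg.pCore p G)
    (hA5 : ∀ φ : MulAut ↥(Cfsg.pCore p G), (orderOf φ).Coprime p →
      (∀ a : ↥(Cfsg.pCore p G), (a : G) ∈ A → φ a = a) → φ = 1) :
    Subgroup.centralizer (A : Set G) ≤ Cfsg.pCore p G := by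
  have hTn : (Cfsg.pCore p G).Normal := Cfsg.Agent.Lib.Helper16.ZJ.pCore_normal p
  have hTp : IsPGroup p ↥(Cfsg.pCore p G) := Cfsg.Agent.Lib.Helper16.ZJ.pCore_isPGroup p
  have hCn : (Subgroup.centralizer (A : Set G)).Normal := Subgroup.normal_centralizer
  apply Cfsg.Agent.Lib.Helper16.ZJ.le_pCore hCn
  apply isPGroup_of_forall_coprime_eq_one
  intro g hg hgc
  have hφc : (orderOf (MulAut.conjNormal (H := Cfsg.pCore p G) g)).Coprime p :=
    Nat.Coprime.coprime_dvd_left (orderOf_map_dvd _ g) hgc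
  have hφA : ∀ a : ↥(Cfsg.pCore p G), (a : G) ∈ A →
      MulAut.conjNormal (H := Cfsg.pCore p G) g a = a := by
    intro a ha
    apply Subtype.ext
    rw [MulAut.conjNormal_apply]
    have h1 := Subgroup.mem_centralizer_iff.mp hg (a : G) ha
    rw [← h1, mul_inv_cancel_right]
  have hφ1 := hA5 _ hφc hφA
  have hgT : g ∈ Subgroup.centralizer (Cfsg.pCore p G : Set G) := by
    rw [Subgroup.mem_centralizer_iff]
    intro t ht
    have h1 : MulAut.conjNormal (H := Cfsg.pCore p G) g ⟨t, ht⟩ = ⟨t, ht⟩ := by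
      rw [hφ1]; rfl
    have h2 := congrArg Subtype.val h1
    rw [MulAut.conjNormal_apply] at h2
    have h3 : g * t = t * g := by
      have : g * t * g⁻¹ * g = t * g := by rw [h2]
      simpa using this
    exact h3.symm
  obtain ⟨k, hk⟩ := hTp ⟨g, hc hgT⟩
  have hk' : g ^ (p ^ k) = 1 := by
    have := congrArg Subtype.val hk
    simpa using this
  exact eq_one_of_coprime_of_pow_eq_one hgc hk'

/-- the data `KSetup` with the chief factor inside a prescribed normal subgroup `A` -/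
theorem exists_kSetup_le [Finite G] {p : ℕ} [Fact p.Prime] {A : Subgroup G} [hAn : A.Normal]
    (hAT : A ≤ Cfsg.pCore p G)
    (hCA : Subgroup.centralizer (A : Set G) ≤ Cfsg.pCore p G) {B : Subgroup G}
    (hBT : ¬ B ≤ Cfsg.pCore p G) : ∃ X Y N₀ : Subgroup G, KSetup p B X Y N₀ ∧ X ≤ A := by
  classical
  have hTn : (Cfsg.pCore p G).Normal := Cfsg.Agent.Lib.Helper16.ZJ.pCore_normal p
  have hTp : IsPGroup p ↥(Cfsg.pCore p G) := Cfsg.Agent.Lib.Helper16.ZJ.pCore_isPGroup p
  set T := Cfsg.pCore p G with hT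
  set M := Subgroup.normalClosure (B : Set G) with hM
  have hMn : M.Normal := Subgroup.normalClosure_normal
  have hBM : B ≤ M := Subgroup.le_normalClosure
  set N₀ := Subgroup.normalClosure {y : G | y ∈ M ∧ (orderOf y).Coprime p} with hN₀
  have hN₀n : N₀.Normal := Subgroup.normalClosure_normal
  have hN₀M : N₀ ≤ M := Subgroup.normalClosure_le_normal (fun y hy => hy.1)
  have hcop : ∀ m ∈ M, (orderOf m).Coprime p → m ∈ N₀ :=
    fun m hm hc => Subgroup.subset_normalClosure ⟨hm, hc⟩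
  have hN₀le : ∀ K : Subgroup G, K.Normal → (∀ y ∈ M, (orderOf y).Coprime p → y ∈ K) → N₀ ≤ K := by
    intro K hK h
    exact Subgroup.normalClosure_le_normal (fun y hy => h y hy.1 hy.2)
  have hCNn : (Subgroup.centralizer (N₀ : Set G)).Normal := Subgroup.normal_centralizer
  -- `N₀` does not centralize `A`
  have hAN : ¬ A ≤ Subgroup.centralizer (N₀ : Set G) := by
    intro h
    have h1 : N₀ ≤ T := (Subgroup.le_centralizer_iff.mp h).trans hCA
    have h2 : IsPGroup p ↥M := by
      apply isPGroup_of_forall_coprime_eq_one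
      intro g hg hgc
      obtain ⟨k, hk⟩ := hTp ⟨g, h1 (hcop g hg hgc)⟩
      have hk' : g ^ (p ^ k) = 1 := by
        have := congrArg Subtype.val hk
        simpa using this
      exact eq_one_of_coprime_of_pow_eq_one hgc hk'
    exact hBT (hBM.trans (Cfsg.Agent.Lib.Helper16.ZJ.le_pCore hMn h2))
  obtain ⟨X, hXA, hX⟩ := Finite.exists_le_minimal
    (p := fun Z : Subgroup G => Z.Normal ∧ Z ≤ A ∧ ¬ Z ≤ Subgroup.centralizer (N₀ : Set G))
    (a := A) ⟨hAn, le_rfl, hAN⟩
  obtain ⟨⟨hXn, -, hXN⟩, hXmin⟩ := hX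
  have hXT : X ≤ T := hXA.trans hAT
  have hYn : (X ⊓ Subgroup.centralizer (N₀ : Set G)).Normal := inferInstance
  have hne : ¬ X ≤ X ⊓ Subgroup.centralizer (N₀ : Set G) := fun h => hXN (h.trans inf_le_right)
  have hchief : ∀ Z : Subgroup G, Z.Normal → Z ≤ X →
      Z = X ∨ Z ≤ X ⊓ Subgroup.centralizer (N₀ : Set G) := by
    intro Z hZn hZX
    by_cases hZ : Z ≤ Subgroup.centralizer (N₀ : Set G)
    · right; exact le_inf hZX hZ
    · left
      exact le_antisymm hZX (hXmin ⟨hZn, hZX.trans hXA, hZ⟩ hZX)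
  have hXp : IsPGroup p ↥X := hTp.to_le hXT
  -- `⁅X, N₀⁆ = X`
  have hXN₀ : ⁅X, N₀⁆ = X := by
    have hcn : (⁅X, N₀⁆).Normal := inferInstance
    rcases hchief ⁅X, N₀⁆ hcn (Subgroup.commutator_le_left X N₀) with h | h
    · exact h
    · exfalso
      apply hXN
      rw [Subgroup.le_centralizer_iff]
      have hCXn : (Subgroup.centralizer (X : Set G)).Normal := Subgroup.normal_centralizer
      apply hN₀le _ hCXn
      intro y hy hyc
      rw [Subgroup.mem_centralizer_iff]
      intro x hx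
      have hmem : ⁅x, y⁆ ∈ ⁅X, N₀⁆ := Subgroup.commutator_mem_commutator hx (hcop y hy hyc)
      have h1 : ⁅x, y⁆ ∈ Subgroup.centralizer (N₀ : Set G) := (h hmem).2
      have hcomm : Commute ⁅x, y⁆ y :=
        (Subgroup.mem_centralizer_iff.mp h1 y (hcop y hy hyc)).symm
      have hpw : ∃ k : ℕ, ⁅x, y⁆ ^ (p ^ k) = 1 := by
        obtain ⟨k, hk⟩ := hXp ⟨⁅x, y⁆, Subgroup.commutator_le_left X N₀ hmem⟩
        refine ⟨k, ?_⟩
        have := congrArg Subtype.val hk
        simpa using this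
      have h2 := commutatorElement_eq_one_of_coprime (p := p) x y hcomm hpw hyc
      rw [commutatorElement_eq_one_iff_commute] at h2
      exact h2.eq
  have hYN : X ⊓ Subgroup.centralizer (N₀ : Set G) ≤ Subgroup.centralizer (N₀ : Set G) :=
    inf_le_right
  -- `Y` is central in `X`
  have hXY : ⁅X, X ⊓ Subgroup.centralizer (N₀ : Set G)⁆ = ⊥ := by
    have h1 : ⁅⁅N₀, X ⊓ Subgroup.centralizer (N₀ : Set G)⁆, X⁆ = ⊥ := by
      have : ⁅N₀, X ⊓ Subgroup.centralizer (N₀ : Set G)⁆ = ⊥ := by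
        rw [Subgroup.commutator_comm, Subgroup.commutator_eq_bot_iff_le_centralizer]
        exact hYN
      rw [this]
      exact Subgroup.commutator_bot_left X
    have h2 : ⁅⁅X ⊓ Subgroup.centralizer (N₀ : Set G), X⁆, N₀⁆ = ⊥ := by
      rw [Subgroup.commutator_eq_bot_iff_le_centralizer]
      exact (Subgroup.commutator_le_left _ X).trans hYN
    have h3 := Subgroup.commutator_commutator_eq_bot_of_rotate h1 h2
    rw [hXN₀] at h3
    exact h3
  -- `⁅X, T⁆ ≤ Y`
  have hXTY : ⁅X, T⁆ ≤ X ⊓ Subgroup.centralizer (N₀ : Set G) := by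
    have hcn : (⁅X, T⁆).Normal := inferInstance
    rcases hchief ⁅X, T⁆ hcn (Subgroup.commutator_le_left X T) with h | h
    · exfalso
      have hall : ∀ c, iterCommutator X T c = X := by
        intro c
        induction c with
        | zero => rfl
        | succ c ih =>
          show ⁅iterCommutator X T c, T⁆ = X
          rw [ih, h]
      obtain ⟨c, hc'⟩ := iter_eq_bot_of_pgroup hTp hXT (le_refl T)
      rw [hall c] at hc'
      apply hne
      rw [hc']
      exact bot_le
    · exact h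
  -- `B` does not centralize `X / Y`
  have hnB : ¬ ⁅X, B⁆ ≤ X ⊓ Subgroup.centralizer (N₀ : Set G) := by
    intro h
    have h1 : B ≤ cmod X (X ⊓ Subgroup.centralizer (N₀ : Set G)) := by
      rw [le_cmod_iff, Subgroup.commutator_comm]
      exact h
    have h2 : M ≤ cmod X (X ⊓ Subgroup.centralizer (N₀ : Set G)) :=
      Subgroup.normalClosure_le_normal h1
    have h3 := (le_cmod_iff _ _ _).mp (hN₀M.trans h2)
    rw [Subgroup.commutator_comm, hXN₀] at h3
    exact hne h3
  exact ⟨X, X ⊓ Subgroup.centralizer (N₀ : Set G), N₀,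
    ⟨hXn, hYn, hN₀n, hXT, inf_le_left, hne, hchief, hYN, hXY, hXTY, hnB, hN₀M, hcop⟩, hXA⟩

end Cfsg.Agent.Lib.Helper14.KSetupIn
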