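import Cfsg.Agent.Lib.Helper94.LCDefs

/-!
# K-LC-B2 (keystone 640602, S0406 pack of helper94): Parseval for a frame
-/

set_option autoImplicit false
open Matrix

namespace Cfsg.Agent.Lib.Helper14.LC

open Cfsg.Agent.Lib.Helper94.LC

theorem bf_comm (B : Matrix (Fin 24) (Fin 24) ℤ) (hsymm : B.IsSymm) (x y : Fin 24 → ℤ) :
    bf B x y = bf B y x := by
  unfold bf
  rw [Matrix.dotProduct_mulVec, ← Matrix.mulVec_transpose, hsymm.eq, dotProduct_comm]

theorem ssq_eq_dot (v : Fin 24 → ℤ) : ssq v = v ⬝ᵥ v := by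
  unfold ssq dotProduct
  exact Finset.sum_congr rfl (fun i _ => pow_two _)

theorem parseval (B : Matrix (Fin 24) (Fin 24) ℤ) (hsymm : B.IsSymm) (e : Fin 24 → (Fin 24 → ℤ))
    (he : IsFrame B e) (x : Fin 24 → ℤ) : ssq (coord B e x) = 8 * bf B x x := by
  set E : Matrix (Fin 24) (Fin 24) ℤ := Matrix.of e with hE
  have hrow : ∀ i, (E * B) i = e i ᵥ* B := fun i => Matrix.mul_apply_eq_vecMul E B i
  have h1 : E * B * Eᵀ = (8 : ℤ) • (1 : Matrix (Fin 24) (Fin 24) ℤ) := by
    ext i j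
    have h3 : (E * B * Eᵀ) i j = bf B (e i) (e j) := by
      rw [Matrix.mul_apply']
      have h5 : (fun k => Eᵀ k j) = e j := by
        funext k
        rfl
      rw [h5]
      show (E * B) i ⬝ᵥ e j = bf B (e i) (e j)
      rw [hrow i]
      unfold bf
      rw [Matrix.dotProduct_mulVec]
    rw [h3, Matrix.smul_apply, Matrix.one_apply, smul_eq_mul]
    by_cases hij : i = j
    · subst hij
      rw [he.norm, if_pos rfl, mul_one]
    · rw [he.orth i j hij, if_neg hij, mul_zero]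
  -- the other product, via `ℚ`
  have h2 : Eᵀ * (E * B) = (8 : ℤ) • (1 : Matrix (Fin 24) (Fin 24) ℤ) := by
    let f : ℤ →+* ℚ := Int.castRingHom ℚ
    have hmap8 : ((8 : ℤ) • (1 : Matrix (Fin 24) (Fin 24) ℤ)).map f =
        (8 : ℚ) • (1 : Matrix (Fin 24) (Fin 24) ℚ) := by
      ext i j
      rw [Matrix.map_apply, Matrix.smul_apply, Matrix.smul_apply, Matrix.one_apply, Matrix.one_apply]
      by_cases hij : i = j
      · rw [if_pos hij, if_pos hij]; simp [f]
      · rw [if_neg hij, if_neg hij]; simp [f]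
    have hq : (E * B).map f * ((8 : ℚ)⁻¹ • Eᵀ.map f) = 1 := by
      rw [Matrix.mul_smul, ← Matrix.map_mul, h1, hmap8, smul_smul]
      norm_num
    have hq' := mul_eq_one_comm.mp hq
    rw [Matrix.smul_mul, ← Matrix.map_mul, inv_smul_eq_iff₀ (by norm_num : (8 : ℚ) ≠ 0), ← hmap8] at hq'
    exact Matrix.map_injective (Int.cast_injective (α := ℚ)) hq'
  have hcoord : (coord B e x : Fin 24 → ℤ) = (E * B) *ᵥ x := by
    funext i
    show bf B x (e i) = ((E * B) *ᵥ x) i
    rw [bf_comm B hsymm]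
    unfold bf
    show _ = (E * B) i ⬝ᵥ x
    rw [hrow i, Matrix.dotProduct_mulVec]
  have hMM : (E * B)ᵀ * (E * B) = (8 : ℤ) • B := by
    rw [Matrix.transpose_mul, hsymm.eq, Matrix.mul_assoc, h2, Matrix.mul_smul, Matrix.mul_one]
  rw [ssq_eq_dot, hcoord, Matrix.dotProduct_mulVec, ← Matrix.mulVec_transpose, Matrix.mulVec_mulVec,
    hMM, Matrix.smul_mulVec, smul_dotProduct, smul_eq_mul, dotProduct_comm]
  rfl

end Cfsg.Agent.Lib.Helper14.LC
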