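import Mathlib
import Cfsg.Agent.Lib.Helper56.NSE3Defs

/-! K-NSE3 leaf L05c `pair_value` (S3996 pack, architect helper56). -/

set_option autoImplicit false

namespace Cfsg.Agent.Lib.Helper14.NSE3

open Cfsg.Agent.S3995 (s)
open Cfsg.Agent.Lib.Helper56.NSE3 (Hyp)

variable {G : Type*} [Group G] [Finite G]

/-- L05c the pairing value (group level), from `pair`. -/
theorem pair_value
    (hpair : ∀ {p k : ℕ}, p.Prime → ¬ p ∣ k → p * k ∣ Nat.card G → p ∣ s G k + s G (p * k))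
    {μ ν : ℕ} (H : Hyp G μ ν) {p q : ℕ} (hp : p.Prime) (hq : q.Prime)
    (hp2 : p ≠ 2) (hq2 : q ≠ 2) (hpq : p ≠ q) (hpG : p ∣ Nat.card G) (hqG : q ∣ Nat.card G)
    (hμp : p ∣ μ + 1) (hμq : q ∣ μ + 1) (hνp : (p : ℤ) ∣ (ν : ℤ) - 1)
    (hνq : (q : ℤ) ∣ (ν : ℤ) - 1) (hμ2 : 2 ≤ μ) (hν2 : 2 ≤ ν)
    (k : ℕ) (hk : k ∣ Nat.card G) (hkp : ¬ p ∣ k) (hkq : ¬ q ∣ k) :
    s G (p * k) + s G (p * q * k) = if s G k = 0 then 0 else μ + ν := by
  have hk0 : k ≠ 0 := by
    rintro rfl
    exact hkp (dvd_zero p)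
  have hk1 : 1 ≤ k := Nat.one_le_iff_ne_zero.2 hk0
  have hp3 : 3 ≤ p := by
    have := hp.two_le
    omega
  have hq1 : 1 ≤ q := hq.one_lt.le
  have hpk2 : 2 < p * k := by
    calc 2 < p := by omega
      _ ≤ p * k := Nat.le_mul_of_pos_right p hk1
  have hpqk2 : 2 < p * q * k := by
    calc 2 < p := by omega
      _ ≤ p * q := Nat.le_mul_of_pos_right p hq1
      _ ≤ p * q * k := Nat.le_mul_of_pos_right (p * q) hk1
  by_cases hsk : s G k = 0
  · -- no element of order `k`, hence none of order `p k`, `p q k`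
    rw [if_pos hsk]
    have h1 : s G (p * k) = 0 := by
      by_contra hne
      obtain ⟨g, hg⟩ := (Cfsg.Agent.S3995.s_ne_zero_iff (G := G) (p * k)).1 hne
      obtain ⟨x, hx⟩ := Cfsg.Agent.S3995.exists_orderOf_of_dvd (dvd_mul_left k p) g hg
      exact (Cfsg.Agent.S3995.s_ne_zero_iff (G := G) k).2 ⟨x, hx⟩ hsk
    have h2 : s G (p * q * k) = 0 := by
      by_contra hne
      obtain ⟨g, hg⟩ := (Cfsg.Agent.S3995.s_ne_zero_iff (G := G) (p * q * k)).1 hne
      obtain ⟨x, hx⟩ := Cfsg.Agent.S3995.exists_orderOf_of_dvd (dvd_mul_left k (p * q)) g hg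
      exact (Cfsg.Agent.S3995.s_ne_zero_iff (G := G) k).2 ⟨x, hx⟩ hsk
    rw [h1, h2]
  · rw [if_neg hsk]
    -- integer versions of the congruences
    have Ap : (p : ℤ) ∣ (μ : ℤ) + 1 := by exact_mod_cast hμp
    have Aq : (q : ℤ) ∣ (μ : ℤ) + 1 := by exact_mod_cast hμq
    have n1p := Cfsg.Agent.S3995.not_dvd_one hp
    have n1q := Cfsg.Agent.S3995.not_dvd_one hq
    have n2q := Cfsg.Agent.S3995.not_dvd_two hq hq2
    -- divisibilities
    have hcop : Nat.Coprime p k := (Nat.Prime.coprime_iff_not_dvd hp).2 hkp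
    have hpkG : p * k ∣ Nat.card G := Nat.Coprime.mul_dvd_of_dvd_of_dvd hcop hpG hk
    have hqpk : ¬ q ∣ p * k := by
      intro h
      rcases (Nat.Prime.dvd_mul hq).1 h with h | h
      · exact hpq ((Nat.prime_dvd_prime_iff_eq hq hp).1 h).symm
      · exact hkq h
    have hcoq : Nat.Coprime q (p * k) := (Nat.Prime.coprime_iff_not_dvd hq).2 hqpk
    have hqpkG : q * (p * k) ∣ Nat.card G := Nat.Coprime.mul_dvd_of_dvd_of_dvd hcoq hqG hpkG
    have P1 : (p : ℤ) ∣ (s G k : ℤ) + (s G (p * k) : ℤ) := by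
      exact_mod_cast hpair hp hkp hpkG
    have Q1 : (q : ℤ) ∣ (s G (p * k) : ℤ) + (s G (p * q * k) : ℤ) := by
      have := hpair hq hqpk hqpkG
      have e : q * (p * k) = p * q * k := by ring
      rw [e] at this
      exact_mod_cast this
    -- `s (p k) ≠ 0`
    have hspk0 : s G (p * k) ≠ 0 := by
      intro h0
      rw [h0] at P1
      simp only [Nat.cast_zero, add_zero] at P1
      rcases H k with h | h | h | h
      · exact hsk h
      · rw [h] at P1; exact n1p (by simpa using P1)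
      · rw [h] at P1
        exact n1p (Cfsg.Agent.S3995.dvd_lin (-1) 1 1 P1 Ap (by ring))
      · rw [h] at P1
        exact n1p (Cfsg.Agent.S3995.dvd_lin 1 (-1) 1 P1 hνp (by ring))
    have hspk1 : s G (p * k) ≠ 1 := by
      obtain ⟨g, hg⟩ := (Cfsg.Agent.S3995.s_ne_zero_iff (G := G) (p * k)).1 hspk0
      have := Cfsg.Agent.S3995.two_le_s hpk2 g hg
      omega
    have hspqk1 : s G (p * q * k) ≠ 1 := by
      intro h1
      have hne : s G (p * q * k) ≠ 0 := by rw [h1]; exact one_ne_zero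
      obtain ⟨g, hg⟩ := (Cfsg.Agent.S3995.s_ne_zero_iff (G := G) (p * q * k)).1 hne
      have := Cfsg.Agent.S3995.two_le_s hpqk2 g hg
      omega
    rcases H (p * k) with h | h | h | h
    · exact absurd h hspk0
    · exact absurd h hspk1
    · -- `s (p k) = μ`
      rw [h] at Q1
      rcases H (p * q * k) with h' | h' | h' | h'
      · rw [h'] at Q1
        simp only [Nat.cast_zero, add_zero] at Q1
        exact absurd (Cfsg.Agent.S3995.dvd_lin (-1) 1 1 Q1 Aq (by ring)) n1q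
      · exact absurd h' hspqk1
      · rw [h'] at Q1
        exact absurd (Cfsg.Agent.S3995.dvd_lin (-1) 2 2 Q1 Aq (by ring)) n2q
      · rw [h, h']
    · -- `s (p k) = ν`
      rw [h] at Q1
      rcases H (p * q * k) with h' | h' | h' | h'
      · rw [h'] at Q1
        simp only [Nat.cast_zero, add_zero] at Q1
        exact absurd (Cfsg.Agent.S3995.dvd_lin 1 (-1) 1 Q1 hνq (by ring)) n1q
      · exact absurd h' hspqk1
      · rw [h, h', add_comm]
      · rw [h'] at Q1
        exact absurd (Cfsg.Agent.S3995.dvd_lin 1 (-2) 2 Q1 hνq (by ring)) n2q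

end Cfsg.Agent.Lib.Helper14.NSE3
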