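import Cfsg.Agent.Lib.Helper49.OElDefs
import Cfsg.Agent.Lib.Helper68.OTsO12
import Cfsg.Agent.Lib.Helper94.OhPK2
import Cfsg.Agent.Lib.Helper86.OElAR1M
import Cfsg.Agent.Lib.Helper28.OElN
import Cfsg.Agent.Lib.Helper98.Elus3
import Cfsg.Agent.Lib.Helper98.Sy4

/-!
# K-OEl-CM (keystone 598822, row S5990, architect helper49): the case `r` odd, `r ≠ p` for the minus type group.

`case_odd_ellM_of` is the CASE GLUE with the leaves of the pack that were not on main when this file was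
written as hypotheses (BRM, K1, AR2M, D3t, FC0t, FC1t, FC2t), each in the form in which it is used; the leaves
AR1M (`Helper86.OEl.arith_fix_ellM`), N (`Helper28.OEl.exists_normalized_gen`), K-OhP K2 (`Helper94.OhP.order_cases`) and
K-OTs O12 (`Helper68.OTs.transport_minus_q`) are cited directly.
-/

set_option autoImplicit false
set_option linter.unusedVariables false
set_option linter.unusedSectionVars false
set_option linter.style.haveILetI false
set_option maxHeartbeats 1600000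

namespace Cfsg.Agent.Lib.Helper14.OEl

open Module Cfsg.Agent.Lib.Helper98.Elus Cfsg.Agent.Lib.Helper98.Sy Cfsg.Agent.Lib.Helper38.OhP
  Cfsg.Agent.Lib.Helper49.OEl

universe u
variable {F : Type u} [Field F]

/-- the index type of `quadFormMinus (d - 1)` -/
abbrev IM (d : ℕ) : Type := (Fin (d - 1) ⊕ Fin (d - 1)) ⊕ Fin 2

/-- a lone factor `q ^ B + 1` -/
theorem order_plus_one (q r B : ℕ) [Fact r.Prime] (hr2 : r ≠ 2) (hq : ¬ r ∣ q) (h : r ∣ q ^ B + 1) :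
    Even (orderOf (q : ZMod r)) ∧ B % orderOf (q : ZMod r) = orderOf (q : ZMod r) / 2 := by
  have hrP : r.Prime := Fact.out
  rcases Cfsg.Agent.Lib.Helper94.OhP.order_cases q r B B hr2 hq (Dvd.dvd.mul_left h _) with h1 | h1
  · exfalso
    have h2 : ((q : ZMod r)) ^ B = 1 := orderOf_dvd_iff_pow_eq_one.mp h1
    have h3 : ((q ^ B + 1 : ℕ) : ZMod r) = 0 := (ZMod.natCast_eq_zero_iff _ _).mpr h
    rw [Nat.cast_add, Nat.cast_pow, h2, Nat.cast_one] at h3
    have h4 : ((2 : ℕ) : ZMod r) = 0 := by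
      rw [Nat.cast_ofNat, ← h3]
      norm_num
    have h5 := (ZMod.natCast_eq_zero_iff 2 r).mp h4
    exact hr2 ((Nat.prime_dvd_prime_iff_eq hrP Nat.prime_two).mp h5)
  · exact h1

/-- a lone factor `q ^ A - 1` -/
theorem order_minus_one (q r A : ℕ) [Fact r.Prime] (hr2 : r ≠ 2) (hq : ¬ r ∣ q) (h : r ∣ q ^ A - 1) :
    orderOf (q : ZMod r) ∣ A := by
  have hrP : r.Prime := Fact.out
  have hqpos : 0 < q := by
    rcases Nat.eq_zero_or_pos q with h0 | h0
    · exfalso; apply hq; rw [h0]; exact dvd_zero r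
    · exact h0
  have h1 : 1 ≤ q ^ A := Nat.one_le_pow _ _ hqpos
  have h3 : ((q ^ A - 1 : ℕ) : ZMod r) = 0 := (ZMod.natCast_eq_zero_iff _ _).mpr h
  rw [Nat.cast_sub h1, Nat.cast_pow, Nat.cast_one, sub_eq_zero] at h3
  exact orderOf_dvd_iff_pow_eq_one.mpr h3

theorem finrank_IM (d : ℕ) (hd : 1 ≤ d) : finrank F (IM d → F) = 2 * d := by
  rw [Module.finrank_fintype_fun_eq_card]
  simp only [IM, Fintype.card_sum, Fintype.card_fin]
  omega

/-- the count in terms of the order of `q` modulo `r` -/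
theorem countM_of_dvd (q r d e : ℕ) [Fact r.Prime] (hr2 : r ≠ 2) (hq : ¬ r ∣ q) (he : 1 ≤ e) (hed : e < d)
    (h : (∃ j : ℕ, j + 1 < e ∧ r ∣ (q ^ (d - j) + 1) * (q ^ (d - j - 1) - 1)) ∨
        r ∣ (q ^ (d - e + 1) + 1) * (q ^ (d - e) + 1) ∨ r ∣ q - 1) :
    CountM (orderOf (q : ZMod r)) d e := by
  have hrP : r.Prime := Fact.out
  unfold CountM
  rcases h with ⟨j, hj, hdvd⟩ | h | h
  · left
    refine ⟨j, hj, ?_⟩
    apply Cfsg.Agent.Lib.Helper94.OhP.order_cases q r (d - j - 1) (d - j) hr2 hq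
    rw [mul_comm]
    exact hdvd
  · right; left
    have hde : d - e + 1 = d - (e - 1) := by omega
    rw [hde] at h
    rcases (Nat.Prime.dvd_mul hrP).mp h with h1 | h1
    · have := order_plus_one q r _ hr2 hq h1
      exact ⟨this.1, Or.inl this.2⟩
    · have := order_plus_one q r _ hr2 hq h1
      exact ⟨this.1, Or.inr this.2⟩
  · right; right
    have h1 : r ∣ q ^ 1 - 1 := by rw [pow_one]; exact h
    have h2 := order_minus_one q r 1 hr2 hq h1
    exact Nat.dvd_one.mp h2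

/-- transport of a subspace along an isometry `E` intertwining `toLin' x` and `y` -/
theorem transport_sub {V : Type u} [AddCommGroup V] [Module F V] [FiniteDimensional F V] (d : ℕ) (a b : F)
    (Q : QuadraticForm F V) (y : V →ₗ[F] V) (g : (IM d → F) →ₗ[F] (IM d → F))
    (E : (IM d → F) ≃ₗ[F] V) (hE1 : ∀ w, E (g w) = y (E w))
    (hE2 : ∀ w, Q (E w) = Cfsg.quadFormMinus (d - 1) F a b w)
    (W : Submodule F (IM d → F)) (hmap : W.map g ≤ W) (hWnd : NonDeg (pB (QM d F a b)) W)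
    (hWnp : ¬ PlusQ (QM d F a b) W) :
    Inv y (W.map (E : (IM d → F) →ₗ[F] V)) ∧ NonDeg (pB Q) (W.map (E : (IM d → F) →ₗ[F] V)) ∧
      finrank F (W.map (E : (IM d → F) →ₗ[F] V)) = finrank F W ∧
      ¬ PlusQ Q (W.map (E : (IM d → F) →ₗ[F] V)) := by
  have hQE : ∀ w, Q (E w) = QM d F a b w := fun w => hE2 w
  have hpB : ∀ u w : IM d → F, pB Q (E u) (E w) = pB (QM d F a b) u w := by
    intro u w
    rw [pB_apply, pB_apply, ← map_add, hQE, hQE, hQE]
  refine ⟨?_, ?_, LinearEquiv.finrank_map_eq E W, ?_⟩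
  · rintro _ ⟨w, hw, rfl⟩
    refine ⟨g w, hmap ⟨w, hw, rfl⟩, ?_⟩
    exact hE1 w
  · rintro _ ⟨u, hu, rfl⟩ h0
    have hu0 : u = 0 := by
      apply hWnd u hu
      intro w hw
      have := h0 (E w) ⟨w, hw, rfl⟩
      rw [LinearEquiv.coe_coe, hpB] at this
      exact this
    rw [hu0, map_zero]
  · rintro ⟨U, hUW, hU0, hUd⟩
    apply hWnp
    refine ⟨U.map (E.symm : V →ₗ[F] (IM d → F)), ?_, ?_, ?_⟩
    · rintro _ ⟨u, hu, rfl⟩
      obtain ⟨w, hw, hwu⟩ := hUW hu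
      rw [← hwu]
      simp only [LinearEquiv.coe_coe, LinearEquiv.symm_apply_apply]
      exact hw
    · rintro _ ⟨u, hu, rfl⟩
      rw [LinearEquiv.coe_coe, ← hQE, LinearEquiv.apply_symm_apply]
      exact hU0 u hu
    · rw [LinearEquiv.finrank_map_eq E.symm U, hUd, LinearEquiv.finrank_map_eq E W]

/-- **K-OEl-CM (598822)** with the leaves that are not yet on main as hypotheses. -/
theorem case_odd_ellM_of [Fintype F] {p : ℕ} [Fact p.Prime] [CharP F p] (d m : ℕ) (hd : 4 ≤ d) (hm : 2 ≤ m)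
    (hme : Even m) (hmn : m + 2 ≤ 2 * d) (a b : F)
    (hab : ∀ x y : F, x ^ 2 + a * x * y + b * y ^ 2 = 0 → x = 0 ∧ y = 0)
    (r : ℕ) [Fact r.Prime] (hrp : r ≠ p) (hr2 : r ≠ 2)
    (hrΩ : r ∣ Nat.card {W : Submodule F (IM d → F) // IsEllM d a b m W})
    -- BRM
    (hBq : ∀ x : GL (IM d) F, x ∈ Cfsg.Geo.omegaGL (Cfsg.quadFormMinus (d - 1) F a b) →
      QIso (QM d F a b) (Matrix.toLin' (x : Matrix (IM d) (IM d) F)))
    (hBe : ∀ W : Submodule F (IM d → F),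
      IsEllM d a b m W ↔ (finrank F W = m ∧ NonDeg (pB (QM d F a b)) W ∧ ¬ PlusQ (QM d F a b) W))
    (hBn : NonDeg (pB (QM d F a b)) ⊤)
    (hBp : ¬ PlusQ (QM d F a b) ⊤)
    (hBz : ∃ v, QM d F a b v ≠ 0)
    -- K1 (for `QM`, minus branch)
    (hK1 : (r : F) ≠ 0 → ∀ e : ℕ, 1 ≤ e → e < d →
      r ∣ Nat.card {W : Submodule F (IM d → F) //
        finrank F W = 2 * e ∧ NonDeg (pB (QM d F a b)) W ∧ ¬ PlusQ (QM d F a b) W} →
      (∃ j : ℕ, j + 1 < e ∧ r ∣ (Fintype.card F ^ (d - j) + 1) * (Fintype.card F ^ (d - j - 1) - 1)) ∨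
        r ∣ (Fintype.card F ^ (d - e + 1) + 1) * (Fintype.card F ^ (d - e) + 1) ∨ r ∣ Fintype.card F - 1)
    -- AR2M
    (hAR2 : ∀ i c : ℕ, 0 < i → c = cOf i → CountM i d (m / 2) → ¬ RhsOddM i c d m →
      ∃ T : ℕ, 1 ≤ T ∧ T * c ≤ 2 * d ∧ (0 < 2 * d - T * c ∨ (False ↔ tPlus i T)) ∧
        ∀ j : ℕ, j ≤ T → j * c ≤ m → ¬ GoodT False False i c T (2 * d - T * c) m j)
    -- D3t (for `ε := False`)
    (hD3 : ∀ f : ℕ, Fintype.card F = p ^ f → (r : F) ≠ 0 → ∀ i c : ℕ,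
      i = orderOf ((Fintype.card F : ℕ) : ZMod r) → c = cOf i → ∀ T k : ℕ, 1 ≤ T → Even k →
      (0 < k ∨ (False ↔ tPlus i T)) →
      ∃ (V : Type u) (_ : AddCommGroup V) (_ : Module F V) (_ : FiniteDimensional F V)
        (Q : QuadraticForm F V) (y : V →ₗ[F] V),
        NonDeg (pB Q) ⊤ ∧ (PlusQ Q ⊤ ↔ False) ∧ QIso Q y ∧ y ^ r = 1 ∧ (∀ z : F, y ≠ z • 1) ∧
        finrank F V = T * c + k ∧ finrank F (V1 r y) = T * c ∧ finrank F (V0 y) = k)
    -- FC1t (generic space)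
    (hFC1 : ∀ f : ℕ, Fintype.card F = p ^ f → (r : F) ≠ 0 → ∀ i c : ℕ,
      i = orderOf ((Fintype.card F : ℕ) : ZMod r) → c = cOf i →
      ∀ (V : Type u) [AddCommGroup V] [Module F V] [FiniteDimensional F V] (Q : QuadraticForm F V),
      NonDeg (pB Q) ⊤ → ∀ y : V →ₗ[F] V, y ^ r = 1 → QIso Q y → ∀ T k : ℕ,
      finrank F (V1 r y) = T * c → finrank F (V0 y) = k → finrank F V = 2 * d →
      ∀ W : Submodule F V, Inv y W → NonDeg (pB Q) W → finrank F W = m →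
      ∃ j : ℕ, j ≤ T ∧ j * c ≤ m ∧ GoodT (PlusQ Q ⊤) (PlusQ Q W) i c T k m j)
    -- FC0t (for `QM`)
    (hFC0 : ∀ f : ℕ, Fintype.card F = p ^ f → (r : F) ≠ 0 → ∀ i c : ℕ,
      i = orderOf ((Fintype.card F : ℕ) : ZMod r) → c = cOf i →
      ∀ y : (IM d → F) →ₗ[F] (IM d → F), y ^ r = 1 → y ≠ 1 → QIso (QM d F a b) y →
      ∃ T : ℕ, 1 ≤ T ∧ T * c ≤ 2 * d ∧ finrank F (V1 r y) = T * c ∧ finrank F (V0 y) = 2 * d - T * c ∧
        (0 < 2 * d - T * c ∨ (PlusQ (QM d F a b) ⊤ ↔ tPlus i T)))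
    -- FC2t (for `QM`, `τ := False`)
    (hFC2 : ∀ f : ℕ, Fintype.card F = p ^ f → (r : F) ≠ 0 → ∀ i c : ℕ,
      i = orderOf ((Fintype.card F : ℕ) : ZMod r) → c = cOf i →
      ∀ y : (IM d → F) →ₗ[F] (IM d → F), y ^ r = 1 → QIso (QM d F a b) y → ∀ T k : ℕ,
      finrank F (V1 r y) = T * c → finrank F (V0 y) = k → ∀ j : ℕ, j ≤ T → j * c ≤ m →
      GoodT (PlusQ (QM d F a b) ⊤) False i c T k m j →
      ∃ W : Submodule F (IM d → F), Inv y W ∧ NonDeg (pB (QM d F a b)) W ∧ finrank F W = m ∧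
        (PlusQ (QM d F a b) W ↔ False)) :
    (∀ x : GL (IM d) F, x ∈ Cfsg.Geo.omegaGL (Cfsg.quadFormMinus (d - 1) F a b) →
      (∃ z : F, ((x ^ r : GL (IM d) F) : Matrix (IM d) (IM d) F) = z • (1 : Matrix (IM d) (IM d) F)) →
      (∀ z : F, (x : Matrix (IM d) (IM d) F) ≠ z • (1 : Matrix (IM d) (IM d) F)) →
      ∃ W : Submodule F (IM d → F), IsEllM d a b m W ∧
        W.map (Matrix.toLin' (x : Matrix (IM d) (IM d) F)) ≤ W) ↔
    RhsOddM (orderOf ((Fintype.card F : ℕ) : ZMod r)) (cOf (orderOf ((Fintype.card F : ℕ) : ZMod r))) d m := by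
  classical
  have hrP : r.Prime := Fact.out
  have hpP : p.Prime := Fact.out
  obtain ⟨f, _, hF⟩ := FiniteField.card F p
  have hpr : p ≠ r := Ne.symm hrp
  have hrodd : Odd r := hrP.odd_of_ne_two hr2
  have hrF : (r : F) ≠ 0 := by
    intro h
    rw [CharP.cast_eq_zero_iff F p] at h
    exact hrp ((Nat.prime_dvd_prime_iff_eq hpP hrP).mp h).symm
  have hipos : 0 < orderOf ((Fintype.card F : ℕ) : ZMod r) := orderOf_card_pos p f hF r hpr
  have hce : Even (cOf (orderOf ((Fintype.card F : ℕ) : ZMod r))) := cOf_even _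
  have hrq : ¬ r ∣ Fintype.card F := by
    rw [hF]
    intro h
    exact hrp ((Nat.prime_dvd_prime_iff_eq hrP hpP).mp (hrP.dvd_of_dvd_pow h))
  constructor
  · intro hL
    by_contra hRn
    have hm2 : m = 2 * (m / 2) := by
      obtain ⟨k, hk⟩ := hme
      omega
    have hcard : r ∣ Nat.card {W : Submodule F (IM d → F) //
        finrank F W = 2 * (m / 2) ∧ NonDeg (pB (QM d F a b)) W ∧ ¬ PlusQ (QM d F a b) W} := by
      have e : {W : Submodule F (IM d → F) // IsEllM d a b m W} ≃ {W : Submodule F (IM d → F) //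
          finrank F W = 2 * (m / 2) ∧ NonDeg (pB (QM d F a b)) W ∧ ¬ PlusQ (QM d F a b) W} :=
        Equiv.subtypeEquivRight (fun W => by rw [hBe W, ← hm2])
      rw [← Nat.card_congr e]
      exact hrΩ
    have hk1 := hK1 hrF (m / 2) (by omega) (by omega) hcard
    have hw : CountM (orderOf ((Fintype.card F : ℕ) : ZMod r)) d (m / 2) :=
      countM_of_dvd (Fintype.card F) r d (m / 2) hr2 hrq (by omega) (by omega) hk1
    obtain ⟨T, hT1, hTn, hal, hno⟩ := hAR2 _ _ hipos rfl hw hRn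
    have hke : Even (2 * d - T * cOf (orderOf ((Fintype.card F : ℕ) : ZMod r))) := by
      rw [Nat.even_sub hTn]
      constructor
      · intro _
        exact Even.mul_left hce T
      · intro _
        exact even_two_mul d
    obtain ⟨V, _, _, _, Q, y, hV, hVp', hiso, hy, hns, hdim, hV1, hV0⟩ :=
      hD3 f hF hrF _ _ rfl rfl T _ hT1 hke hal
    have hdim' : finrank F V = 2 * d := by omega
    obtain ⟨x, hxΩ, hxr, hxns, E, hE1, hE2⟩ := Cfsg.Agent.Lib.Helper68.OTs.transport_minus_q r hrodd d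
      (by omega) a b hab Q hV hdim' (fun h => hVp'.mp h) y hiso hy hns
    obtain ⟨W, hW, hmap⟩ := hL x hxΩ ⟨1, hxr⟩ hxns
    obtain ⟨hWd, hWnd, hWnp⟩ := (hBe W).mp hW
    obtain ⟨hW'inv, hW'nd, hW'd, hW'np⟩ := transport_sub d a b Q y _ E hE1 hE2 W hmap hWnd hWnp
    obtain ⟨j, hjT, hjm, hg⟩ := hFC1 f hF hrF _ _ rfl rfl V Q hV y hy hiso T _ hV1 hV0 hdim' _ hW'inv hW'nd
      (hW'd.trans hWd)
    rw [eq_false hW'np, eq_false (fun h => hVp'.mp h)] at hg
    exact hno j hjT hjm hg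
  · intro hRo x hxΩ hz hns
    obtain ⟨z, hz⟩ := hz
    have hq := hBq x hxΩ
    obtain ⟨y, hyiso, hyr, hy1, hyW⟩ := Cfsg.Agent.Lib.Helper28.OEl.exists_normalized_gen (QM d F a b) hBz r hrodd x
      hq z hz hns
    obtain ⟨T, hT1, hTn, hV1, hV0, hal⟩ := hFC0 f hF hrF _ _ rfl rfl y hyr hy1 hyiso
    have hal' : 0 < 2 * d - T * cOf (orderOf ((Fintype.card F : ℕ) : ZMod r)) ∨
        (False ↔ tPlus (orderOf ((Fintype.card F : ℕ) : ZMod r)) T) := by
      rcases hal with h | h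
      · exact Or.inl h
      · exact Or.inr ⟨False.elim, fun ht => hBp (h.mpr ht)⟩
    obtain ⟨j, hjT, hjm, hg⟩ := Cfsg.Agent.Lib.Helper86.OEl.arith_fix_ellM _ _ d m T hipos rfl hd hm hme hmn hT1 hTn
      hal' hRo
    have hg' : GoodT (PlusQ (QM d F a b) ⊤) False (orderOf ((Fintype.card F : ℕ) : ZMod r))
        (cOf (orderOf ((Fintype.card F : ℕ) : ZMod r))) T
        (2 * d - T * cOf (orderOf ((Fintype.card F : ℕ) : ZMod r))) m j := by
      rw [eq_false hBp]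
      exact hg
    obtain ⟨W, hWinv, hWnd, hWd, hWp⟩ := hFC2 f hF hrF _ _ rfl rfl y hyr hyiso T _ hV1 hV0 j hjT hjm hg'
    exact ⟨W, (hBe W).mpr ⟨hWd, hWnd, fun h => hWp.mp h⟩, hyW W hWinv⟩

end Cfsg.Agent.Lib.Helper14.OEl
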