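import Cfsg.Agent.Lib.Helper14.OElCM
import Cfsg.Agent.Lib.Helper64.OElBRM
import Cfsg.Agent.Lib.Helper84.OElK1x
import Cfsg.Agent.Lib.Helper60.OElAR2M
import Cfsg.Agent.Lib.Helper80.OElD3t
import Cfsg.Agent.Lib.Helper30.OElFC1t
import Cfsg.Agent.Lib.Helper66.OElFC0t
import Cfsg.Agent.Lib.Helper89.OElFC2t

/-!
# K-OEl-CM (keystone 598822): `case_odd_ellM` with the EXACT spec signature (all leaves of the pack plugged in).
-/

set_option autoImplicit false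
set_option linter.unusedVariables false
set_option maxHeartbeats 1600000

namespace Cfsg.Agent.Lib.Helper14.OEl

open Module Cfsg.Agent.Lib.Helper98.Elus Cfsg.Agent.Lib.Helper98.Sy Cfsg.Agent.Lib.Helper38.OhP
  Cfsg.Agent.Lib.Helper49.OEl

universe u
variable {F : Type u} [Field F]

theorem case_odd_ellM [Fintype F] {p : ℕ} [Fact p.Prime] [CharP F p] (d m : ℕ) (hd : 4 ≤ d) (hm : 2 ≤ m)
    (hme : Even m) (hmn : m + 2 ≤ 2 * d) (a b : F)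
    (hab : ∀ x y : F, x ^ 2 + a * x * y + b * y ^ 2 = 0 → x = 0 ∧ y = 0)
    (r : ℕ) [Fact r.Prime] (hrp : r ≠ p) (hr2 : r ≠ 2)
    (hrΩ : r ∣ Nat.card {W : Submodule F ((Fin (d - 1) ⊕ Fin (d - 1)) ⊕ Fin 2 → F) // IsEllM d a b m W}) :
    (∀ x : GL ((Fin (d - 1) ⊕ Fin (d - 1)) ⊕ Fin 2) F, x ∈ Cfsg.Geo.omegaGL (Cfsg.quadFormMinus (d - 1) F a b) →
      (∃ z : F, ((x ^ r : GL ((Fin (d - 1) ⊕ Fin (d - 1)) ⊕ Fin 2) F) : Matrix ((Fin (d - 1) ⊕ Fin (d - 1)) ⊕ Fin 2) ((Fin (d - 1) ⊕ Fin (d - 1)) ⊕ Fin 2) F) =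
        z • (1 : Matrix ((Fin (d - 1) ⊕ Fin (d - 1)) ⊕ Fin 2) ((Fin (d - 1) ⊕ Fin (d - 1)) ⊕ Fin 2) F)) →
      (∀ z : F, (x : Matrix ((Fin (d - 1) ⊕ Fin (d - 1)) ⊕ Fin 2) ((Fin (d - 1) ⊕ Fin (d - 1)) ⊕ Fin 2) F) ≠
        z • (1 : Matrix ((Fin (d - 1) ⊕ Fin (d - 1)) ⊕ Fin 2) ((Fin (d - 1) ⊕ Fin (d - 1)) ⊕ Fin 2) F)) →
      ∃ W : Submodule F ((Fin (d - 1) ⊕ Fin (d - 1)) ⊕ Fin 2 → F), IsEllM d a b m W ∧
        W.map (Matrix.toLin' (x : Matrix ((Fin (d - 1) ⊕ Fin (d - 1)) ⊕ Fin 2) ((Fin (d - 1) ⊕ Fin (d - 1)) ⊕ Fin 2) F)) ≤ W) ↔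
    RhsOddM (orderOf ((Fintype.card F : ℕ) : ZMod r)) (cOf (orderOf ((Fintype.card F : ℕ) : ZMod r))) d m :=
  Cfsg.Agent.Lib.Helper14.OEl.case_odd_ellM_of d m hd hm hme hmn a b hab r hrp hr2 hrΩ
    (fun x hx => Cfsg.Agent.Lib.Helper64.OEl.qiso_of_mem_omegaGL_minus d a b x hx)
    (fun W => Cfsg.Agent.Lib.Helper64.OEl.isEllM_iff d a b m W)
    (Cfsg.Agent.Lib.Helper64.OEl.nonDeg_QM d a b hab)
    (Cfsg.Agent.Lib.Helper64.OEl.not_plusQ_QM d (by omega) a b hab)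
    (Cfsg.Agent.Lib.Helper64.OEl.exists_QM_ne_zero d a b)
    (fun hrF e he hed hr => (Cfsg.Agent.Lib.Helper84.OEl.exists_of_dvd_card_ell_q (QM d F a b)
      (Cfsg.Agent.Lib.Helper64.OEl.nonDeg_QM d a b hab) d e
      (Cfsg.Agent.Lib.Helper64.OEl.finrank_QM d (by omega)) he hed r hr2 hrF hr).2
      (Cfsg.Agent.Lib.Helper64.OEl.not_plusQ_QM d (by omega) a b hab))
    (fun i c hi hc hw hR => Cfsg.Agent.Lib.Helper60.OEl.arith_derange_ellM i c d m hi hc hd hm hme hmn hw hR)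
    (fun f hF hrF i c hi hc T k hT hk hal =>
      Cfsg.Agent.Lib.Helper80.OEl.exists_model_t p f hF r hrp.symm hr2 hrF i c hi hc False T k hT hk hal)
    (fun f hF hrF i c hi hc V _ _ _ Q hV y hy hiso T k hT hk hdim W hW hWnd hWd =>
      Cfsg.Agent.Lib.Helper30.OEl.goodT_of_fixed Q hV p f hF r hrp.symm hr2 hrF y hy hiso i c hi hc T k hT hk d hdim
        m W hW hWnd hWd hme)
    (fun f hF hrF i c hi hc y hy hy1 hiso =>
      Cfsg.Agent.Lib.Helper66.OEl.exists_shape_t (QM d F a b) (Cfsg.Agent.Lib.Helper64.OEl.nonDeg_QM d a b hab)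
        p f hF r hrp.symm hr2 hrF y hy hy1 hiso i c hi hc d (Cfsg.Agent.Lib.Helper64.OEl.finrank_QM d (by omega)))
    (fun f hF hrF i c hi hc y hy hiso T k hT hk j hjT hjm hg =>
      Cfsg.Agent.Lib.Helper89.OEl.fixed_of_goodT (QM d F a b) (Cfsg.Agent.Lib.Helper64.OEl.nonDeg_QM d a b hab)
        p f hF r hrp.symm hr2 hrF y hy hiso i c hi hc T k hT hk d
        (Cfsg.Agent.Lib.Helper64.OEl.finrank_QM d (by omega)) m hme False j hjT hjm hg)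


end Cfsg.Agent.Lib.Helper14.OEl
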