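import Cfsg.Agent.Lib.Helper14.OElCM
import Cfsg.Agent.Lib.Helper21.OhPT0
import Cfsg.Agent.Lib.Helper29.OElBRP
import Cfsg.Agent.Lib.Helper42.OElAR1P
import Cfsg.Agent.Lib.Helper34.OTsO11
import Cfsg.Agent.Lib.Helper66.OElFC0t
import Cfsg.Agent.Lib.Helper30.OElFC1t

/-!
# K-OEl-CP (keystone 598821, row S5988, architect helper49; PARALLEL HAND of helper14): the case `r` odd, `r ≠ p` for the
plus type group.  `case_odd_ellP_of` is the case glue with the leaves K1, AR2P, D3t, FC2t (not on main when this file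
was written) as hypotheses; T0 bridges, BRP, AR1P, N, FC0t, FC1t, K-OhP K2, K-OTs O11 are cited directly.
-/

set_option autoImplicit false
set_option linter.unusedVariables false
set_option linter.unusedSectionVars false
set_option linter.style.haveILetI false
set_option maxHeartbeats 1600000

namespace Cfsg.Agent.Lib.Helper14.OEl

open Module Cfsg.Agent.Lib.Helper98.Elus Cfsg.Agent.Lib.Helper98.Sy Cfsg.Agent.Lib.Helper38.OhP
  Cfsg.Agent.Lib.Helper49.OEl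

universe u
variable {F : Type u} [Field F]

/-- transport of a subspace along an isometry `E` intertwining `g` and `y` (generic coordinates) -/
theorem transport_sub_gen {V : Type u} [AddCommGroup V] [Module F V] [FiniteDimensional F V]
    {ι : Type} [Fintype ι] [DecidableEq ι] (Q' : QuadraticForm F (ι → F))
    (Q : QuadraticForm F V) (y : V →ₗ[F] V) (g : (ι → F) →ₗ[F] (ι → F))
    (E : (ι → F) ≃ₗ[F] V) (hE1 : ∀ w, E (g w) = y (E w))
    (hQE : ∀ w, Q (E w) = Q' w)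
    (W : Submodule F (ι → F)) (hmap : W.map g ≤ W) (hWnd : NonDeg (pB Q') W)
    (hWnp : ¬ PlusQ Q' W) :
    Inv y (W.map (E : (ι → F) →ₗ[F] V)) ∧ NonDeg (pB Q) (W.map (E : (ι → F) →ₗ[F] V)) ∧
      finrank F (W.map (E : (ι → F) →ₗ[F] V)) = finrank F W ∧
      ¬ PlusQ Q (W.map (E : (ι → F) →ₗ[F] V)) := by
  have hpB : ∀ u w : ι → F, pB Q (E u) (E w) = pB Q' u w := by
    intro u w
    rw [pB_apply, pB_apply, ← map_add, hQE, hQE, hQE]
  refine ⟨?_, ?_, LinearEquiv.finrank_map_eq E W, ?_⟩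
  · rintro _ ⟨w, hw, rfl⟩
    refine ⟨g w, hmap ⟨w, hw, rfl⟩, ?_⟩
    exact hE1 w
  · rintro _ ⟨u, hu, rfl⟩ h0
    have hu0 : u = 0 := by
      apply hWnd u hu
      intro w hw
      have := h0 (E w) ⟨w, hw, rfl⟩
      rw [LinearEquiv.coe_coe, hpB] at this
      exact this
    rw [hu0, map_zero]
  · rintro ⟨U, hUW, hU0, hUd⟩
    apply hWnp
    refine ⟨U.map (E.symm : V →ₗ[F] (ι → F)), ?_, ?_, ?_⟩
    · rintro _ ⟨u, hu, rfl⟩
      obtain ⟨w, hw, hwu⟩ := hUW hu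
      rw [← hwu]
      simp only [LinearEquiv.coe_coe, LinearEquiv.symm_apply_apply]
      exact hw
    · rintro _ ⟨u, hu, rfl⟩
      rw [LinearEquiv.coe_coe, ← hQE, LinearEquiv.apply_symm_apply]
      exact hU0 u hu
    · rw [LinearEquiv.finrank_map_eq E.symm U, hUd, LinearEquiv.finrank_map_eq E W]

/-- the count (plus type) in terms of the order of `q` modulo `r` -/
theorem countP_of_dvd (q r d e : ℕ) [Fact r.Prime] (hr2 : r ≠ 2) (hq : ¬ r ∣ q) (he : 1 ≤ e) (hed : e < d)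
    (h : (∃ j : ℕ, j + 1 < e ∧ r ∣ (q ^ (d - j) - 1) * (q ^ (d - j - 1) + 1)) ∨
        r ∣ (q ^ (d - e + 1) - 1) * (q ^ (d - e) - 1) ∨ r ∣ q - 1) :
    CountP (orderOf (q : ZMod r)) d e := by
  have hrP : r.Prime := Fact.out
  unfold CountP
  rcases h with ⟨j, hj, hdvd⟩ | h | h
  · left
    exact ⟨j, hj, Cfsg.Agent.Lib.Helper94.OhP.order_cases q r (d - j) (d - j - 1) hr2 hq hdvd⟩
  · right
    have hde : d - e + 1 = d - (e - 1) := by omega
    rw [hde] at h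
    rcases (Nat.Prime.dvd_mul hrP).mp h with h1 | h1
    · exact Or.inl (order_minus_one q r _ hr2 hq h1)
    · exact Or.inr (order_minus_one q r _ hr2 hq h1)
  · right; right
    have h1 : r ∣ q ^ 1 - 1 := by rw [pow_one]; exact h
    have h2 := order_minus_one q r 1 hr2 hq h1
    rw [Nat.dvd_one.mp h2]
    exact one_dvd _

/-- **K-OEl-CP (598821)** with the leaves K1, AR2P, D3t, FC2t as hypotheses. -/
theorem case_odd_ellP_of [Fintype F] {p : ℕ} [Fact p.Prime] [CharP F p] (d m : ℕ) (hd : 4 ≤ d) (hm : 2 ≤ m)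
    (hme : Even m) (hmd : m < d) (r : ℕ) [Fact r.Prime] (hrp : r ≠ p) (hr2 : r ≠ 2)
    (hrΩ : r ∣ Nat.card {W : Submodule F (Fin d ⊕ Fin d → F) // IsEllP d m W})
    -- K1 (for `Q0`, plus branch)
    (hK1 : (r : F) ≠ 0 → ∀ e : ℕ, 1 ≤ e → e < d →
      r ∣ Nat.card {W : Submodule F (Fin d ⊕ Fin d → F) //
        finrank F W = 2 * e ∧ NonDeg (pB (Q0 d F)) W ∧ ¬ PlusQ (Q0 d F) W} →
      (∃ j : ℕ, j + 1 < e ∧ r ∣ (Fintype.card F ^ (d - j) - 1) * (Fintype.card F ^ (d - j - 1) + 1)) ∨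
        r ∣ (Fintype.card F ^ (d - e + 1) - 1) * (Fintype.card F ^ (d - e) - 1) ∨ r ∣ Fintype.card F - 1)
    -- AR2P
    (hAR2 : ∀ i c : ℕ, 0 < i → c = cOf i → CountP i d (m / 2) → ¬ RhsOddP i c d m →
      ∃ T : ℕ, 1 ≤ T ∧ T * c ≤ 2 * d ∧ (0 < 2 * d - T * c ∨ (True ↔ tPlus i T)) ∧
        ∀ j : ℕ, j ≤ T → j * c ≤ m → ¬ GoodT True False i c T (2 * d - T * c) m j)
    -- D3t (for `ε := True`)
    (hD3 : ∀ f : ℕ, Fintype.card F = p ^ f → (r : F) ≠ 0 → ∀ i c : ℕ,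
      i = orderOf ((Fintype.card F : ℕ) : ZMod r) → c = cOf i → ∀ T k : ℕ, 1 ≤ T → Even k →
      (0 < k ∨ (True ↔ tPlus i T)) →
      ∃ (V : Type u) (_ : AddCommGroup V) (_ : Module F V) (_ : FiniteDimensional F V)
        (Q : QuadraticForm F V) (y : V →ₗ[F] V),
        NonDeg (pB Q) ⊤ ∧ (PlusQ Q ⊤ ↔ True) ∧ QIso Q y ∧ y ^ r = 1 ∧ (∀ z : F, y ≠ z • 1) ∧
        finrank F V = T * c + k ∧ finrank F (V1 r y) = T * c ∧ finrank F (V0 y) = k)
    -- FC2t (for `Q0`, `τ := False`)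
    (hFC2 : ∀ f : ℕ, Fintype.card F = p ^ f → (r : F) ≠ 0 → ∀ i c : ℕ,
      i = orderOf ((Fintype.card F : ℕ) : ZMod r) → c = cOf i →
      ∀ y : (Fin d ⊕ Fin d → F) →ₗ[F] (Fin d ⊕ Fin d → F), y ^ r = 1 → QIso (Q0 d F) y → ∀ T k : ℕ,
      finrank F (V1 r y) = T * c → finrank F (V0 y) = k → ∀ j : ℕ, j ≤ T → j * c ≤ m →
      GoodT (PlusQ (Q0 d F) ⊤) False i c T k m j →
      ∃ W : Submodule F (Fin d ⊕ Fin d → F), Inv y W ∧ NonDeg (pB (Q0 d F)) W ∧ finrank F W = m ∧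
        (PlusQ (Q0 d F) W ↔ False)) :
    (∀ x : GL (Fin d ⊕ Fin d) F, x ∈ Cfsg.Geo.omegaGL (Cfsg.quadFormPlus d F) →
      (∃ z : F, ((x ^ r : GL (Fin d ⊕ Fin d) F) : Matrix (Fin d ⊕ Fin d) (Fin d ⊕ Fin d) F) =
        z • (1 : Matrix (Fin d ⊕ Fin d) (Fin d ⊕ Fin d) F)) →
      (∀ z : F, (x : Matrix (Fin d ⊕ Fin d) (Fin d ⊕ Fin d) F) ≠
        z • (1 : Matrix (Fin d ⊕ Fin d) (Fin d ⊕ Fin d) F)) →
      ∃ W : Submodule F (Fin d ⊕ Fin d → F), IsEllP d m W ∧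
        W.map (Matrix.toLin' (x : Matrix (Fin d ⊕ Fin d) (Fin d ⊕ Fin d) F)) ≤ W) ↔
    RhsOddP (orderOf ((Fintype.card F : ℕ) : ZMod r)) (cOf (orderOf ((Fintype.card F : ℕ) : ZMod r))) d m := by
  classical
  have hrP : r.Prime := Fact.out
  have hpP : p.Prime := Fact.out
  obtain ⟨f, _, hF⟩ := FiniteField.card F p
  have hpr : p ≠ r := Ne.symm hrp
  have hrodd : Odd r := hrP.odd_of_ne_two hr2
  have hrF : (r : F) ≠ 0 := by
    intro h
    rw [CharP.cast_eq_zero_iff F p] at h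
    exact hrp ((Nat.prime_dvd_prime_iff_eq hpP hrP).mp h).symm
  have hipos : 0 < orderOf ((Fintype.card F : ℕ) : ZMod r) := orderOf_card_pos p f hF r hpr
  have hce : Even (cOf (orderOf ((Fintype.card F : ℕ) : ZMod r))) := cOf_even _
  have hrq : ¬ r ∣ Fintype.card F := by
    rw [hF]
    intro h
    exact hrp ((Nat.prime_dvd_prime_iff_eq hrP hpP).mp (hrP.dvd_of_dvd_pow h))
  have hBe := fun W => Cfsg.Agent.Lib.Helper29.OEl.isEllP_iff (F := F) d m W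
  have hBn : NonDeg (pB (Q0 d F)) ⊤ := Cfsg.Agent.Lib.Helper21.OhP.nonDeg_Q0 d
  have hBp : PlusQ (Q0 d F) ⊤ := Cfsg.Agent.Lib.Helper21.OhP.plusQ_Q0 d
  have hBz : ∃ v, Q0 d F v ≠ 0 := Cfsg.Agent.Lib.Helper29.OEl.exists_Q0_ne_zero d (by omega)
  have hfin : finrank F (Fin d ⊕ Fin d → F) = 2 * d := Cfsg.Agent.Lib.Helper21.OhP.finrank_Q0 d
  constructor
  · intro hL
    by_contra hRn
    have hm2 : m = 2 * (m / 2) := by
      obtain ⟨k, hk⟩ := hme
      omega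
    have hcard : r ∣ Nat.card {W : Submodule F (Fin d ⊕ Fin d → F) //
        finrank F W = 2 * (m / 2) ∧ NonDeg (pB (Q0 d F)) W ∧ ¬ PlusQ (Q0 d F) W} := by
      have e : {W : Submodule F (Fin d ⊕ Fin d → F) // IsEllP d m W} ≃ {W : Submodule F (Fin d ⊕ Fin d → F) //
          finrank F W = 2 * (m / 2) ∧ NonDeg (pB (Q0 d F)) W ∧ ¬ PlusQ (Q0 d F) W} :=
        Equiv.subtypeEquivRight (fun W => by rw [hBe W, ← hm2])
      rw [← Nat.card_congr e]
      exact hrΩ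
    have hk1 := hK1 hrF (m / 2) (by omega) (by omega) hcard
    have hw : CountP (orderOf ((Fintype.card F : ℕ) : ZMod r)) d (m / 2) :=
      countP_of_dvd (Fintype.card F) r d (m / 2) hr2 hrq (by omega) (by omega) hk1
    obtain ⟨T, hT1, hTn, hal, hno⟩ := hAR2 _ _ hipos rfl hw hRn
    have hke : Even (2 * d - T * cOf (orderOf ((Fintype.card F : ℕ) : ZMod r))) := by
      rw [Nat.even_sub hTn]
      constructor
      · intro _
        exact Even.mul_left hce T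
      · intro _
        exact even_two_mul d
    obtain ⟨V, _, _, _, Q, y, hV, hVp', hiso, hy, hns, hdim, hV1, hV0⟩ :=
      hD3 f hF hrF _ _ rfl rfl T _ hT1 hke hal
    have hdim' : finrank F V = 2 * d := by omega
    obtain ⟨x, hxΩ, hxr, hxns, E, hE1, hE2⟩ := Cfsg.Agent.Lib.Helper34.OTs.transport_plus_q r hrodd d
      (by omega) Q hV hdim' (hVp'.mpr trivial) y hiso hy hns
    obtain ⟨W, hW, hmap⟩ := hL x hxΩ ⟨1, hxr⟩ hxns
    obtain ⟨hWd, hWnd, hWnp⟩ := (hBe W).mp hW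
    obtain ⟨hW'inv, hW'nd, hW'd, hW'np⟩ := transport_sub_gen (Q0 d F) Q y _ E hE1 (fun w => hE2 w) W hmap hWnd hWnp
    obtain ⟨j, hjT, hjm, hg⟩ := Cfsg.Agent.Lib.Helper30.OEl.goodT_of_fixed Q hV p f hF r hpr hr2 hrF y hy hiso _ _
      rfl rfl T _ hV1 hV0 d hdim' m _ hW'inv hW'nd (hW'd.trans hWd) hme
    rw [eq_false hW'np, eq_true (hVp'.mpr trivial)] at hg
    exact hno j hjT hjm hg
  · intro hRo x hxΩ hz hns
    obtain ⟨z, hz⟩ := hz
    have hq := Cfsg.Agent.Lib.Helper21.OhP.qiso_of_mem_omegaGL d x hxΩ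
    obtain ⟨y, hyiso, hyr, hy1, hyW⟩ := Cfsg.Agent.Lib.Helper28.OEl.exists_normalized_gen (Q0 d F) hBz r hrodd x
      hq z hz hns
    obtain ⟨T, hT1, hTn, hV1, hV0, hal⟩ := Cfsg.Agent.Lib.Helper66.OEl.exists_shape_t (Q0 d F) hBn p f hF r hpr hr2
      hrF y hyr hy1 hyiso _ _ rfl rfl d hfin
    have hal' : 0 < 2 * d - T * cOf (orderOf ((Fintype.card F : ℕ) : ZMod r)) ∨
        (True ↔ tPlus (orderOf ((Fintype.card F : ℕ) : ZMod r)) T) := by
      rcases hal with h | h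
      · exact Or.inl h
      · exact Or.inr ⟨fun _ => h.mp hBp, fun _ => trivial⟩
    obtain ⟨j, hjT, hjm, hg⟩ := Cfsg.Agent.Lib.Helper42.OEl.arith_fix_ellP _ _ d m T hipos rfl hd hm hme hmd hT1 hTn
      hal' hRo
    have hg' : GoodT (PlusQ (Q0 d F) ⊤) False (orderOf ((Fintype.card F : ℕ) : ZMod r))
        (cOf (orderOf ((Fintype.card F : ℕ) : ZMod r))) T
        (2 * d - T * cOf (orderOf ((Fintype.card F : ℕ) : ZMod r))) m j := by
      rw [eq_true hBp]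
      exact hg
    obtain ⟨W, hWinv, hWnd, hWd, hWp⟩ := hFC2 f hF hrF _ _ rfl rfl y hyr hyiso T _ hV1 hV0 j hjT hjm hg'
    exact ⟨W, (hBe W).mpr ⟨hWd, hWnd, fun h => hWp.mp h⟩, hyW W hWinv⟩

end Cfsg.Agent.Lib.Helper14.OEl
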