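import Cfsg.Agent.Lib.Helper14.OElCP
import Cfsg.Agent.Lib.Helper84.OElK1x
import Cfsg.Agent.Lib.Helper61.OElAR2P
import Cfsg.Agent.Lib.Helper80.OElD3t
import Cfsg.Agent.Lib.Helper30.OElFC1t
import Cfsg.Agent.Lib.Helper66.OElFC0t
import Cfsg.Agent.Lib.Helper89.OElFC2t

/-!
# K-OEl-CP (keystone 598821, parallel hand): `case_odd_ellP` with the EXACT spec signature (all leaves of the pack plugged in).
-/

set_option autoImplicit false
set_option linter.unusedVariables false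
set_option maxHeartbeats 1600000

namespace Cfsg.Agent.Lib.Helper14.OEl

open Module Cfsg.Agent.Lib.Helper98.Elus Cfsg.Agent.Lib.Helper98.Sy Cfsg.Agent.Lib.Helper38.OhP
  Cfsg.Agent.Lib.Helper49.OEl

universe u
variable {F : Type u} [Field F]

theorem case_odd_ellP [Fintype F] {p : ℕ} [Fact p.Prime] [CharP F p] (d m : ℕ) (hd : 4 ≤ d) (hm : 2 ≤ m)
    (hme : Even m) (hmd : m < d) (r : ℕ) [Fact r.Prime] (hrp : r ≠ p) (hr2 : r ≠ 2)
    (hrΩ : r ∣ Nat.card {W : Submodule F (Fin d ⊕ Fin d → F) // IsEllP d m W}) :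
    (∀ x : GL (Fin d ⊕ Fin d) F, x ∈ Cfsg.Geo.omegaGL (Cfsg.quadFormPlus d F) →
      (∃ z : F, ((x ^ r : GL (Fin d ⊕ Fin d) F) : Matrix (Fin d ⊕ Fin d) (Fin d ⊕ Fin d) F) =
        z • (1 : Matrix (Fin d ⊕ Fin d) (Fin d ⊕ Fin d) F)) →
      (∀ z : F, (x : Matrix (Fin d ⊕ Fin d) (Fin d ⊕ Fin d) F) ≠
        z • (1 : Matrix (Fin d ⊕ Fin d) (Fin d ⊕ Fin d) F)) →
      ∃ W : Submodule F (Fin d ⊕ Fin d → F), IsEllP d m W ∧
        W.map (Matrix.toLin' (x : Matrix (Fin d ⊕ Fin d) (Fin d ⊕ Fin d) F)) ≤ W) ↔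
    RhsOddP (orderOf ((Fintype.card F : ℕ) : ZMod r)) (cOf (orderOf ((Fintype.card F : ℕ) : ZMod r))) d m :=
  Cfsg.Agent.Lib.Helper14.OEl.case_odd_ellP_of d m hd hm hme hmd r hrp hr2 hrΩ
    (fun hrF e he hed hr => (Cfsg.Agent.Lib.Helper84.OEl.exists_of_dvd_card_ell_q (Q0 d F)
      (Cfsg.Agent.Lib.Helper21.OhP.nonDeg_Q0 d) d e
      (Cfsg.Agent.Lib.Helper21.OhP.finrank_Q0 d) he hed r hr2 hrF hr).1
      (Cfsg.Agent.Lib.Helper21.OhP.plusQ_Q0 d))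
    (fun i c hi hc hw hR => Cfsg.Agent.Lib.Helper61.OEl.arith_derange_ellP i c d m hi hc hd hm hme hmd hw hR)
    (fun f hF hrF i c hi hc T k hT hk hal =>
      Cfsg.Agent.Lib.Helper80.OEl.exists_model_t p f hF r hrp.symm hr2 hrF i c hi hc True T k hT hk hal)
    (fun f hF hrF i c hi hc y hy hiso T k hT hk j hjT hjm hg =>
      Cfsg.Agent.Lib.Helper89.OEl.fixed_of_goodT (Q0 d F) (Cfsg.Agent.Lib.Helper21.OhP.nonDeg_Q0 d)
        p f hF r hrp.symm hr2 hrF y hy hiso i c hi hc T k hT hk d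
        (Cfsg.Agent.Lib.Helper21.OhP.finrank_Q0 d) m hme False j hjT hjm hg)


end Cfsg.Agent.Lib.Helper14.OEl
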