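import Cfsg.Agent.Lib.Helper69.OPbDefs
import Cfsg.Agent.Lib.Helper50.GeoBridge
import Cfsg.Agent.Lib.Helper50.MinusLang
import Cfsg.Agent.Lib.Helper13.OPb15
import Cfsg.Agent.Lib.Helper53.OPb2b
import Cfsg.Agent.Lib.Helper65.OPb3

/-!
# K-OMb pack (S5991, architect helper32), leaf 599105 K-OMb-5 (helper14): the case `r = 2`, minus type

`case_two_minus_of` is LEAF 5 of `notes/S5991_keystones.lean.txt` with LEAVES 2, 3, 4 of that file (their exact
spec statements, instantiated at the given `d a b` resp. at `Q = QMinus (d-1) F a b`) taken as hypotheses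
`H2`, `H3`, `H4`; K-OPb LEAVES 2 (`Helper53.OPb2b`), 3 (`Helper65.OPb3`), 15 (`Helper13.OPb15`) are imported.
(minus copy of `Helper40.OPb.case_two_of`)
-/

set_option autoImplicit false

namespace Cfsg.Agent.Lib.Helper14.OMb

open Module Cfsg.Agent.Lib.Helper98.Elus Cfsg.Agent.Lib.Helper98.Sy Cfsg.Agent.Lib.Helper98.Oh
  Cfsg.Agent.Lib.Helper69.OPb
open scoped MatrixGroups

universe u
variable {F : Type u} [Field F] {V : Type u} [AddCommGroup V] [Module F V]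

local notation "IM(" d ")" => ((Fin (d - 1) ⊕ Fin (d - 1)) ⊕ Fin 2)

/-- `2 ≠ 0` in a finite field of odd order -/
theorem omb5_two_ne_zero [Fintype F] (hodd : Odd (Fintype.card F)) : (2 : F) ≠ 0 := by
  apply Ring.two_ne_zero
  intro h
  have := FiniteField.even_card_of_char_two h
  rw [Nat.odd_iff] at hodd
  omega

/-- a vector on which the minus form does not vanish -/
theorem omb5_exists_ne (k : ℕ) (a b : F) :
    ∃ v, Cfsg.Agent.Lib.Helper50.QMinus k F a b v ≠ 0 := by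
  refine ⟨Sum.elim 0 (Pi.single 0 1), ?_⟩
  show Cfsg.quadFormMinus k F a b _ ≠ 0
  unfold Cfsg.quadFormMinus
  simp

theorem omb5_finrank (d : ℕ) (hd : 1 ≤ d) : finrank F (IM(d) → F) = 2 * d := by
  rw [Module.finrank_fintype_fun_eq_card, Fintype.card_sum, Fintype.card_sum, Fintype.card_fin]
  simp only [Fintype.card_fin]
  omega

theorem omb5_toLin_sq_one {ι : Type} [Fintype ι] [DecidableEq ι] (x : GL ι F)
    (h : (x : Matrix ι ι F) * (x : Matrix ι ι F) = 1) :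
    Matrix.toLin' (x : Matrix ι ι F) * Matrix.toLin' (x : Matrix ι ι F) = 1 := by
  rw [Module.End.mul_eq_comp, ← Matrix.toLin'_mul, h, Matrix.toLin'_one]
  rfl

theorem omb5_toLin_sq_neg {ι : Type} [Fintype ι] [DecidableEq ι] (x : GL ι F)
    (h : (x : Matrix ι ι F) * (x : Matrix ι ι F) = -1) :
    Matrix.toLin' (x : Matrix ι ι F) * Matrix.toLin' (x : Matrix ι ι F) = -1 := by
  rw [Module.End.mul_eq_comp, ← Matrix.toLin'_mul, h, map_neg, Matrix.toLin'_one]
  rfl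

theorem case_two_minus_of [Fintype F] (hodd : Odd (Fintype.card F)) (d m : ℕ) (hd : 4 ≤ d) (hm : Odd m)
    (hmd : m < d) (a b : F)
    (hab : ∀ x y : F, x ^ 2 + a * x * y + b * y ^ 2 = 0 → x = 0 ∧ y = 0)
    (W₀ : Submodule F (IM(d) → F))
    (hW₀ : Module.finrank F ↥W₀ = m ∧
      Cfsg.Geo.IsNondegenerateOn (QuadraticMap.polar (Cfsg.quadFormMinus (d - 1) F a b)) W₀)
    (H2 : Fintype.card F % 8 = 7 → Odd d →
      ∃ x : GL IM(d) F, x ∈ Cfsg.Geo.omegaGL (Cfsg.quadFormMinus (d - 1) F a b) ∧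
        (x : Matrix IM(d) IM(d) F) * (x : Matrix IM(d) IM(d) F) = -1)
    (H3 : ∀ x : GL IM(d) F, x ∈ Cfsg.Geo.omegaGL (Cfsg.quadFormMinus (d - 1) F a b) →
      (x : Matrix IM(d) IM(d) F) * (x : Matrix IM(d) IM(d) F) = -1 →
      Odd d ∧ Fintype.card F % 4 = 3)
    (H4 : Odd d →
      ∀ g : ↥(Cfsg.isometryGroup F (⇑(Cfsg.Agent.Lib.Helper50.QMinus (d - 1) F a b))),
      g ∈ commutator ↥(Cfsg.isometryGroup F (⇑(Cfsg.Agent.Lib.Helper50.QMinus (d - 1) F a b))) →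
      ((g : GL IM(d) F) : Matrix IM(d) IM(d) F) * ((g : GL IM(d) F) : Matrix IM(d) IM(d) F) = -1 →
      IsSquare (2 : F)) :
    (∀ x : GL IM(d) F, x ∈ Cfsg.Geo.omegaGL (Cfsg.quadFormMinus (d - 1) F a b) →
      (∃ z : F, ((x ^ 2 : GL IM(d) F) : Matrix IM(d) IM(d) F) = z • (1 : Matrix IM(d) IM(d) F)) →
      (∀ z : F, (x : Matrix IM(d) IM(d) F) ≠ z • (1 : Matrix IM(d) IM(d) F)) →
      ∃ W : Submodule F (IM(d) → F), (Module.finrank F ↥W = m ∧
        Cfsg.Geo.IsNondegenerateOn (QuadraticMap.polar (Cfsg.quadFormMinus (d - 1) F a b)) W ∧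
        Cfsg.Geo.AreIsometricFor (Cfsg.quadFormMinus (d - 1) F a b) W W₀) ∧
        W.map (Matrix.toLin' (x : Matrix IM(d) IM(d) F)) ≤ W) ↔
    (Even d ∨ Fintype.card F % 8 ≠ 7) := by
  classical
  have h2 : (2 : F) ≠ 0 := omb5_two_ne_zero hodd
  have h11 : (1 : F) ≠ -1 := by
    intro h
    apply h2
    have : (2 : F) = 1 + 1 := by norm_num
    rw [this]
    nth_rw 1 [h]
    exact neg_add_cancel 1
  obtain ⟨Q, hQdef⟩ : ∃ Q : QuadraticForm F (IM(d) → F),
      Q = Cfsg.Agent.Lib.Helper50.QMinus (d - 1) F a b := ⟨_, rfl⟩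
  rw [← hQdef] at H4
  have hQc : (⇑Q : (IM(d) → F) → F) = Cfsg.quadFormMinus (d - 1) F a b := by rw [hQdef]; rfl
  have hS := Cfsg.Agent.Lib.Helper13.OPb.polarBilin_symm Q
  have hV : NonDeg (QuadraticMap.polarBilin Q) ⊤ :=
    Cfsg.Agent.Lib.Helper13.OPb.nonDeg_top_of_nondegenerate Q (by
      rw [hQdef]; exact Cfsg.Agent.Lib.Helper50.QMinus_nondeg_of_anis (d - 1) a b hab)
  have hQne : ∃ v, Q v ≠ 0 := by rw [hQdef]; exact omb5_exists_ne (d - 1) a b
  have hfr := omb5_finrank (F := F) d (by omega)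
  rw [← hQc] at hW₀ H2 H3 ⊢
  have hI : ∀ x : GL IM(d) F, x ∈ Cfsg.Geo.omegaGL (⇑Q) → x ∈ Cfsg.isometryGroup F ⇑Q := by
    intro x hx
    obtain ⟨h, -⟩ := (Cfsg.Agent.Lib.Helper50.mem_omegaGL_iff _ x).mp hx
    exact h
  have hsq : ∀ x : GL IM(d) F, ((x ^ 2 : GL IM(d) F) : Matrix IM(d) IM(d) F) =
      (x : Matrix IM(d) IM(d) F) * (x : Matrix IM(d) IM(d) F) := by
    intro x
    rw [pow_two, Units.val_mul]
  constructor
  · intro H
    by_contra hcon
    have hdodd : Odd d := by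
      by_contra he
      exact hcon (Or.inl (Nat.not_odd_iff_even.mp he))
    have h8 : Fintype.card F % 8 = 7 := by
      by_contra h8
      exact hcon (Or.inr h8)
    obtain ⟨x, hxΩ, hxx⟩ := H2 h8 hdodd
    have hxI := hI x hxΩ
    have hxx' : (x : Matrix IM(d) IM(d) F) * (x : Matrix IM(d) IM(d) F) =
        (-1 : F) • (1 : Matrix IM(d) IM(d) F) := by
      rw [hxx, neg_smul, one_smul]
    obtain ⟨W, ⟨hWd, hWnd, -⟩, hWinv⟩ := H x hxΩ ⟨-1, by rw [hsq, hxx']⟩ (by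
      intro z hz
      rcases Cfsg.Agent.Lib.Helper13.OPb.scalar_eq_of_mem Q hQne x hxI z hz with h | h
      · rw [hz, h, one_smul, one_mul] at hxx
        have := congrFun (congrFun hxx (Sum.inr 0)) (Sum.inr 0)
        rw [Matrix.one_apply_eq, Matrix.neg_apply, Matrix.one_apply_eq] at this
        exact h11 this
      · rw [hz, h, neg_smul, one_smul, neg_mul_neg, one_mul] at hxx
        have := congrFun (congrFun hxx (Sum.inr 0)) (Sum.inr 0)
        rw [Matrix.one_apply_eq, Matrix.neg_apply, Matrix.one_apply_eq] at this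
        exact h11 this)
    have hlin : Matrix.toLin' (x : Matrix IM(d) IM(d) F) *
        Matrix.toLin' (x : Matrix IM(d) IM(d) F) = -1 := omb5_toLin_sq_neg x hxx
    have hev := Cfsg.Agent.Lib.Helper65.OPb.even_finrank_of_sq_neg_one h2 (QuadraticMap.polarBilin Q) hS
      (Matrix.toLin' (x : Matrix IM(d) IM(d) F)) hlin
      (Cfsg.Agent.Lib.Helper13.OPb.iso_toLin'_of_mem Q x hxI) W
      ((Cfsg.Agent.Lib.Helper13.OPb.inv_toLin'_iff _ W).mpr hWinv)
      ((Cfsg.Agent.Lib.Helper13.OPb.nonDeg_polarBilin_iff Q W).mpr hWnd)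
    rw [hWd] at hev
    exact (Nat.not_even_iff_odd.mpr hm) hev
  · intro hcase x hxΩ hz hxns
    obtain ⟨z, hz⟩ := hz
    have hxI := hI x hxΩ
    rw [hsq] at hz
    have hz' : ((x ^ 2 : GL IM(d) F) : Matrix IM(d) IM(d) F) =
        z • (1 : Matrix IM(d) IM(d) F) := by rw [hsq, hz]
    rcases Cfsg.Agent.Lib.Helper13.OPb.scalar_eq_of_mem Q hQne (x ^ 2) (Subgroup.pow_mem _ hxI 2) z hz'
      with h | h
    · -- an involution
      have hlin : Matrix.toLin' (x : Matrix IM(d) IM(d) F) *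
          Matrix.toLin' (x : Matrix IM(d) IM(d) F) = 1 := by
        apply omb5_toLin_sq_one x
        rw [hz, h, one_smul]
      obtain ⟨W, hWinv, hWnd, hWiso⟩ := Cfsg.Agent.Lib.Helper53.OPb.exists_fixed_invol h2
        (QuadraticMap.polarBilin Q) hS hV
        (Matrix.toLin' (x : Matrix IM(d) IM(d) F)) hlin
        (Cfsg.Agent.Lib.Helper13.OPb.iso_toLin'_of_mem Q x hxI) W₀
        ((Cfsg.Agent.Lib.Helper13.OPb.nonDeg_polarBilin_iff Q W₀).mpr hW₀.2)
        (by rw [hW₀.1, hfr]; omega)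
      refine ⟨W, ⟨?_, (Cfsg.Agent.Lib.Helper13.OPb.nonDeg_polarBilin_iff Q W).mp hWnd,
        (Cfsg.Agent.Lib.Helper13.OPb.isoCls_polarBilin_iff h2 Q W W₀).mp hWiso⟩,
        (Cfsg.Agent.Lib.Helper13.OPb.inv_toLin'_iff _ W).mp hWinv⟩
      obtain ⟨e, -⟩ := hWiso
      rw [e.finrank_eq, hW₀.1]
    · -- square `-1`: impossible
      exfalso
      have hxx : (x : Matrix IM(d) IM(d) F) * (x : Matrix IM(d) IM(d) F) = -1 := by
        rw [hz, h, neg_smul, one_smul]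
      obtain ⟨hdodd, hq4⟩ := H3 x hxΩ hxx
      obtain ⟨hxI', hxC⟩ := (Cfsg.Agent.Lib.Helper50.mem_omegaGL_iff _ x).mp hxΩ
      have hs2 : IsSquare (2 : F) := H4 hdodd ⟨x, hxI'⟩ hxC hxx
      rw [FiniteField.isSquare_two_iff] at hs2
      rcases hcase with he | h8
      · exact (Nat.not_even_iff_odd.mpr hdodd) he
      · omega

end Cfsg.Agent.Lib.Helper14.OMb
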