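import Mathlib

/-! K-OTF leaf NS5b (S3999 pack, architect helper53), with NS5a as hypotheses. -/

set_option autoImplicit false

namespace Cfsg.Agent.Lib.Helper14.OTF

/-- NS5b with the two NS5a facts as hypotheses. -/
theorem card_order_five_of_structure_aux
    (h24 : Nat.card {x : Matrix.SpecialLinearGroup (Fin 2) (ZMod 5) // orderOf x = 5} = 24)
    (h120 : Nat.card (Matrix.SpecialLinearGroup (Fin 2) (ZMod 5)) = 120)
    {C : Type*} [Group C] [Finite C]
    (h : ∃ G₀ : Subgroup C, G₀.Normal ∧ (G₀.index = 1 ∨ G₀.index = 2) ∧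
      ∃ S M : Subgroup C, S ⊔ M = G₀ ∧ S ⊓ M = ⊥ ∧ (∀ s ∈ S, ∀ x ∈ M, s * x = x * s) ∧
        Nonempty (S ≃* Matrix.SpecialLinearGroup (Fin 2) (ZMod 5)) ∧
        (∀ (p : ℕ) [Fact p.Prime] (P : Sylow p M), IsCyclic P) ∧ (Nat.card M).Coprime 30) :
    (Nat.card C).factorization 5 = 1 ∧ Nat.card {x : C // orderOf x = 5} = 24 := by
  obtain ⟨G₀, hG₀n, hidx, S, M, hsup, hinf, hcomm, ⟨e⟩, -, hco⟩ := h
  have comm : ∀ (s : S) (y : M), Commute (S.subtype s) (M.subtype y) :=
    fun s y => hcomm s s.2 y y.2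
  have hfinj : Function.Injective (S.subtype.noncommCoprod M.subtype comm) := by
    rw [MonoidHom.noncommCoprod_injective]
    refine ⟨S.subtype_injective, M.subtype_injective, ?_⟩
    rw [Subgroup.range_subtype, Subgroup.range_subtype, disjoint_iff, hinf]
  have hfrange : (S.subtype.noncommCoprod M.subtype comm).range = G₀ := by
    rw [MonoidHom.noncommCoprod_range, Subgroup.range_subtype, Subgroup.range_subtype, hsup]
  have hcardS : Nat.card S = 120 := by rw [Nat.card_congr e.toEquiv, h120]
  have hcardG₀ : Nat.card G₀ = 120 * Nat.card M := by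
    rw [← hfrange, ← Nat.card_congr (MonoidHom.ofInjective hfinj).toEquiv, Nat.card_prod, hcardS]
  have hcardC : Nat.card C = G₀.index * (120 * Nat.card M) := by
    rw [← hcardG₀, mul_comm, Subgroup.card_mul_index]
  have hM5 : (Nat.card M).Coprime 5 := Nat.Coprime.coprime_dvd_right (by norm_num : 5 ∣ 30) hco
  have hMpos : Nat.card M ≠ 0 := Nat.card_pos.ne'
  have h5p : Nat.Prime 5 := by norm_num
  refine ⟨?_, ?_⟩
  · -- the 5-part
    have hk : ¬ 5 ∣ G₀.index * 24 * Nat.card M := by
      intro hd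
      rcases (Nat.Prime.dvd_mul h5p).1 hd with hd | hd
      · rcases hidx with h1 | h1 <;> rw [h1] at hd <;> omega
      · have := Nat.dvd_gcd hd (dvd_refl 5)
        rw [hM5] at this
        omega
    have hk0 : G₀.index * 24 * Nat.card M ≠ 0 := by
      intro h0
      exact hk (h0 ▸ dvd_zero 5)
    have hC : Nat.card C = 5 * (G₀.index * 24 * Nat.card M) := by rw [hcardC]; ring
    rw [hC, Nat.factorization_mul (by norm_num) hk0, Finsupp.add_apply,
      Nat.Prime.factorization_self h5p, Nat.factorization_eq_zero_of_not_dvd hk]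
  · -- the count
    rw [← h24]
    have hS : Nat.card {s : S // orderOf s = 5} =
        Nat.card {x : Matrix.SpecialLinearGroup (Fin 2) (ZMod 5) // orderOf x = 5} := by
      refine Nat.card_congr (e.toEquiv.subtypeEquiv (fun s => ?_))
      change orderOf s = 5 ↔ orderOf (e s) = 5
      rw [MulEquiv.orderOf_eq]
    rw [← hS]
    symm
    let g : {s : S // orderOf s = 5} → {x : C // orderOf x = 5} :=
      fun s => ⟨(s.1 : C), by rw [Subgroup.orderOf_coe]; exact s.2⟩
    refine Nat.card_congr (Equiv.ofBijective g ⟨?_, ?_⟩)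
    · intro a b hab
      have h1 := congrArg Subtype.val hab
      have h2 : ((a.1 : S) : C) = ((b.1 : S) : C) := h1
      exact Subtype.ext (Subtype.ext h2)
    · rintro ⟨x, hx⟩
      have hx5 : x ^ 5 = 1 := by rw [← hx]; exact pow_orderOf_eq_one x
      have hxG : x ∈ G₀ := by
        rcases hidx with h1 | h2
        · rw [Subgroup.index_eq_one] at h1
          rw [h1]; exact Subgroup.mem_top x
        · have h2x : x ^ 2 ∈ G₀ := Subgroup.sq_mem_of_index_two h2 x
          have : x = (x ^ 2) ^ 3 := by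
            rw [← pow_mul]
            calc x = x ^ 5 * x := by rw [hx5, one_mul]
              _ = x ^ (2 * 3) := by rw [← pow_succ]
          rw [this]
          exact pow_mem h2x 3
      rw [← hfrange] at hxG
      obtain ⟨⟨s, y⟩, hsy⟩ := hxG
      have hsy' : (s : C) * (y : C) = x := hsy
      have hcm : Commute (s : C) (y : C) := hcomm s s.2 y y.2
      have hpow : (s : C) ^ 5 * (y : C) ^ 5 = 1 := by
        rw [← hcm.mul_pow, hsy', hx5]
      have hs5 : (s : C) ^ 5 ∈ S ⊓ M := by
        refine Subgroup.mem_inf.2 ⟨pow_mem s.2 5, ?_⟩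
        have : (s : C) ^ 5 = ((y : C) ^ 5)⁻¹ := eq_inv_of_mul_eq_one_left hpow
        rw [this]
        exact inv_mem (pow_mem y.2 5)
      rw [hinf, Subgroup.mem_bot] at hs5
      rw [hs5, one_mul] at hpow
      have hy5 : y ^ 5 = 1 := by
        apply Subtype.ext
        simpa using hpow
      have hyo : orderOf y ∣ 5 := orderOf_dvd_of_pow_eq_one hy5
      have hyM : orderOf y ∣ Nat.card M := orderOf_dvd_natCard y
      have hy1 : orderOf y = 1 := by
        have := Nat.dvd_gcd hyM hyo
        rw [hM5] at this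
        exact Nat.dvd_one.1 this
      have hy : y = 1 := orderOf_eq_one_iff.1 hy1
      have hxs : (s : C) = x := by
        rw [← hsy', hy]; simp
      refine ⟨⟨s, ?_⟩, ?_⟩
      · rw [← Subgroup.orderOf_coe, hxs]; exact hx
      · exact Subtype.ext hxs

end Cfsg.Agent.Lib.Helper14.OTF
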