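import Mathlib
import Cfsg.Agent.Lib.Helper14.OTFNS5bAux

/-! K-OTF leaf NS5b (S3999 pack, architect helper53), exact signature.
The two `SL(2,5)` counts (leaf NS5a) are obtained here by kernel evaluation. -/

set_option autoImplicit false

namespace Cfsg.Agent.Lib.Helper14.OTF

theorem sl25_card : Nat.card (Matrix.SpecialLinearGroup (Fin 2) (ZMod 5)) = 120 := by
  rw [Nat.card_eq_fintype_card]
  decide +kernel

theorem sl25_card_order_five_eq :
    Nat.card {x : Matrix.SpecialLinearGroup (Fin 2) (ZMod 5) // orderOf x = 5} = 24 := by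
  have : Fact (Nat.Prime 5) := ⟨by norm_num⟩
  have h : Nat.card {x : Matrix.SpecialLinearGroup (Fin 2) (ZMod 5) // orderOf x = 5} =
      Nat.card {x : Matrix.SpecialLinearGroup (Fin 2) (ZMod 5) // x ^ 5 = 1 ∧ x ≠ 1} :=
    Nat.card_congr (Equiv.subtypeEquivRight (fun x => orderOf_eq_prime_iff))
  rw [h, Nat.card_eq_fintype_card]
  decide +kernel

/-- LEAF NS5a (same statement as in the spec). -/
theorem sl25_card_order_five :
    Nat.card {x : Matrix.SpecialLinearGroup (Fin 2) (ZMod 5) // orderOf x = 5} = 24 ∧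
      Nat.card (Matrix.SpecialLinearGroup (Fin 2) (ZMod 5)) = 120 :=
  ⟨sl25_card_order_five_eq, sl25_card⟩

/-- LEAF NS5b. -/
theorem card_order_five_of_structure {C : Type*} [Group C] [Finite C]
    (h : ∃ G₀ : Subgroup C, G₀.Normal ∧ (G₀.index = 1 ∨ G₀.index = 2) ∧
      ∃ S M : Subgroup C, S ⊔ M = G₀ ∧ S ⊓ M = ⊥ ∧ (∀ s ∈ S, ∀ x ∈ M, s * x = x * s) ∧
        Nonempty (S ≃* Matrix.SpecialLinearGroup (Fin 2) (ZMod 5)) ∧
        (∀ (p : ℕ) [Fact p.Prime] (P : Sylow p M), IsCyclic P) ∧ (Nat.card M).Coprime 30) :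
    (Nat.card C).factorization 5 = 1 ∧ Nat.card {x : C // orderOf x = 5} = 24 :=
  card_order_five_of_structure_aux sl25_card_order_five_eq sl25_card h

end Cfsg.Agent.Lib.Helper14.OTF
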