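/-
K-Om-S (keystone 599402) of the S5994 pack (architect helper32): hyperbolic ⟂ (space with a strongly
maximal totally singular subspace) has no totally singular subspace of larger dimension.
-/
import Cfsg.Agent.Lib.Helper98.Os3
import Cfsg.Agent.Lib.Helper26.OsD
import Cfsg.Agent.Lib.Helper43.WittIndex
import Cfsg.Agent.Lib.Helper75.NdD

set_option autoImplicit false

namespace Cfsg.Agent.Lib.Helper14.Om

open Module Cfsg.Agent.Lib.Helper98.Elus Cfsg.Agent.Lib.Helper98.Sy

universe u
variable {F : Type u} [Field F]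

/-- Mathlib nondegeneracy from `NonDeg B ⊤` for a symmetric form -/
theorem nondegenerate_of_nonDeg {V : Type u} [AddCommGroup V] [Module F V]
    (B : LinearMap.BilinForm F V) (hs : ∀ x y, B x y = B y x) (hnd : NonDeg B ⊤) :
    B.Nondegenerate := by
  constructor
  · intro x hx
    exact hnd x Submodule.mem_top (fun v _ => hx v)
  · intro y hy
    exact hnd y Submodule.mem_top (fun v _ => by rw [hs]; exact hy v)

/-- a totally singular subspace of half the dimension of a nondegenerate symmetric space (`2 ≠ 0`)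
is its own orthogonal -/
theorem mem_of_orth_half (h2 : (2 : F) ≠ 0) {V : Type u} [AddCommGroup V] [Module F V]
    [FiniteDimensional F V] (B : LinearMap.BilinForm F V) (hs : ∀ x y, B x y = B y x)
    (hnd : NonDeg B ⊤) (X : Submodule F V) (hX : ∀ x ∈ X, B x x = 0)
    (hXd : 2 * finrank F X = finrank F V) (v : V) (hv : ∀ x ∈ X, B v x = 0) : v ∈ X := by
  have hND := nondegenerate_of_nonDeg B hs hnd
  have hXX : ∀ x ∈ X, ∀ y ∈ X, B x y = 0 := by
    intro x hx y hy
    have h1 := hX _ (X.add_mem hx hy)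
    rw [map_add, map_add, LinearMap.add_apply, LinearMap.add_apply, hX x hx, hX y hy, hs y x,
      zero_add, add_zero, ← two_mul] at h1
    exact (mul_eq_zero.mp h1).resolve_left h2
  have hle : X ≤ B.orthogonal X := by
    intro x hx
    rw [LinearMap.BilinForm.mem_orthogonal_iff]
    intro n hn
    exact hXX n hn x hx
  have hfr := LinearMap.BilinForm.finrank_orthogonal hND X
  have heq : X = B.orthogonal X := by
    apply Submodule.eq_of_le_of_finrank_le hle
    rw [hfr]
    omega
  rw [heq, LinearMap.BilinForm.mem_orthogonal_iff]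
  intro n hn
  change B n v = 0
  rw [hs]
  exact hv n hn

/-- **K-Om-S (599402)** -/
theorem finrank_le_of_prod (h2 : (2 : F) ≠ 0)
    {V₁ V₂ : Type u} [AddCommGroup V₁] [Module F V₁] [FiniteDimensional F V₁]
    [AddCommGroup V₂] [Module F V₂] [FiniteDimensional F V₂]
    (B₁ : LinearMap.BilinForm F V₁) (B₂ : LinearMap.BilinForm F V₂)
    (hs₁ : ∀ x y, B₁ x y = B₁ y x) (hs₂ : ∀ x y, B₂ x y = B₂ y x)
    (hnd₁ : NonDeg B₁ ⊤) (hnd₂ : NonDeg B₂ ⊤)
    (X₁ : Submodule F V₁) (hX₁ : ∀ x ∈ X₁, B₁ x x = 0) (hX₁d : 2 * finrank F X₁ = finrank F V₁)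
    (X₂ : Submodule F V₂) (hX₂ : ∀ x ∈ X₂, B₂ x x = 0)
    (hX₂max : ∀ v, (∀ x ∈ X₂, B₂ v x = 0) → B₂ v v = 0 → v ∈ X₂)
    (X : Submodule F (V₁ × V₂))
    (hX : ∀ x ∈ X, Cfsg.Agent.Lib.Helper75.Nd.prodForm B₁ B₂ x x = 0) :
    finrank F X ≤ finrank F X₁ + finrank F X₂ := by
  classical
  obtain ⟨B, hBdef⟩ : ∃ B : LinearMap.BilinForm F (V₁ × V₂),
      B = Cfsg.Agent.Lib.Helper75.Nd.prodForm B₁ B₂ := ⟨_, rfl⟩
  have hB : ∀ x y : V₁ × V₂, B x y = B₁ x.1 y.1 + B₂ x.2 y.2 := by
    intro x y
    rw [hBdef, Cfsg.Agent.Lib.Helper75.Nd.prodForm_apply]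
  have hsymm : ∀ x y, B x y = B y x := by
    intro x y
    rw [hB, hB, hs₁, hs₂]
  let Q : QuadraticForm F (V₁ × V₂) := (2⁻¹ : F) • LinearMap.BilinMap.toQuadraticMap B
  have hQ : ∀ v, Q v = 2⁻¹ * B v v := by
    intro v
    show (2⁻¹ : F) • (LinearMap.BilinMap.toQuadraticMap B) v = _
    rw [LinearMap.BilinMap.toQuadraticMap_apply, smul_eq_mul]
  have hpolar : ∀ x y, QuadraticMap.polarBilin Q x y = B x y := by
    intro x y
    rw [QuadraticMap.polarBilin_apply_apply]
    unfold QuadraticMap.polar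
    rw [hQ, hQ, hQ, map_add, map_add, LinearMap.add_apply, LinearMap.add_apply, hsymm y x]
    field_simp
    ring
  have hQ0 : ∀ v, Q v = 0 ↔ B v v = 0 := by
    intro v
    rw [hQ]
    constructor
    · intro h
      exact (mul_eq_zero.mp h).resolve_left (inv_ne_zero h2)
    · intro h
      rw [h, mul_zero]
  have hND : (QuadraticMap.polarBilin Q).Nondegenerate := by
    constructor
    · intro x hx
      have h1 : x.1 = 0 := hnd₁ x.1 Submodule.mem_top (fun v _ => by
        have := hx (v, 0)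
        rw [hpolar, hB] at this
        simpa using this)
      have h3 : x.2 = 0 := hnd₂ x.2 Submodule.mem_top (fun v _ => by
        have := hx (0, v)
        rw [hpolar, hB] at this
        simpa using this)
      exact Prod.ext h1 h3
    · intro y hy
      have h1 : y.1 = 0 := hnd₁ y.1 Submodule.mem_top (fun v _ => by
        have := hy (v, 0)
        rw [hpolar, hB] at this
        rw [hs₁]
        simpa using this)
      have h3 : y.2 = 0 := hnd₂ y.2 Submodule.mem_top (fun v _ => by
        have := hy (0, v)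
        rw [hpolar, hB] at this
        rw [hs₂]
        simpa using this)
      exact Prod.ext h1 h3
  have hXX₁ : ∀ x ∈ X₁, ∀ y ∈ X₁, B₁ x y = 0 := by
    intro x hx y hy
    have h1 := hX₁ _ (X₁.add_mem hx hy)
    rw [map_add, map_add, LinearMap.add_apply, LinearMap.add_apply, hX₁ x hx, hX₁ y hy, hs₁ y x,
      zero_add, add_zero, ← two_mul] at h1
    exact (mul_eq_zero.mp h1).resolve_left h2
  have hE : ∀ e ∈ X₁.prod X₂, Q e = 0 := by
    intro e he
    rw [Submodule.mem_prod] at he
    rw [hQ0, hB, hX₁ _ he.1, hX₂ _ he.2, add_zero]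
  have hEmax : ∀ v, (∀ e ∈ X₁.prod X₂, QuadraticMap.polarBilin Q v e = 0) → Q v = 0 →
      v ∈ X₁.prod X₂ := by
    intro v hv hv0
    have hv1 : v.1 ∈ X₁ := by
      apply mem_of_orth_half h2 B₁ hs₁ hnd₁ X₁ hX₁ hX₁d
      intro x hx
      have := hv (x, 0) (by rw [Submodule.mem_prod]; exact ⟨hx, X₂.zero_mem⟩)
      rw [hpolar, hB] at this
      simpa using this
    have hv2 : v.2 ∈ X₂ := by
      apply hX₂max
      · intro x hx
        have := hv (0, x) (by rw [Submodule.mem_prod]; exact ⟨X₁.zero_mem, hx⟩)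
        rw [hpolar, hB] at this
        simpa using this
      · have := (hQ0 v).mp hv0
        rw [hB, hX₁ _ hv1, zero_add] at this
        exact this
    rw [Submodule.mem_prod]
    exact ⟨hv1, hv2⟩
  have hW : ∀ w ∈ X, Q w = 0 := by
    intro w hw
    rw [hQ0, hBdef]
    exact hX w hw
  have := Cfsg.Agent.Lib.Helper43.finrank_le_of_totallySingular Q hND (X₁.prod X₂) X hW hEmax hE
  rw [Cfsg.Agent.Lib.Helper26.Os.finrank_prod_submodule] at this
  exact this

end Cfsg.Agent.Lib.Helper14.Om
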