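/-
K-OsEl-C (keystone 597203) of the S5972 pack (architect helper8): Witt index of a nondegenerate
symmetric space over a finite field.
-/
import Cfsg.Agent.Lib.Helper98.Ti2
import Cfsg.Agent.Lib.Helper98.Os3

set_option autoImplicit false

namespace Cfsg.Agent.Lib.Helper14.OsEl

open Module Cfsg.Agent.Lib.Helper98.Elus Cfsg.Agent.Lib.Helper98.Sy

universe u
variable {F : Type u} [Field F] {V : Type u} [AddCommGroup V] [Module F V]

/-- a nondegenerate symmetric space of dimension `≥ 2s + 1` over a finite field contains a totally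
singular subspace of dimension `s` -/
theorem exists_ts_symm [Fintype F] [FiniteDimensional F V] {B : LinearMap.BilinForm F V}
    (hS : ∀ x y, B x y = B y x) (h2 : (2 : F) ≠ 0) :
    ∀ (s : ℕ) (U : Submodule F V), NonDeg B U → 2 * s + 1 ≤ finrank F U →
      ∃ Z : Submodule F V, Z ≤ U ∧ Ort B Z Z ∧ finrank F Z = s := by
  have _ := h2
  have hR := Cfsg.Agent.Lib.Helper98.Os.isRefl_of_symm hS
  intro s
  induction s with
  | zero =>
    intro U _ _
    refine ⟨⊥, bot_le, fun u hu v _ => ?_, finrank_bot F V⟩
    rw [(Submodule.mem_bot F).mp hu, map_zero, LinearMap.zero_apply]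
  | succ s ih =>
    intro U hU hs
    obtain ⟨u, huU, hu0, huu⟩ := Cfsg.Agent.Lib.Helper98.Ti.exists_common_isotropic U 1
      (fun _ => B) (by omega)
    have huu : B u u = 0 := huu 0
    -- a partner `v`
    obtain ⟨v, hvU, huv⟩ : ∃ v ∈ U, B u v ≠ 0 := by
      by_contra hcon
      push Not at hcon
      exact hu0 (hU u huU hcon)
    let H : Submodule F V := Submodule.span F {u} ⊔ Submodule.span F {v}
    have huH : u ∈ H := Submodule.mem_sup_left (Submodule.mem_span_singleton_self u)
    have hvH : v ∈ H := Submodule.mem_sup_right (Submodule.mem_span_singleton_self v)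
    have hHle : H ≤ U := by
      apply sup_le
      · rw [Submodule.span_singleton_le_iff_mem]; exact huU
      · rw [Submodule.span_singleton_le_iff_mem]; exact hvU
    have hv0 : v ≠ 0 := by
      rintro rfl
      exact huv (map_zero _)
    have hHd : finrank F H ≤ 2 := by
      have h1 := Submodule.finrank_add_le_finrank_add_finrank (Submodule.span F {u})
        (Submodule.span F {v})
      rw [finrank_span_singleton hu0, finrank_span_singleton hv0] at h1
      exact h1
    have hH : NonDeg B H := by
      intro a ha ha'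
      obtain ⟨a1, ha1, a2, ha2, rfl⟩ := Submodule.mem_sup.mp ha
      obtain ⟨α, rfl⟩ := Submodule.mem_span_singleton.mp ha1
      obtain ⟨β, rfl⟩ := Submodule.mem_span_singleton.mp ha2
      have e1 := ha' u huH
      have e2 := ha' v hvH
      simp only [map_add, LinearMap.add_apply, map_smul, LinearMap.smul_apply, smul_eq_mul] at e1 e2
      rw [huu, mul_zero, zero_add, hS v u] at e1
      have hβ : β = 0 := (mul_eq_zero.mp e1).resolve_right huv
      rw [hβ, zero_mul, add_zero] at e2
      have hα : α = 0 := (mul_eq_zero.mp e2).resolve_right huv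
      rw [hα, hβ, zero_smul, zero_smul, add_zero]
    obtain ⟨h1, h2', h3, h4⟩ := Cfsg.Agent.Lib.Helper98.Os.compl_props hR H U hH hHle hU
    obtain ⟨Z', hZ'le, hZ', hZ'd⟩ := ih (B.orthogonal H ⊓ U) h3 (by omega)
    have huZ : ∀ z ∈ Z', B u z = 0 := fun z hz =>
      LinearMap.BilinForm.mem_orthogonal_iff.mp (Submodule.mem_inf.mp (hZ'le hz)).1 u huH
    refine ⟨Submodule.span F {u} ⊔ Z', ?_, ?_, ?_⟩
    · apply sup_le
      · rw [Submodule.span_singleton_le_iff_mem]
        exact huU
      · exact le_trans hZ'le inf_le_right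
    · intro a ha b hb
      obtain ⟨a1, ha1, a2, ha2, rfl⟩ := Submodule.mem_sup.mp ha
      obtain ⟨b1, hb1, b2, hb2, rfl⟩ := Submodule.mem_sup.mp hb
      obtain ⟨α, rfl⟩ := Submodule.mem_span_singleton.mp ha1
      obtain ⟨β, rfl⟩ := Submodule.mem_span_singleton.mp hb1
      simp only [map_add, LinearMap.add_apply, map_smul, LinearMap.smul_apply, smul_eq_mul]
      rw [huu, huZ b2 hb2, hS a2 u, huZ a2 ha2, hZ' a2 ha2 b2 hb2]
      ring
    · have hinf : Submodule.span F {u} ⊓ Z' = ⊥ := by
        rw [eq_bot_iff, ← h2']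
        apply inf_le_inf
        · rw [Submodule.span_singleton_le_iff_mem]
          exact huH
        · exact hZ'le
      have h := Submodule.finrank_sup_add_finrank_inf_eq (Submodule.span F {u}) Z'
      rw [hinf, finrank_bot, finrank_span_singleton hu0, hZ'd] at h
      omega

end Cfsg.Agent.Lib.Helper14.OsEl
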