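import Mathlib
import Cfsg.Prelude.Def_Blocks
import Cfsg.Agent.Lib.Helper78.PDDefs
import Cfsg.Agent.Lib.Helper42.CD3DIV

set_option autoImplicit false

/-!
# K-PD LEAF NORMAL (keystone 446602, S4466): `PrimeDeg` passes to normal subgroups
-/

namespace Cfsg.Agent.Lib.Helper14.PD

open Cfsg Cfsg.Agent.Lib.Helper78.PD

universe u

/-- 446602 K-PD-NORMAL (EASY): the hypothesis passes to normal subgroups. -/
theorem primeDeg_normal {G : Type u} [Group G] [Finite G] (h : PrimeDeg G)
    (N : Subgroup G) [N.Normal] : PrimeDeg N := by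
  intro θ hθ
  obtain ⟨χ, hχ, e, he, _⟩ := Cfsg.Agent.Lib.Helper42.CD3.exists_over N θ.2
  have hne : charDegree χ ≠ 1 := by
    intro h1
    rw [h1] at he
    exact hθ (Nat.dvd_one.mp (Dvd.intro_left e he.symm))
  have hp := h ⟨χ, hχ⟩ hne
  have hdvd : charDegree (θ : N → ℂ) ∣ charDegree χ := Dvd.intro_left e he.symm
  rcases (Nat.Prime.eq_one_or_self_of_dvd hp _ hdvd) with h1 | h1
  · exact absurd h1 hθ
  · rw [h1]; exact hp

end Cfsg.Agent.Lib.Helper14.PD
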