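import Mathlib
import Cfsg.Prelude.Def_Blocks
import Cfsg.Agent.Lib.Helper78.PDDefs
import Cfsg.Agent.Lib.Helper83.Quotient

set_option autoImplicit false

/-!
# K-PD LEAF QUOT (keystone 446601, S4466): `PrimeDeg` passes to quotients
-/

namespace Cfsg.Agent.Lib.Helper14.PD

open Cfsg Cfsg.Agent.Lib.Helper78.PD

universe u

/-- 446601 K-PD-QUOT (EASY): the hypothesis passes to quotients. -/
theorem primeDeg_quotient {G : Type u} [Group G] [Finite G] (h : PrimeDeg G)
    (N : Subgroup G) [N.Normal] : PrimeDeg (G ⧸ N) := by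
  intro ψ hψ
  have hirr : IsIrrCharacter G (fun g : G => (ψ : G ⧸ N → ℂ) (QuotientGroup.mk g)) :=
    Cfsg.Agent.Lib.Helper83.isIrrCharacter_inflate N ψ.2
  have h1 := h ⟨_, hirr⟩
  have hdeg : charDegree (fun g : G => (ψ : G ⧸ N → ℂ) (QuotientGroup.mk g)) =
      charDegree (ψ : G ⧸ N → ℂ) := rfl
  rw [hdeg] at h1
  exact h1 hψ

end Cfsg.Agent.Lib.Helper14.PD
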