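import Mathlib
import Cfsg.Prelude.Def_Characters
import Cfsg.Prelude.Def_Blocks
import Cfsg.Agent.Lib.Helper34.PFaithDefs

/-!
Keystone K-S4489-D1 (architect helper34): orbit counting for power-map twists under induction from a
normal subgroup of index `p` of a `p`-group.
-/

set_option autoImplicit false

namespace Cfsg.Agent.Lib.Helper14.PFaith

open Cfsg Cfsg.Agent.Lib.Helper34.PFaith

universe u

theorem ptw_ptw_inv {G : Type*} [Group G] {n k k' : ℕ} (hG : ∀ g : G, g ^ n = 1) (h : k * k' % n = 1)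
    (φ : G → ℂ) : ptw k' (ptw k φ) = φ := by
  funext g
  simp only [ptw_apply]
  rw [← pow_mul, mul_comm, pow_eq_pow_mod _ (hG g), h, pow_one]

theorem exists_inv_mod {p a k : ℕ} (hp : p.Prime) (ha : a ≠ 0) (hk : ¬ p ∣ k) :
    ∃ k', ¬ p ∣ k' ∧ k * k' % p ^ a = 1 ∧ k' * k % p ^ a = 1 := by
  have hcop : Nat.Coprime k (p ^ a) :=
    Nat.Coprime.pow_right a ((Nat.Prime.coprime_iff_not_dvd hp).2 hk).symm
  have h1 : 1 < p ^ a := Nat.one_lt_pow ha hp.one_lt
  obtain ⟨m, -, hm⟩ := Nat.exists_mul_mod_eq_one_of_coprime hcop h1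
  refine ⟨m, ?_, hm, by rwa [mul_comm]⟩
  intro hpm
  have : p ∣ k * m % p ^ a := (Nat.dvd_mod_iff (dvd_pow_self p ha)).2 (Dvd.dvd.mul_left hpm k)
  rw [hm] at this
  exact hp.one_lt.ne' (Nat.dvd_one.1 this)

theorem indFun_ptw {P : Type u} [Group P] [Fintype P] {p a : ℕ} (hp : p.Prime) (ha : a ≠ 0)
    (hP : ∀ g : P, g ^ (p ^ a) = 1) (M : Subgroup P) (ψ : M → ℂ) {k : ℕ} (hk : ¬ p ∣ k) :
    indFun M (ptw k ψ) = ptw k (indFun M ψ) := by
  have hmem : ∀ g : P, g ^ k ∈ M → g ∈ M := by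
    intro g h
    obtain ⟨k', -, hk', -⟩ := exists_inv_mod hp ha hk
    have : g = (g ^ k) ^ k' := by rw [← pow_mul, pow_eq_pow_mod _ (hP g), hk', pow_one]
    rw [this]; exact M.pow_mem h k'
  have hext : ∀ y : P, extendByZero M (ptw k ψ) y = extendByZero M ψ (y ^ k) := by
    intro y
    by_cases hy : y ∈ M
    · have h1 : extendByZero M (ptw k ψ) y = ptw k ψ ⟨y, hy⟩ := by
        unfold extendByZero
        exact Subtype.val_injective.extend_apply _ _ (⟨y, hy⟩ : M)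
      have h2 : extendByZero M ψ (y ^ k) = ψ ⟨y ^ k, M.pow_mem hy k⟩ := by
        unfold extendByZero
        exact Subtype.val_injective.extend_apply _ _ (⟨y ^ k, M.pow_mem hy k⟩ : M)
      rw [h1, h2]; rfl
    · have h1 : extendByZero M (ptw k ψ) y = 0 := by
        unfold extendByZero
        rw [Function.extend_apply']
        · rfl
        · rintro ⟨m, rfl⟩; exact hy m.2
      have h2 : extendByZero M ψ (y ^ k) = 0 := by
        unfold extendByZero
        rw [Function.extend_apply']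
        · rfl
        · rintro ⟨m, hm⟩; exact hy (hmem y (hm ▸ m.2))
      rw [h1, h2]
  funext g
  simp only [ptw_apply, indFun]
  congr 1
  refine Finset.sum_congr rfl fun x _ => ?_
  rw [hext]
  congr 1
  have := conj_pow (a := x⁻¹) (b := g) (i := k)
  simpa using this

theorem pN_eq_fiber_mul {P : Type u} [Group P] [Fintype P] (p a : ℕ) (hp : p.Prime)
    (hP : Nat.card P = p ^ a) (M : Subgroup P) [M.Normal] (hM : M.index = p) (ψ : M → ℂ) :
    pN p ψ = Set.ncard {ψ' : M → ℂ | ψ' ∈ porbit p ψ ∧ indFun M ψ' = indFun M ψ} * pN p (indFun M ψ) := by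
  classical
  have ha : a ≠ 0 := by
    rintro rfl
    rw [pow_zero] at hP
    have h1 : M.index ∣ Nat.card P := Subgroup.index_dvd_card M
    rw [hP, hM] at h1
    exact hp.one_lt.ne' (Nat.dvd_one.1 h1)
  have hPpow : ∀ g : P, g ^ (p ^ a) = 1 := fun g => by rw [← hP]; exact pow_card_eq_one'
  have hMpow : ∀ h : M, h ^ (p ^ a) = 1 := fun h => Subtype.ext (by simp [hPpow])
  set χ := indFun M ψ with hχ
  set T := porbit p χ with hT
  set S := porbit p ψ with hS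
  set F := {ψ' : M → ℂ | ψ' ∈ S ∧ indFun M ψ' = χ} with hF
  let kk : (P → ℂ) → ℕ := fun χ' => if h : χ' ∈ T then Classical.choose h else 1
  have hkk : ∀ χ' ∈ T, ¬ p ∣ kk χ' ∧ χ' = ptw (kk χ') χ := by
    intro χ' h
    simp only [kk, dif_pos h]
    exact Classical.choose_spec h
  let gmap : (M → ℂ) × (P → ℂ) → (M → ℂ) := fun q => ptw (kk q.2) q.1
  have himg : gmap '' (F ×ˢ T) = S := by
    ext ψ''
    constructor
    · rintro ⟨⟨ψ', χ'⟩, ⟨hψ', hχ'⟩, rfl⟩
      obtain ⟨l, hl, rfl⟩ := hψ'.1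
      obtain ⟨hk1, hk2⟩ := hkk χ' hχ'
      refine ⟨kk χ' * l, ?_, ?_⟩
      · exact fun h => (hp.dvd_mul.1 h).elim hk1 hl
      · simp only [gmap]; rw [ptw_ptw]
    · rintro ⟨l, hl, rfl⟩
      have hχ'T : ptw l χ ∈ T := ⟨l, hl, rfl⟩
      obtain ⟨hk1, hk2⟩ := hkk _ hχ'T
      obtain ⟨k', hk'1, hk'2, hk'3⟩ := exists_inv_mod hp ha hk1
      refine ⟨(ptw k' (ptw l ψ), ptw l χ), ⟨⟨⟨k' * l, ?_, ptw_ptw _ _ _⟩, ?_⟩, hχ'T⟩, ?_⟩
      · exact fun h => (hp.dvd_mul.1 h).elim hk'1 hl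
      · rw [indFun_ptw hp ha hPpow M _ hk'1, indFun_ptw hp ha hPpow M _ hl, ← hχ]
        conv_lhs => rw [hk2]
        exact ptw_ptw_inv hPpow hk'2 χ
      · simp only [gmap]
        exact ptw_ptw_inv hMpow hk'3 _
  have hinj : Set.InjOn gmap (F ×ˢ T) := by
    rintro ⟨ψ1, χ1⟩ ⟨h1, h1'⟩ ⟨ψ2, χ2⟩ ⟨h2, h2'⟩ heq
    simp only [gmap] at heq
    obtain ⟨hk1, hk1'⟩ := hkk χ1 h1'
    obtain ⟨hk2, hk2'⟩ := hkk χ2 h2'
    have hχeq : χ1 = χ2 := by
      have := congrArg (indFun M) heq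
      rw [indFun_ptw hp ha hPpow M _ hk1, indFun_ptw hp ha hPpow M _ hk2] at this
      have e1 : indFun M ψ1 = χ := h1.2
      have e2 : indFun M ψ2 = χ := h2.2
      rw [e1, e2, ← hk1', ← hk2'] at this
      exact this
    subst hχeq
    obtain ⟨k', hk'1, hk'2, hk'3⟩ := exists_inv_mod hp ha hk1
    have := congrArg (ptw k') heq
    rw [ptw_ptw_inv hMpow hk'2, ptw_ptw_inv hMpow hk'2] at this
    rw [this]
  show S.ncard = F.ncard * T.ncard
  rw [← himg, Set.InjOn.ncard_image hinj, Set.ncard_prod]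

end Cfsg.Agent.Lib.Helper14.PFaith
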