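import Mathlib

/-!
# K-PG2-TAN (keystone 345210, row S3452, architect helper59): the tangent element.

`K ∈ SL₂(p)`, `(tr K)² ≠ 4`, any `t₀`: some `g ∈ SL₂(p)` with `tr g = t₀` and `2 tr (K g) = tr K * t₀`.
`g = t₀/2 + n`, `n = !![x, y; z, -x]` with `(α-δ) x + γ y + β z = 0` and `4 (x² + y z) = t₀² - 4`; the binary
quadratic form obtained by eliminating `z` (or `y`) has discriminant `(tr K)² - 4 ≠ 0`, hence is universal.
-/

set_option autoImplicit false
set_option linter.unusedSectionVars false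
set_option linter.unusedVariables false

namespace Cfsg.Agent.Lib.Helper14.PG2

open Matrix Polynomial

theorem two_ne_zero_zmod (p : ℕ) [Fact p.Prime] (hp : p ≠ 2) : (2 : ZMod p) ≠ 0 := by
  intro h
  have h' : ((2 : ℕ) : ZMod p) = 0 := by exact_mod_cast h
  rw [ZMod.natCast_eq_zero_iff] at h'
  have hpp : p.Prime := Fact.out
  exact hp ((Nat.prime_dvd_prime_iff_eq hpp Nat.prime_two).mp h')

/-- a binary form `X² - Δ y²`, `Δ ≠ 0`, is universal over `ZMod p`, `p` odd -/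
theorem exists_sq_sub (p : ℕ) [Fact p.Prime] (hp : p ≠ 2) (Δ w : ZMod p) (hΔ : Δ ≠ 0) :
    ∃ X y : ZMod p, X ^ 2 - Δ * y ^ 2 = w := by
  have hodd : Fintype.card (ZMod p) % 2 = 1 := by
    rw [ZMod.card]
    exact (Nat.Prime.eq_two_or_odd (Fact.out : p.Prime)).resolve_left hp
  have hf : ((X : (ZMod p)[X]) ^ 2 - C w).degree = 2 :=
    degree_X_pow_sub_C (by norm_num) w
  have hg : (C (-Δ) * (X : (ZMod p)[X]) ^ 2).degree = 2 := by
    rw [degree_C_mul_X_pow 2 (neg_ne_zero.mpr hΔ)]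
    rfl
  obtain ⟨a, b, hab⟩ := FiniteField.exists_root_sum_quadratic hf hg hodd
  refine ⟨a, b, ?_⟩
  simp only [eval_sub, eval_pow, eval_X, eval_C, eval_mul] at hab
  linear_combination hab

/-- the element `t₀/2 + !![x, y; z, -x]` -/
theorem tangent_of_xyz (p : ℕ) [Fact p.Prime] (hp : p ≠ 2)
    (K : Matrix.SpecialLinearGroup (Fin 2) (ZMod p)) (t0 x y z : ZMod p)
    (h1 : (K.1 0 0 - K.1 1 1) * x + K.1 1 0 * y + K.1 0 1 * z = 0)
    (hq : 4 * (x ^ 2 + y * z) = t0 ^ 2 - 4) :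
    ∃ g : Matrix.SpecialLinearGroup (Fin 2) (ZMod p),
      g.1.trace = t0 ∧ 2 * (K.1 * g.1).trace = K.1.trace * t0 := by
  have h2 : (2 : ZMod p) ≠ 0 := two_ne_zero_zmod p hp
  have h4 : (4 : ZMod p) ≠ 0 := by
    have : (4 : ZMod p) = 2 * 2 := by norm_num
    rw [this]
    exact mul_ne_zero h2 h2
  obtain ⟨h, hh⟩ : ∃ h : ZMod p, 2 * h = t0 := ⟨2⁻¹ * t0, by rw [← mul_assoc, mul_inv_cancel₀ h2, one_mul]⟩
  have hdet : (!![h + x, y; z, h - x] : Matrix (Fin 2) (Fin 2) (ZMod p)).det = 1 := by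
    rw [Matrix.det_fin_two_of]
    have key : 4 * ((h + x) * (h - x) - y * z - 1) = 0 := by
      linear_combination (2 * h + t0) * hh - hq
    have := (mul_eq_zero.mp key).resolve_left h4
    linear_combination this
  refine ⟨⟨!![h + x, y; z, h - x], hdet⟩, ?_, ?_⟩
  · show (!![h + x, y; z, h - x] : Matrix (Fin 2) (Fin 2) (ZMod p)).trace = t0
    rw [Matrix.trace_fin_two_of]
    linear_combination hh
  · show 2 * (K.1 * (!![h + x, y; z, h - x] : Matrix (Fin 2) (Fin 2) (ZMod p))).trace = K.1.trace * t0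
    rw [Matrix.trace_fin_two, Matrix.trace_fin_two, Matrix.mul_apply, Matrix.mul_apply,
      Fin.sum_univ_two, Fin.sum_univ_two]
    simp only [Matrix.of_apply, Matrix.cons_val_zero, Matrix.cons_val_one, Matrix.cons_val',
      Matrix.cons_val_fin_one]
    linear_combination 2 * h1 + (K.1 0 0 + K.1 1 1) * hh

/-- **LEAF TAN.** -/
theorem exists_tangent (p : ℕ) [Fact p.Prime] (hp : p ≠ 2)
    (K : Matrix.SpecialLinearGroup (Fin 2) (ZMod p)) (hK : K.1.trace ^ 2 ≠ 4) (t0 : ZMod p) :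
    ∃ g : Matrix.SpecialLinearGroup (Fin 2) (ZMod p),
      g.1.trace = t0 ∧ 2 * (K.1 * g.1).trace = K.1.trace * t0 := by
  have h2 : (2 : ZMod p) ≠ 0 := two_ne_zero_zmod p hp
  have hdet : K.1 0 0 * K.1 1 1 - K.1 0 1 * K.1 1 0 = 1 := by
    have := K.2
    rw [Matrix.det_fin_two] at this
    exact this
  have htr : K.1.trace = K.1 0 0 + K.1 1 1 := Matrix.trace_fin_two K.1
  have hΔ : (K.1 0 0 - K.1 1 1) ^ 2 + 4 * K.1 0 1 * K.1 1 0 ≠ 0 := by
    intro h
    apply hK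
    rw [htr]
    linear_combination h + 4 * hdet
  generalize hα : K.1 0 0 = α at *
  generalize hβ : K.1 0 1 = β at *
  generalize hγ : K.1 1 0 = γ at *
  generalize hδ : K.1 1 1 = δ at *
  by_cases hb : β = 0
  · by_cases hc : γ = 0
    · -- diagonal case
      obtain ⟨h, hh⟩ : ∃ h : ZMod p, 2 * h = 1 := ⟨2⁻¹, mul_inv_cancel₀ h2⟩
      refine tangent_of_xyz p hp K t0 0 ((t0 - 2) * h) ((t0 + 2) * h) ?_ ?_
      · rw [hα, hβ, hγ, hδ, hb, hc]
        ring
      · linear_combination (t0 ^ 2 - 4) * (2 * h + 1) * hh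
    · -- `γ ≠ 0`
      obtain ⟨X, z, hXz⟩ := exists_sq_sub p hp ((α - δ) ^ 2 + 4 * β * γ) (γ ^ 2 * (t0 ^ 2 - 4)) hΔ
      obtain ⟨x, hx⟩ : ∃ x : ZMod p, 2 * γ * x = X + (α - δ) * z :=
        ⟨(2 * γ)⁻¹ * (X + (α - δ) * z), by
          rw [← mul_assoc, mul_inv_cancel₀ (mul_ne_zero h2 hc), one_mul]⟩
      obtain ⟨y, hy⟩ : ∃ y : ZMod p, γ * y = -((α - δ) * x + β * z) :=
        ⟨γ⁻¹ * -((α - δ) * x + β * z), by rw [← mul_assoc, mul_inv_cancel₀ hc, one_mul]⟩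
      refine tangent_of_xyz p hp K t0 x y z ?_ ?_
      · rw [hα, hβ, hγ, hδ]
        linear_combination hy
      · have key : γ ^ 2 * (4 * (x ^ 2 + y * z) - (t0 ^ 2 - 4)) = 0 := by
          linear_combination (4 * γ * z) * hy + (2 * γ * x + X - (α - δ) * z) * hx + hXz
        have := (mul_eq_zero.mp key).resolve_left (pow_ne_zero 2 hc)
        linear_combination this
  · -- `β ≠ 0`
    obtain ⟨X, y, hXy⟩ := exists_sq_sub p hp ((α - δ) ^ 2 + 4 * β * γ) (β ^ 2 * (t0 ^ 2 - 4)) hΔ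
    obtain ⟨x, hx⟩ : ∃ x : ZMod p, 2 * β * x = X + (α - δ) * y :=
      ⟨(2 * β)⁻¹ * (X + (α - δ) * y), by
        rw [← mul_assoc, mul_inv_cancel₀ (mul_ne_zero h2 hb), one_mul]⟩
    obtain ⟨z, hz⟩ : ∃ z : ZMod p, β * z = -((α - δ) * x + γ * y) :=
      ⟨β⁻¹ * -((α - δ) * x + γ * y), by rw [← mul_assoc, mul_inv_cancel₀ hb, one_mul]⟩
    refine tangent_of_xyz p hp K t0 x y z ?_ ?_
    · rw [hα, hβ, hγ, hδ]
      linear_combination hz
    · have key : β ^ 2 * (4 * (x ^ 2 + y * z) - (t0 ^ 2 - 4)) = 0 := by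
        linear_combination (4 * β * y) * hz + (2 * β * x + X - (α - δ) * y) * hx + hXy
      have := (mul_eq_zero.mp key).resolve_left (pow_ne_zero 2 hb)
      linear_combination this

end Cfsg.Agent.Lib.Helper14.PG2
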