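import Mathlib
import Cfsg.Prelude.Def_HallClasses

/-!
# K-PrnA-A5 (keystone 222203, row S2222, architect helper44): subgroups of odd index of `A_5` are pronormal,
given the abstract pronormality facts (Sylow subgroups, prime index, the whole group).
-/

set_option autoImplicit false
set_option linter.unusedVariables false

namespace Cfsg.Agent.Lib.Helper14.PrnA

open Equiv Equiv.Perm

theorem card_alt_five : Nat.card (alternatingGroup (Fin 5)) = 60 := by
  have h := two_mul_nat_card_alternatingGroup (α := Fin 5)
  rw [Nat.card_eq_fintype_card (α := Perm (Fin 5)), Fintype.card_perm, Fintype.card_fin] at h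
  have : Nat.factorial 5 = 120 := by decide
  omega

theorem pronormal_alt_five
    (hS : ∀ T : Sylow 2 (alternatingGroup (Fin 5)), Cfsg.IsPronormal (T : Subgroup (alternatingGroup (Fin 5))))
    (hP : ∀ H : Subgroup (alternatingGroup (Fin 5)), H.index.Prime → Cfsg.IsPronormal H)
    (hT : Cfsg.IsPronormal (⊤ : Subgroup (alternatingGroup (Fin 5))))
    (H : Subgroup (alternatingGroup (Fin 5))) (hH : Odd H.index) : Cfsg.IsPronormal H := by
  classical
  have hcard := card_alt_five
  have hmul : Nat.card H * H.index = 60 := by rw [Subgroup.card_mul_index, hcard]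
  have hdvd : H.index ∣ 60 := ⟨Nat.card H, by rw [mul_comm]; exact hmul.symm⟩
  have hle : H.index ≤ 60 := Nat.le_of_dvd (by norm_num) hdvd
  have hpos : 0 < H.index := Nat.pos_of_dvd_of_pos hdvd (by norm_num)
  have hcases : H.index = 1 ∨ H.index = 3 ∨ H.index = 5 ∨ H.index = 15 := by
    generalize H.index = k at *
    obtain ⟨t, ht⟩ := hH
    interval_cases k <;> omega
  rcases hcases with h | h | h | h
  · rw [Subgroup.index_eq_one] at h
    rw [h]
    exact hT
  · exact hP H (by rw [h]; norm_num)
  · exact hP H (by rw [h]; norm_num)
  · have hc4 : Nat.card H = 4 := by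
      rw [h] at hmul
      omega
    have hfac : (Nat.card (alternatingGroup (Fin 5))).factorization 2 = 2 := by
      rw [hcard]
      have : (60 : ℕ) = 2 ^ 2 * 15 := by norm_num
      rw [this, Nat.factorization_mul (by norm_num) (by norm_num), Nat.factorization_pow]
      simp [Nat.factorization_eq_zero_of_not_dvd (show ¬ 2 ∣ 15 by norm_num)]
      exact Nat.Prime.factorization_self Nat.prime_two
    have hcH : Nat.card H = 2 ^ (Nat.card (alternatingGroup (Fin 5))).factorization 2 := by
      rw [hfac, hc4]
      norm_num
    have := hS (Sylow.ofCard H hcH)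
    rwa [Sylow.coe_ofCard] at this

end Cfsg.Agent.Lib.Helper14.PrnA
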