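import Mathlib

/-!
Abstract algebra behind the normality of Glauberman's `K_∞` in groups `H` with `H / O_p(H)` an
abelian `p'`-group extended by a `p`-group: if a `p`-group `B` normalizes an abelian `p'`-group `Λ`
of operators of an elementary abelian `p`-group `V` (`p` odd) preserving an alternating form, and `B`
acts quadratically on every `B`-invariant totally isotropic subgroup, then `B` centralizes `Λ`.
-/

set_option autoImplicit false

namespace Cfsg.Agent.Lib.Helper14.QuadCore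

open MonoidAlgebra

section basic

variable {V : Type*} [AddCommGroup V]

theorem eq_zero_of_coprime_nsmul {p n : ℕ} (hV : ∀ v : V, p • v = 0) (hn : n.Coprime p) {v : V}
    (h : n • v = 0) : v = 0 := by
  have h1 : addOrderOf v ∣ n := addOrderOf_dvd_of_nsmul_eq_zero h
  have h2 : addOrderOf v ∣ p := addOrderOf_dvd_of_nsmul_eq_zero (hV v)
  have h3 : addOrderOf v ∣ Nat.gcd n p := Nat.dvd_gcd h1 h2
  rw [hn.gcd_eq_one] at h3
  exact AddMonoid.addOrderOf_eq_one_iff.mp (Nat.dvd_one.mp h3)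

theorem end_sum_apply {ι : Type*} (s : Finset ι) (f : ι → AddMonoid.End V) (v : V) :
    (∑ i ∈ s, f i) v = ∑ i ∈ s, f i v := by
  classical
  induction s using Finset.induction_on with
  | empty => rw [Finset.sum_empty, Finset.sum_empty]; rfl
  | insert a s ha ih => rw [Finset.sum_insert ha, Finset.sum_insert ha, ← ih]; rfl

theorem closure_map_mem (f : AddMonoid.End V) (S : Set V) (K : AddSubgroup V)
    (h : ∀ s ∈ S, f s ∈ K) : ∀ v ∈ AddSubgroup.closure S, f v ∈ K := by
  intro v hv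
  induction hv using AddSubgroup.closure_induction with
  | mem x hx => exact h x hx
  | zero => rw [map_zero]; exact K.zero_mem
  | add x y _ _ hx hy => rw [map_add]; exact K.add_mem hx hy
  | neg x _ hx => rw [map_neg]; exact K.neg_mem hx

end basic

section lemA

variable {M V : Type*} [CommGroup M] [AddCommGroup V]
  (ρ : M →* AddMonoid.End V) (τ : M →* M) (T : V →+ V)

/-- the algebra map of the integral group ring into `End V` -/
noncomputable def phi : ℤ[M] →ₐ[ℤ] AddMonoid.End V := MonoidAlgebra.lift ℤ (AddMonoid.End V) M ρ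

theorem phi_of (m : M) : phi ρ (of ℤ M m) = ρ m := MonoidAlgebra.lift_of ρ m

/-- the symmetric element `m + m⁻¹` of the group ring -/
noncomputable def theta (m : M) : ℤ[M] := of ℤ M m + of ℤ M m⁻¹

/-- the subgroup generated by the `m u + m⁻¹ u` -/
def nplus (u : V) : AddSubgroup V :=
  AddSubgroup.closure (Set.range fun m : M => ρ m u + ρ m⁻¹ u)

theorem phi_theta_apply (u : V) (m : M) : phi ρ (theta m) u = ρ m u + ρ m⁻¹ u := by
  unfold theta
  rw [map_add, phi_of, phi_of]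
  rfl

theorem phi_theta_mem (u : V) (m : M) : phi ρ (theta m) u ∈ nplus ρ u := by
  rw [phi_theta_apply]
  exact AddSubgroup.subset_closure ⟨m, rfl⟩

theorem of_mul_of_inv (m : M) : of ℤ M m * of ℤ M m⁻¹ = 1 := by
  rw [← map_mul, mul_inv_cancel, map_one]

theorem theta_one : theta (1 : M) = 2 := by
  unfold theta
  rw [inv_one, map_one]
  norm_num

theorem theta_sq (m : M) : theta m * theta m = theta (m * m) + theta 1 := by
  rw [theta_one]
  unfold theta
  have h1 := of_mul_of_inv m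
  have h2 : of ℤ M (m * m) = of ℤ M m * of ℤ M m := map_mul _ _ _
  have h3 : of ℤ M (m * m)⁻¹ = of ℤ M m⁻¹ * of ℤ M m⁻¹ := by
    rw [mul_inv, map_mul]
  rw [h2, h3]
  linear_combination (2 : ℤ[M]) * h1

theorem map_of (m : M) : mapDomainRingHom ℤ τ (of ℤ M m) = of ℤ M (τ m) := by
  simp [of_apply]

theorem map_theta (m : M) : mapDomainRingHom ℤ τ (theta m) = theta (τ m) := by
  unfold theta
  rw [map_add, map_of, map_of, map_inv]

variable {ρ τ T}

theorem T_phi (hT : ∀ (m : M) (v : V), T (ρ m v) = ρ (τ m) (T v)) {u : V} (hu : T u = u)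
    (x : ℤ[M]) : T (phi ρ x u) = phi ρ (mapDomainRingHom ℤ τ x) u := by
  induction x using MonoidAlgebra.induction_on with
  | of m =>
    rw [map_of, phi_of, phi_of, hT, hu]
  | add x y hx hy =>
    rw [map_add, map_add, map_add]
    show T (phi ρ x u + phi ρ y u) = phi ρ _ u + phi ρ _ u
    rw [map_add, hx, hy]
  | smul r x hx =>
    have h1 : phi ρ (r • x) = r • phi ρ x := map_smul _ _ _
    have h2 : mapDomainRingHom ℤ τ (r • x) = r • mapDomainRingHom ℤ τ x := by
      rw [zsmul_eq_mul, zsmul_eq_mul, map_mul, map_intCast]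
    rw [h1, h2]
    have h3 : phi ρ (r • mapDomainRingHom ℤ τ x) = r • phi ρ (mapDomainRingHom ℤ τ x) :=
      map_smul _ _ _
    rw [h3]
    show T (r • phi ρ x u) = r • phi ρ _ u
    rw [map_zsmul, hx]

/-- quadratic action on `nplus` gives `2 (θ_{τ l} - θ_l)² u = 0` -/
theorem two_D_sq (hT : ∀ (m : M) (v : V), T (ρ m v) = ρ (τ m) (T v)) {u : V} (hu : T u = u)
    (hquad : ∀ v ∈ nplus ρ u, T (T v - v) = T v - v) (l : M) :
    phi ρ (2 * ((theta (τ l) - theta l) * (theta (τ l) - theta l))) u = 0 := by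
  set σ := mapDomainRingHom ℤ τ with hσ
  set A := theta l with hA
  set A' := theta (τ l) with hA'
  set A'' := theta (τ (τ l)) with hA''
  have hσA : σ A = A' := map_theta τ l
  have hσA' : σ A' = A'' := map_theta τ (τ l)
  -- first relation
  have h1 : phi ρ (A'' - 2 * A' + A) u = 0 := by
    have hq := hquad _ (phi_theta_mem ρ u l)
    have e1 : T (phi ρ A u) = phi ρ A' u := by rw [T_phi hT hu, hσA]
    have e2 : T (phi ρ A' u) = phi ρ A'' u := by rw [T_phi hT hu, hσA']
    rw [map_sub, e1, e2] at hq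
    have : phi ρ (A'' - 2 * A' + A) u = (phi ρ A'' u - phi ρ A' u) - (phi ρ A' u - phi ρ A u) := by
      rw [map_add, map_sub, map_mul, map_ofNat]
      show phi ρ A'' u - ((2 : AddMonoid.End V) * phi ρ A') u + phi ρ A u = _
      have : ((2 : AddMonoid.End V) * phi ρ A') u = phi ρ A' u + phi ρ A' u := by
        rw [two_mul]; rfl
      rw [this]
      abel
    rw [this, hq, sub_self]
  -- second relation
  have hmem : phi ρ (A * A) u ∈ nplus ρ u := by
    rw [hA, theta_sq, map_add]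
    exact (nplus ρ u).add_mem (phi_theta_mem ρ u _) (phi_theta_mem ρ u _)
  have h2 : phi ρ (A'' * A'' - 2 * (A' * A') + A * A) u = 0 := by
    have hq := hquad _ hmem
    have e1 : T (phi ρ (A * A) u) = phi ρ (A' * A') u := by rw [T_phi hT hu, map_mul, hσA]
    have e2 : T (phi ρ (A' * A') u) = phi ρ (A'' * A'') u := by rw [T_phi hT hu, map_mul, hσA']
    rw [map_sub, e1, e2] at hq
    have : phi ρ (A'' * A'' - 2 * (A' * A') + A * A) u =
        (phi ρ (A'' * A'') u - phi ρ (A' * A') u) - (phi ρ (A' * A') u - phi ρ (A * A) u) := by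
      rw [map_add, map_sub, map_mul (phi ρ) (2 : ℤ[M]), map_ofNat]
      show phi ρ (A'' * A'') u - ((2 : AddMonoid.End V) * phi ρ (A' * A')) u + phi ρ (A * A) u = _
      have : ((2 : AddMonoid.End V) * phi ρ (A' * A')) u =
          phi ρ (A' * A') u + phi ρ (A' * A') u := by
        rw [two_mul]; rfl
      rw [this]
      abel
    rw [this, hq, sub_self]
  have key : 2 * ((A' - A) * (A' - A)) =
      (A'' * A'' - 2 * (A' * A') + A * A) - (A'' + 2 * A' - A) * (A'' - 2 * A' + A) := by ring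
  rw [key, map_sub, map_mul]
  show phi ρ _ u - phi ρ (A'' + 2 * A' - A) (phi ρ (A'' - 2 * A' + A) u) = 0
  rw [h1, h2, map_zero, sub_zero]

/-- expansion of `(θ_{τ l} - θ_l)²` in the group ring -/
theorem D_sq_eq (τ : M →* M) (l : M) :
    (theta (τ l) - theta l) * (theta (τ l) - theta l) =
      of ℤ M (τ l * τ l) + of ℤ M ((τ l)⁻¹ * (τ l)⁻¹) + of ℤ M (l * l) + of ℤ M (l⁻¹ * l⁻¹) + 4 -
        2 * (of ℤ M (τ l * l) + of ℤ M (τ l * l⁻¹) + of ℤ M ((τ l)⁻¹ * l) +
          of ℤ M ((τ l)⁻¹ * l⁻¹)) := by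
  unfold theta
  have h1 := of_mul_of_inv l
  have h2 := of_mul_of_inv (τ l)
  simp only [map_mul]
  linear_combination (2 : ℤ[M]) * h1 + (2 : ℤ[M]) * h2

section sums

variable [Fintype M]

theorem sum_of_hom (g : M →* M) (hg : ∀ m, g m = 1 → m = 1) :
    ∑ l : M, of ℤ M (g l) = ∑ m : M, of ℤ M m := by
  have hinj : Function.Injective g := (injective_iff_map_eq_one g).mpr hg
  have hbij : Function.Bijective g := Finite.injective_iff_bijective.mp hinj
  exact hbij.sum_comp (fun m => of ℤ M m)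

theorem sum_of_hom_inv (g : M →* M) (hg : ∀ m, g m = 1 → m = 1) :
    ∑ l : M, of ℤ M (g l)⁻¹ = ∑ m : M, of ℤ M m := by
  have h := sum_of_hom (g⁻¹) (fun m hm => hg m (by
    rw [MonoidHom.inv_apply, inv_eq_one] at hm
    exact hm))
  exact h

end sums

/-- **fixed points**: if `τ` (and `τ²`) act without fixed points on the finite abelian group `M`
of order prime to `p` and the operator `T` (intertwining `m` with `τ m`) is quadratic on `nplus u`
for a `T`-fixed `u`, then `M` fixes `u`. -/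
theorem fixed_of_fpf [Fintype M] {p : ℕ} (hV : ∀ v : V, p • v = 0) (h2p : Nat.Coprime 2 p)
    (hMp : (Fintype.card M).Coprime p)
    (hT : ∀ (m : M) (v : V), T (ρ m v) = ρ (τ m) (T v)) {u : V} (hu : T u = u)
    (hquad : ∀ v ∈ nplus ρ u, T (T v - v) = T v - v)
    (hτ1 : ∀ m, τ m = 1 → m = 1) (hτ2 : ∀ m, τ m = m → m = 1) (hτ3 : ∀ m, τ (τ m) = m → m = 1)
    (hsq : (∀ m : M, m * m = 1 → m = 1) ∨ (∀ m : M, m * m = 1)) :
    ∀ m : M, ρ m u = u := by
  have hrel : ∀ l : M, phi ρ (2 * ((theta (τ l) - theta l) * (theta (τ l) - theta l))) u = 0 :=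
    fun l => two_D_sq hT hu hquad l
  rcases hsq with hsq | hsq
  · -- odd case: sum over the group
    set e : ℤ[M] := ∑ m : M, of ℤ M m with he
    have s1 : ∑ l : M, of ℤ M (τ l * τ l) = e :=
      sum_of_hom (τ * τ) (fun m hm => hτ1 m (hsq _ hm))
    have s2 : ∑ l : M, of ℤ M ((τ l)⁻¹ * (τ l)⁻¹) = e :=
      (Finset.sum_congr rfl (fun l _ => by rw [← mul_inv]; rfl)).trans
        (sum_of_hom_inv (τ * τ) (fun m hm => hτ1 m (hsq _ hm)))
    have s3 : ∑ l : M, of ℤ M (l * l) = e :=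
      sum_of_hom (MonoidHom.id M * MonoidHom.id M) (fun m hm => hsq m hm)
    have s4 : ∑ l : M, of ℤ M (l⁻¹ * l⁻¹) = e :=
      (Finset.sum_congr rfl (fun l _ => by rw [← mul_inv]; rfl)).trans
        (sum_of_hom_inv (MonoidHom.id M * MonoidHom.id M) (fun m hm => hsq m hm))
    have h5 : ∀ m : M, τ m * m = 1 → m = 1 := by
      intro m hm
      have h1 : τ m = m⁻¹ := eq_inv_of_mul_eq_one_left hm
      apply hτ3
      rw [h1, map_inv, h1, inv_inv]
    have h6 : ∀ m : M, τ m * m⁻¹ = 1 → m = 1 := by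
      intro m hm
      exact hτ2 m (mul_inv_eq_one.mp hm)
    have s5 : ∑ l : M, of ℤ M (τ l * l) = e := sum_of_hom (τ * MonoidHom.id M) h5
    have s6 : ∑ l : M, of ℤ M (τ l * l⁻¹) = e := sum_of_hom (τ * (MonoidHom.id M)⁻¹) h6
    have s7 : ∑ l : M, of ℤ M ((τ l)⁻¹ * l) = e :=
      (Finset.sum_congr rfl (fun l _ => by
        show of ℤ M ((τ l)⁻¹ * l) = of ℤ M (τ l * l⁻¹)⁻¹
        rw [mul_inv, inv_inv])).trans (sum_of_hom_inv (τ * (MonoidHom.id M)⁻¹) h6)
    have s8 : ∑ l : M, of ℤ M ((τ l)⁻¹ * l⁻¹) = e :=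
      (Finset.sum_congr rfl (fun l _ => by rw [← mul_inv]; rfl)).trans
        (sum_of_hom_inv (τ * MonoidHom.id M) h5)
    have hsum : ∑ l : M, (2 * ((theta (τ l) - theta l) * (theta (τ l) - theta l)) : ℤ[M]) =
        8 * (Fintype.card M : ℤ[M]) - 8 * e := by
      simp only [D_sq_eq, ← Finset.mul_sum, Finset.sum_sub_distrib, Finset.sum_add_distrib,
        s1, s2, s3, s4, s5, s6, s7, s8, Finset.sum_const, Finset.card_univ, nsmul_eq_mul]
      ring
    have h0 : phi ρ (8 * (Fintype.card M : ℤ[M]) - 8 * e) u = 0 := by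
      rw [← hsum, map_sum, end_sum_apply]
      exact Finset.sum_eq_zero (fun l _ => hrel l)
    set w : V := ∑ m : M, ρ m u with hw
    have hew : phi ρ e u = w := by
      rw [he, map_sum, end_sum_apply]
      simp only [phi_of]
      rfl
    have h1 : (8 * Fintype.card M) • u = 8 • w := by
      have : phi ρ (8 * (Fintype.card M : ℤ[M]) - 8 * e) u = (8 * Fintype.card M) • u - 8 • w := by
        rw [map_sub, map_mul, map_mul, map_ofNat, map_natCast]
        show ((8 : AddMonoid.End V) * (Fintype.card M : AddMonoid.End V)) u -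
          ((8 : AddMonoid.End V) * phi ρ e) u = _
        have e1 : ((8 : AddMonoid.End V) * (Fintype.card M : AddMonoid.End V)) u =
            (8 * Fintype.card M) • u := by
          have : ((8 : AddMonoid.End V) * (Fintype.card M : AddMonoid.End V)) =
              ((8 * Fintype.card M : ℕ) : AddMonoid.End V) := by push_cast; rfl
          rw [this]; rfl
        have e2 : ((8 : AddMonoid.End V) * phi ρ e) u = 8 • w := by
          have : ((8 : AddMonoid.End V)) = ((8 : ℕ) : AddMonoid.End V) := by norm_cast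
          rw [this, ← hew]; rfl
        rw [e1, e2]
      rw [this] at h0
      exact sub_eq_zero.mp h0
    intro y
    have hyw : ρ y w = w := by
      rw [hw, map_sum]
      have : ∀ m : M, ρ y (ρ m u) = ρ (y * m) u := by
        intro m; rw [map_mul]; rfl
      simp only [this]
      exact (Group.mulLeft_bijective y).sum_comp (fun m => ρ m u)
    have h2 : (8 * Fintype.card M) • (ρ y u - u) = 0 := by
      rw [smul_sub, ← map_nsmul, h1, map_nsmul, hyw, sub_self]
    have hc : (8 * Fintype.card M).Coprime p := by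
      apply Nat.Coprime.mul_left _ hMp
      have : (8 : ℕ) = 2 ^ 3 := by norm_num
      rw [this]
      exact Nat.Coprime.pow_left 3 h2p
    exact sub_eq_zero.mp (eq_zero_of_coprime_nsmul hV hc h2)
  · -- exponent two
    have hinv : ∀ m : M, m⁻¹ = m := fun m => inv_eq_of_mul_eq_one_left (hsq m)
    have hsurj : Function.Surjective (fun l : M => τ l * l) := by
      have hinj : Function.Injective (τ * MonoidHom.id M) := by
        rw [injective_iff_map_eq_one]
        intro m hm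
        have h1 : τ m * m = 1 := hm
        apply hτ2
        rw [eq_inv_of_mul_eq_one_left h1, hinv]
      exact (Finite.injective_iff_surjective.mp hinj)
    intro m
    obtain ⟨l, rfl⟩ := hsurj m
    have h := hrel l
    rw [D_sq_eq] at h
    simp only [hinv] at h
    have e1 : of ℤ M (τ l * τ l) = 1 := by rw [hsq, map_one]
    have e2 : of ℤ M (l * l) = 1 := by rw [hsq, map_one]
    rw [e1, e2] at h
    have e3 : (2 * (1 + 1 + 1 + 1 + 4 - 2 * (of ℤ M (τ l * l) + of ℤ M (τ l * l) +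
        of ℤ M (τ l * l) + of ℤ M (τ l * l))) : ℤ[M]) = 16 - 16 * of ℤ M (τ l * l) := by ring
    rw [e3, map_sub, map_mul, phi_of, map_ofNat] at h
    have h3 : (16 : ℕ) • (ρ (τ l * l) u - u) = 0 := by
      have : ((16 : AddMonoid.End V) - (16 : AddMonoid.End V) * ρ (τ l * l)) u =
          (16 : ℕ) • u - (16 : ℕ) • ρ (τ l * l) u := by
        have : ((16 : AddMonoid.End V)) = ((16 : ℕ) : AddMonoid.End V) := by norm_cast
        rw [this]; rfl
      rw [this] at h
      rw [smul_sub, ← neg_sub, h, neg_zero]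
    have hc : (16 : ℕ).Coprime p := by
      have : (16 : ℕ) = 2 ^ 4 := by norm_num
      rw [this]
      exact Nat.Coprime.pow_left 4 h2p
    exact sub_eq_zero.mp (eq_zero_of_coprime_nsmul hV hc h3)

end lemA

section lemA'

variable {M V : Type*} [CommGroup M] [Finite M] [AddCommGroup V]
  {ρ : M →* AddMonoid.End V} {τ : M →* M} {T : V →+ V}

theorem iterate_hom_mul (τ : M →* M) (i : ℕ) (x y : M) :
    (⇑τ)^[i] (x * y) = (⇑τ)^[i] x * (⇑τ)^[i] y := by
  induction i generalizing x y with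
  | zero => rfl
  | succ i ih => rw [Function.iterate_succ_apply, Function.iterate_succ_apply,
      Function.iterate_succ_apply, map_mul, ih]

theorem iterate_hom_inv (τ : M →* M) (i : ℕ) (x : M) :
    (⇑τ)^[i] x⁻¹ = ((⇑τ)^[i] x)⁻¹ := by
  induction i generalizing x with
  | zero => rfl
  | succ i ih => rw [Function.iterate_succ_apply, Function.iterate_succ_apply, map_inv, ih]

/-- an element `τ l * l⁻¹` fixed by `τ` is trivial when `τ` has order prime to the exponent -/
theorem comm_fixed_eq_one {q n : ℕ} (hexp : ∀ m : M, m ^ q = 1) (hn : ∀ m : M, (⇑τ)^[n] m = m)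
    (hnq : n.Coprime q) (l : M) (h : τ (τ l * l⁻¹) = τ l * l⁻¹) : τ l * l⁻¹ = 1 := by
  set m := τ l * l⁻¹ with hm
  have h1 : ∀ i : ℕ, (⇑τ)^[i] m = (⇑τ)^[i + 1] l / (⇑τ)^[i] l := by
    intro i
    rw [hm, iterate_hom_mul, iterate_hom_inv, Function.iterate_succ_apply, div_eq_mul_inv]
  have h2 : ∀ i : ℕ, (⇑τ)^[i] m = m := fun i => Function.iterate_fixed h i
  have h3 : m ^ n = 1 := by
    have := Finset.prod_range_div (fun i => (⇑τ)^[i] l) n
    simp only [← h1, h2, Finset.prod_const, Finset.card_range] at this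
    rw [this, hn l]
    simp
  have h4 : orderOf m ∣ Nat.gcd n q :=
    Nat.dvd_gcd (orderOf_dvd_of_pow_eq_one h3) (orderOf_dvd_of_pow_eq_one (hexp m))
  rw [hnq.gcd_eq_one] at h4
  exact orderOf_eq_one_iff.mp (Nat.dvd_one.mp h4)

/-- **commutators fix `u`**: version of `fixed_of_fpf` for an automorphism `τ` of odd order `n`
prime to the exponent `q` of `M`. -/
theorem comm_fixed {p q n : ℕ} (hV : ∀ v : V, p • v = 0) (h2p : Nat.Coprime 2 p)
    (hq : q.Prime) (hqp : q.Coprime p) (hexp : ∀ m : M, m ^ q = 1)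
    (hn : ∀ m : M, (⇑τ)^[n] m = m) (hnodd : Odd n) (hnq : n.Coprime q)
    (hT : ∀ (m : M) (v : V), T (ρ m v) = ρ (τ m) (T v)) {u : V} (hu : T u = u)
    (hquad : ∀ v ∈ nplus ρ u, T (T v - v) = T v - v) (l : M) : ρ (τ l * l⁻¹) u = u := by
  classical
  set κ : M →* M := τ * (MonoidHom.id M)⁻¹ with hκ
  have hκl : ∀ x : M, κ x = τ x * x⁻¹ := fun x => rfl
  set M₀ : Subgroup M := κ.range with hM₀
  have hτM₀ : ∀ x : M₀, (τ.comp M₀.subtype) x ∈ M₀ := by
    rintro ⟨_, ⟨y, rfl⟩⟩
    refine ⟨τ y, ?_⟩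
    show κ (τ y) = τ (κ y)
    rw [hκl, hκl, map_mul, map_inv]
  set τ₀ : M₀ →* M₀ := (τ.comp M₀.subtype).codRestrict M₀ hτM₀ with hτ₀
  have hτ₀c : ∀ x : M₀, ((τ₀ x : M₀) : M) = τ (x : M) := fun x => rfl
  set ρ₀ : M₀ →* AddMonoid.End V := ρ.comp M₀.subtype with hρ₀
  letI : Fintype M₀ := Fintype.ofFinite M₀
  have hT₀ : ∀ (m : M₀) (v : V), T (ρ₀ m v) = ρ₀ (τ₀ m) (T v) := fun m v => hT m v
  have hsub : nplus ρ₀ u ≤ nplus ρ u := by
    apply AddSubgroup.closure_mono
    rintro _ ⟨m, rfl⟩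
    exact ⟨(m : M), rfl⟩
  have hquad₀ : ∀ v ∈ nplus ρ₀ u, T (T v - v) = T v - v := fun v hv => hquad v (hsub hv)
  -- τ is injective
  have hn1 : 1 ≤ n := hnodd.pos
  have hτinj : ∀ m : M, τ m = 1 → m = 1 := by
    intro m hm
    have : (⇑τ)^[n] m = 1 := by
      obtain ⟨k, rfl⟩ : ∃ k, n = k + 1 := ⟨n - 1, by omega⟩
      rw [Function.iterate_succ_apply, hm]
      exact iterate_map_one τ k
    rw [hn] at this
    exact this
  have hfix : ∀ m : M₀, τ (m : M) = m → m = 1 := by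
    rintro ⟨_, ⟨y, rfl⟩⟩ h
    apply Subtype.ext
    exact comm_fixed_eq_one hexp hn hnq y h
  have hτ1 : ∀ m : M₀, τ₀ m = 1 → m = 1 := by
    intro m hm
    apply Subtype.ext
    apply hτinj
    have := congrArg Subtype.val hm
    rw [hτ₀c] at this
    exact this
  have hτ2 : ∀ m : M₀, τ₀ m = m → m = 1 := by
    intro m hm
    apply hfix
    have := congrArg Subtype.val hm
    rw [hτ₀c] at this
    exact this
  have hτ3 : ∀ m : M₀, τ₀ (τ₀ m) = m → m = 1 := by
    intro m hm
    apply hfix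
    have h2 : τ (τ (m : M)) = m := by
      have := congrArg Subtype.val hm
      rw [hτ₀c, hτ₀c] at this
      exact this
    obtain ⟨k, rfl⟩ := hnodd
    have h3 : (⇑τ)^[2 * (k + 1)] (m : M) = m := by
      rw [Function.iterate_mul]
      apply Function.iterate_fixed
      exact h2
    have h4 : (⇑τ)^[2 * (k + 1)] (m : M) = τ ((⇑τ)^[2 * k + 1] (m : M)) := by
      have : 2 * (k + 1) = (2 * k + 1) + 1 := by ring
      rw [this, Function.iterate_succ_apply']
    rw [h4, hn] at h3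
    exact h3
  have hexp₀ : ∀ m : M₀, m ^ q = 1 := fun m => Subtype.ext (by simpa using hexp (m : M))
  have hsq : (∀ m : M₀, m * m = 1 → m = 1) ∨ (∀ m : M₀, m * m = 1) := by
    rcases hq.eq_two_or_odd' with h2 | hodd
    · right
      intro m
      have := hexp₀ m
      rw [h2, pow_two] at this
      exact this
    · left
      intro m hm
      have h3 : m ^ 2 = 1 := by rw [pow_two]; exact hm
      have h4 : orderOf m ∣ Nat.gcd 2 q :=
        Nat.dvd_gcd (orderOf_dvd_of_pow_eq_one h3) (orderOf_dvd_of_pow_eq_one (hexp₀ m))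
      have h5 : Nat.gcd 2 q = 1 := Nat.coprime_two_left.mpr hodd
      rw [h5] at h4
      exact orderOf_eq_one_iff.mp (Nat.dvd_one.mp h4)
  have hMp : (Fintype.card M₀).Coprime p := by
    haveI : Fact q.Prime := ⟨hq⟩
    have hpg : IsPGroup q M₀ := fun m => ⟨1, by rw [pow_one]; exact hexp₀ m⟩
    obtain ⟨j, hj⟩ := IsPGroup.iff_card.mp hpg
    rw [← Nat.card_eq_fintype_card, hj]
    exact Nat.Coprime.pow_left j hqp
  have := fixed_of_fpf hV h2p hMp hT₀ hu hquad₀ hτ1 hτ2 hτ3 hsq ⟨κ l, ⟨l, rfl⟩⟩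
  exact this

end lemA'

section iso

variable {M V Zm : Type*} [CommGroup M] [AddCommGroup V] [AddCommGroup Zm]

/-- `nplus ρ u` is totally isotropic for every `M`-invariant alternating form -/
theorem nplus_isotropic (ρ : M →* AddMonoid.End V) (β : V → V → Zm)
    (hβl : ∀ v v' w : V, β (v + v') w = β v w + β v' w)
    (hβr : ∀ v w w' : V, β v (w + w') = β v w + β v w') (hβalt : ∀ v, β v v = 0)
    (hβinv : ∀ (m : M) (v w : V), β (ρ m v) (ρ m w) = β v w) (u : V) :
    ∀ v ∈ nplus ρ u, ∀ w ∈ nplus ρ u, β v w = 0 := by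
  have hanti : ∀ v w : V, β v w = - β w v := by
    intro v w
    have h := hβalt (v + w)
    rw [hβl, hβr, hβr, hβalt, hβalt, zero_add, add_zero] at h
    exact eq_neg_of_add_eq_zero_left h
  have hcancel : ∀ (t : M) (v : V), ρ t (ρ t⁻¹ v) = v := by
    intro t v
    have : ρ t * ρ t⁻¹ = 1 := by rw [← map_mul, mul_inv_cancel, map_one]
    show (ρ t * ρ t⁻¹) v = v
    rw [this]; rfl
  set f : M → Zm := fun t => β u (ρ t u) with hf
  have hfinv : ∀ t : M, f t⁻¹ = - f t := by
    intro t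
    show β u (ρ t⁻¹ u) = - β u (ρ t u)
    rw [← hβinv t u (ρ t⁻¹ u), hcancel, hanti]
  have hgen : ∀ l k : M, β (ρ l u) (ρ k u) = f (l⁻¹ * k) := by
    intro l k
    show _ = β u (ρ (l⁻¹ * k) u)
    rw [← hβinv l⁻¹ (ρ l u) (ρ k u)]
    have h1 : ρ l⁻¹ (ρ l u) = u := by
      have := hcancel l⁻¹ u
      rwa [inv_inv] at this
    have h2 : ρ l⁻¹ (ρ k u) = ρ (l⁻¹ * k) u := by rw [map_mul]; rfl
    rw [h1, h2]
  have hpair : ∀ l k : M, β (ρ l u + ρ l⁻¹ u) (ρ k u + ρ k⁻¹ u) = 0 := by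
    intro l k
    rw [hβl, hβr, hβr, hgen, hgen, hgen, hgen, inv_inv]
    have e1 : l * k⁻¹ = (l⁻¹ * k)⁻¹ := by rw [mul_inv, inv_inv]
    have e2 : l * k = (l⁻¹ * k⁻¹)⁻¹ := by rw [mul_inv, inv_inv, inv_inv]
    rw [e1, e2, hfinv, hfinv]
    abel
  -- first variable
  have h1 : ∀ k : M, nplus ρ u ≤
      AddMonoidHom.ker (AddMonoidHom.mk' (fun v => β v (ρ k u + ρ k⁻¹ u))
        (fun v v' => hβl v v' _)) := by
    intro k
    unfold nplus
    rw [AddSubgroup.closure_le]
    rintro _ ⟨l, rfl⟩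
    exact hpair l k
  intro v hv
  have h2 : nplus ρ u ≤ AddMonoidHom.ker (AddMonoidHom.mk' (β v) (hβr v)) := by
    unfold nplus
    rw [AddSubgroup.closure_le]
    rintro _ ⟨k, rfl⟩
    exact h1 k hv
  intro w hw
  exact h2 hw

end iso

section core

variable {Γ V Zm : Type*} [Group Γ] [AddCommGroup V] [Finite V] [AddCommGroup Zm]

/-- **Core lemma.** -/
theorem core {p q : ℕ} [Fact p.Prime] (hp2 : p ≠ 2) (hV : ∀ v : V, p • v = 0)
    (ρ : Γ →* AddMonoid.End V) (Λ B : Subgroup Γ) [Finite Λ]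
    (hΛab : ∀ x ∈ Λ, ∀ y ∈ Λ, x * y = y * x) (hq : q.Prime) (hqp : q ≠ p)
    (hΛexp : ∀ x ∈ Λ, x ^ q = 1) (hBΛ : ∀ b ∈ B, ∀ l ∈ Λ, b * l * b⁻¹ ∈ Λ) (hB : IsPGroup p B)
    (hfaith : ∀ l ∈ Λ, (∀ v, ρ l v = v) → l = 1)
    (β : V → V → Zm) (hβl : ∀ v v' w : V, β (v + v') w = β v w + β v' w)
    (hβr : ∀ v w w' : V, β v (w + w') = β v w + β v w') (hβalt : ∀ v, β v v = 0)
    (hβinv : ∀ l ∈ Λ, ∀ v w : V, β (ρ l v) (ρ l w) = β v w)
    (hQ : ∀ N : AddSubgroup V, (∀ b ∈ B, ∀ v ∈ N, ρ b v ∈ N) → (∀ v ∈ N, ∀ w ∈ N, β v w = 0) →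
      ∀ b ∈ B, ∀ v ∈ N, ρ b (ρ b v - v) = ρ b v - v) :
    ∀ b ∈ B, ∀ l ∈ Λ, b * l = l * b := by
  classical
  have hpp : p.Prime := Fact.out
  have hpodd : Odd p := hpp.eq_two_or_odd'.resolve_left hp2
  have h2p : Nat.Coprime 2 p := Nat.coprime_two_left.mpr hpodd
  have hqpc : q.Coprime p := (Nat.coprime_primes hq hpp).mpr hqp
  letI : CommGroup Λ :=
    { (inferInstance : Group Λ) with mul_comm := fun x y => Subtype.ext (hΛab x x.2 y y.2) }
  set ρΛ : Λ →* AddMonoid.End V := ρ.comp Λ.subtype with hρΛ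
  have hmulapp : ∀ (x y : Γ) (v : V), ρ x (ρ y v) = ρ (x * y) v := by
    intro x y v; rw [map_mul]; rfl
  have hone : ∀ v : V, ρ 1 v = v := by intro v; rw [map_one]; rfl
  -- fixed points of B
  have hfixinv : ∀ b ∈ B, ∀ u : V, ρ b u = u → ρ b⁻¹ u = u := by
    intro b _ u hu
    have : ρ b⁻¹ (ρ b u) = u := by rw [hmulapp, inv_mul_cancel, hone]
    rwa [hu] at this
  -- Step 1
  have step1 : ∀ u : V, (∀ b ∈ B, ρ b u = u) → ∀ b ∈ B, ∀ l ∈ Λ, ρ (b * l * b⁻¹ * l⁻¹) u = u := by
    intro u hu b hb l hl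
    set τ : Λ →* Λ :=
      { toFun := fun x => ⟨b * x * b⁻¹, hBΛ b hb x x.2⟩
        map_one' := Subtype.ext (by simp)
        map_mul' := fun x y => Subtype.ext (by simp [mul_assoc]) } with hτ
    have hτc : ∀ x : Λ, ((τ x : Λ) : Γ) = b * x * b⁻¹ := fun x => rfl
    set T : V →+ V := ρ b with hTdef
    have hT : ∀ (m : Λ) (v : V), T (ρΛ m v) = ρΛ (τ m) (T v) := by
      intro m v
      show ρ b (ρ (m : Γ) v) = ρ (b * m * b⁻¹) (ρ b v)
      rw [hmulapp, hmulapp]
      congr 2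
      group
    have hTu : T u = u := hu b hb
    -- order of τ
    obtain ⟨k, hk⟩ := hB ⟨b, hb⟩
    have hbk : b ^ (p ^ k) = 1 := by
      have := congrArg Subtype.val hk
      simpa using this
    have hiter : ∀ (i : ℕ) (m : Λ), (((⇑τ)^[i] m : Λ) : Γ) = b ^ i * m * (b ^ i)⁻¹ := by
      intro i
      induction i with
      | zero => intro m; simp
      | succ i ih =>
        intro m
        rw [Function.iterate_succ_apply', hτc, ih, pow_succ']
        group
    have hn : ∀ m : Λ, (⇑τ)^[p ^ k] m = m := by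
      intro m
      apply Subtype.ext
      rw [hiter, hbk]
      simp
    have hnodd : Odd (p ^ k) := hpodd.pow
    have hnq : (p ^ k).Coprime q := Nat.Coprime.pow_left k hqpc.symm
    have hexp : ∀ m : Λ, m ^ q = 1 := fun m => Subtype.ext (by simpa using hΛexp m m.2)
    -- invariance and isotropy of nplus
    have hinvN : ∀ b' ∈ B, ∀ v ∈ nplus ρΛ u, ρ b' v ∈ nplus ρΛ u := by
      intro b' hb' v hv
      have hle : ∀ v ∈ nplus ρΛ u, ρ b' v ∈ nplus ρΛ u := by
        apply closure_map_mem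
        rintro _ ⟨m, rfl⟩
        show ρ b' (ρ (m : Γ) u + ρ ((m⁻¹ : Λ) : Γ) u) ∈ AddSubgroup.closure _
        have h1 : ρ b' (ρ (m : Γ) u) = ρ (b' * m * b'⁻¹) u := by
          have : ρ (b' * m * b'⁻¹) u = ρ (b' * m * b'⁻¹) (ρ b' u) := by rw [hu b' hb']
          rw [this, hmulapp, hmulapp]
          congr 2
          group
        have h2 : ρ b' (ρ ((m⁻¹ : Λ) : Γ) u) = ρ (b' * m * b'⁻¹)⁻¹ u := by
          have : ρ (b' * m * b'⁻¹)⁻¹ u = ρ (b' * m * b'⁻¹)⁻¹ (ρ b' u) := by rw [hu b' hb']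
          rw [this, hmulapp, hmulapp]
          congr 2
          simp only [Subgroup.coe_inv]
          group
        rw [map_add, h1, h2]
        apply AddSubgroup.subset_closure
        exact ⟨⟨b' * m * b'⁻¹, hBΛ b' hb' m m.2⟩, rfl⟩
      exact hle v hv
    have hisoN : ∀ v ∈ nplus ρΛ u, ∀ w ∈ nplus ρΛ u, β v w = 0 :=
      nplus_isotropic ρΛ β hβl hβr hβalt (fun m v w => hβinv m m.2 v w) u
    have hquad : ∀ v ∈ nplus ρΛ u, T (T v - v) = T v - v := hQ _ hinvN hisoN b hb
    have := comm_fixed hV h2p hq hqpc hexp hn hnodd hnq hT hTu hquad ⟨l, hl⟩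
    exact this
  -- Step 2: the subgroup of Λ fixing the B-fixed points
  let ΛF : Subgroup Γ :=
    { carrier := {x | x ∈ Λ ∧ ∀ u : V, (∀ b ∈ B, ρ b u = u) → ρ x u = u}
      one_mem' := ⟨Λ.one_mem, fun u _ => hone u⟩
      mul_mem' := fun {x y} hx hy => ⟨Λ.mul_mem hx.1 hy.1, fun u hu => by
        rw [← hmulapp, hy.2 u hu, hx.2 u hu]⟩
      inv_mem' := fun {x} hx => ⟨Λ.inv_mem hx.1, fun u hu => by
        have : ρ x⁻¹ (ρ x u) = u := by rw [hmulapp, inv_mul_cancel, hone]
        rwa [hx.2 u hu] at this⟩ }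
  have hΛFΛ : ΛF ≤ Λ := fun x hx => hx.1
  have hΛFconj : ∀ b ∈ B, ∀ x ∈ ΛF, b * x * b⁻¹ ∈ ΛF := by
    intro b hb x hx
    refine ⟨hBΛ b hb x hx.1, fun u hu => ?_⟩
    rw [← hmulapp, ← hmulapp, hfixinv b hb u (hu b hb), hx.2 u hu, hu b hb]
  haveI : Finite ΛF := Finite.of_injective (fun x : ΛF => (⟨x, hΛFΛ x.2⟩ : Λ))
    (fun x y h => Subtype.ext (by simpa using congrArg (fun z : Λ => (z : Γ)) h))
  letI : Fintype ΛF := Fintype.ofFinite ΛF
  -- Step 3: ΛF acts trivially
  set C : AddSubgroup V :=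
    AddSubgroup.closure {w | ∃ x ∈ ΛF, ∃ v : V, w = ρ x v - v} with hC
  have hCinv : ∀ b ∈ B, ∀ c ∈ C, ρ b c ∈ C := by
    intro b hb c hc
    have hle : ∀ c ∈ C, ρ b c ∈ C := by
      rw [hC]
      apply closure_map_mem
      rintro _ ⟨x, hx, v, rfl⟩
      apply AddSubgroup.subset_closure
      refine ⟨b * x * b⁻¹, hΛFconj b hb x hx, ρ b v, ?_⟩
      rw [map_sub, hmulapp, hmulapp]
      congr 3
      group
    exact hle c hc
  have hnorm : ∀ c ∈ C, ∑ x : ΛF, ρ (x : Γ) c = 0 := by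
    intro c hc
    set Nm : V →+ V := (∑ x : ΛF, ρ (x : Γ) : AddMonoid.End V) with hNmdef
    have hNm : ∀ v : V, Nm v = ∑ x : ΛF, ρ (x : Γ) v := fun v => end_sum_apply _ _ v
    have hle : C ≤ AddMonoidHom.ker Nm := by
      rw [hC, AddSubgroup.closure_le]
      rintro _ ⟨y, hy, v, rfl⟩
      rw [SetLike.mem_coe, AddMonoidHom.mem_ker, hNm]
      simp only [map_sub, hmulapp, Finset.sum_sub_distrib]
      rw [sub_eq_zero]
      exact (Group.mulRight_bijective (⟨y, hy⟩ : ΛF)).sum_comp (fun x : ΛF => ρ (x : Γ) v)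
    have := hle hc
    rw [AddMonoidHom.mem_ker, hNm] at this
    exact this
  have hCbot : C = ⊥ := by
    by_contra hne
    obtain ⟨⟨c₀, hc₀⟩, hc₀ne'⟩ := (AddSubgroup.ne_bot_iff_exists_ne_zero).mp hne
    have hc₀ne : c₀ ≠ 0 := fun h => hc₀ne' (Subtype.ext h)
    letI : MulAction B C :=
      { smul := fun b c => ⟨ρ (b : Γ) c, hCinv b b.2 c c.2⟩
        one_smul := fun c => Subtype.ext (hone c)
        mul_smul := fun b b' c => Subtype.ext (by
          show ρ ((b * b' : B) : Γ) (c : V) = ρ (b : Γ) (ρ (b' : Γ) c)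
          rw [hmulapp]; rfl) }
    have hsmul : ∀ (b : B) (c : C), ((b • c : C) : V) = ρ (b : Γ) c := fun b c => rfl
    have hdvd : p ∣ Nat.card C := by
      have hord : addOrderOf (⟨c₀, hc₀⟩ : C) = p := by
        apply addOrderOf_eq_prime
        · apply Subtype.ext
          simpa using hV c₀
        · intro h
          exact hc₀ne (congrArg Subtype.val h)
      rw [← hord]
      exact addOrderOf_dvd_natCard _
    have h0fix : (0 : C) ∈ MulAction.fixedPoints B C := by
      intro b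
      apply Subtype.ext
      rw [hsmul]
      simp
    obtain ⟨c, hcfix, hcne⟩ :=
      hB.exists_fixed_point_of_prime_dvd_card_of_fixed_point C hdvd h0fix
    have hcB : ∀ b ∈ B, ρ b (c : V) = c := by
      intro b hb
      have := hcfix ⟨b, hb⟩
      exact congrArg Subtype.val this
    have h1 := hnorm c c.2
    have h2 : ∀ x : ΛF, ρ (x : Γ) (c : V) = c := fun x => x.2.2 _ hcB
    simp only [h2, Finset.sum_const, Finset.card_univ] at h1
    have hcop : (Fintype.card ΛF).Coprime p := by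
      haveI : Fact q.Prime := ⟨hq⟩
      have hpg : IsPGroup q ΛF := fun m => ⟨1, by
        rw [pow_one]
        exact Subtype.ext (by simpa using hΛexp m (hΛFΛ m.2))⟩
      obtain ⟨j, hj⟩ := IsPGroup.iff_card.mp hpg
      rw [← Nat.card_eq_fintype_card, hj]
      exact Nat.Coprime.pow_left j hqpc
    have := eq_zero_of_coprime_nsmul hV hcop h1
    exact hcne (Subtype.ext this.symm)
  -- Step 4
  intro b hb l hl
  have hmem : b * l * b⁻¹ * l⁻¹ ∈ ΛF :=
    ⟨Λ.mul_mem (hBΛ b hb l hl) (Λ.inv_mem hl), fun u hu => step1 u hu b hb l hl⟩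
  have htriv : ∀ v : V, ρ (b * l * b⁻¹ * l⁻¹) v = v := by
    intro v
    have : ρ (b * l * b⁻¹ * l⁻¹) v - v ∈ C :=
      AddSubgroup.subset_closure ⟨_, hmem, v, rfl⟩
    rw [hCbot, AddSubgroup.mem_bot] at this
    exact sub_eq_zero.mp this
  have h1 := hfaith _ hmem.1 htriv
  calc b * l = (b * l * b⁻¹ * l⁻¹) * l * b := by group
    _ = l * b := by rw [h1, one_mul]

end core

end Cfsg.Agent.Lib.Helper14.QuadCore
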