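import Cfsg.Agent.Lib.Helper14.QuadCore

/-!
Multiplicative form of `QuadCore.core`.
-/

set_option autoImplicit false
set_option linter.unusedSectionVars false
set_option linter.style.haveILetI false

namespace Cfsg.Agent.Lib.Helper14.QuadCore

/-- the additive endomorphism attached to an automorphism -/
noncomputable def rhoAut (W : Type*) [CommGroup W] : MulAut W →* AddMonoid.End (Additive W) where
  toFun φ := MonoidHom.toAdditive φ.toMonoidHom
  map_one' := rfl
  map_mul' _ _ := rfl

theorem rhoAut_apply {W : Type*} [CommGroup W] (φ : MulAut W) (w : W) :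
    rhoAut W φ (Additive.ofMul w) = Additive.ofMul (φ w) := rfl

/-- **Core lemma, multiplicative form.** -/
theorem core_mul {Γ W Zm : Type*} [Group Γ] [Group W] [Finite W] [CommGroup Zm] {p q : ℕ}
    [Fact p.Prime] (hp2 : p ≠ 2) (hcomm : ∀ x y : W, x * y = y * x) (hexp : ∀ w : W, w ^ p = 1)
    (a : Γ →* MulAut W) (Λ B : Subgroup Γ) [Finite Λ]
    (hΛab : ∀ x ∈ Λ, ∀ y ∈ Λ, x * y = y * x) (hq : q.Prime) (hqp : q ≠ p)
    (hΛexp : ∀ x ∈ Λ, x ^ q = 1) (hBΛ : ∀ b ∈ B, ∀ l ∈ Λ, b * l * b⁻¹ ∈ Λ) (hB : IsPGroup p B)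
    (hfaith : ∀ l ∈ Λ, a l = 1 → l = 1)
    (c : W → W → Zm) (hcl : ∀ w w' z : W, c (w * w') z = c w z * c w' z)
    (hcr : ∀ w z z' : W, c w (z * z') = c w z * c w z') (hcalt : ∀ w, c w w = 1)
    (hcinv : ∀ l ∈ Λ, ∀ w z : W, c (a l w) (a l z) = c w z)
    (hQ : ∀ N : Subgroup W, (∀ b ∈ B, ∀ w ∈ N, a b w ∈ N) → (∀ w ∈ N, ∀ z ∈ N, c w z = 1) →
      ∀ b ∈ B, ∀ w ∈ N, a b (a b w * w⁻¹) = a b w * w⁻¹) :
    ∀ b ∈ B, ∀ l ∈ Λ, b * l = l * b := by
  letI : CommGroup W := { (inferInstance : Group W) with mul_comm := hcomm }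
  set ρ : Γ →* AddMonoid.End (Additive W) := (rhoAut W).comp a with hρ
  have hρapp : ∀ (g : Γ) (w : W), ρ g (Additive.ofMul w) = Additive.ofMul (a g w) := fun g w => rfl
  have hV : ∀ v : Additive W, p • v = 0 := by
    intro v
    have := hexp (Additive.toMul v)
    exact congrArg Additive.ofMul this
  set β : Additive W → Additive W → Additive Zm :=
    fun v w => Additive.ofMul (c (Additive.toMul v) (Additive.toMul w)) with hβ
  apply core hp2 hV ρ Λ B hΛab hq hqp hΛexp hBΛ hB _ β
  · intro v v' w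
    show Additive.ofMul (c (Additive.toMul v * Additive.toMul v') (Additive.toMul w)) = _
    rw [hcl]; rfl
  · intro v w w'
    show Additive.ofMul (c (Additive.toMul v) (Additive.toMul w * Additive.toMul w')) = _
    rw [hcr]; rfl
  · intro v
    show Additive.ofMul (c (Additive.toMul v) (Additive.toMul v)) = 0
    rw [hcalt]; rfl
  · intro l hl v w
    show Additive.ofMul (c (a l (Additive.toMul v)) (a l (Additive.toMul w))) = _
    rw [hcinv l hl]
  · intro N hNinv hNiso b hb v hv
    set N' : Subgroup W := AddSubgroup.toSubgroup' N with hN'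
    have h1 : ∀ b ∈ B, ∀ w ∈ N', a b w ∈ N' := fun b hb w hw => hNinv b hb _ hw
    have h2 : ∀ w ∈ N', ∀ z ∈ N', c w z = 1 := by
      intro w hw z hz
      have := hNiso _ hw _ hz
      exact congrArg Additive.toMul this
    have h3 := hQ N' h1 h2 b hb (Additive.toMul v) hv
    show Additive.ofMul (a b (a b (Additive.toMul v) / Additive.toMul v)) =
      Additive.ofMul (a b (Additive.toMul v) / Additive.toMul v)
    rw [div_eq_mul_inv, h3]
  · intro l hl hl1
    apply hfaith l hl
    ext w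
    have := hl1 (Additive.ofMul w)
    rw [hρapp] at this
    exact congrArg Additive.toMul this

end Cfsg.Agent.Lib.Helper14.QuadCore
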