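import Mathlib
import Cfsg.Agent.Lib.Helper49.RSU3Defs

set_option autoImplicit false
set_option linter.unusedSectionVars false
set_option linter.unusedVariables false

/-!
# K-RSU3 LEAF L16 (keystone 228316, S2283): `|F| = 25`, `c^5 ≠ c`: a subset containing `1`, closed under `+` and `c *`
is everything.
-/

namespace Cfsg.Agent.Lib.Helper14.RSU3

open Matrix Cfsg.Agent.Lib.Helper49.StSU Cfsg.Agent.Lib.Helper49.RSU3

variable {F : Type*} [Field F] [Fintype F] {q : ℕ}

/-- L16 -/
theorem span_five (hq5 : q = 5) (hF : Fintype.card F = q ^ 2) (c : F) (hc : c ^ 5 ≠ c)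
    (S : Set F) (h1 : (1 : F) ∈ S)
    (hadd : ∀ a ∈ S, ∀ b ∈ S, a + b ∈ S) (hmul : ∀ a ∈ S, c * a ∈ S) : ∀ x : F, x ∈ S := by
  subst hq5
  have hcard : Fintype.card F = 25 := by rw [hF]; norm_num
  have h25 : ((25 : ℕ) : F) = 0 := by rw [← hcard]; exact Nat.cast_card_eq_zero F
  have h5 : (5 : F) = 0 := by
    have : (5 : F) ^ 2 = 0 := by
      have e : ((25 : ℕ) : F) = (5 : F) ^ 2 := by norm_num
      rw [← e]; exact h25
    exact pow_eq_zero_iff (two_ne_zero) |>.1 this
  have h5n : ((5 : ℕ) : F) = 0 := by exact_mod_cast h5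
  have hrc : ringChar F = 5 := CharP.ringChar_of_prime_eq_zero Nat.prime_five h5n
  haveI : CharP F 5 := hrc ▸ ringChar.charP F
  -- multiples
  have hnsmul : ∀ n : ℕ, ∀ a ∈ S, (n + 1) • a ∈ S := by
    intro n a ha
    induction n with
    | zero => simpa using ha
    | succ n ih => rw [succ_nsmul]; exact hadd _ ih _ ha
  have h5a : ∀ a : F, 5 • a = 0 := by
    intro a
    rw [nsmul_eq_mul]
    have : ((5 : ℕ) : F) = 0 := by exact_mod_cast h5
    rw [this, zero_mul]
  let T : AddSubgroup F :=
    { carrier := S
      add_mem' := fun {a b} ha hb => hadd a ha b hb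
      zero_mem' := by
        have := hnsmul 4 1 h1
        rw [h5a] at this
        exact this
      neg_mem' := by
        intro a ha
        have h4 := hnsmul 3 a ha
        have : (3 + 1) • a = -a := by
          have := h5a a
          rw [show (5 : ℕ) = (3 + 1) + 1 from rfl, succ_nsmul] at this
          exact eq_neg_of_add_eq_zero_left this
        rw [this] at h4
        exact h4 }
  have hT : ∀ x, x ∈ T ↔ x ∈ S := fun x => Iff.rfl
  have hdvd : Nat.card T ∣ 25 := by
    have := AddSubgroup.card_addSubgroup_dvd_card T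
    rw [Nat.card_eq_fintype_card (α := F), hcard] at this
    exact this
  obtain ⟨k, hk, hkc⟩ := (Nat.dvd_prime_pow Nat.prime_five (m := 2)).1 (by simpa using hdvd)
  interval_cases k
  · -- card 1
    exfalso
    have hbot : T = ⊥ := by
      rw [← AddSubgroup.card_eq_one]; simpa using hkc
    have : (1 : F) ∈ T := h1
    rw [hbot, AddSubgroup.mem_bot] at this
    exact one_ne_zero this
  · -- card 5
    exfalso
    have hle : AddSubgroup.zmultiples (1 : F) ≤ T := by
      rw [AddSubgroup.zmultiples_le]; exact h1
    have hz : Nat.card (AddSubgroup.zmultiples (1 : F)) = 5 := by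
      rw [Nat.card_zmultiples]
      exact CharP.eq F (CharP.addOrderOf_one F) inferInstance
    have heq : AddSubgroup.zmultiples (1 : F) = T := by
      apply AddSubgroup.eq_of_le_of_card_ge hle
      rw [hz]; simpa using hkc.le
    have hcT : c ∈ T := by
      have := hmul 1 h1
      rwa [mul_one] at this
    rw [← heq, AddSubgroup.mem_zmultiples_iff] at hcT
    obtain ⟨n, hn⟩ := hcT
    apply hc
    rw [← hn]
    haveI : Fact (Nat.Prime 5) := ⟨Nat.prime_five⟩
    have := map_intCast (frobenius F 5) n
    rw [frobenius_def] at this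
    simpa using this
  · -- card 25
    have htop : T = ⊤ := by
      apply AddSubgroup.eq_top_of_card_eq
      rw [Nat.card_eq_fintype_card (α := F), hcard]; simpa using hkc
    intro x
    rw [← hT, htop]
    exact AddSubgroup.mem_top x

end Cfsg.Agent.Lib.Helper14.RSU3
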