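/-
K-SLO pack (S5981, architect helper49), leaf 598107 (parts `derange_split_three`,
`derange_split_sq`): diagonal derangements of `SL_n(q)` versus the similarity group of a
nondegenerate quadratic form, via `SLO.diag_pairing`.
-/
import Mathlib
import Cfsg.Prelude.Def_Classical
import Cfsg.Prelude.Def_GeometricClasses
import Cfsg.Agent.Lib.Helper49.SLODefs

set_option autoImplicit false

namespace Cfsg.Agent.Lib.Helper14.SLO

open Matrix Cfsg.Agent.Lib.Helper49 Cfsg.Agent.Lib.Helper49.SLO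

section TwoVal

variable {F : Type*} [Field F]

set_option linter.unusedSectionVars false

/-- the entries `a, …, a, b, …, b` (`m` times `a`) -/
def twoVal (m : ℕ) (a b : F) (j : ℕ) : F := if j < m then a else b

theorem twoVal_mem (m : ℕ) (a b : F) (j : ℕ) : twoVal m a b j = a ∨ twoVal m a b j = b := by
  unfold twoVal
  split_ifs
  · exact Or.inl rfl
  · exact Or.inr rfl

theorem card_twoVal [DecidableEq F] {n m : ℕ} (hm : m ≤ n) (a b α : F) :
    (Finset.univ.filter fun k : Fin n => twoVal m a b k = α).card =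
      (if a = α then m else 0) + (if b = α then n - m else 0) := by
  rw [Finset.card_filter,
    Fin.sum_univ_eq_sum_range (fun j => if twoVal m a b j = α then 1 else 0) n]
  obtain ⟨l, rfl⟩ : ∃ l, n = m + l := ⟨n - m, by omega⟩
  rw [Finset.sum_range_add]
  have h1 : ∀ x, twoVal m a b (m + x) = b := by
    intro x
    unfold twoVal
    rw [if_neg (by omega)]
  have h0 : ∀ x ∈ Finset.range m, (if twoVal m a b x = α then 1 else 0) =
      (if a = α then 1 else 0) := by
    intro x hx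
    unfold twoVal
    rw [if_pos (Finset.mem_range.mp hx)]
  rw [Finset.sum_congr rfl h0]
  simp only [h1]
  rw [Finset.sum_const, Finset.sum_const, Finset.card_range, Finset.card_range,
    Nat.add_sub_cancel_left]
  split_ifs <;> simp

theorem prod_twoVal {n m : ℕ} (hm : m ≤ n) (a b : F) :
    ∏ k : Fin n, twoVal m a b k = a ^ m * b ^ (n - m) := by
  rw [Fin.prod_univ_eq_prod_range (fun j => twoVal m a b j) n]
  obtain ⟨l, rfl⟩ : ∃ l, n = m + l := ⟨n - m, by omega⟩
  rw [Finset.prod_range_add]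
  have h1 : ∀ x, twoVal m a b (m + x) = b := by
    intro x
    unfold twoVal
    rw [if_neg (by omega)]
  have h0 : ∀ x ∈ Finset.range m, twoVal m a b x = a := by
    intro x hx
    unfold twoVal
    rw [if_pos (Finset.mem_range.mp hx)]
  rw [Finset.prod_congr rfl h0]
  simp only [h1]
  rw [Finset.prod_const, Finset.prod_const, Finset.card_range, Finset.card_range,
    Nat.add_sub_cancel_left]

/-- the diagonal matrix with nonzero entries as an element of `GL` -/
noncomputable def diagGL {n : ℕ} (d : Fin n → F) (hd : ∀ k, d k ≠ 0) : GL (Fin n) F :=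
  Matrix.GeneralLinearGroup.mkOfDetNeZero (Matrix.diagonal d) (by
    rw [Matrix.det_diagonal]
    exact Finset.prod_ne_zero_iff.mpr (fun k _ => hd k))

theorem diagGL_val {n : ℕ} (d : Fin n → F) (hd : ∀ k, d k ≠ 0) :
    ((diagGL d hd : GL (Fin n) F) : Matrix (Fin n) (Fin n) F) = Matrix.diagonal d := rfl

theorem diagGL_mem_specialLinear {n : ℕ} (d : Fin n → F) (hd : ∀ k, d k ≠ 0)
    (h : ∏ k, d k = 1) : diagGL d hd ∈ Cfsg.Geo.specialLinear (Fin n) F := by
  change Matrix.GeneralLinearGroup.det (diagGL d hd) = 1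
  apply Units.ext
  rw [Matrix.GeneralLinearGroup.val_det_apply, diagGL_val, Matrix.det_diagonal, h]
  rfl

theorem diagGL_pow_val {n : ℕ} (d : Fin n → F) (hd : ∀ k, d k ≠ 0) (k : ℕ) :
    ((diagGL d hd ^ k : GL (Fin n) F) : Matrix (Fin n) (Fin n) F) =
      Matrix.diagonal (fun j => d j ^ k) := by
  rw [Units.val_pow_eq_pow_val, diagGL_val, Matrix.diagonal_pow]
  rfl

end TwoVal

variable {F : Type*} [Field F] [Fintype F]

/-- `r = 3 ∣ q - 1`: `diag(ζ, ζ, ζ, 1, …, 1)` (`n ≥ 4`, `n ≠ 6`) has no conjugate in `CO(Q)` -/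
theorem derange_split_three (n : ℕ) (hn : 4 ≤ n) (hn6 : n ≠ 6) (Q : (Fin n → F) → F)
    (hQ : Cfsg.Geo.IsNondegenerateQuadraticForm Q) (hrq : 3 ∣ Fintype.card F - 1) :
    ∃ x : GL (Fin n) F, x ∈ Cfsg.Geo.specialLinear (Fin n) F ∧ x ^ 3 = 1 ∧
      (∀ z : F, (x : Matrix (Fin n) (Fin n) F) ≠ z • (1 : Matrix (Fin n) (Fin n) F)) ∧
      ∀ g : GL (Fin n) F, g⁻¹ * x * g ∉ Cfsg.Geo.quadSimilarityGroup Q := by
  classical
  have : Fact (Nat.Prime 3) := ⟨Nat.prime_three⟩
  obtain ⟨u, hu⟩ : ∃ u : Fˣ, orderOf u = 3 :=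
    exists_prime_orderOf_dvd_card 3 (by rw [Fintype.card_units]; exact hrq)
  obtain ⟨ζ, hζdef⟩ : ∃ ζ : F, ζ = (u : F) := ⟨_, rfl⟩
  have hζ0 : ζ ≠ 0 := by rw [hζdef]; exact u.ne_zero
  have hord : orderOf ζ = 3 := by rw [hζdef, ← hu, orderOf_units]
  have hζr : ζ ^ 3 = 1 := by rw [← hord]; exact pow_orderOf_eq_one ζ
  have hpow : ∀ k, ζ ^ k = 1 → 3 ∣ k := fun k hk => by
    rw [← hord]; exact orderOf_dvd_of_pow_eq_one hk
  have h1 : ζ ≠ 1 := by
    intro h
    have := hpow 1 (by rw [pow_one, h])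
    omega
  have h2 : ζ ^ 2 ≠ 1 := by
    intro h
    have := hpow 2 h
    omega
  let d : Fin n → F := fun k => twoVal 3 ζ 1 k
  have hd0 : ∀ k, d k ≠ 0 := by
    intro k
    rcases twoVal_mem 3 ζ 1 k with h | h
    · change twoVal 3 ζ 1 k ≠ 0; rw [h]; exact hζ0
    · change twoVal 3 ζ 1 k ≠ 0; rw [h]; exact one_ne_zero
  have hprod : ∏ k, d k = 1 := by
    change ∏ k : Fin n, twoVal 3 ζ 1 k = 1
    rw [prod_twoVal (by omega), hζr, one_pow, one_mul]
  have hE : ∀ α : F, (Finset.univ.filter fun k : Fin n => d k = α).card =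
      (if ζ = α then 3 else 0) + (if (1 : F) = α then n - 3 else 0) :=
    fun α => card_twoVal (by omega) ζ 1 α
  refine ⟨diagGL d hd0, diagGL_mem_specialLinear d hd0 hprod, ?_, ?_, ?_⟩
  · apply Units.ext
    rw [diagGL_pow_val, Units.val_one, ← Matrix.diagonal_one]
    congr 1
    funext k
    change twoVal 3 ζ 1 k ^ 3 = 1
    rcases twoVal_mem 3 ζ 1 k with h | h
    · rw [h, hζr]
    · rw [h, one_pow]
  · intro z hz
    rw [diagGL_val] at hz
    have e0 := congrFun (congrFun hz ⟨0, by omega⟩) ⟨0, by omega⟩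
    have e3 := congrFun (congrFun hz ⟨3, by omega⟩) ⟨3, by omega⟩
    simp [d, twoVal] at e0 e3
    exact h1 (e0.trans e3.symm)
  · intro g hy
    obtain ⟨c, hc0, hpair⟩ := diag_pairing Q hQ (diagGL d hd0) g d (diagGL_val d hd0) hy
    have hE1 : (Finset.univ.filter fun k : Fin n => d k = 1).card = n - 3 := by
      rw [hE, if_neg h1, if_pos rfl]
      omega
    have hEζ : (Finset.univ.filter fun k : Fin n => d k = ζ).card = 3 := by
      rw [hE, if_pos rfl, if_neg h1.symm]
    have hc := hpair 1 one_ne_zero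
    rw [div_one, hE1, hE] at hc
    have hinv : ζ * (1 / ζ) = 1 := mul_one_div_cancel hζ0
    by_cases hcζ : c = ζ
    · have h5 := hpair ζ hζ0
      rw [hcζ, div_self hζ0, hE1, hEζ] at h5
      omega
    · rw [if_neg (fun h => hcζ h.symm)] at hc
      by_cases hc1 : c = 1
      · have h5 := hpair ζ hζ0
        rw [hc1, hEζ, hE, if_neg, if_neg] at h5
        · omega
        · intro h
          apply h1
          have e := congrArg (fun t => ζ * t) h
          simp only [mul_one] at e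
          exact e.trans hinv
        · intro h
          apply h2
          rw [pow_two]
          exact (congrArg (fun t => ζ * t) h).trans hinv
      · rw [if_neg (fun h => hc1 h.symm)] at hc
        omega

/-- `n = r`, `r² ∣ q - 1`: `λ • diag(ζ, 1, …, 1)` with `λ ^ r = ζ⁻¹` has no conjugate in `CO(Q)` -/
theorem derange_split_sq (r : ℕ) [Fact r.Prime] (hr2 : r ≠ 2) (Q : (Fin r → F) → F)
    (hQ : Cfsg.Geo.IsNondegenerateQuadraticForm Q) (hrq : r ^ 2 ∣ Fintype.card F - 1) :
    ∃ x : GL (Fin r) F, x ∈ Cfsg.Geo.specialLinear (Fin r) F ∧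
      (∃ z : F, ((x ^ r : GL (Fin r) F) : Matrix (Fin r) (Fin r) F) =
        z • (1 : Matrix (Fin r) (Fin r) F)) ∧
      (∀ z : F, (x : Matrix (Fin r) (Fin r) F) ≠ z • (1 : Matrix (Fin r) (Fin r) F)) ∧
      ∀ g : GL (Fin r) F, g⁻¹ * x * g ∉ Cfsg.Geo.quadSimilarityGroup Q := by
  classical
  have hr : r.Prime := Fact.out
  have hr3 : 3 ≤ r := by
    have := hr.two_le
    omega
  -- an element of order `r²` in the cyclic group `Fˣ`
  obtain ⟨u, hu⟩ : ∃ u : Fˣ, orderOf u = r ^ 2 := by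
    obtain ⟨g, hg⟩ := IsCyclic.exists_generator (α := Fˣ)
    have hog : orderOf g = Fintype.card F - 1 := by
      rw [orderOf_eq_card_of_forall_mem_zpowers hg, Nat.card_eq_fintype_card, Fintype.card_units]
    obtain ⟨k, hk⟩ := hrq
    refine ⟨g ^ k, ?_⟩
    have hpos : 0 < Fintype.card F - 1 := by
      have := Fintype.one_lt_card (α := F)
      omega
    have hk0 : k ≠ 0 := by
      rintro rfl
      rw [mul_zero] at hk
      omega
    rw [orderOf_pow' g hk0, hog, hk, Nat.gcd_eq_right (Dvd.intro_left _ rfl),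
      Nat.mul_div_cancel _ (Nat.pos_of_ne_zero hk0)]
  obtain ⟨lam, hlamdef⟩ : ∃ lam : F, lam = (u : F) := ⟨_, rfl⟩
  have hlam0 : lam ≠ 0 := by rw [hlamdef]; exact u.ne_zero
  have hordl : orderOf lam = r ^ 2 := by rw [hlamdef, ← hu, orderOf_units]
  obtain ⟨ζ, hζdef⟩ : ∃ ζ : F, ζ = (lam ^ r)⁻¹ := ⟨_, rfl⟩
  have hlr0 : lam ^ r ≠ 0 := pow_ne_zero _ hlam0
  have hζ0 : ζ ≠ 0 := by rw [hζdef]; exact inv_ne_zero hlr0
  have hlζ : lam ^ r * ζ = 1 := by rw [hζdef]; exact mul_inv_cancel₀ hlr0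
  have hlr2 : lam ^ (r ^ 2) = 1 := by rw [← hordl]; exact pow_orderOf_eq_one lam
  have hζr : ζ ^ r = 1 := by
    rw [hζdef, inv_pow, ← pow_mul, ← pow_two, hlr2, inv_one]
  have hpowl : ∀ k, lam ^ k = 1 → r ^ 2 ∣ k := fun k hk => by
    rw [← hordl]; exact orderOf_dvd_of_pow_eq_one hk
  have h1 : ζ ≠ 1 := by
    intro h
    rw [h, mul_one] at hlζ
    have h5 := hpowl r hlζ
    have h6 : r ^ 2 ≤ r := Nat.le_of_dvd hr.pos h5
    nlinarith
  have h2 : ζ ^ 2 ≠ 1 := by
    intro h
    have h5 : (lam ^ r) ^ 2 = 1 := by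
      have h6 : (lam ^ r) ^ 2 * ζ ^ 2 = 1 := by rw [← mul_pow, hlζ, one_pow]
      rw [h, mul_one] at h6
      exact h6
    rw [← pow_mul] at h5
    have h6 := hpowl _ h5
    rw [pow_two] at h6
    have h7 : r ∣ 2 := (Nat.mul_dvd_mul_iff_left hr.pos).mp h6
    exact hr2 ((Nat.prime_dvd_prime_iff_eq hr Nat.prime_two).mp h7)
  let d : Fin r → F := fun k => twoVal 1 (lam * ζ) lam k
  have hd0 : ∀ k, d k ≠ 0 := by
    intro k
    rcases twoVal_mem 1 (lam * ζ) lam k with h | h
    · change twoVal 1 (lam * ζ) lam k ≠ 0; rw [h]; exact mul_ne_zero hlam0 hζ0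
    · change twoVal 1 (lam * ζ) lam k ≠ 0; rw [h]; exact hlam0
  have hprod : ∏ k, d k = 1 := by
    change ∏ k : Fin r, twoVal 1 (lam * ζ) lam k = 1
    rw [prod_twoVal (by omega), pow_one, mul_comm lam ζ, mul_assoc, ← pow_succ']
    have h5 : r - 1 + 1 = r := by omega
    rw [h5, mul_comm]
    exact hlζ
  have hE : ∀ α : F, (Finset.univ.filter fun k : Fin r => d k = α).card =
      (if lam * ζ = α then 1 else 0) + (if lam = α then r - 1 else 0) :=
    fun α => card_twoVal (by omega) (lam * ζ) lam α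
  have hne : lam * ζ ≠ lam := by
    intro h
    apply h1
    have h5 : lam * ζ = lam * 1 := by rw [h, mul_one]
    exact mul_left_cancel₀ hlam0 h5
  refine ⟨diagGL d hd0, diagGL_mem_specialLinear d hd0 hprod, ⟨lam ^ r, ?_⟩, ?_, ?_⟩
  · rw [diagGL_pow_val]
    have h5 : (fun j => d j ^ r) = fun _ => lam ^ r := by
      funext k
      change twoVal 1 (lam * ζ) lam k ^ r = lam ^ r
      rcases twoVal_mem 1 (lam * ζ) lam k with h | h
      · rw [h, mul_pow, hζr, mul_one]
      · rw [h]
    rw [h5]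
    ext a b
    by_cases hab : a = b
    · subst hab; simp
    · simp [hab]
  · intro z hz
    rw [diagGL_val] at hz
    have e0 := congrFun (congrFun hz ⟨0, by omega⟩) ⟨0, by omega⟩
    have e1 := congrFun (congrFun hz ⟨1, by omega⟩) ⟨1, by omega⟩
    simp [d, twoVal] at e0 e1
    exact hne (e0.trans e1.symm)
  · intro g hy
    obtain ⟨c, hc0, hpair⟩ := diag_pairing Q hQ (diagGL d hd0) g d (diagGL_val d hd0) hy
    have hEl : (Finset.univ.filter fun k : Fin r => d k = lam).card = r - 1 := by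
      rw [hE, if_neg hne, if_pos rfl]
      omega
    have hElz : (Finset.univ.filter fun k : Fin r => d k = lam * ζ).card = 1 := by
      rw [hE, if_pos rfl, if_neg hne.symm]
    -- `c / lam = lam`
    have hc := hpair lam hlam0
    rw [hEl, hE] at hc
    have hcl : lam = c / lam := by
      by_contra hcl
      rw [if_neg hcl] at hc
      split_ifs at hc <;> omega
    have hc2 : c = lam * lam := by
      have h5 : lam * lam = lam * (c / lam) := by rw [← hcl]
      rw [h5]
      field_simp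
    have h6 := hpair (lam * ζ) (mul_ne_zero hlam0 hζ0)
    have h7 : c / (lam * ζ) = lam / ζ := by
      rw [hc2]
      field_simp
    rw [h7, hElz, hE, if_neg, if_neg] at h6
    · omega
    · intro h
      have h8 : lam * ζ = lam := by
        have h9 : lam / ζ * ζ = lam := div_mul_cancel₀ lam hζ0
        rw [← h] at h9
        exact h9
      exact hne h8
    · intro h
      apply h2
      have h8 : lam * ζ * ζ = lam := by
        rw [h]
        exact div_mul_cancel₀ lam hζ0
      have h9 : lam * ζ ^ 2 = lam * 1 := by rw [mul_one, pow_two, ← mul_assoc]; exact h8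
      exact mul_left_cancel₀ hlam0 h9

end Cfsg.Agent.Lib.Helper14.SLO
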