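import Cfsg.Agent.Lib.Helper20.SQ.OmDefs

/-!
# K-SQ-Ominus-SUB2 (keystone 462522, row S4625, architect helper20): the group `omU` generated by the Siegel
transformations `ρ_{e_k, v}` (`v` supported above `e_k, f_k`) is a `2`-group.

Levels: `e_i ↦ i`, `z_j ↦ r`, `f_i ↦ 2 r - i`.  `OmLvl r n x` says that `x` is supported on the levels `< n`;
`OmTp r g` that `g - 1` lowers the level.  Then `(g - 1) ^ (2 r + 1) = 0` and `g ^ 2 ^ J = 1` in characteristic two.
-/

set_option autoImplicit false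
set_option linter.unusedVariables false
set_option linter.unusedSectionVars false
set_option maxHeartbeats 1600000

namespace Cfsg.Agent.Lib.Helper14.SQ

open Matrix Module QuadraticMap Cfsg.Agent.Lib.Helper19 Cfsg.Agent.Lib.Helper08 Cfsg.Agent.Lib.Helper38.SQ
  Cfsg.Agent.Lib.Helper20.SQ

variable {F : Type} [Field F] [Fintype F]

/-- the level of a coordinate -/
def omLv (r : ℕ) : OmI r → ℕ
  | Sum.inl (Sum.inl i) => (i : ℕ)
  | Sum.inl (Sum.inr i) => 2 * r - (i : ℕ)
  | Sum.inr _ => r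

/-- `x` is supported on the levels `< n` -/
def OmLvl (r n : ℕ) (x : OmI r → F) : Prop := ∀ idx : OmI r, n ≤ omLv r idx → x idx = 0

/-- `g - 1` lowers the level -/
def OmTp (r : ℕ) (g : Matrix (OmI r) (OmI r) F) : Prop :=
  ∀ (n : ℕ) (x : OmI r → F), OmLvl r (n + 1) x → OmLvl r n (g *ᵥ x - x)

theorem OmLvl.mono {r n m : ℕ} {x : OmI r → F} (h : OmLvl r n x) (hnm : n ≤ m) : OmLvl r m x :=
  fun idx hidx => h idx (hnm.trans hidx)

theorem OmLvl.add {r n : ℕ} {x y : OmI r → F} (hx : OmLvl r n x) (hy : OmLvl r n y) :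
    OmLvl r n (x + y) := by
  intro idx hidx
  rw [Pi.add_apply, hx idx hidx, hy idx hidx, add_zero]

theorem omLv_le (r : ℕ) (idx : OmI r) : omLv r idx ≤ 2 * r := by
  rcases idx with (i | i) | j
  · show (i : ℕ) ≤ 2 * r
    have := i.2
    omega
  · show 2 * r - (i : ℕ) ≤ 2 * r
    omega
  · show r ≤ 2 * r
    omega

theorem OmLvl.top (r : ℕ) (x : OmI r → F) : OmLvl r (2 * r + 1) x := by
  intro idx hidx
  have := omLv_le r idx
  omega

theorem OmLvl.eq_zero {r : ℕ} {x : OmI r → F} (h : OmLvl r 0 x) : x = 0 := by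
  funext idx
  exact h idx (Nat.zero_le _)

theorem OmTp.one (r : ℕ) : OmTp r (1 : Matrix (OmI r) (OmI r) F) := by
  intro n x hx idx hidx
  rw [Matrix.one_mulVec, sub_self]
  rfl

theorem OmTp.mulVec_mem {r : ℕ} {g : Matrix (OmI r) (OmI r) F} (hg : OmTp r g) {n : ℕ}
    {x : OmI r → F} (hx : OmLvl r (n + 1) x) : OmLvl r (n + 1) (g *ᵥ x) := by
  have h1 : g *ᵥ x = (g *ᵥ x - x) + x := by abel
  rw [h1]
  exact ((hg n x hx).mono (Nat.le_succ n)).add hx

theorem OmTp.mul {r : ℕ} {g h : Matrix (OmI r) (OmI r) F} (hg : OmTp r g) (hh : OmTp r h) :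
    OmTp r (g * h) := by
  intro n x hx
  have h1 : (g * h) *ᵥ x - x = (g *ᵥ (h *ᵥ x) - h *ᵥ x) + (h *ᵥ x - x) := by
    rw [Matrix.mulVec_mulVec]
    abel
  rw [h1]
  exact (hg n _ (hh.mulVec_mem hx)).add (hh n x hx)

theorem OmTp.pow {r : ℕ} {g : Matrix (OmI r) (OmI r) F} (hg : OmTp r g) (j : ℕ) : OmTp r (g ^ j) := by
  induction j with
  | zero => rw [pow_zero]; exact OmTp.one r
  | succ j ih => rw [pow_succ]; exact ih.mul hg

theorem OmTp.sub_one_pow {r : ℕ} {g : Matrix (OmI r) (OmI r) F} (hg : OmTp r g) (j : ℕ) :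
    ∀ (m : ℕ) (x : OmI r → F), OmLvl r (m + j) x → OmLvl r m (((g - 1) ^ j) *ᵥ x) := by
  induction j with
  | zero =>
    intro m x hx
    rw [pow_zero, Matrix.one_mulVec]
    exact hx
  | succ j ih =>
    intro m x hx
    rw [pow_succ, ← Matrix.mulVec_mulVec]
    apply ih
    rw [Matrix.sub_mulVec, Matrix.one_mulVec]
    apply hg
    have : m + (j + 1) = m + j + 1 := by omega
    rw [← this]
    exact hx

theorem OmTp.sub_one_pow_eq_zero {r : ℕ} {g : Matrix (OmI r) (OmI r) F} (hg : OmTp r g) :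
    (g - 1) ^ (2 * r + 1) = 0 := by
  apply Matrix.mulVec_injective
  funext x
  rw [Matrix.zero_mulVec]
  apply OmLvl.eq_zero
  apply hg.sub_one_pow (2 * r + 1) 0 x
  rw [zero_add]
  exact OmLvl.top r x

theorem OmTp.pow_two_pow [CharP F 2] {r : ℕ} {g : Matrix (OmI r) (OmI r) F} (hg : OmTp r g) :
    g ^ 2 ^ (2 * r + 1) = 1 := by
  have : Fact (Nat.Prime 2) := ⟨Nat.prime_two⟩
  have h1 := sub_pow_char_pow_of_commute 2 (2 * r + 1) (Commute.one_right g)
  rw [one_pow] at h1
  have hle : 2 * r + 1 ≤ 2 ^ (2 * r + 1) := Nat.lt_two_pow_self.le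
  have h2 : (g - 1) ^ 2 ^ (2 * r + 1) = 0 := by
    obtain ⟨c, hc⟩ := Nat.exists_eq_add_of_le hle
    rw [hc, pow_add, hg.sub_one_pow_eq_zero, zero_mul]
  rw [h2] at h1
  exact (sub_eq_zero.mp h1.symm)

/-- the explicit polar form of the elliptic quadratic form -/
theorem polar_omQ (r : ℕ) (a b : F)
    (hab : ∀ z₁ z₂ : F, z₁ ^ 2 + a * z₁ * z₂ + b * z₂ ^ 2 = 0 → z₁ = 0 ∧ z₂ = 0)
    (x v : OmI r → F) :
    polar (⇑(omQ r a b hab)) x v =
      (∑ i : Fin r, (x (Sum.inl (Sum.inl i)) * v (Sum.inl (Sum.inr i)) +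
        v (Sum.inl (Sum.inl i)) * x (Sum.inl (Sum.inr i)))) +
      (2 * x (Sum.inr 0) * v (Sum.inr 0) +
        a * (x (Sum.inr 0) * v (Sum.inr 1) + v (Sum.inr 0) * x (Sum.inr 1)) +
        2 * b * x (Sum.inr 1) * v (Sum.inr 1)) := by
  show polar (Cfsg.quadFormMinus r F a b) x v = _
  unfold polar Cfsg.quadFormMinus
  simp only [Pi.add_apply]
  have h : ∑ i : Fin r, (x (Sum.inl (Sum.inl i)) + v (Sum.inl (Sum.inl i))) *
        (x (Sum.inl (Sum.inr i)) + v (Sum.inl (Sum.inr i))) =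
      ∑ i : Fin r, x (Sum.inl (Sum.inl i)) * x (Sum.inl (Sum.inr i)) +
      ∑ i : Fin r, v (Sum.inl (Sum.inl i)) * v (Sum.inl (Sum.inr i)) +
      ∑ i : Fin r, (x (Sum.inl (Sum.inl i)) * v (Sum.inl (Sum.inr i)) +
        v (Sum.inl (Sum.inl i)) * x (Sum.inl (Sum.inr i))) := by
    rw [← Finset.sum_add_distrib, ← Finset.sum_add_distrib]
    apply Finset.sum_congr rfl
    intro i _
    ring
  rw [h]
  ring

/-- the generators lower the level -/
theorem omTp_rho [CharP F 2] (r : ℕ) (a b : F)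
    (hab : ∀ z₁ z₂ : F, z₁ ^ 2 + a * z₁ * z₂ + b * z₂ ^ 2 = 0 → z₁ = 0 ∧ z₂ = 0)
    (k : Fin r) (v : OmI r → F) (hgood : omGood r k v) :
    OmTp r (LinearMap.toMatrix' (rhoLin r a b hab k v)) := by
  intro n x hx idx hidx
  have hk := k.2
  rw [← Matrix.toLin'_apply, Matrix.toLin'_toMatrix', rhoLin_apply]
  have e1 : ((x + (polar (⇑(omQ r a b hab)) x v - omQ r a b hab v * x (Sum.inl (Sum.inr k))) • omE r k +
      (-x (Sum.inl (Sum.inr k))) • v - x : OmI r → F)) idx =
      (polar (⇑(omQ r a b hab)) x v - omQ r a b hab v * x (Sum.inl (Sum.inr k))) * omE r k idx +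
      (-x (Sum.inl (Sum.inr k))) * v idx := by
    simp only [Pi.add_apply, Pi.sub_apply, Pi.smul_apply, smul_eq_mul]
    ring
  rw [e1]
  -- second term
  have hB : (-x (Sum.inl (Sum.inr k))) * v idx = 0 := by
    by_cases hxk : x (Sum.inl (Sum.inr k)) = 0
    · rw [hxk, neg_zero, zero_mul]
    · have hlt : ¬ (n + 1 ≤ omLv r (Sum.inl (Sum.inr k))) := fun h => hxk (hx _ h)
      have hlt' : 2 * r - (k : ℕ) < n + 1 := by
        have : omLv r (Sum.inl (Sum.inr k)) = 2 * r - (k : ℕ) := rfl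
        omega
      have hv0 : v idx = 0 := by
        rcases idx with (l | l) | j
        · by_cases hlk : l ≤ k
          · exact (hgood l hlk).1
          · exfalso
            have h1 : omLv r (Sum.inl (Sum.inl l)) = (l : ℕ) := rfl
            have := l.2
            omega
        · by_cases hlk : l ≤ k
          · exact (hgood l hlk).2
          · exfalso
            have h1 : omLv r (Sum.inl (Sum.inr l)) = 2 * r - (l : ℕ) := rfl
            have h2 : (k : ℕ) < (l : ℕ) := by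
              rw [not_le] at hlk
              exact hlk
            have := l.2
            omega
        · exfalso
          have h1 : omLv r (Sum.inr j : OmI r) = r := rfl
          omega
      rw [hv0, mul_zero]
  rw [hB, add_zero]
  -- first term
  by_cases hidxk : idx = Sum.inl (Sum.inl k)
  · subst hidxk
    have hkn : n ≤ (k : ℕ) := hidx
    have hxf : ∀ i : Fin r, x (Sum.inl (Sum.inr i)) = 0 := by
      intro i
      apply hx
      show n + 1 ≤ 2 * r - (i : ℕ)
      have := i.2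
      omega
    have hxz : ∀ j : Fin 2, x (Sum.inr j) = 0 := by
      intro j
      apply hx
      show n + 1 ≤ r
      omega
    have hpol : polar (⇑(omQ r a b hab)) x v = 0 := by
      rw [polar_omQ]
      simp only [hxf, hxz, mul_zero, zero_mul, add_zero]
      apply Finset.sum_eq_zero
      intro i _
      by_cases hik : i ≤ k
      · rw [(hgood i hik).2, mul_zero]
      · have : x (Sum.inl (Sum.inl i)) = 0 := by
          apply hx
          show n + 1 ≤ (i : ℕ)
          have h2 : (k : ℕ) < (i : ℕ) := by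
            rw [not_le] at hik
            exact hik
          omega
        rw [this, zero_mul]
    rw [hpol, hxf k, mul_zero, sub_zero, zero_mul]
  · have : omE r k idx = (0 : F) := by
      unfold omE
      rw [Pi.single_apply, if_neg hidxk]
    rw [this, mul_zero]

/-- the matrix of an element of the isometry group -/
def omMat (r : ℕ) (Q : (OmI r → F) → F) (u : ↥(Cfsg.isometryGroup F Q)) : Matrix (OmI r) (OmI r) F :=
  ((u : GL (OmI r) F) : Matrix (OmI r) (OmI r) F)

theorem omMat_one (r : ℕ) (Q : (OmI r → F) → F) : omMat r Q 1 = 1 := rfl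

theorem omMat_mul (r : ℕ) (Q : (OmI r → F) → F) (u w : ↥(Cfsg.isometryGroup F Q)) :
    omMat r Q (u * w) = omMat r Q u * omMat r Q w := rfl

theorem omMat_pow (r : ℕ) (Q : (OmI r → F) → F) (u : ↥(Cfsg.isometryGroup F Q)) (j : ℕ) :
    omMat r Q (u ^ j) = omMat r Q u ^ j := by
  induction j with
  | zero => rw [pow_zero, pow_zero]; rfl
  | succ j ih => rw [pow_succ, pow_succ, omMat_mul, ih]

theorem omMat_injective (r : ℕ) (Q : (OmI r → F) → F) : Function.Injective (omMat r Q) := by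
  intro u w h
  apply Subtype.ext
  apply Units.ext
  exact h

/-- every element of `omU` lowers the level -/
theorem omTp_of_mem_omU [CharP F 2] (r : ℕ) (a b : F)
    (hab : ∀ z₁ z₂ : F, z₁ ^ 2 + a * z₁ * z₂ + b * z₂ ^ 2 = 0 → z₁ = 0 ∧ z₂ = 0)
    (u : ↥(Cfsg.isometryGroup F (⇑(omQ r a b hab)))) (hu : u ∈ omU r a b hab) :
    OmTp r (omMat r _ u) := by
  unfold omU at hu
  induction hu using Subgroup.closure_induction with
  | mem x hx =>
    obtain ⟨k, v, hgood, rfl⟩ := hx
    exact omTp_rho r a b hab k v hgood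
  | one => exact OmTp.one r
  | mul x y _ _ hx hy =>
    rw [omMat_mul]
    exact hx.mul hy
  | inv x _ hx =>
    have h1 := hx.pow_two_pow
    have hpos : 1 ≤ 2 ^ (2 * r + 1) := Nat.one_le_two_pow
    have h2 : omMat r _ x⁻¹ = omMat r _ x ^ (2 ^ (2 * r + 1) - 1) := by
      have h3 : omMat r (⇑(omQ r a b hab)) x⁻¹ * omMat r _ x = 1 := by
        rw [← omMat_mul, inv_mul_cancel, omMat_one]
      calc omMat r _ x⁻¹ = omMat r _ x⁻¹ * omMat r (⇑(omQ r a b hab)) x ^ 2 ^ (2 * r + 1) := by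
            rw [h1, mul_one]
        _ = omMat r _ x⁻¹ * (omMat r _ x * omMat r _ x ^ (2 ^ (2 * r + 1) - 1)) := by
            rw [← pow_succ', Nat.sub_add_cancel hpos]
        _ = omMat r _ x ^ (2 ^ (2 * r + 1) - 1) := by
            rw [← mul_assoc, h3, one_mul]
    rw [h2]
    exact hx.pow _

/-- **SUB2 (462522).** -/
theorem isPGroup_omU [CharP F 2] (r : ℕ) (a b : F)
    (hab : ∀ z₁ z₂ : F, z₁ ^ 2 + a * z₁ * z₂ + b * z₂ ^ 2 = 0 → z₁ = 0 ∧ z₂ = 0) :
    IsPGroup 2 (omU r a b hab) := by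
  intro g
  refine ⟨2 * r + 1, ?_⟩
  apply Subtype.ext
  apply omMat_injective r (⇑(omQ r a b hab))
  show omMat r _ ((g : ↥(Cfsg.isometryGroup F (⇑(omQ r a b hab)))) ^ 2 ^ (2 * r + 1)) = omMat r _ 1
  rw [omMat_pow, omMat_one]
  exact (omTp_of_mem_omU r a b hab g g.2).pow_two_pow

end Cfsg.Agent.Lib.Helper14.SQ
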