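import Mathlib
import Cfsg.Prelude.Def_GeometricClasses
import Cfsg.Agent.Lib.Helper51.SUMax2

/-!
# K-SUMax-N3: `SU_n` (n ≥ 3) does not normalise a field subalgebra of degree ≥ 2
-/

set_option autoImplicit false

namespace Cfsg.Agent.Lib.Helper14.SUMax

open Cfsg Cfsg.Geo Cfsg.Agent.Lib.Helper08 Cfsg.Agent.Lib.Helper51
open scoped Matrix MatrixGroups

variable {F : Type*} [Field F] [Fintype F] {n q : ℕ}

omit [Fintype F] in
/-- a subalgebra all of whose elements are scalar has finrank at most one. -/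
theorem n3u_exists_not_scalar {r : ℕ} (hr : 2 ≤ r)
    (K : Subalgebra F (Matrix (Fin n) (Fin n) F)) (hK : Module.finrank F K = r) :
    ∃ k ∈ K, ¬ ∃ c : F, k = c • (1 : Matrix (Fin n) (Fin n) F) := by
  by_contra hcon
  push Not at hcon
  have hle : Subalgebra.toSubmodule K ≤ Submodule.span F {(1 : Matrix (Fin n) (Fin n) F)} := by
    intro x hx
    obtain ⟨c, hc⟩ := hcon x hx
    rw [hc]
    exact Submodule.smul_mem _ _ (Submodule.mem_span_singleton_self _)
  have h1 : Module.finrank F (Subalgebra.toSubmodule K) ≤ 1 :=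
    (Submodule.finrank_mono hle).trans
      ((finrank_span_le_card ({(1 : Matrix (Fin n) (Fin n) F)} : Set _)).trans (by simp))
  have h2 : Module.finrank F (Subalgebra.toSubmodule K) = r := hK
  omega

/-- **K-SUMax-N3.** -/
theorem su_not_le_subalgebraNormalizer (hF : Fintype.card F = q ^ 2) (hn : 3 ≤ n) (hex : ¬ (n = 3 ∧ q = 2)) {r : ℕ} (hr : 2 ≤ r)
    (K : Subalgebra F (Matrix (Fin n) (Fin n) F)) (hK : IsFieldSubalgebra r K) :
    ¬ GU n F q ⊓ specialLinear (Fin n) F ≤ subalgebraNormalizer K := by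
  classical
  intro hSU
  obtain ⟨k, hkK, hks⟩ := n3u_exists_not_scalar hr K hK.finrank_eq
  -- a nonzero isotropic vector
  have hn0 : 0 < n := by omega
  set e0 : Fin n → F := Pi.single ⟨0, hn0⟩ 1 with he0
  have he0ne : e0 ≠ 0 := by
    intro h
    have := congrFun h ⟨0, hn0⟩
    rw [he0] at this
    simp at this
  obtain ⟨p, hpiso, hpe, -⟩ := exists_isotropic_two hF (by omega : 2 ≤ n) e0 e0 he0ne he0ne
  have hp0 : p ≠ 0 := by
    rintro rfl
    exact hpe (hform_zero_left _)
  -- `k p` is not a multiple of `p`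
  have hkp : k *ᵥ p ∉ Submodule.span F {p} := by
    intro hmem
    obtain ⟨c, hc⟩ := Submodule.mem_span_singleton.mp hmem
    set k' : Matrix (Fin n) (Fin n) F := k - c • (1 : Matrix (Fin n) (Fin n) F) with hk'
    have hk'K : k' ∈ K := K.sub_mem hkK (K.smul_mem K.one_mem c)
    have hk'0 : k' ≠ 0 := by
      intro h0
      apply hks
      exact ⟨c, sub_eq_zero.mp h0⟩
    have hk'p : k' *ᵥ p = 0 := by
      rw [hk', Matrix.sub_mulVec, Matrix.smul_mulVec, Matrix.one_mulVec, ← hc, sub_self]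
    obtain ⟨y, hyK, hy⟩ := hK.inv k' hk'K hk'0
    have hy' : y * k' = 1 := by rw [← hK.comm k' hk'K y hyK]; exact hy
    apply hp0
    calc p = (y * k') *ᵥ p := by rw [hy', Matrix.one_mulVec]
      _ = y *ᵥ (k' *ᵥ p) := by rw [Matrix.mulVec_mulVec]
      _ = 0 := by rw [hk'p, Matrix.mulVec_zero]
  -- the transvection
  obtain ⟨a, ha0, ha⟩ := exists_skew_ne_zero hF (F := F)
  let t : GL (Fin n) F := ⟨qrefl q p a, qrefl q p (-a), qrefl_mul_neg hF p hpiso a,
    qrefl_neg_mul hF p hpiso a⟩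
  have htval : (t : Matrix (Fin n) (Fin n) F) = qrefl q p a := rfl
  have htinv : ((t⁻¹ : GL (Fin n) F) : Matrix (Fin n) (Fin n) F) = qrefl q p (-a) := rfl
  have htmem : t ∈ GU n F q ⊓ specialLinear (Fin n) F := by
    rw [mem_GUSL_iff]
    refine ⟨qrefl_iso_skew hF p hpiso a ha, ?_⟩
    rw [htval, det_qrefl', hpiso, mul_zero, add_zero]
  have htN := hSU htmem
  have hmem : (t : Matrix (Fin n) (Fin n) F) * k * ((t⁻¹ : GL (Fin n) F) : Matrix (Fin n) (Fin n) F) ∈ K :=
    (htN k).mp hkK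
  rw [htval, htinv] at hmem
  set D : Matrix (Fin n) (Fin n) F := qrefl q p a * k * qrefl q p (-a) - k with hD
  have hDK : D ∈ K := K.sub_mem hmem hkK
  have hDx : ∀ x : Fin n → F, D *ᵥ x =
      (-(a * hform (Fin n) F q x p)) • (k *ᵥ p) +
        (a * (hform (Fin n) F q (k *ᵥ x) p -
          a * hform (Fin n) F q x p * hform (Fin n) F q (k *ᵥ p) p)) • p := by
    intro x
    rw [hD, Matrix.sub_mulVec, ← Matrix.mulVec_mulVec, ← Matrix.mulVec_mulVec, qrefl_mulVec p (-a) x,
      Matrix.mulVec_add, Matrix.mulVec_smul, qrefl_mulVec, hform_add_left, hform_smul_left]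
    simp only [neg_mul, neg_smul, mul_add, mul_neg, add_smul, sub_smul, mul_sub]
    have : a * (a * hform (Fin n) F q x p * hform (Fin n) F q (k *ᵥ p) p) =
        a * (hform (Fin n) F q x p * a * hform (Fin n) F q (k *ᵥ p) p) := by ring
    module
  -- `D ≠ 0`
  obtain ⟨x0, hx0⟩ : ∃ x0 : Fin n → F, hform (Fin n) F q x0 p ≠ 0 := by
    by_contra hcon
    push Not at hcon
    apply hp0
    apply hform_nondeg hF
    intro y
    rw [← hform_conj hF, hcon y, zero_pow (Cfsg.Agent.Lib.Helper19.q_pos hF).ne']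
  have hD0 : D ≠ 0 := by
    intro h0
    have h1 := hDx x0
    rw [h0, Matrix.zero_mulVec] at h1
    apply hkp
    have hc0 : a * hform (Fin n) F q x0 p ≠ 0 := mul_ne_zero ha0 hx0
    set β := a * (hform (Fin n) F q (k *ᵥ x0) p -
          a * hform (Fin n) F q x0 p * hform (Fin n) F q (k *ᵥ p) p) with hβ
    have h2 : (a * hform (Fin n) F q x0 p) • (k *ᵥ p) = β • p := by
      have h3 : (-(a * hform (Fin n) F q x0 p)) • (k *ᵥ p) + β • p = 0 := h1.symm
      rw [neg_smul, neg_add_eq_sub, sub_eq_zero] at h3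
      exact h3.symm
    have h5 : k *ᵥ p = (a * hform (Fin n) F q x0 p)⁻¹ • (β • p) := by
      rw [← h2, smul_smul, inv_mul_cancel₀ hc0, one_smul]
    rw [h5]
    exact Submodule.smul_mem _ _ (Submodule.smul_mem _ _ (Submodule.mem_span_singleton_self p))
  obtain ⟨y, -, hy⟩ := hK.inv D hDK hD0
  have htop : (⊤ : Submodule F (Fin n → F)) ≤ Submodule.span F {p, k *ᵥ p} := by
    intro x _
    have hx : x = D *ᵥ (y *ᵥ x) := by
      rw [Matrix.mulVec_mulVec, hy, Matrix.one_mulVec]
    rw [hx, hDx]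
    refine Submodule.add_mem _ (Submodule.smul_mem _ _ (Submodule.subset_span ?_))
      (Submodule.smul_mem _ _ (Submodule.subset_span ?_))
    · exact Set.mem_insert_of_mem _ rfl
    · exact Set.mem_insert _ _
  have h1 : Module.finrank F (⊤ : Submodule F (Fin n → F)) ≤
      Module.finrank F (Submodule.span F ({p, k *ᵥ p} : Set (Fin n → F))) := Submodule.finrank_mono htop
  have h2 : Module.finrank F (Submodule.span F ({p, k *ᵥ p} : Set (Fin n → F))) ≤ 2 := by
    have := finrank_span_finset_le_card (R := F) ({p, k *ᵥ p} : Finset (Fin n → F))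
    have hc : ({p, k *ᵥ p} : Finset (Fin n → F)).card ≤ 2 := Finset.card_le_two
    have hcoe : ((({p, k *ᵥ p} : Finset (Fin n → F)) : Set (Fin n → F))) = {p, k *ᵥ p} := by
      simp
    rw [hcoe] at this
    unfold Set.finrank at this
    omega
  rw [finrank_top, Module.finrank_fin_fun] at h1
  omega

end Cfsg.Agent.Lib.Helper14.SUMax
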