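import Mathlib

/-!
K-S2037-D (for helper95): index arithmetic in an extension with quotient `A₇`.
-/

set_option autoImplicit false

namespace Cfsg.Agent.Lib.Helper14.SchurTwo

theorem eq_top_of_index_alt_seven {E : Type*} [Group E] [Finite E] (M : Subgroup E) [M.Normal]
    (e : E ⧸ M ≃* alternatingGroup (Fin 7)) (S : Subgroup E) (hMS : M ≤ S)
    (h16 : S.index ≤ 16) (h5 : S.index % 5 = 1) : S = ⊤ := by
  classical
  have hMidx : M.index = 2520 := by
    rw [Subgroup.index_eq_card, Nat.card_congr e.toEquiv, nat_card_alternatingGroup]
    simp [Nat.factorial]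
  have hdvd : S.index ∣ 2520 := hMidx ▸ Subgroup.index_dvd_of_le hMS
  have hs : S.index = 1 ∨ S.index = 6 := by
    have hpos : 0 < S.index := Nat.pos_of_ne_zero Subgroup.index_ne_zero_of_finite
    generalize S.index = s at *
    interval_cases s <;> simp_all
  rcases hs with hs | hs
  · exact Subgroup.index_eq_one.mp hs
  · exfalso
    -- the normal core
    have hMK : M ≤ S.normalCore := Subgroup.normal_le_normalCore.mpr hMS
    have hKidx : S.normalCore.index ∣ 720 := by
      rw [Subgroup.normalCore_eq_ker, Subgroup.index_ker]
      have h1 : Nat.card (MulAction.toPermHom E (E ⧸ S)).range ∣ Nat.card (Equiv.Perm (E ⧸ S)) :=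
        Subgroup.card_subgroup_dvd_card _
      have h2 : Nat.card (Equiv.Perm (E ⧸ S)) = 720 := by
        rw [Nat.card_perm, ← Subgroup.index_eq_card, hs]
        rfl
      rwa [h2] at h1
    have hA7 : IsSimpleGroup (alternatingGroup (Fin 7)) :=
      alternatingGroup.isSimpleGroup (by simp)
    have hEM : IsSimpleGroup (E ⧸ M) := e.isSimpleGroup
    have hnorm : (S.normalCore.map (QuotientGroup.mk' M)).Normal :=
      Subgroup.Normal.map inferInstance _ (QuotientGroup.mk'_surjective M)
    rcases hnorm.eq_bot_or_eq_top with hb | ht
    · -- K ≤ M, so K = M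
      have hKM : S.normalCore ≤ M := by
        intro x hx
        have : QuotientGroup.mk' M x ∈ S.normalCore.map (QuotientGroup.mk' M) :=
          Subgroup.mem_map_of_mem _ hx
        rw [hb, Subgroup.mem_bot] at this
        exact (QuotientGroup.eq_one_iff x).mp this
      have : S.normalCore = M := le_antisymm hKM hMK
      rw [this, hMidx] at hKidx
      omega
    · have hKtop : S.normalCore = ⊤ := by
        rw [eq_top_iff]
        intro x _
        have : QuotientGroup.mk' M x ∈ S.normalCore.map (QuotientGroup.mk' M) := by
          rw [ht]; trivial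
        obtain ⟨y, hy, hyx⟩ := this
        have hxy : y⁻¹ * x ∈ M := by
          have := QuotientGroup.eq.mp hyx
          exact this
        have : x = y * (y⁻¹ * x) := by group
        rw [this]
        exact S.normalCore.mul_mem hy (hMK hxy)
      have : S = ⊤ := eq_top_iff.mpr (hKtop ▸ Subgroup.normalCore_le S)
      rw [this, Subgroup.index_top] at hs
      omega

end Cfsg.Agent.Lib.Helper14.SchurTwo
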