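import Mathlib
import Cfsg.Prelude.Def_ClassicalGeometry
import Cfsg.Agent.Lib.Helper48.Sp2GDefs

set_option autoImplicit false

/-!
# K-Sp2G LEAF D (keystone 241105, S2411): short root elements `sx c = l(1 + c E_01)`
-/

namespace Cfsg.Agent.Lib.Helper14.Sp2G

open Matrix Cfsg.Agent.Lib.Helper48.RSp Cfsg.Agent.Lib.Helper48.Sp2G Cfsg.Agent.Lib.Helper18

theorem sx_zero (m : ℕ) (F : Type*) [Field F] : sx m (0 : F) = 1 := by
  unfold sx
  rw [Matrix.single_zero, Matrix.single_zero, add_zero, sub_zero, Matrix.fromBlocks_one]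

theorem sx_mul (m : ℕ) {F : Type*} [Field F] (a b : F) : sx m a * sx m b = sx m (a + b) := by
  have h10 : (1 : Fin (m + 2)) ≠ 0 := by
    intro h
    have := congrArg Fin.val h
    simp at this
  unfold sx
  rw [Matrix.fromBlocks_multiply]
  have e1 : Matrix.single (0 : Fin (m + 2)) (1 : Fin (m + 2)) a *
      Matrix.single (0 : Fin (m + 2)) (1 : Fin (m + 2)) b = 0 :=
    Matrix.single_mul_single_of_ne a 0 1 0 h10 b
  have e2 : Matrix.single (1 : Fin (m + 2)) (0 : Fin (m + 2)) a *
      Matrix.single (1 : Fin (m + 2)) (0 : Fin (m + 2)) b = 0 :=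
    Matrix.single_mul_single_of_ne a 1 0 1 h10.symm b
  congr 1
  · rw [Matrix.mul_zero, add_zero, Matrix.mul_add, Matrix.add_mul, Matrix.add_mul, e1,
      Matrix.single_add]
    simp only [Matrix.one_mul, Matrix.mul_one]
    abel
  · simp
  · simp
  · rw [Matrix.zero_mul, zero_add, Matrix.mul_sub, Matrix.sub_mul, Matrix.sub_mul, e2,
      Matrix.single_add]
    simp only [Matrix.one_mul, Matrix.mul_one]
    abel

theorem hT_mul_sx (m : ℕ) {F : Type*} [Field F] (k c : F) (hk : k ≠ 0) :
    hT m k * sx m c = sx m (k * c) * hT m k := by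
  have h10 : (1 : Fin (m + 2)) ≠ 0 := by
    intro h
    have := congrArg Fin.val h
    simp at this
  unfold hT sx
  rw [Matrix.fromBlocks_multiply, Matrix.fromBlocks_multiply]
  congr 1
  · simp only [Matrix.mul_zero, add_zero]
    ext i j
    rw [Matrix.diagonal_mul, Matrix.mul_diagonal]
    simp only [Matrix.add_apply, Matrix.one_apply, Matrix.single_apply, kvec]
    by_cases hi : i = 0 <;> by_cases hj : j = 0 <;> by_cases hj1 : j = 1 <;>
      by_cases hij : i = j <;> simp_all [eq_comm]
  · simp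
  · simp
  · simp only [Matrix.mul_zero, zero_add]
    ext i j
    rw [Matrix.diagonal_mul, Matrix.mul_diagonal]
    simp only [Matrix.sub_apply, Matrix.one_apply, Matrix.single_apply, kvec]
    by_cases hi : i = 0 <;> by_cases hi1 : i = 1 <;> by_cases hj : j = 0 <;>
      by_cases hij : i = j <;> simp_all [eq_comm] <;> field_simp

end Cfsg.Agent.Lib.Helper14.Sp2G
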