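import Mathlib
import Cfsg.Prelude.Def_ClassicalGeometry
import Cfsg.Agent.Lib.Helper48.Sp2GDefs

set_option autoImplicit false

/-!
# K-Sp2G LEAF M2a (keystone 241102, S2411): `(hT k * zL)^|F| = hT k`
-/

namespace Cfsg.Agent.Lib.Helper14.Sp2G

open Matrix Cfsg.Agent.Lib.Helper48.RSp Cfsg.Agent.Lib.Helper48.Sp2G Cfsg.Agent.Lib.Helper18

theorem hT_commute_zL (m : ℕ) {F : Type*} [Field F] (k : F) :
    hT m k * zL m F = zL m F * hT m k := by
  have h10 : (1 : Fin (m + 2)) ≠ 0 := by
    intro h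
    have := congrArg Fin.val h
    simp at this
  unfold hT zL xMat
  rw [Matrix.fromBlocks_multiply, Matrix.fromBlocks_multiply]
  congr 1
  · simp
  · simp only [Matrix.mul_zero, Matrix.zero_mul, add_zero, zero_add]
    ext i j
    rw [Matrix.diagonal_mul, Matrix.mul_diagonal]
    simp only [Matrix.single_apply, kvec]
    by_cases hi : i = 1 <;> by_cases hj : j = 1 <;> simp_all [eq_comm]
  · simp
  · simp

theorem zL_pow (m : ℕ) (F : Type*) [Field F] (n : ℕ) :
    zL m F ^ n = xMat m (n • Matrix.single (1 : Fin (m + 2)) 1 (1 : F)) := by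
  induction n with
  | zero => rw [pow_zero, zero_smul, xMat_zero]
  | succ n ih =>
    rw [pow_succ, ih]
    conv_lhs => rw [zL]
    rw [xMat_mul, succ_nsmul]

theorem hT_pow (m : ℕ) {F : Type*} [Field F] (k : F) (n : ℕ) :
    hT m k ^ n = Matrix.fromBlocks (Matrix.diagonal (kvec m k ^ n)) 0 0
      (Matrix.diagonal (kvec m k⁻¹ ^ n)) := by
  unfold hT
  rw [Matrix.fromBlocks_diagonal_pow, Matrix.diagonal_pow, Matrix.diagonal_pow]

theorem hT_mul_zL_pow_card (m : ℕ) {F : Type*} [Field F] [Fintype F] (k : F) :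
    (hT m k * zL m F) ^ (Fintype.card F) = hT m k := by
  have hc : Commute (hT m k) (zL m F) := hT_commute_zL m k
  rw [hc.mul_pow, zL_pow, hT_pow]
  have h0 : (Fintype.card F • (Matrix.single (1 : Fin (m + 2)) 1 (1 : F) : SM m F)) = 0 := by
    rw [← Nat.cast_smul_eq_nsmul F, FiniteField.cast_card_eq_zero, zero_smul]
  rw [h0, xMat_zero, mul_one]
  have hk : ∀ x : F, kvec m x ^ Fintype.card F = kvec m x := by
    intro x
    funext j
    simp only [Pi.pow_apply, kvec]
    split_ifs
    · exact FiniteField.pow_card x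
    · exact one_pow _
  rw [hk, hk]
  rfl

end Cfsg.Agent.Lib.Helper14.Sp2G
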