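import Mathlib
import Cfsg.Prelude.Def_GeometricClasses
import Cfsg.Agent.Lib.Helper11.SpMax

/-!
# K-SpMax-Y1 : in `Sp_4(3)` the stabiliser of a pair of complementary totally isotropic planes is not maximal
-/

set_option autoImplicit false
set_option linter.unusedSectionVars false
set_option linter.unusedSimpArgs false

namespace Cfsg.Agent.Lib.Helper14.SpMax

open Cfsg Cfsg.Geo
open scoped Matrix Kronecker MatrixGroups

variable {F : Type*} [Field F]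

local notation "V" => (Fin 2 ⊕ Fin 2 → F)
local notation "ff" => Cfsg.sympForm 2 F

theorem fa_l (x y z : V) : ff (x + y) z = ff x z + ff y z := Cfsg.Agent.Lib.Helper18.sf_add_left 2 x y z
theorem fa_r (x y z : V) : ff x (y + z) = ff x y + ff x z := Cfsg.Agent.Lib.Helper18.sf_add_right 2 x y z
theorem fs_l (a : F) (x z : V) : ff (a • x) z = a * ff x z := Cfsg.Agent.Lib.Helper18.sf_smul_left 2 a x z
theorem fs_r (a : F) (x z : V) : ff x (a • z) = a * ff x z := Cfsg.Agent.Lib.Helper18.sf_smul_right 2 a x z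
theorem fn_l (x z : V) : ff (-x) z = - ff x z := Cfsg.Agent.Lib.Helper18.sf_neg_left 2 x z
theorem fn_r (x z : V) : ff x (-z) = - ff x z := Cfsg.Agent.Lib.Helper18.sf_neg_right 2 x z
theorem fsub_l (x y z : V) : ff (x - y) z = ff x z - ff y z := Cfsg.Agent.Lib.Helper18.sf_sub_left 2 x y z
theorem fsub_r (x y z : V) : ff x (y - z) = ff x y - ff x z := Cfsg.Agent.Lib.Helper18.sf_sub_right 2 x y z
theorem fz_l (z : V) : ff 0 z = 0 := Cfsg.Agent.Lib.Helper18.sf_zero_left 2 z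
theorem fz_r (z : V) : ff z 0 = 0 := Cfsg.Agent.Lib.Helper18.sf_zero_right 2 z
theorem f_self (x : V) : ff x x = 0 := Cfsg.Agent.Lib.Helper18.sf_self 2 x
theorem f_swap (x y : V) : ff x y = - ff y x := Cfsg.Agent.Lib.Helper18.sf_swap 2 x y

theorem eq_cases [Fintype F] (hq : Fintype.card F = 3) (x : F) : x = 0 ∨ x = 1 ∨ x = -1 := by
  have h := FiniteField.pow_card x
  rw [hq] at h
  have h2 : x * ((x - 1) * (x + 1)) = 0 := by linear_combination h
  rcases mul_eq_zero.mp h2 with h0 | h0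
  · exact Or.inl h0
  · rcases mul_eq_zero.mp h0 with h1 | h1
    · exact Or.inr (Or.inl (sub_eq_zero.mp h1))
    · exact Or.inr (Or.inr (eq_neg_of_add_eq_zero_left h1))

theorem scal_cases [Fintype F] (hq : Fintype.card F = 3) (a b c d a' b' c' d' : F)
    (h1 : a * a' + c * c' = 1) (h2 : a * b' + c * d' = 0) (h3 : b * a' + d * c' = 0)
    (h4 : b * b' + d * d' = 1) :
    (a' = d ∧ c' = -b ∧ b' = -c ∧ d' = a) ∨ (a' = -d ∧ c' = b ∧ b' = c ∧ d' = -a) := by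
  have ha' : a' * (a * d - b * c) = d := by linear_combination d * h1 - c * h3
  have hc' : c' * (a * d - b * c) = -b := by linear_combination a * h3 - b * h1
  have hb' : b' * (a * d - b * c) = -c := by linear_combination d * h2 - c * h4
  have hd' : d' * (a * d - b * c) = a := by linear_combination a * h4 - b * h2
  rcases eq_cases hq (a * d - b * c) with h0 | h0 | h0
  · exfalso
    rw [h0, mul_zero] at ha' hc' hb' hd'
    have hb : b = 0 := by linear_combination hc'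
    have hd : d = 0 := ha'.symm
    rw [hb, hd, zero_mul, zero_mul, add_zero] at h4
    exact zero_ne_one h4
  · left
    rw [h0, mul_one] at ha' hc' hb' hd'
    exact ⟨ha', hc', hb', hd'⟩
  · right
    rw [h0] at ha' hc' hb' hd'
    refine ⟨?_, ?_, ?_, ?_⟩
    · linear_combination -ha'
    · linear_combination -hc'
    · linear_combination -hb'
    · linear_combination -hd'

/-- span of a pair of independent vectors inside a plane -/
theorem span_pair_eq (W : Submodule F V) (hW : Module.finrank F W = 2) (x y : V) (hx : x ∈ W) (hy : y ∈ W)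
    (hind : ∀ s t : F, s • x + t • y = 0 → s = 0 ∧ t = 0) : Submodule.span F {x, y} = W := by
  have hli : LinearIndependent F ![x, y] := LinearIndependent.pair_iff.mpr hind
  have hr : Set.range ![x, y] = {x, y} := by
    simp [Set.pair_comm]
  have hfr : Module.finrank F (Submodule.span F ({x, y} : Set V)) = 2 := by
    rw [← hr, finrank_span_eq_card hli]
    simp
  have hle : Submodule.span F ({x, y} : Set V) ≤ W := by
    rw [Submodule.span_le]
    intro z hz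
    rcases hz with rfl | rfl
    · exact hx
    · exact hy
  exact Submodule.eq_of_le_of_finrank_eq hle (by rw [hfr, hW])

theorem finrank_span_pair (x y : V)
    (hind : ∀ s t : F, s • x + t • y = 0 → s = 0 ∧ t = 0) :
    Module.finrank F (Submodule.span F ({x, y} : Set V)) = 2 := by
  have hli : LinearIndependent F ![x, y] := LinearIndependent.pair_iff.mpr hind
  have hr : Set.range ![x, y] = {x, y} := by
    simp [Set.pair_comm]
  rw [← hr, finrank_span_eq_card hli]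
  simp


/-- a symplectic basis adapted to the pair of totally isotropic planes -/
structure SB (D : Fin 2 → Submodule F V) (u0 u1 v0 v1 : V) : Prop where
  hu0 : u0 ∈ D 0
  hu1 : u1 ∈ D 0
  hv0 : v0 ∈ D 1
  hv1 : v1 ∈ D 1
  f00 : ff u0 v0 = 1
  f01 : ff u0 v1 = 0
  f10 : ff u1 v0 = 0
  f11 : ff u1 v1 = 1

theorem exists_SB (D : Fin 2 → Submodule F V) (hD : IsMDecomposition 2 D)
    (hts : ∀ i, IsTotallySingularFor (sympForm 2 F) (D i)) : ∃ u0 u1 v0 v1 : V, SB D u0 u1 v0 v1 := by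
  have htop : ∀ y : V, ∃ a ∈ D 0, ∃ b ∈ D 1, y = a + b := by
    intro y
    have hy : y ∈ iSup D := by rw [hD.iSup_eq_top]; trivial
    have h2 : iSup D = D 0 ⊔ D 1 := by
      apply le_antisymm
      · apply iSup_le
        intro i
        fin_cases i
        · exact le_sup_left
        · exact le_sup_right
      · exact sup_le (le_iSup D 0) (le_iSup D 1)
    rw [h2, Submodule.mem_sup] at hy
    obtain ⟨a, ha, b, hb, hab⟩ := hy
    exact ⟨a, ha, b, hb, hab.symm⟩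
  have key0 : ∀ u ∈ D 0, u ≠ 0 → ∃ b ∈ D 1, ff u b ≠ 0 := by
    intro u hu hu0
    obtain ⟨y, hy⟩ := Cfsg.Agent.Lib.Helper18.sf_nondeg_top 2 u hu0
    obtain ⟨a, ha, b, hb, rfl⟩ := htop y
    refine ⟨b, hb, ?_⟩
    rw [fa_r, hts 0 u hu a ha, zero_add] at hy
    exact hy
  have hne : D 0 ≠ ⊥ := by
    intro h
    have := hD.finrank_eq 0
    rw [h, finrank_bot] at this
    omega
  obtain ⟨u0, hu0, hu00⟩ := Submodule.exists_mem_ne_zero_of_ne_bot hne
  obtain ⟨b0, hb0, hfb0⟩ := key0 u0 hu0 hu00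
  obtain ⟨v0, hv0, f00⟩ : ∃ v0 ∈ D 1, ff u0 v0 = 1 :=
    ⟨(ff u0 b0)⁻¹ • b0, Submodule.smul_mem _ _ hb0, by rw [fs_r, inv_mul_cancel₀ hfb0]⟩
  have hex : ∃ x ∈ D 0, x ∉ Submodule.span F {u0} := by
    by_contra hcon
    push Not at hcon
    have hle : D 0 ≤ Submodule.span F {u0} := hcon
    have h1 := Submodule.finrank_mono hle
    rw [hD.finrank_eq 0, finrank_span_singleton hu00] at h1
    omega
  obtain ⟨x, hx, hxs⟩ := hex
  obtain ⟨u1, hu1, f10, hu10⟩ : ∃ u1 ∈ D 0, ff u1 v0 = 0 ∧ u1 ≠ 0 := by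
    refine ⟨x - (ff x v0) • u0, Submodule.sub_mem _ hx (Submodule.smul_mem _ _ hu0), ?_, ?_⟩
    · rw [fsub_l, fs_l, f00, mul_one, sub_self]
    · intro h
      apply hxs
      have : x = (ff x v0) • u0 := sub_eq_zero.mp h
      rw [this]
      exact Submodule.smul_mem _ _ (Submodule.mem_span_singleton_self u0)
  obtain ⟨b1, hb1, hfb1⟩ := key0 u1 hu1 hu10
  obtain ⟨v1', hv1', f11'⟩ : ∃ v1' ∈ D 1, ff u1 v1' = 1 :=
    ⟨(ff u1 b1)⁻¹ • b1, Submodule.smul_mem _ _ hb1, by rw [fs_r, inv_mul_cancel₀ hfb1]⟩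
  refine ⟨u0, u1, v0, v1' - (ff u0 v1') • v0, ⟨hu0, hu1, hv0,
    Submodule.sub_mem _ hv1' (Submodule.smul_mem _ _ hv0), f00, ?_, f10, ?_⟩⟩
  · rw [fsub_r, fs_r, f00, mul_one, sub_self]
  · rw [fsub_r, fs_r, f10, mul_zero, sub_zero, f11']


/-- the first "diagonal" plane -/
def spA (p0 p1 q0 q1 : V) : Submodule F V := Submodule.span F ({p0 + q1, p1 - q0} : Set V)

/-- the second "diagonal" plane -/
def spB (p0 p1 q0 q1 : V) : Submodule F V := Submodule.span F ({p0 - q1, p1 + q0} : Set V)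

theorem lemmaA [Fintype F] (hq : Fintype.card F = 3) (p0 p1 q0 q1 : V)
    (h00 : ff p0 q0 = 1) (h01 : ff p0 q1 = 0) (h10 : ff p1 q0 = 0) (h11 : ff p1 q1 = 1)
    (a b c d a' b' c' d' : F)
    (k00 : ff (a • p0 + c • p1) (a' • q0 + c' • q1) = 1)
    (k01 : ff (a • p0 + c • p1) (b' • q0 + d' • q1) = 0)
    (k10 : ff (b • p0 + d • p1) (a' • q0 + c' • q1) = 0)
    (k11 : ff (b • p0 + d • p1) (b' • q0 + d' • q1) = 1) :
    ((a • p0 + c • p1) + (b' • q0 + d' • q1) ∈ spA p0 p1 q0 q1 ∧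
      (b • p0 + d • p1) - (a' • q0 + c' • q1) ∈ spA p0 p1 q0 q1 ∧
      (a • p0 + c • p1) - (b' • q0 + d' • q1) ∈ spB p0 p1 q0 q1 ∧
      (b • p0 + d • p1) + (a' • q0 + c' • q1) ∈ spB p0 p1 q0 q1) ∨
    ((a • p0 + c • p1) + (b' • q0 + d' • q1) ∈ spB p0 p1 q0 q1 ∧
      (b • p0 + d • p1) - (a' • q0 + c' • q1) ∈ spB p0 p1 q0 q1 ∧
      (a • p0 + c • p1) - (b' • q0 + d' • q1) ∈ spA p0 p1 q0 q1 ∧
      (b • p0 + d • p1) + (a' • q0 + c' • q1) ∈ spA p0 p1 q0 q1) := by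
  simp only [fa_l, fa_r, fs_l, fs_r, h00, h01, h10, h11] at k00 k01 k10 k11
  have e1 : a * a' + c * c' = 1 := by linear_combination k00
  have e2 : a * b' + c * d' = 0 := by linear_combination k01
  have e3 : b * a' + d * c' = 0 := by linear_combination k10
  have e4 : b * b' + d * d' = 1 := by linear_combination k11
  unfold spA spB
  rcases scal_cases hq a b c d a' b' c' d' e1 e2 e3 e4 with ⟨r1, r2, r3, r4⟩ | ⟨r1, r2, r3, r4⟩
  · left
    rw [r1, r2, r3, r4]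
    refine ⟨?_, ?_, ?_, ?_⟩
    · exact Submodule.mem_span_pair.mpr ⟨a, c, by module⟩
    · exact Submodule.mem_span_pair.mpr ⟨b, d, by module⟩
    · exact Submodule.mem_span_pair.mpr ⟨a, c, by module⟩
    · exact Submodule.mem_span_pair.mpr ⟨b, d, by module⟩
  · right
    rw [r1, r2, r3, r4]
    refine ⟨?_, ?_, ?_, ?_⟩
    · exact Submodule.mem_span_pair.mpr ⟨a, c, by module⟩
    · exact Submodule.mem_span_pair.mpr ⟨b, d, by module⟩
    · exact Submodule.mem_span_pair.mpr ⟨a, c, by module⟩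
    · exact Submodule.mem_span_pair.mpr ⟨b, d, by module⟩


/-- the table of values of the form on the symplectic basis -/
structure Tbl (u0 u1 v0 v1 : V) : Prop where
  u0u0 : ff u0 u0 = 0
  u0u1 : ff u0 u1 = 0
  u1u0 : ff u1 u0 = 0
  u1u1 : ff u1 u1 = 0
  v0v0 : ff v0 v0 = 0
  v0v1 : ff v0 v1 = 0
  v1v0 : ff v1 v0 = 0
  v1v1 : ff v1 v1 = 0
  u0v0 : ff u0 v0 = 1
  u0v1 : ff u0 v1 = 0
  u1v0 : ff u1 v0 = 0
  u1v1 : ff u1 v1 = 1
  v0u0 : ff v0 u0 = -1
  v0u1 : ff v0 u1 = 0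
  v1u0 : ff v1 u0 = 0
  v1u1 : ff v1 u1 = -1


theorem SB.tbl {D : Fin 2 → Submodule F V} {u0 u1 v0 v1 : V} (h : SB D u0 u1 v0 v1) (hts : ∀ i, IsTotallySingularFor (sympForm 2 F) (D i)) :
    Tbl u0 u1 v0 v1 where
  u0u0 := hts 0 _ h.hu0 _ h.hu0
  u0u1 := hts 0 _ h.hu0 _ h.hu1
  u1u0 := hts 0 _ h.hu1 _ h.hu0
  u1u1 := hts 0 _ h.hu1 _ h.hu1
  v0v0 := hts 1 _ h.hv0 _ h.hv0
  v0v1 := hts 1 _ h.hv0 _ h.hv1
  v1v0 := hts 1 _ h.hv1 _ h.hv0
  v1v1 := hts 1 _ h.hv1 _ h.hv1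
  u0v0 := h.f00
  u0v1 := h.f01
  u1v0 := h.f10
  u1v1 := h.f11
  v0u0 := by rw [f_swap, h.f00]
  v0u1 := by rw [f_swap, h.f10, neg_zero]
  v1u0 := by rw [f_swap, h.f01, neg_zero]
  v1u1 := by rw [f_swap, h.f11]

theorem SB.spanU {D : Fin 2 → Submodule F V} {u0 u1 v0 v1 : V} (h : SB D u0 u1 v0 v1) (hD : IsMDecomposition 2 D) :
    ∀ x ∈ D 0, ∃ s t : F, s • u0 + t • u1 = x := by
  have hs : Submodule.span F {u0, u1} = D 0 := by
    apply span_pair_eq (D 0) (hD.finrank_eq 0) u0 u1 h.hu0 h.hu1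
    intro s t hst
    have e0 := congrArg (fun z => ff z v0) hst
    have e1 := congrArg (fun z => ff z v1) hst
    simp only [fa_l, fs_l, fz_l, h.f00, h.f01, h.f10, h.f11] at e0 e1
    constructor
    · linear_combination e0
    · linear_combination e1
  intro x hx
  rw [← hs] at hx
  exact Submodule.mem_span_pair.mp hx

theorem SB.spanU' {D : Fin 2 → Submodule F V} {u0 u1 v0 v1 : V} (h : SB D u0 u1 v0 v1) (hD : IsMDecomposition 2 D) :
    ∀ x ∈ D 1, ∃ s t : F, s • v0 + t • v1 = x := by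
  have hs : Submodule.span F {v0, v1} = D 1 := by
    apply span_pair_eq (D 1) (hD.finrank_eq 1) v0 v1 h.hv0 h.hv1
    intro s t hst
    have e0 := congrArg (fun z => ff u0 z) hst
    have e1 := congrArg (fun z => ff u1 z) hst
    simp only [fa_r, fs_r, fz_r, h.f00, h.f01, h.f10, h.f11] at e0 e1
    constructor
    · linear_combination e0
    · linear_combination e1
  intro x hx
  rw [← hs] at hx
  exact Submodule.mem_span_pair.mp hx

theorem finrank_spA {u0 u1 v0 v1 : V} (T : Tbl u0 u1 v0 v1) : Module.finrank F (spA u0 u1 v0 v1) = 2 := by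
  unfold spA
  apply finrank_span_pair
  intro s t hst
  have e0 := congrArg (fun z => ff z v0) hst
  have e1 := congrArg (fun z => ff z v1) hst
  simp only [fa_l, fs_l, fz_l, fsub_l, T.1, T.2, T.3, T.4, T.5, T.6, T.7, T.8, T.9, T.10, T.11, T.12, T.13, T.14,
    T.15, T.16] at e0 e1
  constructor
  · linear_combination e0
  · linear_combination e1

theorem finrank_spB {u0 u1 v0 v1 : V} (T : Tbl u0 u1 v0 v1) : Module.finrank F (spB u0 u1 v0 v1) = 2 := by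
  unfold spB
  apply finrank_span_pair
  intro s t hst
  have e0 := congrArg (fun z => ff z v0) hst
  have e1 := congrArg (fun z => ff z v1) hst
  simp only [fa_l, fs_l, fz_l, fsub_l, T.1, T.2, T.3, T.4, T.5, T.6, T.7, T.8, T.9, T.10, T.11, T.12, T.13, T.14,
    T.15, T.16] at e0 e1
  constructor
  · linear_combination e0
  · linear_combination e1


theorem toLin_inj (g : GL (Fin 2 ⊕ Fin 2) F) :
    Function.Injective (Matrix.toLin' (g : Matrix (Fin 2 ⊕ Fin 2) (Fin 2 ⊕ Fin 2) F)) := by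
  intro x y h
  have h' : g.1 *ᵥ x = g.1 *ᵥ y := by
    rw [← Matrix.toLin'_apply, ← Matrix.toLin'_apply]; exact h
  have h2 := congrArg (fun z => g⁻¹.1 *ᵥ z) h'
  simp only [Cfsg.Agent.Lib.Helper11.SpMax.gl_inv_act] at h2
  exact h2

theorem map_span_pair_eq (g : GL (Fin 2 ⊕ Fin 2) F) (x y : V) (W' : Submodule F V)
    (h2 : Module.finrank F (Submodule.span F ({x, y} : Set V)) = 2) (h2' : Module.finrank F W' = 2)
    (hx : g.1 *ᵥ x ∈ W') (hy : g.1 *ᵥ y ∈ W') :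
    (Submodule.span F ({x, y} : Set V)).map (Matrix.toLin' g.1) = W' := by
  apply Submodule.eq_of_le_of_finrank_eq
  · rw [Submodule.map_span_le]
    intro z hz
    rcases hz with rfl | rfl
    · rw [Matrix.toLin'_apply]; exact hx
    · rw [Matrix.toLin'_apply]; exact hy
  · rw [h2']
    exact (Submodule.equivMapOfInjective _ (toLin_inj g) _).finrank_eq.symm.trans h2

theorem stab_of_R {u0 u1 v0 v1 : V} (T : Tbl u0 u1 v0 v1) (g : GL (Fin 2 ⊕ Fin 2) F)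
    (R : (g.1 *ᵥ u0 + g.1 *ᵥ v1 ∈ spA u0 u1 v0 v1 ∧ g.1 *ᵥ u1 - g.1 *ᵥ v0 ∈ spA u0 u1 v0 v1 ∧
          g.1 *ᵥ u0 - g.1 *ᵥ v1 ∈ spB u0 u1 v0 v1 ∧ g.1 *ᵥ u1 + g.1 *ᵥ v0 ∈ spB u0 u1 v0 v1) ∨
         (g.1 *ᵥ u0 + g.1 *ᵥ v1 ∈ spB u0 u1 v0 v1 ∧ g.1 *ᵥ u1 - g.1 *ᵥ v0 ∈ spB u0 u1 v0 v1 ∧
          g.1 *ᵥ u0 - g.1 *ᵥ v1 ∈ spA u0 u1 v0 v1 ∧ g.1 *ᵥ u1 + g.1 *ᵥ v0 ∈ spA u0 u1 v0 v1)) :
    g ∈ decompositionStabilizer ![spA u0 u1 v0 v1, spB u0 u1 v0 v1] := by
  rcases R with ⟨r1, r2, r3, r4⟩ | ⟨r1, r2, r3, r4⟩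
  · have hA : (spA u0 u1 v0 v1).map (Matrix.toLin' g.1) = spA u0 u1 v0 v1 :=
      map_span_pair_eq g (u0 + v1) (u1 - v0) (spA u0 u1 v0 v1) (finrank_spA T) (finrank_spA T)
        (by rw [Matrix.mulVec_add]; exact r1) (by rw [Matrix.mulVec_sub]; exact r2)
    have hB : (spB u0 u1 v0 v1).map (Matrix.toLin' g.1) = spB u0 u1 v0 v1 :=
      map_span_pair_eq g (u0 - v1) (u1 + v0) (spB u0 u1 v0 v1) (finrank_spB T) (finrank_spB T)
        (by rw [Matrix.mulVec_sub]; exact r3) (by rw [Matrix.mulVec_add]; exact r4)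
    refine ⟨1, fun i => ?_⟩
    fin_cases i
    · exact hA
    · exact hB
  · have hA : (spA u0 u1 v0 v1).map (Matrix.toLin' g.1) = spB u0 u1 v0 v1 :=
      map_span_pair_eq g (u0 + v1) (u1 - v0) (spB u0 u1 v0 v1) (finrank_spA T) (finrank_spB T)
        (by rw [Matrix.mulVec_add]; exact r1) (by rw [Matrix.mulVec_sub]; exact r2)
    have hB : (spB u0 u1 v0 v1).map (Matrix.toLin' g.1) = spA u0 u1 v0 v1 :=
      map_span_pair_eq g (u0 - v1) (u1 + v0) (spA u0 u1 v0 v1) (finrank_spB T) (finrank_spA T)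
        (by rw [Matrix.mulVec_sub]; exact r3) (by rw [Matrix.mulVec_add]; exact r4)
    refine ⟨Equiv.swap 0 1, fun i => ?_⟩
    fin_cases i
    · exact hA
    · exact hB


theorem perm_fin_two_cases (σ : Equiv.Perm (Fin 2)) : (σ 0 = 0 ∧ σ 1 = 1) ∨ (σ 0 = 1 ∧ σ 1 = 0) := by
  revert σ
  decide

theorem stab_le [Fintype F] (hq : Fintype.card F = 3) {D : Fin 2 → Submodule F V} (hD : IsMDecomposition 2 D)
    (hts : ∀ i, IsTotallySingularFor (sympForm 2 F) (D i)) {u0 u1 v0 v1 : V} (h : SB D u0 u1 v0 v1)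
    (g : GL (Fin 2 ⊕ Fin 2) F) (hg : g ∈ spGL 2 F) (hgD : g ∈ decompositionStabilizer D) :
    g ∈ decompositionStabilizer ![spA u0 u1 v0 v1, spB u0 u1 v0 v1] := by
  have T := h.tbl hts
  obtain ⟨σ, hσ⟩ := hgD
  have hmem : ∀ i, ∀ x ∈ D i, g.1 *ᵥ x ∈ D (σ i) := by
    intro i x hx
    rw [← hσ i]
    exact Submodule.mem_map.mpr ⟨x, hx, Matrix.toLin'_apply _ _⟩
  have hpres : ∀ x y : V, ff (g.1 *ᵥ x) (g.1 *ᵥ y) = ff x y :=
    (Cfsg.Agent.Lib.Helper11.SpMax.mem_spGL_iff 2 g).mp hg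
  apply stab_of_R T
  rcases perm_fin_two_cases σ with ⟨s0, s1⟩ | ⟨s0, s1⟩
  · obtain ⟨a, c, hP0⟩ := h.spanU hD _ (s0 ▸ hmem 0 u0 h.hu0)
    obtain ⟨b, d, hP1⟩ := h.spanU hD _ (s0 ▸ hmem 0 u1 h.hu1)
    obtain ⟨a', c', hQ0⟩ := h.spanU' hD _ (s1 ▸ hmem 1 v0 h.hv0)
    obtain ⟨b', d', hQ1⟩ := h.spanU' hD _ (s1 ▸ hmem 1 v1 h.hv1)
    have L := lemmaA hq u0 u1 v0 v1 T.u0v0 T.u0v1 T.u1v0 T.u1v1 a b c d a' b' c' d'
      (by rw [hP0, hQ0, hpres, T.u0v0]) (by rw [hP0, hQ1, hpres, T.u0v1])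
      (by rw [hP1, hQ0, hpres, T.u1v0]) (by rw [hP1, hQ1, hpres, T.u1v1])
    rw [hP0, hP1, hQ0, hQ1] at L
    exact L
  · obtain ⟨a, c, hP0⟩ := h.spanU' hD _ (s0 ▸ hmem 0 u0 h.hu0)
    obtain ⟨b, d, hP1⟩ := h.spanU' hD _ (s0 ▸ hmem 0 u1 h.hu1)
    obtain ⟨a', c', hQ0⟩ := h.spanU hD _ (s1 ▸ hmem 1 v0 h.hv0)
    obtain ⟨b', d', hQ1⟩ := h.spanU hD _ (s1 ▸ hmem 1 v1 h.hv1)
    have eQ0 : (-a') • (-u0) + (-c') • (-u1) = g.1 *ᵥ v0 := by rw [← hQ0]; module
    have eQ1 : (-b') • (-u0) + (-d') • (-u1) = g.1 *ᵥ v1 := by rw [← hQ1]; module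
    have L := lemmaA hq v0 v1 (-u0) (-u1) (by rw [fn_r, T.v0u0, neg_neg]) (by rw [fn_r, T.v0u1, neg_zero])
      (by rw [fn_r, T.v1u0, neg_zero]) (by rw [fn_r, T.v1u1, neg_neg]) a b c d (-a') (-b') (-c') (-d')
      (by rw [hP0, eQ0, hpres, T.u0v0]) (by rw [hP0, eQ1, hpres, T.u0v1])
      (by rw [hP1, eQ0, hpres, T.u1v0]) (by rw [hP1, eQ1, hpres, T.u1v1])
    rw [hP0, hP1, eQ0, eQ1] at L
    have hA : spA v0 v1 (-u0) (-u1) ≤ spA u0 u1 v0 v1 := by
      unfold spA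
      rw [Submodule.span_le]
      intro z hz
      rcases hz with rfl | rfl
      · exact Submodule.mem_span_pair.mpr ⟨0, -1, by module⟩
      · exact Submodule.mem_span_pair.mpr ⟨1, 0, by module⟩
    have hB : spB v0 v1 (-u0) (-u1) ≤ spB u0 u1 v0 v1 := by
      unfold spB
      rw [Submodule.span_le]
      intro z hz
      rcases hz with rfl | rfl
      · exact Submodule.mem_span_pair.mpr ⟨0, 1, by module⟩
      · exact Submodule.mem_span_pair.mpr ⟨-1, 0, by module⟩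
    rcases L with ⟨l1, l2, l3, l4⟩ | ⟨l1, l2, l3, l4⟩
    · exact Or.inl ⟨hA l1, hA l2, hB l3, hB l4⟩
    · exact Or.inr ⟨hB l1, hB l2, hA l3, hA l4⟩


variable [Fintype F]

theorem tipair_not_maximal_of_card_three (hq : Fintype.card F = 3)
    (D : Fin 2 → Submodule F (Fin 2 ⊕ Fin 2 → F)) (hD : IsMDecomposition 2 D)
    (hts : ∀ i, IsTotallySingularFor (sympForm 2 F) (D i)) :
    ¬ IsMaximalIn (spGL 2 F) (decompositionStabilizer D ⊓ spGL 2 F) := by
  intro hmax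
  obtain ⟨u0, u1, v0, v1, h⟩ := exists_SB D hD hts
  have T := h.tbl hts
  have hHM : decompositionStabilizer D ⊓ spGL 2 F ≤
      decompositionStabilizer ![spA u0 u1 v0 v1, spB u0 u1 v0 v1] ⊓ spGL 2 F := by
    intro g hg
    exact ⟨stab_le hq hD hts h g hg.2 hg.1, hg.2⟩
  rcases hmax.2 _ hHM inf_le_right with hMH | hMK
  · -- a transvection in the larger group but not in the smaller one
    have ht : Cfsg.Agent.Lib.Helper11.SpMax.tg 2 (u0 + v1) (1 : F) ∈ spGL 2 F :=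
      Cfsg.Agent.Lib.Helper11.SpMax.tg_mem 2 _ _
    have hact : ∀ x : V, (Cfsg.Agent.Lib.Helper11.SpMax.tg 2 (u0 + v1) (1 : F)).1 *ᵥ x =
        x + (1 * ff x (u0 + v1)) • (u0 + v1) := Cfsg.Agent.Lib.Helper11.SpMax.tg_act 2 _ _
    have htu0 : (Cfsg.Agent.Lib.Helper11.SpMax.tg 2 (u0 + v1) (1 : F)).1 *ᵥ u0 = u0 := by
      rw [hact, fa_r, T.u0u0, T.u0v1]; simp
    have htv1 : (Cfsg.Agent.Lib.Helper11.SpMax.tg 2 (u0 + v1) (1 : F)).1 *ᵥ v1 = v1 := by
      rw [hact, fa_r, T.v1u0, T.v1v1]; simp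
    have htu1 : (Cfsg.Agent.Lib.Helper11.SpMax.tg 2 (u0 + v1) (1 : F)).1 *ᵥ u1 = u1 + (u0 + v1) := by
      rw [hact, fa_r, T.u1u0, T.u1v1]; simp
    have htv0 : (Cfsg.Agent.Lib.Helper11.SpMax.tg 2 (u0 + v1) (1 : F)).1 *ᵥ v0 = v0 - (u0 + v1) := by
      rw [hact, fa_r, T.v0u0, T.v0v1]; module
    have htM : Cfsg.Agent.Lib.Helper11.SpMax.tg 2 (u0 + v1) (1 : F) ∈
        decompositionStabilizer ![spA u0 u1 v0 v1, spB u0 u1 v0 v1] ⊓ spGL 2 F := by
      refine ⟨stab_of_R T _ (Or.inl ⟨?_, ?_, ?_, ?_⟩), ht⟩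
      · rw [htu0, htv1]; unfold spA; exact Submodule.mem_span_pair.mpr ⟨1, 0, by module⟩
      · rw [htu1, htv0]; unfold spA; exact Submodule.mem_span_pair.mpr ⟨2, 1, by module⟩
      · rw [htu0, htv1]; unfold spB; exact Submodule.mem_span_pair.mpr ⟨1, 0, by module⟩
      · rw [htu1, htv0]; unfold spB; exact Submodule.mem_span_pair.mpr ⟨0, 1, by module⟩
    rw [hMH] at htM
    obtain ⟨σ, hσ⟩ := htM.1
    have hm : (Cfsg.Agent.Lib.Helper11.SpMax.tg 2 (u0 + v1) (1 : F)).1 *ᵥ u1 ∈ D (σ 0) := by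
      rw [← hσ 0]
      exact Submodule.mem_map.mpr ⟨u1, h.hu1, Matrix.toLin'_apply _ _⟩
    rw [htu1] at hm
    rcases perm_fin_two_cases σ with ⟨s0, _⟩ | ⟨s0, _⟩
    · rw [s0] at hm
      have h0 := hts 0 u1 h.hu1 _ hm
      rw [fa_r, fa_r, T.u1u1, T.u1u0, T.u1v1] at h0
      simp at h0
    · rw [s0] at hm
      have h0 := hts 1 _ hm v0 h.hv0
      rw [fa_l, fa_l, T.u1v0, T.u0v0, T.v1v0] at h0
      simp at h0
  · -- an element of `Sp` moving `u0 + v1` to `u0`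
    have hw : u0 + v1 ≠ 0 := by
      intro h0
      have h1 := congrArg (fun z => ff z v0) h0
      simp only [fa_l, fz_l, T.u0v0, T.v1v0] at h1
      simp at h1
    have hu : u0 ≠ 0 := by
      intro h0
      have h1 := T.u0v0
      rw [h0, fz_l] at h1
      exact zero_ne_one h1
    obtain ⟨g, hg, hgw⟩ := Cfsg.Agent.Lib.Helper11.SpMax.exists_spGL_move 2 (u0 + v1) u0 hw hu
    have hgM : g ∈ decompositionStabilizer ![spA u0 u1 v0 v1, spB u0 u1 v0 v1] ⊓ spGL 2 F := by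
      rw [hMK]; exact hg
    obtain ⟨τ, hτ⟩ := hgM.1
    have hm : g.1 *ᵥ (u0 + v1) ∈ ![spA u0 u1 v0 v1, spB u0 u1 v0 v1] (τ 0) := by
      rw [← hτ 0]
      refine Submodule.mem_map.mpr ⟨u0 + v1, ?_, Matrix.toLin'_apply _ _⟩
      show u0 + v1 ∈ spA u0 u1 v0 v1
      unfold spA
      exact Submodule.mem_span_pair.mpr ⟨1, 0, by module⟩
    rw [hgw] at hm
    rcases perm_fin_two_cases τ with ⟨s0, _⟩ | ⟨s0, _⟩
    · rw [s0] at hm
      have hm' : u0 ∈ spA u0 u1 v0 v1 := hm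
      unfold spA at hm'
      obtain ⟨s, t, hst⟩ := Submodule.mem_span_pair.mp hm'
      have e0 := congrArg (fun z => ff z v0) hst
      have e1 := congrArg (fun z => ff u1 z) hst
      simp only [fa_l, fa_r, fs_l, fs_r, fsub_l, fsub_r, T.1, T.2, T.3, T.4, T.5, T.6, T.7, T.8, T.9, T.10, T.11,
        T.12, T.13, T.14, T.15, T.16] at e0 e1
      exact zero_ne_one (by linear_combination e0 - e1 : (0 : F) = 1)
    · rw [s0] at hm
      have hm' : u0 ∈ spB u0 u1 v0 v1 := hm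
      unfold spB at hm'
      obtain ⟨s, t, hst⟩ := Submodule.mem_span_pair.mp hm'
      have e0 := congrArg (fun z => ff z v0) hst
      have e1 := congrArg (fun z => ff u1 z) hst
      simp only [fa_l, fa_r, fs_l, fs_r, fsub_l, fsub_r, T.1, T.2, T.3, T.4, T.5, T.6, T.7, T.8, T.9, T.10, T.11,
        T.12, T.13, T.14, T.15, T.16] at e0 e1
      exact zero_ne_one (by linear_combination e0 + e1 : (0 : F) = 1)

end Cfsg.Agent.Lib.Helper14.SpMax
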