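/-
K-SpT-COMB (keystone 598006) of the S5980 pack (architect helper86): pure combinatorics of roots of
`∏ (X - α_i β_j) = (X - 1)^m f`, `f` separable, `f(1) ≠ 0`.
-/
import Mathlib

set_option autoImplicit false

namespace Cfsg.Agent.Lib.Helper14.SpT

open Matrix Polynomial

theorem kron_comb {K : Type*} [Field K] {a b : ℕ} (ha : 2 ≤ a) (hb : 2 ≤ b) (dA : Fin a → K)
    (dB : Fin b → K) (m c : ℕ) (hmc : m + c = a * b) (hc : 1 ≤ c) (f : K[X]) (hf : f.Separable)
    (hf1 : f.eval 1 ≠ 0)
    (h : ∏ ij : Fin a × Fin b, (X - C (dA ij.1 * dB ij.2)) = (X - 1) ^ m * f) :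
    Function.Injective dA ∧ Function.Injective dB ∧ m ≤ a ∧ m ≤ b := by
  classical
  obtain ⟨g, hg⟩ : ∃ g : Fin a × Fin b → K, g = fun ij => dA ij.1 * dB ij.2 := ⟨_, rfl⟩
  have hgapp : ∀ i j, g (i, j) = dA i * dB j := by
    intro i j
    rw [hg]
  have hf0 : f ≠ 0 := by
    rintro rfl
    exact hf1 (by simp)
  have hX1 : (X - 1 : K[X]) = X - C 1 := by rw [C_1]
  have hR0 : (X - 1 : K[X]) ^ m * f ≠ 0 := by
    apply mul_ne_zero _ hf0
    apply pow_ne_zero
    rw [hX1]
    exact X_sub_C_ne_zero 1
  -- roots of the two sides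
  have hLroots : (∏ ij : Fin a × Fin b, (X - C (dA ij.1 * dB ij.2))).roots =
      Finset.univ.val.map g := by
    have h1 : ∏ ij : Fin a × Fin b, (X - C (dA ij.1 * dB ij.2)) =
        ((Finset.univ.val.map g).map (fun t => X - C t)).prod := by
      rw [Multiset.map_map, hg]
      rfl
    rw [h1, roots_multiset_prod_X_sub_C]
  have hRroots : ((X - 1 : K[X]) ^ m * f).roots = m • ({1} : Multiset K) + f.roots := by
    rw [roots_mul hR0, roots_pow, hX1, roots_X_sub_C]
  have hcount : ∀ ν : K, (Finset.univ.filter fun p : Fin a × Fin b => g p = ν).card =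
      (if ν = 1 then m else 0) + f.roots.count ν := by
    intro ν
    have h2 : (Finset.univ.val.map g).count ν = (m • ({1} : Multiset K) + f.roots).count ν := by
      rw [← hLroots, h, hRroots]
    rw [Multiset.count_add, Multiset.count_nsmul, Multiset.count_singleton, Multiset.count_map] at h2
    have h3 : (Finset.univ.filter fun p : Fin a × Fin b => g p = ν).card =
        (Multiset.filter (fun t => ν = g t) Finset.univ.val).card := by
      rw [Finset.card_def, Finset.filter_val]
      congr 1
      apply Multiset.filter_congr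
      intro x _
      exact eq_comm
    rw [h3, h2]
    split_ifs with h4 <;> simp
  have hf1root : f.roots.count 1 = 0 := by
    rw [Multiset.count_eq_zero, mem_roots hf0]
    exact hf1
  -- (K2): the number of pairs with product `1` is `m`
  have hK2 : (Finset.univ.filter fun p : Fin a × Fin b => g p = 1).card = m := by
    rw [hcount, if_pos rfl, hf1root, add_zero]
  -- (K1): every value `≠ 1` is taken at most once
  have hK1 : ∀ p p' : Fin a × Fin b, g p ≠ 1 → g p = g p' → p = p' := by
    intro p p' hp hpp'
    have h3 := hcount (g p)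
    rw [if_neg hp, zero_add] at h3
    have h4 : (Finset.univ.filter fun t : Fin a × Fin b => g t = g p).card ≤ 1 := by
      rw [h3]
      exact count_roots_le_one hf (g p)
    rw [Finset.card_le_one] at h4
    exact h4 p (by simp) p' (by simp [hpp'])
  -- not all products equal `1`
  have hex : ∃ p : Fin a × Fin b, g p ≠ 1 := by
    by_contra hcon
    push Not at hcon
    have h3 : (Finset.univ.filter fun p : Fin a × Fin b => g p = 1) = Finset.univ := by
      apply Finset.filter_true_of_mem
      intro p _
      exact hcon p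
    rw [h3, Finset.card_univ, Fintype.card_prod, Fintype.card_fin, Fintype.card_fin] at hK2
    omega
  have i0 : Fin a := ⟨0, by omega⟩
  have i1 : Fin a := ⟨1, by omega⟩
  have j0 : Fin b := ⟨0, by omega⟩
  have j1 : Fin b := ⟨1, by omega⟩
  have hinjA : Function.Injective dA := by
    intro i i' hii
    by_contra hne
    -- all `dA i * dB j = 1`
    have h3 : ∀ j, dA i * dB j = 1 := by
      intro j
      by_contra h4
      have h5 := hK1 (i, j) (i', j) (by rw [hgapp]; exact h4) (by rw [hgapp, hgapp, hii])
      exact hne (congrArg Prod.fst h5)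
    have hAi : dA i ≠ 0 := by
      intro h0
      have := h3 j0
      rw [h0, zero_mul] at this
      exact zero_ne_one this
    -- `dB` is constant
    have h6 : ∀ j j', dB j = dB j' := by
      intro j j'
      have : dA i * dB j = dA i * dB j' := by rw [h3 j, h3 j']
      exact mul_left_cancel₀ hAi this
    obtain ⟨⟨i2, j2⟩, hp⟩ := hex
    have hj : ∃ j3 : Fin b, j3 ≠ j2 := by
      by_cases h7 : j2 = ⟨0, by omega⟩
      · exact ⟨⟨1, by omega⟩, by rw [h7]; intro h8; exact absurd (congrArg Fin.val h8) (by simp)⟩
      · exact ⟨⟨0, by omega⟩, fun h8 => h7 h8.symm⟩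
    obtain ⟨j3, hj3⟩ := hj
    have h5 := hK1 (i2, j2) (i2, j3) hp (by rw [hgapp, hgapp, h6 j2 j3])
    exact hj3 (congrArg Prod.snd h5).symm
  have hinjB : Function.Injective dB := by
    intro j j' hjj
    by_contra hne
    have h3 : ∀ i, dA i * dB j = 1 := by
      intro i
      by_contra h4
      have h5 := hK1 (i, j) (i, j') (by rw [hgapp]; exact h4) (by rw [hgapp, hgapp, hjj])
      exact hne (congrArg Prod.snd h5)
    have hBj : dB j ≠ 0 := by
      intro h0
      have := h3 i0
      rw [h0, mul_zero] at this
      exact zero_ne_one this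
    have h6 : ∀ i i', dA i = dA i' := by
      intro i i'
      have : dA i * dB j = dA i' * dB j := by rw [h3 i, h3 i']
      exact mul_right_cancel₀ hBj this
    obtain ⟨⟨i2, j2⟩, hp⟩ := hex
    have hi : ∃ i3 : Fin a, i3 ≠ i2 := by
      by_cases h7 : i2 = ⟨0, by omega⟩
      · exact ⟨⟨1, by omega⟩, by rw [h7]; intro h8; exact absurd (congrArg Fin.val h8) (by simp)⟩
      · exact ⟨⟨0, by omega⟩, fun h8 => h7 h8.symm⟩
    obtain ⟨i3, hi3⟩ := hi
    have h5 := hK1 (i2, j2) (i3, j2) hp (by rw [hgapp, hgapp, h6 i2 i3])
    exact hi3 (congrArg Prod.fst h5).symm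
  refine ⟨hinjA, hinjB, ?_, ?_⟩
  · -- projection to the first coordinate is injective on the pairs with product `1`
    rw [← hK2]
    have h3 : ((Finset.univ.filter fun p : Fin a × Fin b => g p = 1).image Prod.fst).card =
        (Finset.univ.filter fun p : Fin a × Fin b => g p = 1).card := by
      apply Finset.card_image_of_injOn
      intro p hp p' hp' hpp
      have hp1 : g p = 1 := (Finset.mem_filter.mp hp).2
      have hp'1 : g p' = 1 := (Finset.mem_filter.mp hp').2
      obtain ⟨i, j⟩ := p
      obtain ⟨i', j'⟩ := p'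
      have hi : i = i' := hpp
      subst hi
      rw [hgapp] at hp1 hp'1
      have hAi : dA i ≠ 0 := by
        intro h0
        rw [h0, zero_mul] at hp1
        exact zero_ne_one hp1
      have : dB j = dB j' := mul_left_cancel₀ hAi (hp1.trans hp'1.symm)
      rw [hinjB this]
    rw [← h3]
    have h4 := Finset.card_le_univ ((Finset.univ.filter fun p : Fin a × Fin b => g p = 1).image
      Prod.fst)
    rw [Fintype.card_fin] at h4
    exact h4
  · rw [← hK2]
    have h3 : ((Finset.univ.filter fun p : Fin a × Fin b => g p = 1).image Prod.snd).card =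
        (Finset.univ.filter fun p : Fin a × Fin b => g p = 1).card := by
      apply Finset.card_image_of_injOn
      intro p hp p' hp' hpp
      have hp1 : g p = 1 := (Finset.mem_filter.mp hp).2
      have hp'1 : g p' = 1 := (Finset.mem_filter.mp hp').2
      obtain ⟨i, j⟩ := p
      obtain ⟨i', j'⟩ := p'
      have hj : j = j' := hpp
      subst hj
      rw [hgapp] at hp1 hp'1
      have hBj : dB j ≠ 0 := by
        intro h0
        rw [h0, mul_zero] at hp1
        exact zero_ne_one hp1
      have : dA i = dA i' := mul_right_cancel₀ hBj (hp1.trans hp'1.symm)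
      rw [hinjA this]
    rw [← h3]
    have h4 := Finset.card_le_univ ((Finset.univ.filter fun p : Fin a × Fin b => g p = 1).image
      Prod.snd)
    rw [Fintype.card_fin] at h4
    exact h4

end Cfsg.Agent.Lib.Helper14.SpT
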