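/-
K-SpU-A0 (keystone 597604) of the S5976 pack (architect helper79):
`|Sp : N(K0) ∩ Sp| · |GU_d(q)|` divides `|Sp_{2d}(q)|`, by embedding `GU_d(q²)` into `C_Sp(θ₀)`.
-/
import Mathlib
import Cfsg.Prelude.Def_GeometricClasses
import Cfsg.Prelude.Def_ClassicalGeometry
import Cfsg.Prelude.Def_LieClassical
import Cfsg.Agent.Lib.Helper79.SpUDefs
import Cfsg.Agent.Lib.Helper49.UPairIndex
import Cfsg.Agent.Lib.Helper51.UPar5

set_option autoImplicit false

namespace Cfsg.Agent.Lib.Helper14.SpU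

open Cfsg Cfsg.Geo Cfsg.Agent.Lib.Helper79.SpU
open Cfsg.Agent.Lib.Helper51.UPar (GUf)
open scoped Matrix MatrixGroups

section Quad

variable {F : Type*} [Field F]

/-- the quadratic extension `F(ω)`, `ω² = δ` -/
abbrev LL (δ : F) : Type _ := QuadraticAlgebra F δ 0

/-- `ω` -/
def om (δ : F) : LL δ := ⟨0, 1⟩

theorem om_mul (δ : F) (z : LL δ) : om δ * z = ⟨δ * z.im, z.re⟩ := by
  ext <;> simp [om]

/-- the coordinate isomorphism `L^d ≃ F^d ⊕ F^d` -/
def Phi (d : ℕ) (δ : F) : (Fin d → LL δ) ≃ₗ[F] (Fin d ⊕ Fin d → F) where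
  toFun u := Sum.elim (fun i => (u i).re) (fun i => (u i).im)
  invFun w := fun i => ⟨w (Sum.inl i), w (Sum.inr i)⟩
  map_add' u v := by
    funext k
    rcases k with i | i <;> simp
  map_smul' c u := by
    funext k
    rcases k with i | i <;> simp
  left_inv u := by
    funext i
    rfl
  right_inv w := by
    funext k
    rcases k with i | i <;> rfl

theorem Phi_inl (d : ℕ) (δ : F) (u : Fin d → LL δ) (i : Fin d) :
    Phi d δ u (Sum.inl i) = (u i).re := rfl

theorem Phi_inr (d : ℕ) (δ : F) (u : Fin d → LL δ) (i : Fin d) :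
    Phi d δ u (Sum.inr i) = (u i).im := rfl

theorem Phi_eq (d : ℕ) (δ : F) (u : Fin d → LL δ) :
    Phi d δ u = Sum.elim (fun i => (u i).re) (fun i => (u i).im) := rfl

/-- the `F`-linear map on `F^{2d}` induced by a matrix over `L` -/
noncomputable def TT (d : ℕ) (δ : F) (M : Matrix (Fin d) (Fin d) (LL δ)) :
    (Fin d ⊕ Fin d → F) →ₗ[F] (Fin d ⊕ Fin d → F) :=
  (Phi d δ).toLinearMap ∘ₗ ((Matrix.toLin' M).restrictScalars F) ∘ₗ (Phi d δ).symm.toLinearMap

theorem TT_apply (d : ℕ) (δ : F) (M : Matrix (Fin d) (Fin d) (LL δ)) (u : Fin d → LL δ) :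
    TT d δ M (Phi d δ u) = Phi d δ (M *ᵥ u) := by
  unfold TT
  rw [LinearMap.comp_apply, LinearMap.comp_apply, LinearEquiv.coe_coe, LinearEquiv.coe_coe,
    LinearEquiv.symm_apply_apply, LinearMap.restrictScalars_apply, Matrix.toLin'_apply]

theorem TT_one (d : ℕ) (δ : F) : TT d δ 1 = LinearMap.id := by
  apply LinearMap.ext
  intro w
  obtain ⟨u, rfl⟩ := (Phi d δ).surjective w
  rw [TT_apply, Matrix.one_mulVec, LinearMap.id_apply]

theorem TT_mul (d : ℕ) (δ : F) (M N : Matrix (Fin d) (Fin d) (LL δ)) :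
    TT d δ (M * N) = TT d δ M ∘ₗ TT d δ N := by
  apply LinearMap.ext
  intro w
  obtain ⟨u, rfl⟩ := (Phi d δ).surjective w
  rw [LinearMap.comp_apply, TT_apply, TT_apply, TT_apply, Matrix.mulVec_mulVec]

/-- the ring embedding `M_d(L) → M_{2d}(F)` as a monoid homomorphism -/
noncomputable def psi (d : ℕ) (δ : F) :
    Matrix (Fin d) (Fin d) (LL δ) →* Matrix (Fin d ⊕ Fin d) (Fin d ⊕ Fin d) F where
  toFun M := LinearMap.toMatrix' (TT d δ M)
  map_one' := by rw [TT_one, LinearMap.toMatrix'_id]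
  map_mul' M N := by rw [TT_mul, LinearMap.toMatrix'_comp]

theorem psi_mulVec (d : ℕ) (δ : F) (M : Matrix (Fin d) (Fin d) (LL δ)) (u : Fin d → LL δ) :
    psi d δ M *ᵥ Phi d δ u = Phi d δ (M *ᵥ u) := by
  change LinearMap.toMatrix' (TT d δ M) *ᵥ Phi d δ u = _
  rw [LinearMap.toMatrix'_mulVec, TT_apply]

theorem psi_injective (d : ℕ) (δ : F) : Function.Injective (psi d δ) := by
  intro M N h
  apply Matrix.toLin'.injective
  apply LinearMap.ext
  intro u
  rw [Matrix.toLin'_apply, Matrix.toLin'_apply]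
  apply (Phi d δ).injective
  rw [← psi_mulVec, ← psi_mulVec, h]

/-- `θ₀` is multiplication by `ω` -/
theorem theta_mulVec (d : ℕ) (δ : F) (u : Fin d → LL δ) :
    theta d δ *ᵥ Phi d δ u = Phi d δ (fun i => om δ * u i) := by
  unfold theta
  rw [Phi_eq, Matrix.fromBlocks_mulVec, Phi_eq]
  congr 1
  · funext i
    simp [om_mul, Matrix.smul_mulVec]
  · funext i
    simp [om_mul]

theorem psi_comm_theta (d : ℕ) (δ : F) (M : Matrix (Fin d) (Fin d) (LL δ)) :
    psi d δ M * theta d δ = theta d δ * psi d δ M := by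
  apply Matrix.toLin'.injective
  apply LinearMap.ext
  intro w
  obtain ⟨u, rfl⟩ := (Phi d δ).surjective w
  rw [Matrix.toLin'_apply, Matrix.toLin'_apply, ← Matrix.mulVec_mulVec, ← Matrix.mulVec_mulVec,
    theta_mulVec, psi_mulVec, psi_mulVec, theta_mulVec]
  congr 1
  funext i
  rw [Matrix.mulVec, Matrix.mulVec, dotProduct, dotProduct, Finset.mul_sum]
  apply Finset.sum_congr rfl
  intro j _
  ring

/-- commuting with `θ₀` puts an invertible matrix in the normaliser of `K0` -/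
theorem mem_normalizer_of_comm (d : ℕ) (δ : F) (g : GL (Fin d ⊕ Fin d) F)
    (hg : (g : Matrix (Fin d ⊕ Fin d) (Fin d ⊕ Fin d) F) * theta d δ =
      theta d δ * (g : Matrix (Fin d ⊕ Fin d) (Fin d ⊕ Fin d) F)) :
    g ∈ subalgebraNormalizer (K0 d δ) := by
  have hcomm : ∀ k ∈ K0 d δ, (g : Matrix (Fin d ⊕ Fin d) (Fin d ⊕ Fin d) F) * k *
      ((g⁻¹ : GL (Fin d ⊕ Fin d) F) : Matrix (Fin d ⊕ Fin d) (Fin d ⊕ Fin d) F) = k := by
    intro k hk
    obtain ⟨a, b, rfl⟩ := (mem_K0_iff d δ k).mp hk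
    have h1 : (g : Matrix (Fin d ⊕ Fin d) (Fin d ⊕ Fin d) F) *
        (a • (1 : Matrix (Fin d ⊕ Fin d) (Fin d ⊕ Fin d) F) + b • theta d δ) =
        (a • (1 : Matrix (Fin d ⊕ Fin d) (Fin d ⊕ Fin d) F) + b • theta d δ) *
          (g : Matrix (Fin d ⊕ Fin d) (Fin d ⊕ Fin d) F) := by
      rw [mul_add, add_mul, Matrix.mul_smul, Matrix.mul_smul, Matrix.smul_mul, Matrix.smul_mul,
        mul_one, one_mul, hg]
    rw [h1, mul_assoc, ← Units.val_mul, mul_inv_cancel, Units.val_one, mul_one]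
  intro k
  constructor
  · intro hk
    rw [hcomm k hk]
    exact hk
  · intro hk
    have h1 := hcomm _ hk
    -- `g k g⁻¹` commutes with `g`, so `k = g k g⁻¹`
    have h2 : k = (g : Matrix (Fin d ⊕ Fin d) (Fin d ⊕ Fin d) F) * k *
        ((g⁻¹ : GL (Fin d ⊕ Fin d) F) : Matrix (Fin d ⊕ Fin d) (Fin d ⊕ Fin d) F) := by
      have h3 : ((g⁻¹ : GL (Fin d ⊕ Fin d) F) : Matrix (Fin d ⊕ Fin d) (Fin d ⊕ Fin d) F) *
          ((g : Matrix (Fin d ⊕ Fin d) (Fin d ⊕ Fin d) F) *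
            ((g : Matrix (Fin d ⊕ Fin d) (Fin d ⊕ Fin d) F) * k *
              ((g⁻¹ : GL (Fin d ⊕ Fin d) F) : Matrix (Fin d ⊕ Fin d) (Fin d ⊕ Fin d) F)) *
            ((g⁻¹ : GL (Fin d ⊕ Fin d) F) : Matrix (Fin d ⊕ Fin d) (Fin d ⊕ Fin d) F)) *
          (g : Matrix (Fin d ⊕ Fin d) (Fin d ⊕ Fin d) F) =
          ((g⁻¹ : GL (Fin d ⊕ Fin d) F) : Matrix (Fin d ⊕ Fin d) (Fin d ⊕ Fin d) F) *
          ((g : Matrix (Fin d ⊕ Fin d) (Fin d ⊕ Fin d) F) * k *
              ((g⁻¹ : GL (Fin d ⊕ Fin d) F) : Matrix (Fin d ⊕ Fin d) (Fin d ⊕ Fin d) F)) *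
          (g : Matrix (Fin d ⊕ Fin d) (Fin d ⊕ Fin d) F) := by
        rw [h1]
      have e1 : ((g⁻¹ : GL (Fin d ⊕ Fin d) F) : Matrix (Fin d ⊕ Fin d) (Fin d ⊕ Fin d) F) *
          (g : Matrix (Fin d ⊕ Fin d) (Fin d ⊕ Fin d) F) = 1 := by
        rw [← Units.val_mul, inv_mul_cancel, Units.val_one]
      have e2 : ∀ X : Matrix (Fin d ⊕ Fin d) (Fin d ⊕ Fin d) F,
          ((g⁻¹ : GL (Fin d ⊕ Fin d) F) : Matrix (Fin d ⊕ Fin d) (Fin d ⊕ Fin d) F) *
          ((g : Matrix (Fin d ⊕ Fin d) (Fin d ⊕ Fin d) F) * X *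
              ((g⁻¹ : GL (Fin d ⊕ Fin d) F) : Matrix (Fin d ⊕ Fin d) (Fin d ⊕ Fin d) F)) *
          (g : Matrix (Fin d ⊕ Fin d) (Fin d ⊕ Fin d) F) = X := by
        intro X
        rw [mul_assoc, mul_assoc, e1, mul_one, ← mul_assoc, e1, one_mul]
      rw [e2, e2] at h3
      exact h3.symm
    rw [h2]
    exact hk

end Quad

section Finite

variable {F : Type*} [Field F] [Fintype F]

set_option linter.unusedSectionVars false

noncomputable instance instFintypeLL (δ : F) : Fintype (LL δ) :=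
  Fintype.ofEquiv (F × F) (QuadraticAlgebra.equivProd δ 0).symm

theorem card_LL (δ : F) : Fintype.card (LL δ) = Fintype.card F ^ 2 := by
  rw [Fintype.card_congr (QuadraticAlgebra.equivProd δ 0), Fintype.card_prod, sq]

theorem fact_of_not_isSquare (δ : F) (hδ : ¬ IsSquare δ) : Fact (∀ r : F, r ^ 2 ≠ δ + 0 * r) := by
  refine ⟨fun r hr => hδ ⟨r, ?_⟩⟩
  rw [zero_mul, add_zero] at hr
  rw [← hr, sq]

theorem om_mul_om (δ : F) : om δ * om δ = algebraMap F (LL δ) δ := by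
  ext <;> simp [om]

/-- the Frobenius `z ↦ z^q` of `L` is the conjugation `a + bω ↦ a - bω` -/
theorem pow_card_eq (δ : F) (hδ : ¬ IsSquare δ) (hodd : Odd (Fintype.card F)) (z : LL δ) :
    z ^ Fintype.card F = ⟨z.re, -z.im⟩ := by
  classical
  have hcp : CharP F (ringChar F) := ringChar.charP F
  have hp : (ringChar F).Prime := CharP.char_is_prime F (ringChar F)
  have hfp : Fact (ringChar F).Prime := ⟨hp⟩
  obtain ⟨n, -, hn⟩ := FiniteField.card F (ringChar F)
  have hcl : CharP (LL δ) (ringChar F) :=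
    charP_of_injective_algebraMap (QuadraticAlgebra.algebraMap_injective) (ringChar F)
  have hz : z = algebraMap F (LL δ) z.re + algebraMap F (LL δ) z.im * om δ := by
    ext <;> simp [om]
  have hδ0 : δ ≠ 0 := by
    rintro rfl
    exact hδ ⟨0, by rw [mul_zero]⟩
  have hch : ringChar F ≠ 2 := by
    intro h
    have := FiniteField.even_card_iff_char_two.mp h
    rcases hodd with ⟨k, hk⟩
    omega
  have hpw : δ ^ (Fintype.card F / 2) = -1 := by
    rcases FiniteField.pow_dichotomy hch hδ0 with h | h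
    · exact (hδ ((FiniteField.isSquare_iff hch hδ0).mpr h)).elim
    · exact h
  have hom : om δ ^ Fintype.card F = - om δ := by
    obtain ⟨k, hk⟩ := hodd
    have hk2 : Fintype.card F / 2 = k := by omega
    rw [hk, pow_succ, pow_mul, sq, om_mul_om, ← map_pow, ← hk2, hpw, map_neg, map_one, neg_one_mul]
  have hpc : ∀ a : F, (algebraMap F (LL δ) a) ^ Fintype.card F = algebraMap F (LL δ) a := by
    intro a
    rw [← map_pow, FiniteField.pow_card]
  conv_lhs => rw [hz]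
  have hq : Fintype.card F = ringChar F ^ (n : ℕ) := hn
  have h1 : (algebraMap F (LL δ) z.re + algebraMap F (LL δ) z.im * om δ) ^ Fintype.card F =
      (algebraMap F (LL δ) z.re) ^ Fintype.card F +
        (algebraMap F (LL δ) z.im * om δ) ^ Fintype.card F := by
    rw [hq]
    exact add_pow_char_pow (R := LL δ) (p := ringChar F) (n := (n : ℕ))
      (algebraMap F (LL δ) z.re) (algebraMap F (LL δ) z.im * om δ)
  rw [h1, mul_pow, hpc, hpc, hom]
  ext <;> simp [om]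

theorem im_sum {ι : Type*} (δ : F) (s : Finset ι) (f : ι → LL δ) :
    (∑ i ∈ s, f i).im = ∑ i ∈ s, (f i).im := by
  classical
  induction s using Finset.induction_on with
  | empty => simp
  | insert a s ha ih => rw [Finset.sum_insert ha, Finset.sum_insert ha, QuadraticAlgebra.im_add, ih]

/-- the symplectic form is the `ω`-coordinate of the hermitian form -/
theorem sympForm_Phi (d : ℕ) (δ : F) (hδ : ¬ IsSquare δ) (hodd : Odd (Fintype.card F))
    [Fact (∀ r : F, r ^ 2 ≠ δ + 0 * r)] (u v : Fin d → LL δ) :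
    sympForm d F (Phi d δ u) (Phi d δ v) = (hermForm d (LL δ) (Fintype.card F) u v).im := by
  unfold sympForm hermForm Matrix.J
  rw [im_sum, Phi_eq, Phi_eq, Matrix.fromBlocks_mulVec, dotProduct, Fintype.sum_sum_type,
    ← Finset.sum_add_distrib]
  apply Finset.sum_congr rfl
  intro i _
  rw [pow_card_eq δ hδ hodd]
  simp [Matrix.neg_mulVec, Matrix.one_mulVec]

/-- the embedding `GL_d(L) → GL_{2d}(F)` -/
noncomputable def Psi (d : ℕ) (δ : F) : GL (Fin d) (LL δ) →* GL (Fin d ⊕ Fin d) F :=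
  Units.map (psi d δ)

theorem Psi_val (d : ℕ) (δ : F) (g : GL (Fin d) (LL δ)) :
    ((Psi d δ g : GL (Fin d ⊕ Fin d) F) : Matrix (Fin d ⊕ Fin d) (Fin d ⊕ Fin d) F) =
      psi d δ (g : Matrix (Fin d) (Fin d) (LL δ)) := rfl

theorem Psi_injective (d : ℕ) (δ : F) : Function.Injective (Psi d δ) :=
  Units.map_injective (psi_injective d δ)

theorem mem_spGL_of (d : ℕ) (g : GL (Fin d ⊕ Fin d) F)
    (h : ∀ u v, sympForm d F ((g : Matrix (Fin d ⊕ Fin d) (Fin d ⊕ Fin d) F) *ᵥ u)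
      ((g : Matrix (Fin d ⊕ Fin d) (Fin d ⊕ Fin d) F) *ᵥ v) = sympForm d F u v) :
    g ∈ spGL d F := h

theorem herm_of_mem_GU {L : Type*} [Field L] (d q : ℕ) (g : GL (Fin d) L) (hg : g ∈ GU d L q)
    (u v : Fin d → L) :
    hermForm d L q ((g : Matrix (Fin d) (Fin d) L) *ᵥ u) ((g : Matrix (Fin d) (Fin d) L) *ᵥ v) =
      hermForm d L q u v := hg u v

set_option maxHeartbeats 2000000 in
theorem Psi_mem (d : ℕ) (δ : F) (hδ : ¬ IsSquare δ) (hodd : Odd (Fintype.card F))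
    [Fact (∀ r : F, r ^ 2 ≠ δ + 0 * r)] (g : GL (Fin d) (LL δ))
    (hg : g ∈ GU d (LL δ) (Fintype.card F)) :
    Psi d δ g ∈ subalgebraNormalizer (K0 d δ) ⊓ spGL d F := by
  refine ⟨mem_normalizer_of_comm d δ _ ?_, mem_spGL_of d _ ?_⟩
  · rw [Psi_val]
    exact psi_comm_theta d δ _
  · intro w w'
    obtain ⟨u, rfl⟩ := (Phi d δ).surjective w
    obtain ⟨v, rfl⟩ := (Phi d δ).surjective w'
    rw [Psi_val, psi_mulVec, psi_mulVec, sympForm_Phi d δ hδ hodd, sympForm_Phi d δ hδ hodd,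
      herm_of_mem_GU d _ g hg u v]

/-- **K-SpU-A0 (597604)**: `|Sp : N(K0) ∩ Sp| · |GU_d(q)|` divides `|Sp_{2d}(q)|`. -/
theorem relIndex_mul_dvd {q : ℕ} (hq : Fintype.card F = q) (hodd : Odd q) (d : ℕ)
    (hd : 1 ≤ d) (δ : F) (hδ : ¬ IsSquare δ) :
    (subalgebraNormalizer (K0 d δ)).relIndex (spGL d F) * GUf q d ∣ Nat.card (spGL d F) := by
  classical
  have _ := hd
  subst hq
  have := fact_of_not_isSquare δ hδ
  have hcard : Nat.card (GU d (LL δ) (Fintype.card F)) = GUf (Fintype.card F) d :=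
    Cfsg.Agent.Lib.Helper49.card_GU_eq (card_LL δ) d
  -- the restricted embedding
  let φ : GU d (LL δ) (Fintype.card F) →* ↥(subalgebraNormalizer (K0 d δ) ⊓ spGL d F) :=
    ((Psi d δ).comp (GU d (LL δ) (Fintype.card F)).subtype).codRestrict _
      (fun g => Psi_mem d δ hδ hodd g.1 g.2)
  have hφ : Function.Injective φ := by
    intro a b hab
    apply Subtype.ext
    apply Psi_injective d δ
    exact congrArg Subtype.val hab
  have hdvd : GUf (Fintype.card F) d ∣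
      Nat.card ↥(subalgebraNormalizer (K0 d δ) ⊓ spGL d F) := by
    rw [← hcard]
    exact Subgroup.card_dvd_of_injective φ hφ
  have hmul := Subgroup.relIndex_inf_mul_relIndex (⊥ : Subgroup (GL (Fin d ⊕ Fin d) F))
    (subalgebraNormalizer (K0 d δ)) (spGL d F)
  rw [bot_inf_eq, Subgroup.relIndex_bot_left, Subgroup.relIndex_bot_left] at hmul
  rw [← hmul, mul_comm]
  exact Nat.mul_dvd_mul_right hdvd _

end Finite

end Cfsg.Agent.Lib.Helper14.SpU
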