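import Mathlib
import Cfsg.Agent.Lib.Helper48.StODefs
import Cfsg.Agent.Lib.Helper86.StOR0a
import Cfsg.Agent.Lib.Helper84.StOR0b
import Cfsg.Agent.Lib.Helper61.StOR0c
import Cfsg.Agent.Lib.Helper97.StOR1

/-!
# K-StO-C3c (keystone 254717, row S2547, architect helper48): `s B s ≠ B` for a simple reflection

`s * x_α(1) * s` has a nonzero entry below the diagonal.
-/

set_option autoImplicit false
set_option linter.unusedSectionVars false
set_option linter.unusedVariables false

namespace Cfsg.Agent.Lib.Helper14.StO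

open Cfsg Cfsg.Agent.Lib.Helper48.StO Matrix

variable {m : ℕ} {F : Type*} [Field F]

/-- conjugation of a matrix by the permutation matrix of an involution -/
theorem perm_mul_perm' {ι : Type*} [Fintype ι] [DecidableEq ι] (σ : Equiv.Perm ι)
    (hσ : σ.symm = σ) (M : Matrix ι ι F) :
    σ.permMatrix F * M * σ.permMatrix F = M.submatrix σ σ := by
  unfold Equiv.Perm.permMatrix
  rw [PEquiv.toMatrix_toPEquiv_mul, PEquiv.mul_toMatrix_toPEquiv, hσ, submatrix_submatrix]
  rfl

theorem swapE_symm (i j : Fin m) : (swapE m i j).symm = swapE m i j := by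
  ext a
  rcases a with a | a | a <;> simp [swapE, Equiv.symm_swap]

theorem swapE_eI_right (i j : Fin m) : swapE m i j (eI j) = eI i := by
  simp [swapE]

theorem swapE_eI_left (i j : Fin m) : swapE m i j (eI i) = eI j := by
  simp [swapE]

theorem flipE_symm (k : Fin m) : (flipE m k).symm = flipE m k := Equiv.symm_swap _ _

theorem flipE_zI (k : Fin m) : flipE m k zI = zI := by
  unfold flipE
  apply Equiv.swap_apply_of_ne_of_ne
  · exact Sum.inl_ne_inr
  · exact Sum.inl_ne_inr

theorem flipE_eI (k : Fin m) : flipE m k (eI k) = fI k := Equiv.swap_apply_left _ _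

theorem xPermMat_entry (i j : Fin m) (hij : i ≠ j) (t : F) :
    xPermMat m F i j t (eI i) (eI j) = t := by
  unfold xPermMat
  rw [Matrix.sub_apply, Matrix.add_apply, Matrix.one_apply_ne, Matrix.single_apply_same,
    Matrix.single_apply_of_ne, zero_add, sub_zero]
  · rintro ⟨h, -⟩
    exact absurd h (by simp)
  · intro h
    exact hij (Sum.inl.inj (Sum.inr.inj h))

theorem xZMat_entry (k : Fin m) (t : F) : xZMat m F k t zI (fI k) = t := by
  unfold xZMat
  rw [Matrix.sub_apply, Matrix.sub_apply, Matrix.add_apply, Matrix.one_apply_ne,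
    Matrix.single_apply_same, Matrix.single_apply_of_ne, Matrix.single_apply_of_ne, zero_add,
    sub_zero, sub_zero]
  · rintro ⟨h, -⟩
    exact absurd h (by simp)
  · rintro ⟨h, -⟩
    exact absurd h (by simp)
  · exact Sum.inl_ne_inr

/-- **LEAF C3c.** -/
theorem S_conj_ne (s : OG m F) (hs : s ∈ Sset m F) :
    (fun b : OG m F => s * b * s) '' (Bsub m F : Set (OG m F)) ≠ (Bsub m F : Set (OG m F)) := by
  intro heq
  have key : ∀ g : OG m F, g ∈ Bsub m F → ∀ x y : OI m, pos m x < pos m y →
      (mat s * mat g * mat s) y x ≠ 0 → False := by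
    intro g hg x y hxy hne
    have hmem : s * g * s ∈ (Bsub m F : Set (OG m F)) := by
      rw [← heq]
      exact ⟨g, hg, rfl⟩
    have h0 := (mem_Bsub_iff _).1 hmem y x hxy
    rw [mat_mul, mat_mul] at h0
    exact hne h0
  rcases hs with ⟨i, hi, rfl⟩ | ⟨hm, rfl⟩
  · have hlt : i < nxt i hi := by
      rw [Fin.lt_def]
      show i.val < i.val + 1
      omega
    have hb := Cfsg.Agent.Lib.Helper97.StO.xPerm_mem_B (F := F) i (nxt i hi) hlt 1
    apply key _ hb (eI i) (eI (nxt i hi))
    · show i.val < i.val + 1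
      omega
    · rw [Cfsg.Agent.Lib.Helper86.StO.mat_sPerm,
        Cfsg.Agent.Lib.Helper84.StO.mat_xPerm i (nxt i hi) (ne_of_lt hlt) 1]
      unfold sPermMat
      rw [perm_mul_perm' _ (swapE_symm i (nxt i hi)), Matrix.submatrix_apply, swapE_eI_right,
        swapE_eI_left, xPermMat_entry i (nxt i hi) (ne_of_lt hlt)]
      exact one_ne_zero
  · have hb := Cfsg.Agent.Lib.Helper97.StO.xZ_mem_B (F := F) (lastF hm) 1
    apply key _ hb (eI (lastF hm)) zI
    · show (lastF hm).val < m
      exact (lastF hm).2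
    · rw [Cfsg.Agent.Lib.Helper86.StO.mat_sFlip, Cfsg.Agent.Lib.Helper61.StO.mat_xZ]
      unfold sFlipMat
      rw [perm_mul_perm' _ (flipE_symm (lastF hm)), Matrix.submatrix_apply, flipE_zI, flipE_eI,
        xZMat_entry]
      exact one_ne_zero

end Cfsg.Agent.Lib.Helper14.StO
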