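import Cfsg.Agent.Lib.Helper14.StOC5aA
import Cfsg.Agent.Lib.Helper14.StOC3c

/-!
# K-StO-C5a (keystone 254719, row S2547, architect helper48): `B ⊔ B⁻ = ⊤` in `O_{2m+1}(F)`, `2 ≠ 0`

Second half: reflections, conjugation, the three cases, Cartan–Dieudonné.
-/

set_option autoImplicit false
set_option linter.unusedSectionVars false
set_option linter.unusedVariables false
set_option linter.unusedSimpArgs false
set_option linter.style.haveILetI false

namespace Cfsg.Agent.Lib.Helper14.StO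

open Cfsg Cfsg.Agent.Lib.Helper48.StO Matrix

variable {m : ℕ} {F : Type*} [Field F]

/-- the reflection matrix -/
noncomputable abbrev Rf (v : OI m → F) : Matrix (OI m) (OI m) F :=
  Cfsg.reflectionMatrix (⇑(Qo m F)) v

theorem refl_entry (v : OI m → F) (a b : OI m) :
    Rf v a b = (if a = b then 1 else 0) - (Qo m F v)⁻¹ * dualCoord v b * v a := by
  have h : Rf v a b = (Rf v *ᵥ Pi.single b 1) a := by
    rw [Matrix.mulVec_single_one]
    rfl
  rw [h, Cfsg.Agent.Lib.Helper19.reflectionMatrix_mulVec, polar_single]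
  simp only [Pi.sub_apply, Pi.smul_apply, smul_eq_mul, Pi.single_apply]

theorem refl_mul_self (v : OI m → F) (hv : Qo m F v ≠ 0) : Rf v * Rf v = 1 := by
  apply (Matrix.toLin' (R := F) (m := OI m) (n := OI m)).injective
  rw [Matrix.toLin'_mul, Cfsg.Agent.Lib.Helper19.toLin'_reflectionMatrix, Matrix.toLin'_one]
  exact Cfsg.Agent.Lib.Helper19.reflLin_mul_self (Qo m F) v hv

theorem exists_refl_elt (v : OI m → F) (hv : Qo m F v ≠ 0) : ∃ g : OG m F, mat g = Rf v :=
  exists_of_isometry (Rf v) (Rf v) (refl_mul_self v hv) (refl_mul_self v hv)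
    (fun u => Cfsg.Agent.Lib.Helper19.reflectionMatrix_isometry (Qo m F) v hv u)

/-- conjugating a reflection -/
theorem conj_refl (h g : OG m F) (v : OI m → F) (hg : mat g = Rf v) :
    mat (h * g * h⁻¹) = Rf (mat h *ᵥ v) := by
  rw [Matrix.ext_iff_mulVec]
  intro u
  have hQ : Qo m F (mat h *ᵥ v) = Qo m F v := quad_mulVec h v
  have hpol : QuadraticMap.polar (⇑(Qo m F)) (mat h *ᵥ v) u =
      QuadraticMap.polar (⇑(Qo m F)) v (mat h⁻¹ *ᵥ u) := by
    have := Cfsg.Agent.Lib.Helper19.polar_isometry (Qo m F) (Matrix.toLin' (mat h))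
      (fun x => by rw [Matrix.toLin'_apply]; exact quad_mulVec h x) v (mat h⁻¹ *ᵥ u)
    rw [Matrix.toLin'_apply, Matrix.toLin'_apply, Matrix.mulVec_mulVec, mat_mul_mat_inv,
      Matrix.one_mulVec] at this
    exact this
  rw [mat_mul, mat_mul, hg, ← Matrix.mulVec_mulVec, ← Matrix.mulVec_mulVec,
    Cfsg.Agent.Lib.Helper19.reflectionMatrix_mulVec,
    Cfsg.Agent.Lib.Helper19.reflectionMatrix_mulVec, Matrix.mulVec_sub, Matrix.mulVec_smul,
    Matrix.mulVec_mulVec, mat_mul_mat_inv, Matrix.one_mulVec, hQ, hpol]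

/-- every element with matrix `r_v` lies in `B ⊔ B⁻` -/
def Good (v : OI m → F) : Prop :=
  ∀ g : OG m F, mat g = Rf v → g ∈ Bsub m F ⊔ Bminus m F

theorem good_of_conj (h : OG m F) (hh : h ∈ Bsub m F ⊔ Bminus m F) (v : OI m → F)
    (hv : Good (mat h *ᵥ v)) : Good v := by
  intro g hg
  have h1 := hv (h * g * h⁻¹) (conj_refl h g v hg)
  have : g = h⁻¹ * (h * g * h⁻¹) * h := by group
  rw [this]
  exact mul_mem (mul_mem (inv_mem hh) h1) hh

/-! ### (C) `v = c z` -/

theorem good_of_z (v : OI m → F) (he : ∀ i, v (eI i) = 0) (hf : ∀ i, v (fI i) = 0) : Good v := by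
  intro g hg
  suffices hT : g ∈ Tsub m F from (le_sup_left : Bsub m F ≤ Bsub m F ⊔ Bminus m F) hT.1
  rw [mem_Tsub_iff]
  intro a b hab
  rw [hg, refl_entry, if_neg hab]
  rcases a with a | a | a
  · rcases b with b | b | b
    · exact absurd rfl hab
    · show 0 - _ * v (fI b) * _ = 0
      rw [hf b]
      ring
    · show 0 - _ * v (eI b) * _ = 0
      rw [he b]
      ring
  · show 0 - _ * _ * v (eI a) = 0
    rw [he a]
    ring
  · show 0 - _ * _ * v (fI a) = 0
    rw [hf a]
    ring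

/-! ### `sFlip k ∈ B ⊔ B⁻` -/

theorem yZ_mem_Bminus (k : Fin m) (t : F) : yZ m F k t ∈ Bminus m F := by
  rw [mem_Bminus_iff]
  intro a b hab
  have hne : a ≠ b := fun h => by rw [h] at hab; exact lt_irrefl _ hab
  rw [Cfsg.Agent.Lib.Helper61.StO.mat_yZ]
  unfold yZMat
  rw [Matrix.sub_apply, Matrix.sub_apply, Matrix.add_apply, Matrix.one_apply_ne hne,
    Matrix.single_apply_of_ne, Matrix.single_apply_of_ne, Matrix.single_apply_of_ne]
  · ring
  · rintro ⟨rfl, rfl⟩
    rw [pos_fI, pos_eI] at hab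
    have := k.2
    omega
  · rintro ⟨rfl, rfl⟩
    rw [pos_fI, pos_zI] at hab
    have := k.2
    omega
  · rintro ⟨rfl, rfl⟩
    rw [pos_zI, pos_eI] at hab
    have := k.2
    omega

theorem sFlip_mem (k : Fin m) : sFlip m F k ∈ Bsub m F ⊔ Bminus m F := by
  obtain ⟨t', t'', h, hT, heq⟩ := Cfsg.Agent.Lib.Helper50.StO.rank_one_flip (F := F) k 1 one_ne_zero
  have hB : ∀ t : F, xZ m F k t ∈ Bsub m F ⊔ Bminus m F := fun t =>
    (le_sup_left : Bsub m F ≤ _) (Cfsg.Agent.Lib.Helper97.StO.xZ_mem_B k t)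
  have hY : yZ m F k t'' ∈ Bsub m F ⊔ Bminus m F :=
    (le_sup_right : Bminus m F ≤ _) (yZ_mem_Bminus k t'')
  have hh : h ∈ Bsub m F ⊔ Bminus m F :=
    (le_sup_left : Bsub m F ≤ _) ((inf_le_left : Tsub m F ≤ Bsub m F) hT)
  have : sFlip m F k = xZ m F k t' * h * yZ m F k t'' * (xZ m F k 1)⁻¹ := by
    rw [← heq]
    group
  rw [this]
  exact mul_mem (mul_mem (mul_mem (hB t') hh) hY) (inv_mem (hB 1))

/-! ### `v ∈ ⟨e_k, f_k⟩` -/

theorem flipE_apply_of_ne (k : Fin m) (a : OI m) (h1 : a ≠ eI k) (h2 : a ≠ fI k) :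
    flipE m k a = a := Equiv.swap_apply_of_ne_of_ne h1 h2

theorem dualCoord_eq_zero (v : OI m → F) (k : Fin m)
    (hsupp : ∀ a : OI m, a ≠ eI k → a ≠ fI k → v a = 0) (b : OI m) (h1 : b ≠ eI k)
    (h2 : b ≠ fI k) : dualCoord v b = 0 := by
  rcases b with b | b | b
  · show 2 * v zI = 0
    rw [hsupp zI Sum.inl_ne_inr Sum.inl_ne_inr, mul_zero]
  · show v (fI b) = 0
    apply hsupp
    · intro h
      simp at h
    · intro h
      apply h1
      have : b = k := by simpa using h
      rw [this]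
  · show v (eI b) = 0
    apply hsupp
    · intro h
      apply h2
      have : b = k := by simpa using h
      rw [this]
    · intro h
      simp at h

theorem Qo_of_supp (v : OI m → F) (k : Fin m)
    (hsupp : ∀ a : OI m, a ≠ eI k → a ≠ fI k → v a = 0) :
    Qo m F v = v (eI k) * v (fI k) := by
  rw [Qo_apply]
  unfold Cfsg.quadFormOdd
  have hz : v (Sum.inl ()) = 0 := hsupp zI Sum.inl_ne_inr Sum.inl_ne_inr
  rw [hz, Finset.sum_eq_single k]
  · ring
  · intro i _ hi
    have : v (Sum.inr (Sum.inl i)) = 0 := by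
      apply hsupp (eI i)
      · intro h
        exact hi (by simpa using h)
      · intro h
        simp at h
    rw [this, zero_mul]
  · intro h
    exact absurd (Finset.mem_univ k) h

theorem good_of_supp (v : OI m → F) (k : Fin m)
    (hsupp : ∀ a : OI m, a ≠ eI k → a ≠ fI k → v a = 0) (hv : Qo m F v ≠ 0) : Good v := by
  intro g hg
  have hQ := Qo_of_supp v k hsupp
  have hx : v (eI k) ≠ 0 := fun h => hv (by rw [hQ, h, zero_mul])
  have hy : v (fI k) ≠ 0 := fun h => hv (by rw [hQ, h, mul_zero])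
  have hef : (eI k : OI m) ≠ fI k := fun h => by simp at h
  have hT : sFlip m F k * g ∈ Tsub m F := by
    rw [mem_Tsub_iff]
    intro a b hab
    rw [mat_mul, Cfsg.Agent.Lib.Helper86.StO.mat_sFlip, hg]
    unfold sFlipMat Equiv.Perm.permMatrix
    rw [PEquiv.toMatrix_toPEquiv_mul, Matrix.submatrix_apply, id, refl_entry, hQ]
    by_cases ha1 : a = eI k
    · subst ha1
      rw [flipE_eI]
      by_cases hb : b = fI k
      · subst hb
        rw [if_pos rfl]
        show 1 - _ * v (eI k) * _ = 0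
        field_simp
        ring
      · rw [if_neg (fun h => hb h.symm), dualCoord_eq_zero v k hsupp b (fun h => hab h.symm) hb]
        ring
    · by_cases ha2 : a = fI k
      · subst ha2
        have : flipE m k (fI k) = eI k := Equiv.swap_apply_right _ _
        rw [this]
        by_cases hb : b = eI k
        · subst hb
          rw [if_pos rfl]
          show 1 - _ * v (fI k) * _ = 0
          field_simp
          ring
        · rw [if_neg (fun h => hb h.symm),
            dualCoord_eq_zero v k hsupp b hb (fun h => hab h.symm)]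
          ring
      · rw [flipE_apply_of_ne k a ha1 ha2, if_neg hab, hsupp a ha1 ha2]
        ring
  have hmem : sFlip m F k * g ∈ Bsub m F ⊔ Bminus m F :=
    (le_sup_left : Bsub m F ≤ _) ((inf_le_left : Tsub m F ≤ Bsub m F) hT)
  have : g = (sFlip m F k)⁻¹ * (sFlip m F k * g) := by group
  rw [this]
  exact mul_mem (inv_mem (sFlip_mem k)) hmem

/-! ### moving `v` into `⟨e_k, f_k⟩` -/

theorem exists_min_ne (P : Fin m → Prop) (h : ∃ i, P i) :
    ∃ k : Fin m, P k ∧ ∀ i : Fin m, i.val < k.val → ¬ P i := by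
  classical
  obtain ⟨i0, hi0⟩ := h
  have hS : (Finset.univ.filter P).Nonempty := ⟨i0, Finset.mem_filter.2 ⟨Finset.mem_univ _, hi0⟩⟩
  obtain ⟨k, hkS, hkmin⟩ := (Finset.univ.filter P).exists_min_image (fun i : Fin m => i.val) hS
  refine ⟨k, (Finset.mem_filter.1 hkS).2, fun i hik hPi => ?_⟩
  have := hkmin i (Finset.mem_filter.2 ⟨Finset.mem_univ _, hPi⟩)
  omega

theorem good_of_f (v : OI m → F) (hv : Qo m F v ≠ 0) (h : ∃ i, v (fI i) ≠ 0) : Good v := by
  obtain ⟨k, hk, hmin⟩ := exists_min_ne (fun i => v (fI i) ≠ 0) h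
  set w : OI m → F := fun a => if a = eI k ∨ a = fI k then 0 else (v (fI k))⁻¹ * v a with hw
  have hwf : w (fI k) = 0 := if_pos (Or.inr rfl)
  have hpw : QuadraticMap.polarBilin (Qo m F) (Pi.single (eI k) 1) w = 0 := by
    rw [polarBilin_eq, polar_single_left]
    exact hwf
  obtain ⟨g, hg⟩ := exists_siegel_elt (Pi.single (eI k) 1) w (Qo_single_e k) hpw
  have hgB : g ∈ Bsub m F := by
    apply siegel_e_mem_B g k w hg
    intro i hik
    by_cases hik' : i = k
    · rw [hik']
      exact hwf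
    · have hlt : i.val < k.val := lt_of_le_of_ne hik (fun h => hik' (Fin.ext h))
      have h0 : v (fI i) = 0 := not_not.mp (hmin i hlt)
      show (if fI i = eI k ∨ fI i = fI k then 0 else (v (fI k))⁻¹ * v (fI i)) = 0
      rw [h0, mul_zero, ite_self]
  apply good_of_conj g ((le_sup_left : Bsub m F ≤ _) hgB)
  apply good_of_supp _ k
  · intro a ha1 ha2
    rw [hg, Cfsg.Agent.Lib.Helper43.siegelLin_apply, polarBilin_eq, polarBilin_eq, polar_single_e]
    simp only [Pi.add_apply, Pi.smul_apply, smul_eq_mul, Pi.single_eq_of_ne ha1]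
    have hwa : w a = (v (fI k))⁻¹ * v a := if_neg (by rintro (h | h); exacts [ha1 h, ha2 h])
    rw [hwa]
    field_simp
    ring
  · have : Qo m F (mat g *ᵥ v) = Qo m F v := quad_mulVec g v
    rw [this]
    exact hv

theorem good_of_e (v : OI m → F) (hv : Qo m F v ≠ 0) (h : ∃ i, v (eI i) ≠ 0) : Good v := by
  obtain ⟨k, hk, hmin⟩ := exists_min_ne (fun i => v (eI i) ≠ 0) h
  set w : OI m → F := fun a => if a = eI k ∨ a = fI k then 0 else (v (eI k))⁻¹ * v a with hw
  have hwe : w (eI k) = 0 := if_pos (Or.inl rfl)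
  have hpw : QuadraticMap.polarBilin (Qo m F) (Pi.single (fI k) 1) w = 0 := by
    rw [polarBilin_eq, polar_single_left]
    exact hwe
  obtain ⟨g, hg⟩ := exists_siegel_elt (Pi.single (fI k) 1) w (Qo_single_f k) hpw
  have hgB : g ∈ Bminus m F := by
    apply siegel_f_mem_Bminus g k w hg
    intro i hik
    by_cases hik' : i = k
    · rw [hik']
      exact hwe
    · have hlt : i.val < k.val := lt_of_le_of_ne hik (fun h => hik' (Fin.ext h))
      have h0 : v (eI i) = 0 := not_not.mp (hmin i hlt)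
      show (if eI i = eI k ∨ eI i = fI k then 0 else (v (eI k))⁻¹ * v (eI i)) = 0
      rw [h0, mul_zero, ite_self]
  apply good_of_conj g ((le_sup_right : Bminus m F ≤ _) hgB)
  apply good_of_supp _ k
  · intro a ha1 ha2
    rw [hg, Cfsg.Agent.Lib.Helper43.siegelLin_apply, polarBilin_eq, polarBilin_eq, polar_single_f]
    simp only [Pi.add_apply, Pi.smul_apply, smul_eq_mul, Pi.single_eq_of_ne ha2]
    have hwa : w a = (v (eI k))⁻¹ * v a := if_neg (by rintro (h | h); exacts [ha1 h, ha2 h])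
    rw [hwa]
    field_simp
    ring
  · have : Qo m F (mat g *ᵥ v) = Qo m F v := quad_mulVec g v
    rw [this]
    exact hv

theorem good_all (v : OI m → F) (hv : Qo m F v ≠ 0) : Good v := by
  by_cases hf : ∃ i, v (fI i) ≠ 0
  · exact good_of_f v hv hf
  · by_cases he : ∃ i, v (eI i) ≠ 0
    · exact good_of_e v hv he
    · push Not at hf he
      exact good_of_z v he hf

/-- **LEAF C5a.** -/
theorem B_sup_Bminus [Fintype F] (h2 : (2 : F) ≠ 0) : Bsub m F ⊔ Bminus m F = ⊤ := by
  rw [eq_top_iff]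
  intro g _
  have hdet : (Matrix.fromBlocks ((2 * (1 : F)) • (1 : Matrix Unit Unit F))
        (0 : Matrix Unit (Fin m ⊕ Fin m) F) (0 : Matrix (Fin m ⊕ Fin m) Unit F)
        (Matrix.fromBlocks (0 : Matrix (Fin m) (Fin m) F) (1 : Matrix (Fin m) (Fin m) F)
        (1 : Matrix (Fin m) (Fin m) F) (0 : Matrix (Fin m) (Fin m) F))).det ≠ 0 := by
    rw [Cfsg.Agent.Lib.Helper50.det_odd_gram]
    exact mul_ne_zero (mul_ne_zero h2 one_ne_zero) (pow_ne_zero _ (neg_ne_zero.mpr one_ne_zero))
  have hQ : (QuadraticMap.polarBilin (Qo m F)).Nondegenerate :=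
    Cfsg.Agent.Lib.Helper50.qfOfPolar_nondegenerate _ _ _ _ hdet
  obtain ⟨l, hl, hA⟩ := Cfsg.Agent.Lib.Helper19.isometry_eq_prod_reflectionMatrix h2 (Qo m F) hQ
    (mat g) (fun x => quad_mulVec g x)
  have key : ∀ (l : List (OI m → F)), (∀ u ∈ l, Qo m F u ≠ 0) → ∀ g : OG m F,
      mat g = (l.map (Cfsg.reflectionMatrix (⇑(Qo m F)))).prod → g ∈ Bsub m F ⊔ Bminus m F := by
    intro l
    induction l with
    | nil =>
      intro _ g hg
      have : g = 1 := mat_injective (by rw [hg]; rfl)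
      rw [this]
      exact one_mem _
    | cons v l ih =>
      intro hl g hg
      rw [List.map_cons, List.prod_cons] at hg
      have hv : Qo m F v ≠ 0 := hl v List.mem_cons_self
      obtain ⟨gv, hgv⟩ := exists_refl_elt v hv
      have h1 : gv ∈ Bsub m F ⊔ Bminus m F := good_all v hv gv hgv
      have h3 : gv⁻¹ * g ∈ Bsub m F ⊔ Bminus m F := by
        apply ih (fun u hu => hl u (List.mem_cons_of_mem _ hu))
        rw [mat_mul, hg, ← Matrix.mul_assoc]
        change mat gv⁻¹ * Rf v * _ = _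
        rw [← hgv, mat_inv_mul_mat, Matrix.one_mul]
      have : g = gv * (gv⁻¹ * g) := by group
      rw [this]
      exact mul_mem h1 h3
  exact key l hl g hA

end Cfsg.Agent.Lib.Helper14.StO
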