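import Mathlib
import Cfsg.Agent.Lib.Helper48.StODefs
import Cfsg.Agent.Lib.Helper86.StOR0a
import Cfsg.Agent.Lib.Helper61.StOR0c
import Cfsg.Agent.Lib.Helper97.StOR1
import Cfsg.Agent.Lib.Helper50.StOF3Z
import Cfsg.Agent.Lib.Helper50.StdForms
import Cfsg.Agent.Lib.Helper19.CartanDieudonne
import Cfsg.Agent.Lib.Helper43.SiegelRefl

/-!
# K-StO-C5a (keystone 254719, row S2547, architect helper48): `B ⊔ B⁻ = ⊤` in `O_{2m+1}(F)`, `2 ≠ 0`

Cartan–Dieudonné reduces to reflections `r_v`; `h r_v h⁻¹ = r_{h v}`.  One Siegel element (upper or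
lower triangular) moves `v` into `⟨e_k, f_k⟩`, where `r_v = sFlip k * diagonal`.
-/

set_option autoImplicit false
set_option linter.unusedSectionVars false
set_option linter.unusedVariables false
set_option linter.unusedSimpArgs false
set_option linter.style.haveILetI false

namespace Cfsg.Agent.Lib.Helper14.StO

open Cfsg Cfsg.Agent.Lib.Helper48.StO Matrix

variable {m : ℕ} {F : Type*} [Field F]

/-- the quadratic form -/
noncomputable abbrev Qo (m : ℕ) (F : Type*) [Field F] : QuadraticForm F (OI m → F) :=
  Cfsg.Agent.Lib.Helper50.QOdd m F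

theorem Qo_apply (x : OI m → F) : Qo m F x = Cfsg.quadFormOdd m F x := rfl

/-! ### the polar form -/

theorem polar_formula (x y : OI m → F) :
    QuadraticMap.polar (⇑(Qo m F)) x y =
      2 * x zI * y zI + ∑ i : Fin m, (x (eI i) * y (fI i) + x (fI i) * y (eI i)) := by
  have h : ∑ i : Fin m, (x + y) (eI i) * (x + y) (fI i) =
      ∑ i : Fin m, x (eI i) * x (fI i) + ∑ i : Fin m, y (eI i) * y (fI i) +
        ∑ i : Fin m, (x (eI i) * y (fI i) + x (fI i) * y (eI i)) := by
    rw [← Finset.sum_add_distrib, ← Finset.sum_add_distrib]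
    apply Finset.sum_congr rfl
    intro i _
    rw [Pi.add_apply, Pi.add_apply]
    ring
  unfold QuadraticMap.polar
  rw [Qo_apply, Qo_apply, Qo_apply]
  unfold Cfsg.quadFormOdd
  change ((x + y) zI) ^ 2 + ∑ i : Fin m, (x + y) (eI i) * (x + y) (fI i) -
    ((x zI) ^ 2 + ∑ i : Fin m, x (eI i) * x (fI i)) -
    ((y zI) ^ 2 + ∑ i : Fin m, y (eI i) * y (fI i)) = _
  rw [h, Pi.add_apply]
  ring

theorem polar_single_e (x : OI m → F) (k : Fin m) :
    QuadraticMap.polar (⇑(Qo m F)) x (Pi.single (eI k) 1) = x (fI k) := by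
  rw [polar_formula, Finset.sum_eq_single k]
  · rw [Pi.single_eq_same, Pi.single_eq_of_ne (show (zI : OI m) ≠ eI k from Sum.inl_ne_inr),
      Pi.single_eq_of_ne (show (fI k : OI m) ≠ eI k from fun h => by simp at h)]
    ring
  · intro i _ hi
    rw [Pi.single_eq_of_ne (show (fI i : OI m) ≠ eI k from fun h => by simp at h),
      Pi.single_eq_of_ne (show (eI i : OI m) ≠ eI k from fun h => hi (by simpa using h))]
    ring
  · intro h
    exact absurd (Finset.mem_univ k) h

theorem polar_single_f (x : OI m → F) (k : Fin m) :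
    QuadraticMap.polar (⇑(Qo m F)) x (Pi.single (fI k) 1) = x (eI k) := by
  rw [polar_formula, Finset.sum_eq_single k]
  · rw [Pi.single_eq_same, Pi.single_eq_of_ne (show (zI : OI m) ≠ fI k from Sum.inl_ne_inr),
      Pi.single_eq_of_ne (show (eI k : OI m) ≠ fI k from fun h => by simp at h)]
    ring
  · intro i _ hi
    rw [Pi.single_eq_of_ne (show (eI i : OI m) ≠ fI k from fun h => by simp at h),
      Pi.single_eq_of_ne (show (fI i : OI m) ≠ fI k from fun h => hi (by simpa using h))]
    ring
  · intro h
    exact absurd (Finset.mem_univ k) h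

theorem polar_single_z (x : OI m → F) :
    QuadraticMap.polar (⇑(Qo m F)) x (Pi.single zI 1) = 2 * x zI := by
  rw [polar_formula, Finset.sum_eq_zero]
  · rw [Pi.single_eq_same]
    ring
  · intro i _
    rw [Pi.single_eq_of_ne (show (fI i : OI m) ≠ zI from Sum.inr_ne_inl),
      Pi.single_eq_of_ne (show (eI i : OI m) ≠ zI from Sum.inr_ne_inl)]
    ring

/-- the polar form against a basis vector -/
def dualCoord (x : OI m → F) : OI m → F
  | Sum.inl _ => 2 * x zI
  | Sum.inr (Sum.inl i) => x (fI i)
  | Sum.inr (Sum.inr i) => x (eI i)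

theorem polar_single (x : OI m → F) (b : OI m) :
    QuadraticMap.polar (⇑(Qo m F)) x (Pi.single b 1) = dualCoord x b := by
  rcases b with b | b | b
  · exact polar_single_z x
  · exact polar_single_e x b
  · exact polar_single_f x b

theorem polar_single_left (b : OI m) (x : OI m → F) :
    QuadraticMap.polar (⇑(Qo m F)) (Pi.single b 1) x = dualCoord x b := by
  rw [QuadraticMap.polar_comm, polar_single]

theorem polarBilin_eq (x y : OI m → F) :
    QuadraticMap.polarBilin (Qo m F) x y = QuadraticMap.polar (⇑(Qo m F)) x y :=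
  QuadraticMap.polarBilin_apply_apply _ _ _

/-! ### group elements from linear isometries -/

theorem exists_of_linear (L L' : (OI m → F) →ₗ[F] (OI m → F)) (h1 : L ∘ₗ L' = LinearMap.id)
    (h2 : L' ∘ₗ L = LinearMap.id) (hQ : ∀ x, Qo m F (L x) = Qo m F x) :
    ∃ g : OG m F, ∀ x, mat g *ᵥ x = L x := by
  obtain ⟨g, hg⟩ := exists_of_isometry (LinearMap.toMatrix' L) (LinearMap.toMatrix' L')
    (by rw [← LinearMap.toMatrix'_comp, h1, LinearMap.toMatrix'_id])
    (by rw [← LinearMap.toMatrix'_comp, h2, LinearMap.toMatrix'_id])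
    (by
      intro u
      rw [LinearMap.toMatrix'_mulVec]
      exact hQ u)
  exact ⟨g, fun x => by rw [hg, LinearMap.toMatrix'_mulVec]⟩

theorem mat_apply_eq (g : OG m F) (a b : OI m) : mat g a b = (mat g *ᵥ Pi.single b 1) a := by
  rw [Matrix.mulVec_single_one]
  rfl

/-! ### Siegel elements -/

open Cfsg.Agent.Lib.Helper43 in
theorem siegelLin_zero (p : OI m → F) : siegelLin (Qo m F) p 0 = LinearMap.id := by
  apply LinearMap.ext
  intro v
  rw [siegelLin_apply]
  simp

open Cfsg.Agent.Lib.Helper43 in
theorem exists_siegel_elt (p w : OI m → F) (hp : Qo m F p = 0)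
    (hpw : QuadraticMap.polarBilin (Qo m F) p w = 0) :
    ∃ g : OG m F, ∀ x, mat g *ᵥ x = siegelLin (Qo m F) p w x := by
  have hpw' : QuadraticMap.polarBilin (Qo m F) p (-w) = 0 := by
    rw [map_neg, hpw, neg_zero]
  apply exists_of_linear (siegelLin (Qo m F) p w) (siegelLin (Qo m F) p (-w))
  · rw [siegelLin_comp _ p w (-w) hp hpw hpw', add_neg_cancel, siegelLin_zero]
  · rw [siegelLin_comp _ p (-w) w hp hpw' hpw, neg_add_cancel, siegelLin_zero]
  · exact siegelLin_isometry _ p w hp hpw

theorem Qo_single_e (k : Fin m) : Qo m F (Pi.single (eI k) 1) = 0 := by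
  rw [Qo_apply]
  unfold Cfsg.quadFormOdd
  rw [Pi.single_eq_of_ne (show (Sum.inl () : OI m) ≠ eI k from Sum.inl_ne_inr), Finset.sum_eq_zero]
  · ring
  · intro i _
    rw [Pi.single_eq_of_ne (show (Sum.inr (Sum.inr i) : OI m) ≠ eI k from fun h => by simp at h),
      mul_zero]

theorem Qo_single_f (k : Fin m) : Qo m F (Pi.single (fI k) 1) = 0 := by
  rw [Qo_apply]
  unfold Cfsg.quadFormOdd
  rw [Pi.single_eq_of_ne (show (Sum.inl () : OI m) ≠ fI k from Sum.inl_ne_inr), Finset.sum_eq_zero]
  · ring
  · intro i _
    rw [Pi.single_eq_of_ne (show (Sum.inr (Sum.inl i) : OI m) ≠ fI k from fun h => by simp at h),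
      zero_mul]

/-- entries of a Siegel element -/
theorem siegel_entry (g : OG m F) (p w : OI m → F)
    (hg : ∀ x, mat g *ᵥ x = Cfsg.Agent.Lib.Helper43.siegelLin (Qo m F) p w x) (a b : OI m)
    (hab : a ≠ b) :
    mat g a b = (dualCoord w b - Qo m F w * dualCoord p b) * p a - dualCoord p b * w a := by
  rw [mat_apply_eq, hg, Cfsg.Agent.Lib.Helper43.siegelLin_apply, polarBilin_eq, polarBilin_eq,
    polar_single_left, polar_single_left]
  simp only [Pi.add_apply, Pi.smul_apply, smul_eq_mul, Pi.single_eq_of_ne hab]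
  ring

theorem pos_eI (i : Fin m) : pos m (eI i) = i.val := rfl
theorem pos_fI (i : Fin m) : pos m (fI i) = 2 * m - i.val := rfl
theorem pos_zI : pos m (zI : OI m) = m := rfl

theorem dualCoord_single_e (k : Fin m) (b : OI m) :
    dualCoord (Pi.single (eI k) (1 : F)) b = if b = fI k then 1 else 0 := by
  rcases b with b | b | b
  · show 2 * (Pi.single (eI k) (1 : F) : OI m → F) zI = _
    rw [Pi.single_eq_of_ne (show (zI : OI m) ≠ eI k from Sum.inl_ne_inr), mul_zero, if_neg]
    exact Sum.inl_ne_inr
  · show (Pi.single (eI k) (1 : F) : OI m → F) (fI b) = _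
    rw [Pi.single_eq_of_ne (show (fI b : OI m) ≠ eI k from fun h => by simp at h), if_neg]
    intro h
    simp at h
  · show (Pi.single (eI k) (1 : F) : OI m → F) (eI b) = _
    by_cases h : b = k
    · subst h
      rw [Pi.single_eq_same, if_pos rfl]
    · rw [Pi.single_eq_of_ne (show (eI b : OI m) ≠ eI k from fun h' => h (by simpa using h')),
        if_neg]
      intro h'
      exact h (by simpa using h')

theorem dualCoord_single_f (k : Fin m) (b : OI m) :
    dualCoord (Pi.single (fI k) (1 : F)) b = if b = eI k then 1 else 0 := by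
  rcases b with b | b | b
  · show 2 * (Pi.single (fI k) (1 : F) : OI m → F) zI = _
    rw [Pi.single_eq_of_ne (show (zI : OI m) ≠ fI k from Sum.inl_ne_inr), mul_zero, if_neg]
    exact Sum.inl_ne_inr
  · show (Pi.single (fI k) (1 : F) : OI m → F) (fI b) = _
    by_cases h : b = k
    · subst h
      rw [Pi.single_eq_same, if_pos rfl]
    · rw [Pi.single_eq_of_ne (show (fI b : OI m) ≠ fI k from fun h' => h (by simpa using h')),
        if_neg]
      intro h'
      exact h (by simpa using h')
  · show (Pi.single (fI k) (1 : F) : OI m → F) (eI b) = _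
    rw [Pi.single_eq_of_ne (show (eI b : OI m) ≠ fI k from fun h => by simp at h), if_neg]
    intro h
    simp at h

/-- (A) the Siegel element for `p = e_k` is upper triangular if `w (f_i) = 0` for `i ≤ k` -/
theorem siegel_e_mem_B (g : OG m F) (k : Fin m) (w : OI m → F)
    (hg : ∀ x, mat g *ᵥ x =
      Cfsg.Agent.Lib.Helper43.siegelLin (Qo m F) (Pi.single (eI k) 1) w x)
    (hw : ∀ i : Fin m, i.val ≤ k.val → w (fI i) = 0) : g ∈ Bsub m F := by
  rw [mem_Bsub_iff]
  intro a b hab
  have hne : a ≠ b := fun h => by rw [h] at hab; exact lt_irrefl _ hab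
  rw [siegel_entry g _ w hg a b hne, dualCoord_single_e]
  by_cases hb : b = fI k
  · subst hb
    rw [if_pos rfl]
    -- `a = f_i` with `i < k`
    rcases a with a | a | a
    · exfalso
      rw [pos_fI] at hab
      have h1 : pos m (Sum.inl a : OI m) = m := rfl
      have := k.2
      omega
    · exfalso
      rw [pos_fI, pos_eI] at hab
      have := k.2
      have := a.2
      omega
    · rw [pos_fI, pos_fI] at hab
      have := k.2
      have := a.2
      have hak : a.val ≤ k.val := by omega
      have hne' : (fI a : OI m) ≠ eI k := fun h => by simp at h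
      rw [hw a hak, Pi.single_eq_of_ne hne']
      ring
  · rw [if_neg hb]
    by_cases ha : a = eI k
    · subst ha
      -- `b = e_i` with `i < k`
      rcases b with b | b | b
      · exfalso
        rw [pos_eI] at hab
        have h1 : pos m (Sum.inl b : OI m) = m := rfl
        have := k.2
        omega
      · rw [pos_eI, pos_eI] at hab
        show (w (fI b) - _ * 0) * _ - 0 * _ = 0
        rw [hw b (le_of_lt hab)]
        ring
      · exfalso
        rw [pos_eI, pos_fI] at hab
        have := k.2
        have := b.2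
        omega
    · rw [Pi.single_eq_of_ne ha]
      ring

/-- (B) the Siegel element for `p = f_k` is lower triangular if `w (e_i) = 0` for `i ≤ k` -/
theorem siegel_f_mem_Bminus (g : OG m F) (k : Fin m) (w : OI m → F)
    (hg : ∀ x, mat g *ᵥ x =
      Cfsg.Agent.Lib.Helper43.siegelLin (Qo m F) (Pi.single (fI k) 1) w x)
    (hw : ∀ i : Fin m, i.val ≤ k.val → w (eI i) = 0) : g ∈ Bminus m F := by
  rw [mem_Bminus_iff]
  intro a b hab
  have hne : a ≠ b := fun h => by rw [h] at hab; exact lt_irrefl _ hab
  rw [siegel_entry g _ w hg a b hne, dualCoord_single_f]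
  by_cases hb : b = eI k
  · subst hb
    rw [if_pos rfl]
    -- `a = e_i` with `i < k`
    rcases a with a | a | a
    · exfalso
      rw [pos_eI] at hab
      have h1 : pos m (Sum.inl a : OI m) = m := rfl
      have := k.2
      omega
    · rw [pos_eI, pos_eI] at hab
      have hne' : (eI a : OI m) ≠ fI k := fun h => by simp at h
      rw [hw a (le_of_lt hab), Pi.single_eq_of_ne hne']
      ring
    · exfalso
      rw [pos_fI, pos_eI] at hab
      have := k.2
      have := a.2
      omega
  · rw [if_neg hb]
    by_cases ha : a = fI k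
    · subst ha
      -- `b = f_i` with `i < k`
      rcases b with b | b | b
      · exfalso
        rw [pos_fI] at hab
        have h1 : pos m (Sum.inl b : OI m) = m := rfl
        have := k.2
        omega
      · exfalso
        rw [pos_fI, pos_eI] at hab
        have := k.2
        have := b.2
        omega
      · rw [pos_fI, pos_fI] at hab
        have := k.2
        have := b.2
        have hbk : b.val ≤ k.val := by omega
        show (w (eI b) - _ * 0) * _ - 0 * _ = 0
        rw [hw b hbk]
        ring
    · rw [Pi.single_eq_of_ne ha]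
      ring

end Cfsg.Agent.Lib.Helper14.StO
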