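import Cfsg.Agent.Lib.Helper53.StOmDefs

/-!
# K-StOm pack (S2549), leaf R0b (keystone 254902): the root elements `x_{ε_i - ε_j}(t)` are isometries
(port of Lib/Helper84/StOR0b.lean)
-/

set_option autoImplicit false
set_option linter.unusedSectionVars false
set_option linter.unusedVariables false
set_option linter.unusedSimpArgs false

namespace Cfsg.Agent.Lib.Helper14.StOm

open Matrix Cfsg Cfsg.Agent.Lib.Helper53.StOm

variable {m : ℕ} {F : Type*} [Field F] {a b : F}

theorem xPermMat_mul_neg (i j : Fin m) (hij : i ≠ j) (t : F) :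
    xPermMat m F i j t * xPermMat m F i j (-t) = 1 := by
  unfold xPermMat
  have h1 : (eI j : MI m) ≠ eI i := fun h => hij (Sum.inl.inj (Sum.inl.inj h)).symm
  have h2 : (eI j : MI m) ≠ fI j := fun h => by cases h
  have h3 : (fI i : MI m) ≠ eI i := fun h => by cases h
  have h4 : (fI i : MI m) ≠ fI j := fun h => hij (Sum.inr.inj (Sum.inl.inj h))
  simp only [Matrix.add_mul, Matrix.mul_add, Matrix.sub_mul, Matrix.mul_sub, Matrix.one_mul,
    Matrix.mul_one, Matrix.single_mul_single_of_ne _ _ _ _ h1, Matrix.single_mul_single_of_ne _ _ _ _ h2,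
    Matrix.single_mul_single_of_ne _ _ _ _ h3, Matrix.single_mul_single_of_ne _ _ _ _ h4]
  rw [← Matrix.single_neg, ← Matrix.single_neg]
  abel

theorem xPermMat_mulVec_zI (i j : Fin m) (t : F) (u : MI m → F) (c : Fin 2) :
    (xPermMat m F i j t *ᵥ u) (zI c) = u (zI c) := by
  unfold xPermMat
  rw [Matrix.sub_mulVec, Matrix.add_mulVec, Matrix.one_mulVec, Matrix.single_mulVec,
    Matrix.single_mulVec]
  simp [Function.update_apply]

theorem xPermMat_mulVec_eI (i j : Fin m) (t : F) (u : MI m → F) (c : Fin m) :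
    (xPermMat m F i j t *ᵥ u) (eI c) = u (eI c) + if c = i then t * u (eI j) else 0 := by
  unfold xPermMat
  rw [Matrix.sub_mulVec, Matrix.add_mulVec, Matrix.one_mulVec, Matrix.single_mulVec,
    Matrix.single_mulVec]
  simp [Function.update_apply]

theorem xPermMat_mulVec_fI (i j : Fin m) (t : F) (u : MI m → F) (c : Fin m) :
    (xPermMat m F i j t *ᵥ u) (fI c) = u (fI c) - if c = j then t * u (fI i) else 0 := by
  unfold xPermMat
  rw [Matrix.sub_mulVec, Matrix.add_mulVec, Matrix.one_mulVec, Matrix.single_mulVec,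
    Matrix.single_mulVec]
  simp [Function.update_apply]

theorem quad_xPermMat (i j : Fin m) (hij : i ≠ j) (t : F) (u : MI m → F) :
    Cfsg.quadFormMinus m F a b (xPermMat m F i j t *ᵥ u) = Cfsg.quadFormMinus m F a b u := by
  unfold Cfsg.quadFormMinus
  have hz := xPermMat_mulVec_zI i j t u
  have he := xPermMat_mulVec_eI i j t u
  have hf := xPermMat_mulVec_fI i j t u
  change (∑ c : Fin m, (xPermMat m F i j t *ᵥ u) (eI c) * (xPermMat m F i j t *ᵥ u) (fI c)) +
      ((xPermMat m F i j t *ᵥ u) (zI 0) ^ 2 +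
        a * (xPermMat m F i j t *ᵥ u) (zI 0) * (xPermMat m F i j t *ᵥ u) (zI 1) +
        b * (xPermMat m F i j t *ᵥ u) (zI 1) ^ 2) =
    (∑ c : Fin m, u (eI c) * u (fI c)) +
      (u (zI 0) ^ 2 + a * u (zI 0) * u (zI 1) + b * u (zI 1) ^ 2)
  rw [hz, hz]
  congr 1
  simp only [he, hf]
  have key : ∀ c : Fin m,
      (u (eI c) + if c = i then t * u (eI j) else 0) *
        (u (fI c) - if c = j then t * u (fI i) else 0) =
      u (eI c) * u (fI c) + (if c = i then t * u (eI j) * u (fI i) else 0) -
        (if c = j then t * u (eI j) * u (fI i) else 0) := by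
    intro c
    by_cases h1 : c = i
    · have h2 : c ≠ j := fun h => hij (h1.symm.trans h)
      rw [if_pos h1, if_neg h2, if_pos h1, if_neg h2, h1]
      ring
    · by_cases h2 : c = j
      · rw [if_neg h1, if_pos h2, if_neg h1, if_pos h2, h2]
        ring
      · rw [if_neg h1, if_neg h2, if_neg h1, if_neg h2]
        ring
  simp only [key]
  rw [Finset.sum_sub_distrib, Finset.sum_add_distrib, Finset.sum_ite_eq' Finset.univ i,
    Finset.sum_ite_eq' Finset.univ j]
  simp

/-- **K-StOm leaf R0b** -/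
theorem mat_xPerm (i j : Fin m) (hij : i ≠ j) (t : F) :
    mat (xPerm m F a b i j t) = xPermMat m F i j t := by
  unfold xPerm
  refine mat_ofMat _ (exists_of_isometry (xPermMat m F i j t) (xPermMat m F i j (-t))
    (xPermMat_mul_neg i j hij t) ?_ (quad_xPermMat i j hij t))
  have := xPermMat_mul_neg i j hij (-t)
  rwa [neg_neg] at this

end Cfsg.Agent.Lib.Helper14.StOm
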