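import Cfsg.Agent.Lib.Helper49.StOpDefs
import Cfsg.Agent.Lib.Helper59.StOpR0a

/-!
# K-StOp-C4 (keystone 254819, row S2548, architect helper49): the longest element lies in `N`.

`PermS` = the permutations of the index set realised (as permutation matrices) by elements of
`closure Sset`; it is a subgroup containing every `swapE i j`, every `crossE i j` (`i ≠ j`), hence
every double flip `swapE i j * crossE i j`, hence `rho m` (flip the pairs two at a time).
-/

set_option autoImplicit false
set_option linter.unusedSectionVars false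
set_option linter.unusedVariables false
set_option linter.unusedSimpArgs false

namespace Cfsg.Agent.Lib.Helper14.StOp

open Cfsg Cfsg.Agent.Lib.Helper49.StOp Matrix

variable {m : ℕ} {F : Type*} [Field F]

theorem permMatrix_inv' (σ : Equiv.Perm (OI m)) :
    (σ.permMatrix F)⁻¹ = σ⁻¹.permMatrix F := by
  apply Matrix.inv_eq_right_inv
  rw [← Matrix.permMatrix_mul, inv_mul_cancel, Matrix.permMatrix_one]

variable (m F)

/-- the permutations realised by elements of `closure Sset` -/
def PermS : Subgroup (Equiv.Perm (OI m)) where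
  carrier := {σ | ∃ g : OG m F, g ∈ Subgroup.closure (Sset m F) ∧ mat g = σ.permMatrix F}
  mul_mem' := by
    rintro σ τ ⟨g, hg, hgm⟩ ⟨h, hh, hhm⟩
    refine ⟨h * g, mul_mem hh hg, ?_⟩
    rw [Matrix.permMatrix_mul, mat_mul, hgm, hhm]
  one_mem' := ⟨1, one_mem _, by rw [Matrix.permMatrix_one, mat_one]⟩
  inv_mem' := by
    rintro σ ⟨g, hg, hgm⟩
    refine ⟨g⁻¹, inv_mem hg, ?_⟩
    rw [mat_inv, hgm, permMatrix_inv']

/-- the diagonal embedding of the permutations of `Fin m` -/
def dbl : Equiv.Perm (Fin m) →* Equiv.Perm (OI m) where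
  toFun σ := Equiv.sumCongr σ σ
  map_one' := by
    ext a
    rcases a with a | a <;> rfl
  map_mul' σ τ := by
    ext a
    rcases a with a | a <;> rfl

variable {m F}

theorem swapE_eq_dbl (i j : Fin m) : swapE m i j = dbl m (Equiv.swap i j) := rfl

theorem swapE_adj_mem (i : Fin m) (hi : i.val + 1 < m) : swapE m i (nxt i hi) ∈ PermS m F :=
  ⟨sShort m F i (nxt i hi), Subgroup.subset_closure (Or.inl ⟨i, hi, rfl⟩),
    Cfsg.Agent.Lib.Helper59.StOp.mat_sShort i _⟩

theorem crossE_last_mem (hm : 2 ≤ m) :
    crossE m (prevF hm) (lastF (by omega)) ∈ PermS m F :=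
  ⟨sCross m F (prevF hm) (lastF (by omega)), Subgroup.subset_closure (Or.inr ⟨hm, rfl⟩),
    Cfsg.Agent.Lib.Helper59.StOp.mat_sCross _ _⟩

theorem swapE_lt_mem : ∀ (d : ℕ) (i j : Fin m), i.val + d + 1 = j.val →
    swapE m i j ∈ PermS m F := by
  intro d
  induction d with
  | zero =>
    intro i j h
    have hi : i.val + 1 < m := by have := j.2; omega
    have : j = nxt i hi := Fin.ext (by simp only [nxt]; omega)
    rw [this]
    exact swapE_adj_mem i hi
  | succ d ih =>
    intro i j h
    have hj' : j.val - 1 < m := by have := j.2; omega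
    let j' : Fin m := ⟨j.val - 1, hj'⟩
    have hjj : j'.val + 1 < m := by show j.val - 1 + 1 < m; have := j.2; omega
    have hjn : j = nxt j' hjj := Fin.ext (by simp only [nxt]; show j.val = j.val - 1 + 1; omega)
    have h1 : swapE m i j' ∈ PermS m F := ih i j' (by show i.val + d + 1 = j.val - 1; omega)
    have h2 : swapE m j' j ∈ PermS m F := by
      rw [hjn]
      exact swapE_adj_mem j' hjj
    have hxy : i ≠ j' := by
      intro e
      have := congrArg Fin.val e
      simp only [j'] at this
      omega
    have hxz : i ≠ j := by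
      intro e
      have := congrArg Fin.val e
      omega
    have key : Equiv.swap j' j * Equiv.swap i j' * Equiv.swap j' j = Equiv.swap i j := by
      rw [Equiv.swap_mul_swap_mul_swap hxy hxz, Equiv.swap_comm]
    rw [swapE_eq_dbl, ← key, map_mul, map_mul]
    exact mul_mem (mul_mem h2 h1) h2

theorem swapE_mem (i j : Fin m) : swapE m i j ∈ PermS m F := by
  rcases lt_trichotomy i.val j.val with h | h | h
  · exact swapE_lt_mem (j.val - i.val - 1) i j (by omega)
  · have : i = j := Fin.ext h
    rw [this, swapE_eq_dbl, Equiv.swap_self]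
    exact (dbl m).map_one ▸ one_mem _
  · rw [swapE_eq_dbl, Equiv.swap_comm, ← swapE_eq_dbl]
    exact swapE_lt_mem (i.val - j.val - 1) j i (by omega)

theorem dbl_mem (π : Equiv.Perm (Fin m)) : dbl m π ∈ PermS m F := by
  induction π using Equiv.Perm.swap_induction_on with
  | one => exact (dbl m).map_one ▸ one_mem _
  | swap_mul f x y hxy ih =>
    rw [map_mul]
    exact mul_mem (swapE_mem x y) ih

theorem dbl_conj_crossE (π : Equiv.Perm (Fin m)) (i j : Fin m) :
    dbl m π * crossE m i j * (dbl m π)⁻¹ = crossE m (π i) (π j) := by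
  have h1 := Equiv.swap_apply_apply (dbl m π) (eI i) (fI j)
  have h2 := Equiv.swap_apply_apply (dbl m π) (eI j) (fI i)
  show _ = Equiv.swap (dbl m π (eI i)) (dbl m π (fI j)) *
    Equiv.swap (dbl m π (eI j)) (dbl m π (fI i))
  rw [h1, h2]
  unfold crossE
  group

theorem crossE_mem (i j : Fin m) (hij : i ≠ j) : crossE m i j ∈ PermS m F := by
  have hm : 2 ≤ m := by
    have := i.2; have := j.2
    by_contra hlt
    apply hij
    apply Fin.ext
    omega
  let p := prevF hm
  let l := lastF (show 0 < m by omega)
  have hpl : p ≠ l := prevF_ne_lastF hm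
  let π1 : Equiv.Perm (Fin m) := Equiv.swap l j
  let π : Equiv.Perm (Fin m) := Equiv.swap (π1 p) i * π1
  have h1l : π1 l = j := Equiv.swap_apply_left l j
  have hne : π1 p ≠ j := by
    intro e
    rw [← h1l] at e
    exact hpl (π1.injective e)
  have hπl : π l = j := by
    show Equiv.swap (π1 p) i (π1 l) = j
    rw [h1l]
    exact Equiv.swap_apply_of_ne_of_ne (fun e => hne e.symm) (fun e => hij e.symm)
  have hπp : π p = i := by
    show Equiv.swap (π1 p) i (π1 p) = i
    exact Equiv.swap_apply_left _ _
  have := dbl_conj_crossE π p l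
  rw [hπp, hπl] at this
  rw [← this]
  exact mul_mem (mul_mem (dbl_mem π) (crossE_last_mem hm)) (inv_mem (dbl_mem π))

/-- the index `i` of `e_i`, `f_i` -/
def idxI : OI m → Fin m := Sum.elim id id

theorem idxI_dualE (a : OI m) : idxI (dualE m a) = idxI a := by
  rcases a with a | a <;> rfl

/-- the double flip -/
theorem fp_apply (i j : Fin m) (hij : i ≠ j) (a : OI m) :
    (swapE m i j * crossE m i j) a = if idxI a = i ∨ idxI a = j then dualE m a else a := by
  have hji : j ≠ i := fun e => hij e.symm
  rcases a with k | k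
  · by_cases hki : k = i
    · subst hki
      simp [swapE, crossE, Equiv.swap_apply_def, idxI, dualE, hij, hji]
    · by_cases hkj : k = j
      · subst hkj
        simp [swapE, crossE, Equiv.swap_apply_def, idxI, dualE, hij, hji]
      · simp [swapE, crossE, Equiv.swap_apply_def, idxI, dualE, hij, hji, hki, hkj]
  · by_cases hki : k = i
    · subst hki
      simp [swapE, crossE, Equiv.swap_apply_def, idxI, dualE, hij, hji]
    · by_cases hkj : k = j
      · subst hkj
        simp [swapE, crossE, Equiv.swap_apply_def, idxI, dualE, hij, hji]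
      · simp [swapE, crossE, Equiv.swap_apply_def, idxI, dualE, hij, hji, hki, hkj]

theorem fp_mem (i j : Fin m) (hij : i ≠ j) : swapE m i j * crossE m i j ∈ PermS m F :=
  mul_mem (swapE_mem i j) (crossE_mem i j hij)

/-- flip the pairs with index below `n` -/
def fbFun (n : ℕ) (a : OI m) : OI m := if (idxI a).val < n then dualE m a else a

theorem fbFun_involutive (n : ℕ) : Function.Involutive (fbFun (m := m) n) := by
  intro a
  unfold fbFun
  by_cases h : (idxI a).val < n
  · simp only [h, if_true, idxI_dualE, dualE_dualE]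
  · simp only [h, if_false]

/-- flip the pairs with index below `n` -/
def flipBelow (n : ℕ) : Equiv.Perm (OI m) := (fbFun_involutive n).toPerm

theorem flipBelow_apply (n : ℕ) (a : OI m) :
    flipBelow n a = if (idxI a).val < n then dualE m a else a := rfl

theorem flipBelow_zero : flipBelow (m := m) 0 = 1 := by
  ext a
  rw [flipBelow_apply]
  simp

theorem flipBelow_add_two (n : ℕ) (hn : n + 1 < m) :
    flipBelow (m := m) (n + 2) =
      (swapE m ⟨n, by omega⟩ ⟨n + 1, hn⟩ * crossE m ⟨n, by omega⟩ ⟨n + 1, hn⟩) * flipBelow n := by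
  have hne : (⟨n, by omega⟩ : Fin m) ≠ ⟨n + 1, hn⟩ := by
    intro e
    have := congrArg Fin.val e
    simp at this
  ext a
  rw [Equiv.Perm.mul_apply, fp_apply _ _ hne, flipBelow_apply, flipBelow_apply]
  by_cases h1 : (idxI a).val < n
  · have h2 : (idxI a).val < n + 2 := by omega
    have h3 : ¬ (idxI a = ⟨n, by omega⟩ ∨ idxI a = ⟨n + 1, hn⟩) := by
      rintro (e | e)
      · have := congrArg Fin.val e; simp at this; omega
      · have := congrArg Fin.val e; simp at this; omega
    rw [if_pos h1, if_pos h2, idxI_dualE, if_neg h3]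
  · rw [if_neg h1]
    by_cases h2 : (idxI a).val < n + 2
    · have h3 : idxI a = ⟨n, by omega⟩ ∨ idxI a = ⟨n + 1, hn⟩ := by
        rcases Nat.lt_or_ge (idxI a).val (n + 1) with h | h
        · left; apply Fin.ext; show (idxI a).val = n; omega
        · right; apply Fin.ext; show (idxI a).val = n + 1; omega
      rw [if_pos h2, if_pos h3]
    · have h3 : ¬ (idxI a = ⟨n, by omega⟩ ∨ idxI a = ⟨n + 1, hn⟩) := by
        rintro (e | e)
        · have := congrArg Fin.val e; simp at this; omega
        · have := congrArg Fin.val e; simp at this; omega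
      rw [if_neg h2, if_neg h3]

theorem flipBelow_mem : ∀ k : ℕ, 2 * k ≤ m → flipBelow (m := m) (2 * k) ∈ PermS m F := by
  intro k
  induction k with
  | zero =>
    intro _
    rw [Nat.mul_zero, flipBelow_zero]
    exact one_mem _
  | succ k ih =>
    intro hk
    have hn : 2 * k + 1 < m := by omega
    have : 2 * (k + 1) = 2 * k + 2 := by ring
    rw [this, flipBelow_add_two (2 * k) hn]
    refine mul_mem (fp_mem _ _ ?_) (ih (by omega))
    intro e
    have := congrArg Fin.val e
    simp at this

theorem rho_eq_flipBelow : rho m = flipBelow (2 * (m / 2)) := by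
  ext a
  rw [rho_apply, flipBelow_apply]
  unfold rhoFun
  rcases a with i | i
  · have hi := i.2
    show (if m % 2 = 1 ∧ (i.val = m - 1 ∨ i.val = m) then _ else _) =
      if i.val < 2 * (m / 2) then _ else _
    by_cases h : i.val < 2 * (m / 2)
    · rw [if_pos h, if_neg]
      rintro ⟨h1, h2⟩
      omega
    · rw [if_neg h, if_pos]
      omega
  · have hi := i.2
    show (if m % 2 = 1 ∧ (2 * m - 1 - i.val = m - 1 ∨ 2 * m - 1 - i.val = m) then _ else _) =
      if i.val < 2 * (m / 2) then _ else _
    by_cases h : i.val < 2 * (m / 2)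
    · rw [if_pos h, if_neg]
      rintro ⟨h1, h2⟩
      omega
    · rw [if_neg h, if_pos]
      omega

theorem rho_mem : rho m ∈ PermS m F := by
  rw [rho_eq_flipBelow]
  exact flipBelow_mem (m / 2) (by omega)

theorem permMatrix_apply' (σ : Equiv.Perm (OI m)) (a b : OI m) :
    σ.permMatrix F a b = if σ a = b then 1 else 0 := by
  simp [Equiv.Perm.permMatrix, PEquiv.toMatrix_apply, Equiv.toPEquiv_apply]

/-- **LEAF C4.** -/
theorem exists_w0 : ∃ w ∈ Nsub m F, MonWith m F w (rho m) := by
  obtain ⟨g, hg, hgm⟩ := rho_mem (m := m) (F := F)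
  refine ⟨g, (le_sup_left : Subgroup.closure (Sset m F) ≤ Nsub m F) hg, ?_, ?_⟩
  · intro a b
    rw [hgm, permMatrix_apply']
    have hinv : ∀ c, rho m (rho m c) = c := fun c => rhoFun_rhoFun m c
    constructor
    · intro h
      by_cases e : rho m a = b
      · rw [← e, hinv]
      · rw [if_neg e] at h
        exact absurd rfl h
    · intro h
      rw [h, hinv, if_pos rfl]
      exact one_ne_zero
  · intro a
    rw [rho_eq_flipBelow, flipBelow_apply, flipBelow_apply, idxI_dualE]
    by_cases h : (idxI a).val < 2 * (m / 2)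
    · rw [if_pos h, if_pos h]
    · rw [if_neg h, if_neg h]

end Cfsg.Agent.Lib.Helper14.StOp
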