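import Mathlib
import Cfsg.Agent.Lib.Helper49.StSUDefs

/-!
# K-StSU-C3c (keystone 254617, row S2546, architect helper49): `s B s ≠ B` for a simple reflection

Explicit nontrivial root elements: `1 + E_{i,i+1} - E_{n-2-i,n-1-i}` (short root) and
`1 + aPar E_{k-1, rev (k-1)}` (last root, both parities); the conjugate by the reflection has a
nonzero entry below the diagonal.
-/

set_option autoImplicit false
set_option linter.unusedSectionVars false
set_option linter.unusedVariables false
set_option linter.unusedSimpArgs false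

namespace Cfsg.Agent.Lib.Helper14.StSU

open Cfsg Cfsg.Agent.Lib.Helper49.StSU Matrix

variable {n : ℕ} {F : Type*} [Field F] {q : ℕ}

/-! ### the Frobenius map -/

theorem frob_zero (hadd : ∀ x y : F, (x + y) ^ q = x ^ q + y ^ q) : (0 : F) ^ q = 0 := by
  have h := hadd 0 0
  rw [add_zero] at h
  have h' : (0 : F) ^ q + 0 = (0 : F) ^ q + (0 : F) ^ q := by rw [add_zero]; exact h
  exact (add_left_cancel h').symm

theorem frob_neg (hadd : ∀ x y : F, (x + y) ^ q = x ^ q + y ^ q) (x : F) :
    (-x) ^ q = -(x ^ q) := by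
  have h := hadd x (-x)
  rw [add_neg_cancel, frob_zero hadd] at h
  exact (neg_eq_of_add_eq_zero_right h.symm).symm

/-! ### the form -/

theorem hJ_add_left' (u u' v : Fin n → F) :
    hJ n F q (u + u') v = hJ n F q u v + hJ n F q u' v := by
  unfold hJ
  rw [← Finset.sum_add_distrib]
  apply Finset.sum_congr rfl
  intro i _
  rw [Pi.add_apply, add_mul]

theorem hJ_add_right' (hadd : ∀ x y : F, (x + y) ^ q = x ^ q + y ^ q) (u v v' : Fin n → F) :
    hJ n F q u (v + v') = hJ n F q u v + hJ n F q u v' := by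
  unfold hJ
  rw [← Finset.sum_add_distrib]
  apply Finset.sum_congr rfl
  intro i _
  rw [Pi.add_apply, hadd, mul_add]

theorem hJ_single_left' (x : Fin n) (c : F) (v : Fin n → F) :
    hJ n F q (Pi.single x c) v = c * (v (Fin.rev x)) ^ q := by
  unfold hJ
  rw [Finset.sum_eq_single x]
  · rw [Pi.single_eq_same]
  · intro i _ hi
    rw [Pi.single_eq_of_ne hi, zero_mul]
  · intro h
    exact absurd (Finset.mem_univ x) h

theorem hJ_single_right' (hadd : ∀ x y : F, (x + y) ^ q = x ^ q + y ^ q) (u : Fin n → F)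
    (y : Fin n) (d : F) :
    hJ n F q u (Pi.single y d) = u (Fin.rev y) * d ^ q := by
  unfold hJ
  rw [Finset.sum_eq_single (Fin.rev y)]
  · rw [Fin.rev_rev, Pi.single_eq_same]
  · intro i _ hi
    have : Fin.rev i ≠ y := fun h => hi (by rw [← h, Fin.rev_rev])
    rw [Pi.single_eq_of_ne this, frob_zero hadd, mul_zero]
  · intro h
    exact absurd (Finset.mem_univ _) h

/-! ### the long root element `1 + c E_{x, rev x}`, `c^q = -c` -/

theorem transvection_mulVec' (x y : Fin n) (c : F) (w : Fin n → F) :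
    Matrix.transvection x y c *ᵥ w = w + Pi.single x (c * w y) := by
  unfold Matrix.transvection
  rw [Matrix.add_mulVec, Matrix.one_mulVec, Matrix.single_mulVec]
  rfl

theorem hJ_long (hadd : ∀ x y : F, (x + y) ^ q = x ^ q + y ^ q) (x : Fin n)
    (hx : x ≠ Fin.rev x) (c : F) (hc : c ^ q = -c) (u v : Fin n → F) :
    hJ n F q (Matrix.transvection x (Fin.rev x) c *ᵥ u)
      (Matrix.transvection x (Fin.rev x) c *ᵥ v) = hJ n F q u v := by
  rw [transvection_mulVec', transvection_mulVec']
  simp only [hJ_add_left', hJ_add_right' hadd, hJ_single_left', hJ_single_right' hadd,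
    Pi.add_apply, Pi.single_eq_of_ne hx.symm, frob_zero hadd, mul_zero, add_zero, mul_pow, hc]
  ring

theorem transvection_apply_lower (x y r s : Fin n) (c : F) (hxy : x < y) (hsr : s < r) :
    Matrix.transvection x y c r s = 0 := by
  unfold Matrix.transvection
  rw [Matrix.add_apply, Matrix.one_apply_ne (ne_of_gt hsr), zero_add, Matrix.single_apply, if_neg]
  rintro ⟨rfl, rfl⟩
  exact lt_asymm hxy hsr

theorem transvection_apply_self (x y : Fin n) (c : F) (hxy : x ≠ y) :
    Matrix.transvection x y c x y = c := by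
  unfold Matrix.transvection
  rw [Matrix.add_apply, Matrix.one_apply_ne hxy, zero_add, Matrix.single_apply_same]

/-! ### the short root element `1 + E_{a,b} - E_{rev b, rev a}` -/

/-- the short root element -/
def shortRootMat (a b : Fin n) : Matrix (Fin n) (Fin n) F :=
  1 + Matrix.single a b 1 + Matrix.single (Fin.rev b) (Fin.rev a) (-1)

theorem shortRootMat_mulVec (a b : Fin n) (w : Fin n → F) :
    shortRootMat (F := F) a b *ᵥ w =
      w + Pi.single a (w b) + Pi.single (Fin.rev b) (-(w (Fin.rev a))) := by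
  unfold shortRootMat
  rw [Matrix.add_mulVec, Matrix.add_mulVec, Matrix.one_mulVec, Matrix.single_mulVec,
    Matrix.single_mulVec, one_mul, neg_one_mul]
  rfl

theorem hJ_short (hadd : ∀ x y : F, (x + y) ^ q = x ^ q + y ^ q) (a b : Fin n)
    (h1 : Fin.rev a ≠ a) (h2 : Fin.rev a ≠ Fin.rev b) (h3 : b ≠ a) (h4 : b ≠ Fin.rev b)
    (u v : Fin n → F) :
    hJ n F q (shortRootMat (F := F) a b *ᵥ u) (shortRootMat (F := F) a b *ᵥ v) = hJ n F q u v := by
  rw [shortRootMat_mulVec, shortRootMat_mulVec]
  simp only [hJ_add_left', hJ_add_right' hadd, hJ_single_left', hJ_single_right' hadd,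
    Fin.rev_rev, Pi.add_apply, Pi.single_eq_of_ne h1, Pi.single_eq_of_ne h2,
    Pi.single_eq_of_ne h3, Pi.single_eq_of_ne h4, frob_neg hadd, frob_zero hadd, mul_zero,
    add_zero, neg_zero]
  ring

theorem shortRootMat_det (a b : Fin n) (hab : a ≠ b) (hb : b ≠ Fin.rev b)
    (hab' : Fin.rev b ≠ Fin.rev a) : (shortRootMat (F := F) a b).det = 1 := by
  have hz : Matrix.single a b (1 : F) * Matrix.single (Fin.rev b) (Fin.rev a) (-1 : F) = 0 :=
    Matrix.single_mul_single_of_ne (1 : F) a b (Fin.rev b) hb (-1 : F)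
  have : shortRootMat (F := F) a b =
      Matrix.transvection a b 1 * Matrix.transvection (Fin.rev b) (Fin.rev a) (-1) := by
    unfold shortRootMat Matrix.transvection
    rw [add_mul, mul_add, mul_add, one_mul, mul_one, one_mul, hz, add_zero]
    abel
  rw [this, Matrix.det_mul, Matrix.det_transvection_of_ne _ _ hab,
    Matrix.det_transvection_of_ne _ _ hab', one_mul]

theorem shortRootMat_apply_lower (a b r s : Fin n) (hab : a < b) (hsr : s < r) :
    shortRootMat (F := F) a b r s = 0 := by
  unfold shortRootMat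
  rw [Matrix.add_apply, Matrix.add_apply, Matrix.one_apply_ne (ne_of_gt hsr), zero_add,
    Matrix.single_apply, Matrix.single_apply, if_neg, if_neg, add_zero]
  · rintro ⟨rfl, rfl⟩
    have h1 : (Fin.rev b).val < (Fin.rev a).val := by
      rw [Fin.val_rev, Fin.val_rev]
      have := a.2
      have := b.2
      have : a.val < b.val := hab
      omega
    exact lt_asymm h1 hsr
  · rintro ⟨rfl, rfl⟩
    exact lt_asymm hab hsr

theorem shortRootMat_apply_self (a b : Fin n) (hab : a ≠ b) (h : Fin.rev b ≠ a) :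
    shortRootMat (F := F) a b a b = 1 := by
  unfold shortRootMat
  rw [Matrix.add_apply, Matrix.add_apply, Matrix.one_apply_ne hab, zero_add,
    Matrix.single_apply_same, Matrix.single_apply, if_neg, add_zero]
  rintro ⟨h1, -⟩
  exact h h1

/-! ### conjugating by a matrix with one nonzero entry in a row and a column -/

theorem conj_entry_of_sparse (S M : Matrix (Fin n) (Fin n) F) (x y : Fin n)
    (h1 : ∀ w, w ≠ x → S y w = 0) (h2 : ∀ z, z ≠ y → S z x = 0) :
    (S * M * S) y x = S y x * M x y * S y x := by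
  rw [Matrix.mul_apply, Finset.sum_eq_single y]
  · rw [Matrix.mul_apply, Finset.sum_eq_single x]
    · intro w _ hw
      rw [h1 w hw, zero_mul]
    · intro h
      exact absurd (Finset.mem_univ x) h
  · intro z _ hz
    rw [h2 z hz, mul_zero]
  · intro h
    exact absurd (Finset.mem_univ y) h

/-! ### the reflections -/

theorem tau_self (i : ℕ) : tau n i i = i + 1 := by
  unfold tau
  rw [if_pos rfl]

theorem tau_eq_succ (i v : ℕ) (hi : i + 1 < n / 2) (hv : v < n) (h : tau n i v = i + 1) :
    v = i := by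
  unfold tau at h
  split_ifs at h <;> omega

theorem sEvenMat_row (a : F) (y w : Fin n) (hk : 1 ≤ n / 2) (hy : y.val = n / 2)
    (hw : w.val ≠ n / 2 - 1) : sEvenMat n F a y w = 0 := by
  unfold sEvenMat
  rw [if_neg (by rintro ⟨h, -⟩; omega), if_neg (by rintro ⟨-, h⟩; exact hw h),
    if_neg (by rintro ⟨-, -, h⟩; exact h hy)]

theorem sEvenMat_col (a : F) (z x : Fin n) (hk : 1 ≤ n / 2) (hx : x.val = n / 2 - 1)
    (hz : z.val ≠ n / 2) : sEvenMat n F a z x = 0 := by
  unfold sEvenMat
  rw [if_neg (by rintro ⟨-, h⟩; omega), if_neg (by rintro ⟨h, -⟩; exact hz h),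
    if_neg (by rintro ⟨h1, h2, -⟩; subst h1; exact h2 hx)]

theorem sEvenMat_entry (a : F) (y x : Fin n) (hk : 1 ≤ n / 2) (hy : y.val = n / 2)
    (hx : x.val = n / 2 - 1) : sEvenMat n F a y x = -a⁻¹ := by
  unfold sEvenMat
  rw [if_neg (by rintro ⟨h, -⟩; omega), if_pos ⟨hy, hx⟩]

theorem sOddMat_row (y w : Fin n) (hk : 1 ≤ n / 2) (hy : y.val = n / 2 + 1)
    (hw : w.val ≠ n / 2 - 1) : sOddMat n F y w = 0 := by
  unfold sOddMat
  rw [if_neg (by rintro (⟨h, -⟩ | ⟨-, h⟩) <;> omega),
    if_neg (by rintro ⟨h, -⟩; omega), if_neg (by rintro ⟨-, -, -, h⟩; exact h hy)]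

theorem sOddMat_col (z x : Fin n) (hk : 1 ≤ n / 2) (hx : x.val = n / 2 - 1)
    (hz : z.val ≠ n / 2 + 1) : sOddMat n F z x = 0 := by
  unfold sOddMat
  rw [if_neg (by rintro (⟨-, h⟩ | ⟨h, -⟩) <;> omega),
    if_neg (by rintro ⟨-, h⟩; omega), if_neg (by rintro ⟨h1, h2, -⟩; subst h1; exact h2 hx)]

theorem sOddMat_entry (y x : Fin n) (hk : 1 ≤ n / 2) (hy : y.val = n / 2 + 1)
    (hx : x.val = n / 2 - 1) : sOddMat n F y x = 1 := by
  unfold sOddMat
  rw [if_pos (Or.inr ⟨hy, hx⟩)]

/-- **LEAF C3c.** -/
theorem S_conj_ne (ok : Ok n F q) (s : GJ n F q) (hs : s ∈ Sset n F q) :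
    (fun b : GJ n F q => s * b * s) '' (Bsub n F q : Set (GJ n F q)) ≠
      (Bsub n F q : Set (GJ n F q)) := by
  intro heq
  have key : ∀ g : GJ n F q, g ∈ Bsub n F q → ∀ x y : Fin n, x < y →
      (mat s * mat g * mat s) y x ≠ 0 → False := by
    intro g hg x y hxy hne
    have hmem : s * g * s ∈ (Bsub n F q : Set (GJ n F q)) := by
      rw [← heq]
      exact ⟨g, hg, rfl⟩
    have h0 := (mem_Bsub_iff _).1 hmem y x hxy
    rw [mat_mul, mat_mul] at h0
    exact hne h0
  have hadd := ok.frob_add
  rcases hs with ⟨i, hi, rfl⟩ | ⟨hn, rfl⟩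
  · -- the short reflections
    have hin : i + 1 < n := by omega
    set aI : Fin n := ⟨i, by omega⟩ with haI
    set bI : Fin n := ⟨i + 1, hin⟩ with hbI
    have hab : aI < bI := by
      rw [Fin.lt_def]
      show i < i + 1
      omega
    have hra : (Fin.rev aI).val = n - (i + 1) := Fin.val_rev aI
    have hrb : (Fin.rev bI).val = n - (i + 1 + 1) := Fin.val_rev bI
    have h1 : Fin.rev aI ≠ aI := by
      intro h
      have := congrArg Fin.val h
      rw [hra] at this
      have : n - (i + 1) = i := this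
      omega
    have h2 : Fin.rev aI ≠ Fin.rev bI := by
      intro h
      have := congrArg Fin.val h
      rw [hra, hrb] at this
      omega
    have h3 : bI ≠ aI := ne_of_gt hab
    have h4 : bI ≠ Fin.rev bI := by
      intro h
      have := congrArg Fin.val h
      rw [hrb] at this
      have : i + 1 = n - (i + 1 + 1) := this
      omega
    have h5 : Fin.rev bI ≠ aI := by
      intro h
      have := congrArg Fin.val h
      rw [hrb] at this
      have : n - (i + 1 + 1) = i := this
      omega
    have hmat : mat (mk n F q (shortRootMat (F := F) aI bI)) = shortRootMat (F := F) aI bI :=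
      mat_mk _ (shortRootMat_det aI bI h3.symm h4 h2.symm) (hJ_short hadd aI bI h1 h2 h3 h4)
    have hgB : mk n F q (shortRootMat (F := F) aI bI) ∈ Bsub n F q := by
      rw [mem_Bsub_iff]
      intro r c hcr
      rw [hmat]
      exact shortRootMat_apply_lower aI bI r c hab hcr
    apply key _ hgB aI bI hab
    rw [hmat, ok.short i hi]
    have hs1 : ∀ w, w ≠ aI → sShortMat n F i bI w = 0 := by
      intro w hw
      unfold sShortMat
      rw [if_neg]
      intro h
      apply hw
      apply Fin.ext
      exact tau_eq_succ i w.val hi w.2 h.symm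
    have hs2 : ∀ z, z ≠ bI → sShortMat n F i z aI = 0 := by
      intro z hz
      unfold sShortMat
      rw [if_neg]
      intro h
      apply hz
      apply Fin.ext
      show z.val = i + 1
      rw [h]
      exact tau_self i
    have hs3 : sShortMat n F i bI aI = 1 := by
      unfold sShortMat
      rw [if_pos]
      show i + 1 = tau n i i
      exact (tau_self i).symm
    rw [conj_entry_of_sparse _ _ aI bI hs1 hs2, hs3, shortRootMat_apply_self aI bI h3.symm h5,
      one_mul, one_mul]
    exact one_ne_zero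
  · -- the last reflection
    have hk : 1 ≤ n / 2 := by omega
    set xI : Fin n := ⟨n / 2 - 1, by omega⟩ with hxI
    have hxv : xI.val = n / 2 - 1 := rfl
    have hyv : (Fin.rev xI).val = n - n / 2 := by
      rw [Fin.val_rev, hxv]
      omega
    have hxy : xI < Fin.rev xI := by
      rw [Fin.lt_def, hyv, hxv]
      omega
    have hmat : mat (mk n F q (Matrix.transvection xI (Fin.rev xI) (aPar F q))) =
        Matrix.transvection xI (Fin.rev xI) (aPar F q) :=
      mat_mk _ (Matrix.det_transvection_of_ne _ _ (ne_of_lt hxy) _)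
        (hJ_long hadd xI (ne_of_lt hxy) _ ok.a_pow)
    have hgB : mk n F q (Matrix.transvection xI (Fin.rev xI) (aPar F q)) ∈ Bsub n F q := by
      rw [mem_Bsub_iff]
      intro r c hcr
      rw [hmat]
      exact transvection_apply_lower xI (Fin.rev xI) r c _ hxy hcr
    apply key _ hgB xI (Fin.rev xI) hxy
    rw [hmat, ok.last hn]
    unfold sLastMat
    by_cases hev : n % 2 = 0
    · rw [if_pos hev]
      have hyv' : (Fin.rev xI).val = n / 2 := by rw [hyv]; omega
      have hs1 : ∀ w, w ≠ xI → sEvenMat n F (aPar F q) (Fin.rev xI) w = 0 := by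
        intro w hw
        apply sEvenMat_row _ _ _ hk hyv'
        intro h
        exact hw (Fin.ext h)
      have hs2 : ∀ z, z ≠ Fin.rev xI → sEvenMat n F (aPar F q) z xI = 0 := by
        intro z hz
        apply sEvenMat_col _ _ _ hk hxv
        intro h
        exact hz (Fin.ext (by rw [h, hyv']))
      rw [conj_entry_of_sparse _ _ xI (Fin.rev xI) hs1 hs2,
        sEvenMat_entry _ _ _ hk hyv' hxv, transvection_apply_self _ _ _ (ne_of_lt hxy)]
      have ha : (aPar F q)⁻¹ ≠ 0 := inv_ne_zero ok.a_ne
      exact mul_ne_zero (mul_ne_zero (neg_ne_zero.mpr ha) ok.a_ne) (neg_ne_zero.mpr ha)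
    · rw [if_neg hev]
      have hyv' : (Fin.rev xI).val = n / 2 + 1 := by rw [hyv]; omega
      have hs1 : ∀ w, w ≠ xI → sOddMat n F (Fin.rev xI) w = 0 := by
        intro w hw
        apply sOddMat_row _ _ hk hyv'
        intro h
        exact hw (Fin.ext h)
      have hs2 : ∀ z, z ≠ Fin.rev xI → sOddMat n F z xI = 0 := by
        intro z hz
        apply sOddMat_col _ _ hk hxv
        intro h
        exact hz (Fin.ext (by rw [h, hyv']))
      rw [conj_entry_of_sparse _ _ xI (Fin.rev xI) hs1 hs2,
        sOddMat_entry _ _ hk hyv' hxv, transvection_apply_self _ _ _ (ne_of_lt hxy),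
        one_mul, mul_one]
      exact ok.a_ne

end Cfsg.Agent.Lib.Helper14.StSU
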