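import Cfsg.Agent.Lib.Helper14.StSpC4
import Cfsg.Agent.Lib.Helper74.StSpR1

/-!
# K-StSp-C3c (keystone 254513, row S2545, architect helper49): `s B s ≠ B` for a simple reflection.

`s * x_α(1) * s` has a nonzero entry below the diagonal.
-/

set_option autoImplicit false
set_option linter.unusedSectionVars false
set_option linter.unusedVariables false
set_option linter.unusedSimpArgs false

namespace Cfsg.Agent.Lib.Helper14.StSp

open Cfsg Cfsg.Agent.Lib.Helper49.StSp Matrix

variable {m : ℕ} {F : Type*} [Field F]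

/-- conjugation of any matrix by the permutation matrix of an involution -/
theorem perm_mul_perm (σ : Equiv.Perm (Fin m)) (hσ : σ.symm = σ) (M : Matrix (Fin m) (Fin m) F) :
    σ.permMatrix F * M * σ.permMatrix F = M.submatrix σ σ := by
  unfold Equiv.Perm.permMatrix
  rw [PEquiv.toMatrix_toPEquiv_mul, PEquiv.mul_toMatrix_toPEquiv, hσ, submatrix_submatrix]
  rfl

/-- the entry `(e_j, e_i)` of `s_{ij} x_{ij}(t) s_{ij}` is `t` -/
theorem sShort_xShort_entry (i j : Fin m) (hij : i ≠ j) (t : F) :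
    (sShortMat m F i j * xShortMat m F i j t * sShortMat m F i j) (Sum.inl j) (Sum.inl i) = t := by
  unfold sShortMat xShortMat
  rw [fromBlocks_multiply, fromBlocks_multiply]
  simp only [Matrix.zero_mul, Matrix.mul_zero, add_zero, zero_add]
  rw [fromBlocks_apply₁₁, perm_mul_perm _ (Equiv.symm_swap i j), submatrix_apply,
    Equiv.swap_apply_right, Equiv.swap_apply_left]
  unfold Matrix.transvection
  rw [Matrix.add_apply, Matrix.one_apply_ne hij, zero_add, Matrix.single_apply, if_pos ⟨rfl, rfl⟩]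

/-- the entry `(f_k, e_k)` of `c_k x_{2ε_k}(t) c_k` is `t` -/
theorem cSign_xLong_entry (k : Fin m) (t : F) :
    (cSignMat m F k * xLongMat m F k t * cSignMat m F k) (Sum.inr k) (Sum.inl k) = t := by
  rw [cSignMat_eq]
  unfold xLongMat
  rw [show (1 : Matrix (Fin m) (Fin m) F) = diagonal (fun _ => (1:F)) from diagonal_one.symm,
    show (0 : Matrix (Fin m) (Fin m) F) = diagonal (fun _ => (0:F)) from diagonal_zero.symm,
    fromBlocks_diag_mul, fromBlocks_diag_mul, fromBlocks_apply₂₁, diagonal_apply_eq]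
  simp

theorem pos_inl_lt_inr (a b : Fin m) : pos m (Sum.inl a) < pos m (Sum.inr b) := by
  simp only [pos]
  have := a.2
  have := b.2
  omega

/-- **LEAF C3c.** -/
theorem S_conj_ne (s : SpG m F) (hs : s ∈ Sset m F) :
    (fun b : SpG m F => s * b * s) '' (Bsub m F : Set (SpG m F)) ≠ (Bsub m F : Set (SpG m F)) := by
  intro heq
  rcases hs with ⟨i, hi, rfl⟩ | ⟨hm, rfl⟩
  · -- short reflection
    have hlt : i < nxt i hi := by
      rw [Fin.lt_def]
      show i.val < i.val + 1
      omega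
    have hb : xS m F i (nxt i hi) (ne_of_lt hlt) 1 ∈ Bsub m F :=
      Cfsg.Agent.Lib.Helper74.StSp.xS_mem_B i (nxt i hi) hlt 1
    have hmem : sShort m F i (nxt i hi) * xS m F i (nxt i hi) (ne_of_lt hlt) 1 * sShort m F i (nxt i hi)
        ∈ (Bsub m F : Set (SpG m F)) := by
      rw [← heq]
      exact ⟨_, hb, rfl⟩
    have h0 := (mem_Bsub_iff _).1 hmem (Sum.inl (nxt i hi)) (Sum.inl i) (by
      simp only [pos]
      show i.val < i.val + 1
      omega)
    have h1 : ((sShort m F i (nxt i hi) * xS m F i (nxt i hi) (ne_of_lt hlt) 1 *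
        sShort m F i (nxt i hi) : SpG m F) : Matrix (Fin m ⊕ Fin m) (Fin m ⊕ Fin m) F)
        (Sum.inl (nxt i hi)) (Sum.inl i) = 1 :=
      sShort_xShort_entry i (nxt i hi) (ne_of_lt hlt) 1
    rw [h1] at h0
    exact one_ne_zero h0
  · -- long reflection
    have hb : xL m F (lastF hm) 1 ∈ Bsub m F :=
      Cfsg.Agent.Lib.Helper74.StSp.xL_mem_B (lastF hm) 1
    have hmem : cSign m F (lastF hm) * xL m F (lastF hm) 1 * cSign m F (lastF hm)
        ∈ (Bsub m F : Set (SpG m F)) := by
      rw [← heq]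
      exact ⟨_, hb, rfl⟩
    have h0 := (mem_Bsub_iff _).1 hmem (Sum.inr (lastF hm)) (Sum.inl (lastF hm))
      (pos_inl_lt_inr _ _)
    have h1 : ((cSign m F (lastF hm) * xL m F (lastF hm) 1 * cSign m F (lastF hm) : SpG m F) :
        Matrix (Fin m ⊕ Fin m) (Fin m ⊕ Fin m) F) (Sum.inr (lastF hm)) (Sum.inl (lastF hm)) = 1 :=
      cSign_xLong_entry (lastF hm) 1
    rw [h1] at h0
    exact one_ne_zero h0

end Cfsg.Agent.Lib.Helper14.StSp
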