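import Cfsg.Agent.Lib.Helper49.StSpDefs

/-!
# K-StSp-C4 (keystone 254514, row S2545, architect helper49): the longest element `J` lies in `N`.

`cSign k = s_k * cSign (k+1) * s_k` (downward induction), and `J` is the product of all `cSign k`
(`csMat S` = the sign change on the coordinates in `S`).
-/

set_option autoImplicit false
set_option linter.unusedSectionVars false
set_option linter.unusedVariables false
set_option linter.unusedSimpArgs false

namespace Cfsg.Agent.Lib.Helper14.StSp

open Cfsg Cfsg.Agent.Lib.Helper49.StSp Matrix

variable {m : ℕ} {F : Type*} [Field F]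

/-- product of two block matrices with diagonal blocks -/
theorem fromBlocks_diag_mul (a1 b1 c1 d1 a2 b2 c2 d2 : Fin m → F) :
    fromBlocks (diagonal a1) (diagonal b1) (diagonal c1) (diagonal d1) *
      fromBlocks (diagonal a2) (diagonal b2) (diagonal c2) (diagonal d2) =
    fromBlocks (diagonal fun i => a1 i * a2 i + b1 i * c2 i) (diagonal fun i => a1 i * b2 i + b1 i * d2 i)
      (diagonal fun i => c1 i * a2 i + d1 i * c2 i) (diagonal fun i => c1 i * b2 i + d1 i * d2 i) := by
  rw [fromBlocks_multiply]
  simp only [diagonal_mul_diagonal, diagonal_add]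

/-- the sign change on the coordinates in `S` -/
def csMat (S : Finset (Fin m)) : Matrix (Fin m ⊕ Fin m) (Fin m ⊕ Fin m) F :=
  fromBlocks (diagonal fun a => if a ∈ S then 0 else 1) (diagonal fun a => if a ∈ S then -1 else 0)
    (diagonal fun a => if a ∈ S then 1 else 0) (diagonal fun a => if a ∈ S then 0 else 1)

theorem neg_diag_single (k : Fin m) :
    -(diagonal (Pi.single k (1:F)) : Matrix (Fin m) (Fin m) F) =
      diagonal (fun a : Fin m => if a = k then (-1:F) else 0) := by
  ext a b
  rw [Matrix.neg_apply, diagonal_apply, diagonal_apply]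
  by_cases hab : a = b
  · rw [if_pos hab, if_pos hab]
    by_cases h : a = k
    · subst h; simp
    · simp [Pi.single_apply, h]
  · rw [if_neg hab, if_neg hab, neg_zero]

theorem cSignMat_eq (k : Fin m) :
    cSignMat m F k = fromBlocks (diagonal fun a => if a = k then 0 else 1)
      (diagonal fun a => if a = k then -1 else 0) (diagonal fun a => if a = k then 1 else 0)
      (diagonal fun a => if a = k then 0 else 1) := by
  unfold cSignMat
  rw [neg_diag_single]
  congr 1
  · congr 1; funext a
    by_cases h : a = k
    · subst h; simp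
    · simp [Pi.single_apply, h]
  · congr 1; funext a
    by_cases h : a = k
    · subst h; simp
    · simp [Pi.single_apply, h]
  · congr 1; funext a
    by_cases h : a = k
    · subst h; simp
    · simp [Pi.single_apply, h]

theorem cSignMat_mul_csMat (k : Fin m) (S : Finset (Fin m)) (hk : k ∉ S) :
    cSignMat m F k * csMat S = csMat (insert k S) := by
  rw [cSignMat_eq]
  unfold csMat
  rw [fromBlocks_diag_mul]
  congr 1
  all_goals
    congr 1
    funext a
    by_cases h : a = k
    · subst h
      simp [hk]
    · by_cases hS : a ∈ S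
      · simp [h, hS]
      · simp [h, hS]

theorem csMat_empty : csMat (F := F) (∅ : Finset (Fin m)) = 1 := by
  unfold csMat
  simp only [Finset.notMem_empty, if_false]
  have h1 : diagonal (fun _ : Fin m => (1 : F)) = 1 := diagonal_one
  have h0 : diagonal (fun _ : Fin m => (0 : F)) = 0 := diagonal_zero
  rw [h1, h0, fromBlocks_one]

theorem csMat_univ : csMat (F := F) (Finset.univ : Finset (Fin m)) = Matrix.J (Fin m) F := by
  unfold csMat Matrix.J
  simp only [Finset.mem_univ, if_true]
  have h1 : diagonal (fun _ : Fin m => (1 : F)) = 1 := diagonal_one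
  have h0 : diagonal (fun _ : Fin m => (0 : F)) = 0 := diagonal_zero
  have hn : (diagonal (fun _ : Fin m => (-1 : F)) : Matrix (Fin m) (Fin m) F) = -1 := by
    ext a b
    rw [diagonal_apply, Matrix.neg_apply, Matrix.one_apply]
    by_cases hab : a = b
    · rw [if_pos hab, if_pos hab]
    · rw [if_neg hab, if_neg hab, neg_zero]
  rw [h1, h0, hn]

/-- conjugation of a diagonal matrix by the permutation matrix of an involution -/
theorem perm_diag_perm (σ : Equiv.Perm (Fin m)) (hσ : σ.symm = σ) (d : Fin m → F) :
    σ.permMatrix F * diagonal d * σ.permMatrix F = diagonal (d ∘ σ) := by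
  unfold Equiv.Perm.permMatrix
  rw [PEquiv.toMatrix_toPEquiv_mul, PEquiv.mul_toMatrix_toPEquiv, hσ, submatrix_submatrix]
  exact submatrix_diagonal_equiv d σ

theorem sShort_conj_cSignMat (i j : Fin m) :
    sShortMat m F i j * cSignMat m F j * sShortMat m F i j = cSignMat m F i := by
  rw [cSignMat_eq, cSignMat_eq]
  unfold sShortMat
  rw [fromBlocks_multiply, fromBlocks_multiply]
  simp only [Matrix.zero_mul, Matrix.mul_zero, add_zero, zero_add]
  have hs : (Equiv.swap i j).symm = Equiv.swap i j := Equiv.symm_swap i j
  rw [perm_diag_perm _ hs, perm_diag_perm _ hs, perm_diag_perm _ hs]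
  have key : ∀ a : Fin m, (Equiv.swap i j a = j) ↔ a = i := by
    intro a
    rw [Equiv.swap_apply_eq_iff, Equiv.swap_apply_right]
  congr 1
  all_goals
    congr 1
    funext a
    simp only [Function.comp_apply]
    by_cases h : a = i
    · rw [if_pos ((key a).mpr h), if_pos h]
    · rw [if_neg (fun hh => h ((key a).mp hh)), if_neg h]

theorem sShort_conj_cSign (i j : Fin m) :
    sShort m F i j * cSign m F j * sShort m F i j = cSign m F i := by
  apply Subtype.ext
  exact sShort_conj_cSignMat i j

/-- every `cSign k` is a product of simple reflections -/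
theorem cSign_mem_closure : ∀ (n : ℕ) (k : Fin m), k.val + n + 1 = m →
    cSign m F k ∈ Subgroup.closure (Sset m F) := by
  intro n
  induction n with
  | zero =>
    intro k hk
    apply Subgroup.subset_closure
    right
    have hm : 0 < m := by omega
    refine ⟨hm, ?_⟩
    have : k = lastF hm := by
      apply Fin.ext
      show k.val = m - 1
      omega
    rw [this]
  | succ n ih =>
    intro k hk
    have hi : k.val + 1 < m := by omega
    have h1 : cSign m F (nxt k hi) ∈ Subgroup.closure (Sset m F) := by
      apply ih
      show k.val + 1 + n + 1 = m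
      omega
    have h2 : sShort m F k (nxt k hi) ∈ Subgroup.closure (Sset m F) := by
      apply Subgroup.subset_closure
      left
      exact ⟨k, hi, rfl⟩
    rw [← sShort_conj_cSign k (nxt k hi)]
    exact mul_mem (mul_mem h2 h1) h2

theorem cSign_mem_closure' (k : Fin m) : cSign m F k ∈ Subgroup.closure (Sset m F) :=
  cSign_mem_closure (m - 1 - k.val) k (by have := k.2; omega)

/-- the sign change on `S` is a product of simple reflections -/
theorem exists_cs (S : Finset (Fin m)) :
    ∃ g : SpG m F, g ∈ Subgroup.closure (Sset m F) ∧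
      (g.1 : Matrix (Fin m ⊕ Fin m) (Fin m ⊕ Fin m) F) = csMat S := by
  classical
  induction S using Finset.induction_on with
  | empty => exact ⟨1, one_mem _, csMat_empty.symm⟩
  | insert k S hk ih =>
    obtain ⟨g, hg, hgm⟩ := ih
    refine ⟨cSign m F k * g, mul_mem (cSign_mem_closure' k) hg, ?_⟩
    rw [← cSignMat_mul_csMat k S hk, ← hgm]
    rfl

/-- **LEAF C4.** -/
theorem symJ_mem_N : SymplecticGroup.symJ (Fin m) F ∈ Nsub m F := by
  obtain ⟨g, hg, hgm⟩ := exists_cs (F := F) (Finset.univ : Finset (Fin m))
  have : g = SymplecticGroup.symJ (Fin m) F := by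
    apply Subtype.ext
    rw [hgm, csMat_univ]
    rfl
  rw [← this]
  exact (le_sup_left : Subgroup.closure (Sset m F) ≤ Nsub m F) hg

end Cfsg.Agent.Lib.Helper14.StSp
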