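import Mathlib
import Cfsg.Agent.Lib.Helper40.T1904Defs
import Cfsg.Agent.Lib.Helper40.T1904Basic
import Cfsg.Agent.Lib.Helper17.Aut3Glue

/-!
# S1904, keystone K7b: the special case has order 64
-/

set_option autoImplicit false

namespace Cfsg.Agent.Lib.Helper14.T1904

open Cfsg.Agent.Lib.Helper40.T1904
open Cfsg.Agent.Lib.Helper17.Aut3
open scoped commutatorElement

universe u_1

section Generic

variable {W U : Type*} [AddCommGroup W] [AddCommGroup U] {q : W → U} {β : W → W → U}

theorem aq_β_self (h : AnisoQuad q β) (v : W) : β v v = 0 := by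
  rw [h.β_eq, h.hW, h.q_zero, zero_add, h.hU]

theorem aq_β_symm (h : AnisoQuad q β) (v v' : W) : β v v' = β v' v := by
  rw [h.β_eq, h.β_eq v' v, add_comm v v']
  abel

/-- On a space with at most four elements the polarisation takes at most one nonzero value. -/
theorem aq_small [Finite W] (h : AnisoQuad q β) (hc : Nat.card W ≤ 4) :
    ∃ c : U, ∀ v v' : W, β v v' = 0 ∨ β v v' = c := by
  classical
  by_cases h0 : ∀ v v' : W, β v v' = 0
  · exact ⟨0, fun v v' => Or.inl (h0 v v')⟩
  push Not at h0
  obtain ⟨a, b, hab⟩ := h0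
  have ha : a ≠ 0 := by
    rintro rfl; exact hab (h.β_zero_left b)
  have hb : b ≠ 0 := by
    rintro rfl; exact hab (h.β_zero_right a)
  have hne : a ≠ b := by
    rintro rfl; exact hab (aq_β_self h a)
  have hab0 : a + b ≠ 0 := by
    intro h1
    apply hne
    have h2 := h.hW b
    have : a + b = b + b := by rw [h1, h2]
    exact add_right_cancel this
  have haba : a + b ≠ a := by
    intro h1; apply hb
    have : a + b = a + 0 := by rw [h1, add_zero]
    exact add_left_cancel this
  have habb : a + b ≠ b := by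
    intro h1; apply ha
    have : a + b = 0 + b := by rw [h1, zero_add]
    exact add_right_cancel this
  have : Fintype W := Fintype.ofFinite W
  have hT : ({0, a, b, a + b} : Finset W).card = 4 := by
    rw [Finset.card_insert_of_notMem, Finset.card_insert_of_notMem, Finset.card_insert_of_notMem,
      Finset.card_singleton]
    · simp only [Finset.mem_singleton]; exact fun hh => habb hh.symm
    · simp only [Finset.mem_insert, Finset.mem_singleton, not_or]
      exact ⟨hne, fun hh => haba hh.symm⟩
    · simp only [Finset.mem_insert, Finset.mem_singleton, not_or]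
      exact ⟨ha.symm, hb.symm, hab0.symm⟩
  have hTuniv : ({0, a, b, a + b} : Finset W) = Finset.univ := by
    apply Finset.eq_univ_of_card
    rw [hT]
    apply le_antisymm
    · rw [← hT]; exact Finset.card_le_univ _
    · rw [← Nat.card_eq_fintype_card]; exact hc
  have hall : ∀ v : W, v = 0 ∨ v = a ∨ v = b ∨ v = a + b := by
    intro v
    have hv : v ∈ ({0, a, b, a + b} : Finset W) := by rw [hTuniv]; exact Finset.mem_univ _
    simpa only [Finset.mem_insert, Finset.mem_singleton] using hv
  refine ⟨β a b, fun v v' => ?_⟩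
  have hba : β b a = β a b := aq_β_symm h b a
  have haa := aq_β_self h a
  have hbb := aq_β_self h b
  rcases hall v with rfl | rfl | rfl | rfl <;> rcases hall v' with rfl | rfl | rfl | rfl <;>
    simp only [h.β_zero_left, h.β_zero_right, h.hβl, h.hβr, haa, hbb, hba, add_zero, zero_add,
      h.hU, true_or, or_true]

end Generic

section PowFix

variable {X : Type u_1} [Group X]

theorem pow_fix_of_fix (ψ : MulAut X) (z : X) (hz : ψ z = z) (m : ℕ) : (ψ ^ m) z = z := by
  induction m with
  | zero => rfl
  | succ m ih => rw [pow_succ, MulAut.mul_apply, hz, ih]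

/-- Every automorphism acts on a centre of order four with order dividing six. -/
theorem pow_six_fix_center [Finite X] (hZ : Nat.card (Subgroup.center X) = 4) (φ : MulAut X)
    (z : X) (hz : z ∈ Subgroup.center X) : (φ ^ 6) z = z := by
  classical
  by_cases hz1 : z = 1
  · rw [hz1, map_one]
  have : Fintype (Subgroup.center X) := Fintype.ofFinite _
  let f : ℕ → Subgroup.center X := fun i => ⟨(φ ^ i) z, center_invariant (φ ^ i) z hz⟩
  have hf1 : ∀ i, f i ≠ 1 := by
    intro i hi
    have h1 : (φ ^ i) z = 1 := congrArg Subtype.val hi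
    exact hz1 ((map_eq_one_iff (φ ^ i) (φ ^ i).injective).mp h1)
  have hcard : (Finset.univ.erase (1 : Subgroup.center X)).card < (Finset.range 4).card := by
    rw [Finset.card_erase_of_mem (Finset.mem_univ _), Finset.card_univ, Finset.card_range,
      ← Nat.card_eq_fintype_card, hZ]
    norm_num
  obtain ⟨i, hi, j, hj, hij, hfij⟩ := Finset.exists_ne_map_eq_of_card_lt_of_maps_to hcard
    (f := f) (fun i _ => Finset.mem_erase.mpr ⟨hf1 i, Finset.mem_univ _⟩)
  have key : ∀ i j : ℕ, i < j → j < 4 → (φ ^ i) z = (φ ^ j) z → (φ ^ 6) z = z := by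
    intro i j hij hj4 he
    obtain ⟨k, rfl⟩ := Nat.exists_eq_add_of_lt hij
    have hk : (φ ^ (k + 1)) z = z := by
      have h2 : (φ ^ (i + k + 1)) z = (φ ^ i) ((φ ^ (k + 1)) z) := by
        rw [show i + k + 1 = i + (k + 1) by ring, pow_add, MulAut.mul_apply]
      rw [h2] at he
      exact ((φ ^ i).injective he).symm
    have hk3 : k + 1 = 1 ∨ k + 1 = 2 ∨ k + 1 = 3 := by omega
    rcases hk3 with h1 | h1 | h1
    · rw [h1] at hk
      have := pow_fix_of_fix (φ ^ 1) z hk 6
      rwa [← pow_mul] at this
    · rw [h1] at hk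
      have := pow_fix_of_fix (φ ^ 2) z hk 3
      rwa [← pow_mul] at this
    · rw [h1] at hk
      have := pow_fix_of_fix (φ ^ 3) z hk 2
      rwa [← pow_mul] at this
  rw [Finset.mem_range] at hi hj
  have hfij' : (φ ^ i) z = (φ ^ j) z := congrArg Subtype.val hfij
  rcases Nat.lt_or_gt_of_ne hij with hlt | hlt
  · exact key i j hlt hj hfij'
  · exact key j i hlt hi hfij'.symm

end PowFix

section Main

variable {X : Type u_1} [Group X]

attribute [local instance] Cfsg.Agent.Lib.Helper17.Aut3.quotCenterCommGroup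

open Subgroup
open scoped IsMulCommutative

/-- The automorphisms of `X ⧸ Z(X)` preserving the squaring map. -/
def isoSub (hsq : ∀ x : X, x * x ∈ center X) : Subgroup (MulAut (X ⧸ center X)) where
  carrier := {e | ∀ w, qMul hsq (e w) = qMul hsq w}
  mul_mem' := by
    intro a b ha hb w
    rw [MulAut.mul_apply, ha, hb]
  one_mem' := fun w => rfl
  inv_mem' := by
    intro e he w
    have := he (e⁻¹ w)
    rw [MulAut.apply_inv_self] at this
    exact this.symm

theorem isoAct_isoSub (hsq : ∀ x : X, x * x ∈ center X)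
    [hc : Fact (∀ x y : X, x * y * x⁻¹ * y⁻¹ ∈ center X)] :
    IsoAct (qAdd hsq) (fun (g : isoSub hsq) (w : Additive (X ⧸ center X)) =>
      Additive.ofMul (g.1 (Additive.toMul w))) where
  one := fun w => rfl
  mul := fun g g' w => rfl
  add := fun g w w' => congrArg Additive.ofMul (map_mul g.1 (Additive.toMul w) (Additive.toMul w'))
  pres := fun g w => congrArg Additive.ofMul (g.2 (Additive.toMul w))
  faith := by
    intro g hg
    apply Subtype.ext
    apply MulEquiv.ext
    intro w
    exact congrArg Additive.toMul (hg (Additive.ofMul w))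

/-- An automorphism fixing the centre pointwise induces an isometry. -/
theorem quotAut_mem_isoSub (hsq : ∀ x : X, x * x ∈ center X) (ψ : MulAut X)
    (hψ : ∀ z ∈ center X, ψ z = z) :
    quotAut (center X) center_invariant ψ ∈ isoSub hsq := by
  intro w
  induction w using QuotientGroup.induction_on with
  | H x =>
    rw [quotAut_mk, qMul_mk, qMul_mk]
    unfold qRep
    congr 1
    apply Subtype.ext
    show ψ x * ψ x = x * x
    rw [← map_mul, hψ _ (hsq x)]

/-- The case `|X ⧸ Z(X)| ≤ 4` is impossible. -/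
theorem not_card_le_four [Finite X] (hea : EAmodZ X)
    (hZ2 : ∀ z ∈ center X, z * z = 1) (hZ : Nat.card (center X) = 4)
    (hinv : ∀ x : X, x * x = 1 → x ∈ center X)
    (hcomm : commutator X = center X) (h4 : Nat.card (X ⧸ center X) ≤ 4) : False := by
  classical
  have hsq := hea.1
  have hc : Fact (∀ x y : X, x * y * x⁻¹ * y⁻¹ ∈ center X) := ⟨fun x y => by
    have := hea.2 x y; rwa [commutatorElement_def] at this⟩
  have aq := anisoQuad hsq hinv
  have h4' : Nat.card (Additive (X ⧸ center X)) ≤ 4 := h4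
  have hfinW : Finite (Additive (X ⧸ center X)) := inferInstanceAs (Finite (X ⧸ center X))
  obtain ⟨c, hcβ⟩ := aq_small aq h4'
  have hinj : ∀ z z' : center X,
      (QuotientGroup.mk z : center X ⧸ sqZ X) = QuotientGroup.mk z' → z = z' := by
    intro z z' hzz
    rw [QuotientGroup.eq, mem_sqZ] at hzz
    obtain ⟨y, hy⟩ := hzz
    have hy1 : y ^ 2 = 1 := by
      apply Subtype.ext
      rw [pow_two]
      exact hZ2 y.1 y.2
    rw [hy1] at hy
    exact inv_mul_eq_one.mp hy.symm
  obtain ⟨c'', hc''⟩ := QuotientGroup.mk_surjective (Additive.toMul c)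
  have hcomm2 : ∀ a b : X, ⁅a, b⁆ = 1 ∨ ⁅a, b⁆ = (c'' : X) := by
    intro a b
    have h1 : ⁅a, b⁆ = ((cRep b⁻¹ a⁻¹ : center X) : X) := by
      rw [commutatorElement_def]
      show _ = a⁻¹⁻¹ * b⁻¹⁻¹ * a⁻¹ * b⁻¹
      group
    have h2 := bMul_mk hsq b⁻¹ a⁻¹
    rcases hcβ (Additive.ofMul (QuotientGroup.mk b⁻¹)) (Additive.ofMul (QuotientGroup.mk a⁻¹))
      with h3 | h3
    · left
      have h4 : bMul hsq (QuotientGroup.mk b⁻¹) (QuotientGroup.mk a⁻¹) = 1 :=
        congrArg Additive.toMul h3
      rw [h2] at h4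
      have := hinj _ 1 h4
      rw [h1, this]
      rfl
    · right
      have h4 : bMul hsq (QuotientGroup.mk b⁻¹) (QuotientGroup.mk a⁻¹) = Additive.toMul c :=
        congrArg Additive.toMul h3
      rw [h2, ← hc''] at h4
      rw [h1, hinj _ _ h4]
  have hle : commutator X ≤ Subgroup.zpowers (c'' : X) := by
    rw [commutator_eq_closure, Subgroup.closure_le]
    rintro g ⟨a, b, rfl⟩
    rcases hcomm2 a b with h | h
    · rw [h]; exact one_mem _
    · rw [h]; exact Subgroup.mem_zpowers _
  have h5 : Nat.card (commutator X) ≤ 2 := by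
    refine (Subgroup.card_le_of_le hle).trans ?_
    rw [Nat.card_zpowers]
    apply orderOf_le_of_pow_eq_one (by norm_num)
    rw [pow_two]
    exact hZ2 _ c''.2
  rw [hcomm, hZ] at h5
  omega

/-- The case `|X ⧸ Z(X)| = 8` is impossible. -/
theorem not_card_eq_eight [Finite X] {A : Subgroup (MulAut X)} (h : Ctx X A) (hea : EAmodZ X)
    (hZ : Nat.card (center X) = 4) (hinv : ∀ x : X, x * x = 1 → x ∈ center X)
    (h8 : Nat.card (X ⧸ center X) = 8) : False := by
  classical
  have hsq := hea.1
  have hc : Fact (∀ x y : X, x * y * x⁻¹ * y⁻¹ ∈ center X) := ⟨fun x y => by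
    have := hea.2 x y; rwa [commutatorElement_def] at this⟩
  have aq := anisoQuad hsq hinv
  have hfinW : Finite (Additive (X ⧸ center X)) := inferInstanceAs (Finite (X ⧸ center X))
  set T := quotAut (center X) center_invariant with hT
  set B : Subgroup (MulAut (X ⧸ center X)) := A.map T with hB
  have hfinM : Finite (MulAut (X ⧸ center X)) :=
    Finite.of_injective (fun e => (e : X ⧸ center X → X ⧸ center X)) DFunLike.coe_injective
  have hBodd : Odd (Nat.card B) := Odd.of_dvd_nat h.hodd (Subgroup.card_map_dvd A T)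
  have hfpf : ∀ w : X ⧸ center X, (∀ g ∈ B, g w = w) → w = 1 := by
    intro w hw
    induction w using QuotientGroup.induction_on with
    | H x =>
      rw [QuotientGroup.eq_one_iff]
      apply fix_quot h (center X) inferInstance (fun φ _ n hn => center_invariant φ n hn) hea.2 x
      intro φ hφ
      have := hw (T φ) (Subgroup.mem_map_of_mem T hφ)
      rw [hT, quotAut_mk] at this
      exact QuotientGroup.eq.mp this.symm
  have hprime : ∀ r : ℕ, r.Prime → r ∣ Nat.card B → r = 3 := by
    intro r hr hdvd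
    have := Fact.mk hr
    obtain ⟨g, hg⟩ := exists_prime_orderOf_dvd_card' r hdvd
    by_contra hr3
    have hr2 : r ≠ 2 := by
      rintro rfl
      exact (Nat.not_even_iff_odd.mpr hBodd) (even_iff_two_dvd.mpr hdvd)
    obtain ⟨φ, hφA, hφg⟩ := g.2
    have hψ : ∀ z ∈ center X, (φ ^ 6) z = z := fun z hz => pow_six_fix_center hZ φ z hz
    have hmem : g.1 ^ 6 ∈ isoSub hsq := by
      rw [← hφg, ← map_pow]
      exact quotAut_mem_isoSub hsq (φ ^ 6) hψ
    let γ : isoSub hsq := ⟨g.1 ^ 6, hmem⟩
    have hγ : orderOf γ = r := by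
      have h1 : orderOf γ = orderOf (g.1 ^ 6) := (Subgroup.orderOf_coe γ).symm
      have h2 : orderOf (g.1 ^ 6) = orderOf (g ^ 6) := by
        rw [← Subgroup.orderOf_coe]
        rfl
      rw [h1, h2]
      have hcop : (orderOf g).Coprime 6 := by
        rw [hg]
        have : (6 : ℕ) = 2 * 3 := by norm_num
        rw [this]
        exact Nat.Coprime.mul_right ((Nat.coprime_primes hr Nat.prime_two).mpr hr2)
          ((Nat.coprime_primes hr Nat.prime_three).mpr hr3)
      rw [hcop.orderOf_pow, hg]
    have hc16 : Nat.card (Additive (X ⧸ center X)) ≤ 16 := by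
      show Nat.card (X ⧸ center X) ≤ 16
      omega
    rcases prime_cases aq hc16 (isoAct_isoSub hsq) γ r hr hγ with h2 | h3 | ⟨_, h16⟩
    · exact hr2 h2
    · exact hr3 h3
    · have : Nat.card (X ⧸ center X) = 16 := h16
      omega
  have hB3 : IsPGroup 3 B := by
    have hn0 : Nat.card B ≠ 0 := Nat.card_pos.ne'
    have := Nat.eq_prime_pow_of_unique_prime_dvd hn0 (p := 3) (fun {d} hd hdvd => hprime d hd hdvd)
    exact IsPGroup.of_card this
  have : Fact (Nat.Prime 3) := ⟨Nat.prime_three⟩
  have hmod := hB3.card_modEq_card_fixedPoints (X ⧸ center X)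
  have hfix1 : Nat.card (MulAction.fixedPoints B (X ⧸ center X)) = 1 := by
    rw [Nat.card_eq_one_iff_unique]
    constructor
    · constructor
      intro a b
      apply Subtype.ext
      have ha : a.1 = 1 := hfpf a.1 (fun g hg => a.2 ⟨g, hg⟩)
      have hb : b.1 = 1 := hfpf b.1 (fun g hg => b.2 ⟨g, hg⟩)
      rw [ha, hb]
    · exact ⟨⟨1, fun g => map_one g.1⟩⟩
  rw [h8, hfix1] at hmod
  exact absurd hmod (by decide)

/-- **K-S1904-7b.**  The special case has order 64. -/
theorem card_eq_64 [Finite X] {A : Subgroup (MulAut X)} (h : Ctx X A) (hea : EAmodZ X)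
    (hZ2 : ∀ z ∈ Subgroup.center X, z * z = 1) (hZ : Nat.card (Subgroup.center X) = 4)
    (hinv : ∀ x : X, x * x = 1 → x ∈ Subgroup.center X)
    (hcomm : commutator X = Subgroup.center X) : Nat.card X = 64 := by
  classical
  have hsq := hea.1
  have hc : Fact (∀ x y : X, x * y * x⁻¹ * y⁻¹ ∈ center X) := ⟨fun x y => by
    have := hea.2 x y; rwa [commutatorElement_def] at this⟩
  have aq := anisoQuad hsq hinv
  have hfinW : Finite (Additive (X ⧸ center X)) := inferInstanceAs (Finite (X ⧸ center X))
  have hfinU : Finite (Additive (center X ⧸ sqZ X)) :=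
    inferInstanceAs (Finite (center X ⧸ sqZ X))
  have hU : Nat.card (Additive (center X ⧸ sqZ X)) ≤ 4 := by
    show Nat.card (center X ⧸ sqZ X) ≤ 4
    rw [← hZ]
    exact Nat.le_of_dvd Nat.card_pos (Subgroup.card_quotient_dvd_card _)
  have hWU := Cfsg.Agent.Lib.Helper19.Hig.card_le_sq_of_anisotropic aq.hW aq.hU _ _ aq.hq aq.hβl
    aq.hβr aq.aniso
  have h16 : Nat.card (X ⧸ center X) ≤ 16 := by
    have : Nat.card (Additive (X ⧸ center X)) ≤ 16 := by nlinarith
    exact this
  obtain ⟨d, hd⟩ := exists_card_eq_two_pow aq.hW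
  have hd' : Nat.card (X ⧸ center X) = 2 ^ d := hd
  have hd4 : d ≤ 4 := by
    rw [hd'] at h16
    have : 2 ^ d ≤ 2 ^ 4 := by simpa using h16
    exact (Nat.pow_le_pow_iff_right (by norm_num)).mp this
  have hXcard := Subgroup.card_eq_card_quotient_mul_card_subgroup (center X)
  interval_cases d
  · exact (not_card_le_four hea hZ2 hZ hinv hcomm (by rw [hd']; norm_num)).elim
  · exact (not_card_le_four hea hZ2 hZ hinv hcomm (by rw [hd']; norm_num)).elim
  · exact (not_card_le_four hea hZ2 hZ hinv hcomm (by rw [hd']; norm_num)).elim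
  · exact (not_card_eq_eight h hea hZ hinv (by rw [hd']; norm_num)).elim
  · rw [hXcard, hd', hZ]
    norm_num

end Main

end Cfsg.Agent.Lib.Helper14.T1904
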