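import Mathlib

/-!
K-TW-D4 (for helper76): number of fixed points of the twisted Frobenius on the torus of `³D₄`.
-/

set_option autoImplicit false

namespace Cfsg.Agent.Lib.Helper14.TwCount

/-- `γ ^ q = γ ↔ γ ^ (q - 1) = 1` in a group, `q ≥ 1` -/
theorem pow_eq_self_iff {Γ : Type*} [Group Γ] (γ : Γ) {q : ℕ} (hq : 1 ≤ q) :
    γ ^ q = γ ↔ γ ^ (q - 1) = 1 := by
  obtain ⟨k, rfl⟩ : ∃ k, q = k + 1 := ⟨q - 1, by omega⟩
  rw [Nat.add_sub_cancel, pow_succ]
  exact mul_eq_right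

/-- the number of `γ : Kˣ` with `γ ^ q = γ`, when `q - 1 ∣ |K| - 1` -/
theorem card_pow_eq_self {K : Type*} [Field K] [Fintype K] (q : ℕ) (hq : 1 ≤ q)
    (hdvd : (q - 1) ∣ (Fintype.card K - 1)) :
    Nat.card {γ : Kˣ // γ ^ q = γ} = q - 1 := by
  have h1 : Nat.card {γ : Kˣ // γ ^ q = γ} = Nat.card (powMonoidHom (q - 1) : Kˣ →* Kˣ).ker := by
    apply Nat.card_congr
    exact Equiv.subtypeEquivRight (fun γ => by
      rw [MonoidHom.mem_ker, powMonoidHom_apply]
      exact pow_eq_self_iff γ hq)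
  rw [h1, IsCyclic.card_powMonoidHom_ker, Nat.card_units, Nat.card_eq_fintype_card]
  exact Nat.gcd_eq_right hdvd

theorem units_pow_card {K : Type*} [Field K] [Fintype K] (b : Kˣ) :
    b ^ Fintype.card K = b := by
  apply Units.ext
  rw [Units.val_pow_eq_pow_val]
  exact FiniteField.pow_card _

theorem card_fix_D4 {K : Type*} [Field K] [Fintype K] (q : ℕ) (hK : Fintype.card K = q ^ 3) :
    Nat.card {c : Fin 4 → Kˣ // c 3 ^ q = c 0 ∧ c 1 ^ q = c 1 ∧ c 0 ^ q = c 2 ∧ c 2 ^ q = c 3} =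
      (q - 1) * (q ^ 3 - 1) := by
  have hq : 2 ≤ q := by
    have h2 : 1 < Fintype.card K := Fintype.one_lt_card
    rw [hK] at h2
    by_contra hlt
    have : q = 0 ∨ q = 1 := by omega
    rcases this with rfl | rfl <;> simp at h2
  have hpow : ∀ b : Kˣ, b ^ (q ^ 3) = b := fun b => by rw [← hK]; exact units_pow_card b
  have hdvd : (q - 1) ∣ (Fintype.card K - 1) := by
    rw [hK]
    have := Nat.sub_dvd_pow_sub_pow q 1 3
    simpa using this
  let e : {c : Fin 4 → Kˣ // c 3 ^ q = c 0 ∧ c 1 ^ q = c 1 ∧ c 0 ^ q = c 2 ∧ c 2 ^ q = c 3} ≃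
      {γ : Kˣ // γ ^ q = γ} × Kˣ :=
    { toFun := fun c => (⟨c.1 1, c.2.2.1⟩, c.1 0)
      invFun := fun ab => ⟨![ab.2, ab.1.1, ab.2 ^ q, ab.2 ^ (q ^ 2)], by
        refine ⟨?_, ?_, ?_, ?_⟩
        · show (ab.2 ^ (q ^ 2)) ^ q = ab.2
          rw [← pow_mul, ← pow_succ]
          exact hpow ab.2
        · exact ab.1.2
        · rfl
        · show (ab.2 ^ q) ^ q = ab.2 ^ (q ^ 2)
          rw [← pow_mul, pow_two]⟩
      left_inv := by
        rintro ⟨c, h3, h1, h0, h2⟩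
        apply Subtype.ext
        funext i
        fin_cases i
        · rfl
        · rfl
        · exact h0
        · show c 0 ^ (q ^ 2) = c 3
          rw [pow_two, pow_mul, h0, h2]
      right_inv := by
        rintro ⟨⟨a, ha⟩, b⟩
        rfl }
  rw [Nat.card_congr e, Nat.card_prod, card_pow_eq_self q (by omega) hdvd,
    Nat.card_units, Nat.card_eq_fintype_card, hK]

end Cfsg.Agent.Lib.Helper14.TwCount
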