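import Mathlib
import Cfsg.Agent.Lib.Helper14.TwCountD4

/-!
K-TW-E6 (for helper76): number of fixed points of the twisted Frobenius on the torus of `²E₆`.
-/

set_option autoImplicit false

namespace Cfsg.Agent.Lib.Helper14.TwCount

theorem card_fix_E6 {K : Type*} [Field K] [Fintype K] (q : ℕ) (hK : Fintype.card K = q ^ 2) :
    Nat.card {c : Fin 6 → Kˣ // c 5 ^ q = c 0 ∧ c 1 ^ q = c 1 ∧ c 4 ^ q = c 2 ∧ c 3 ^ q = c 3 ∧
        c 2 ^ q = c 4 ∧ c 0 ^ q = c 5} = (q - 1) ^ 2 * (q ^ 2 - 1) ^ 2 := by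
  have hq : 2 ≤ q := by
    have h2 : 1 < Fintype.card K := Fintype.one_lt_card
    rw [hK] at h2
    by_contra hlt
    have : q = 0 ∨ q = 1 := by omega
    rcases this with rfl | rfl <;> simp at h2
  have hpow : ∀ b : Kˣ, b ^ (q ^ 2) = b := fun b => by rw [← hK]; exact units_pow_card b
  have hpow' : ∀ b : Kˣ, (b ^ q) ^ q = b := fun b => by rw [← pow_mul, ← pow_two]; exact hpow b
  have hdvd : (q - 1) ∣ (Fintype.card K - 1) := by
    rw [hK]
    have := Nat.sub_dvd_pow_sub_pow q 1 2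
    simpa using this
  let e : {c : Fin 6 → Kˣ // c 5 ^ q = c 0 ∧ c 1 ^ q = c 1 ∧ c 4 ^ q = c 2 ∧ c 3 ^ q = c 3 ∧
        c 2 ^ q = c 4 ∧ c 0 ^ q = c 5} ≃
      ({γ : Kˣ // γ ^ q = γ} × {γ : Kˣ // γ ^ q = γ}) × (Kˣ × Kˣ) :=
    { toFun := fun c => ((⟨c.1 1, c.2.2.1⟩, ⟨c.1 3, c.2.2.2.2.1⟩), (c.1 0, c.1 2))
      invFun := fun ab => ⟨![ab.2.1, ab.1.1.1, ab.2.2, ab.1.2.1, ab.2.2 ^ q, ab.2.1 ^ q], by
        refine ⟨?_, ?_, ?_, ?_, ?_, ?_⟩
        · exact hpow' ab.2.1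
        · exact ab.1.1.2
        · exact hpow' ab.2.2
        · exact ab.1.2.2
        · rfl
        · rfl⟩
      left_inv := by
        rintro ⟨c, h5, h1, h4, h3, h2, h0⟩
        apply Subtype.ext
        funext i
        fin_cases i
        · rfl
        · rfl
        · rfl
        · rfl
        · exact h2
        · exact h0
      right_inv := by
        rintro ⟨⟨⟨a1, ha1⟩, ⟨a3, ha3⟩⟩, ⟨b0, b2⟩⟩
        rfl }
  rw [Nat.card_congr e, Nat.card_prod, Nat.card_prod, Nat.card_prod,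
    card_pow_eq_self q (by omega) hdvd, Nat.card_units, Nat.card_eq_fintype_card, hK]
  ring

end Cfsg.Agent.Lib.Helper14.TwCount
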