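import Mathlib
import Cfsg.Agent.Lib.Helper73.UCDefs

/-!
# K-UC-K7 (keystone 264608, row S2646, architect helper73): `M ↦ hadj g * M * g` is a bijection
`FormsSA φ N' → FormsSA φ N` when `g * N = N' * g`, `g` invertible.
-/

set_option autoImplicit false
set_option linter.unusedSectionVars false

namespace Cfsg.Agent.Lib.Helper14.UC

open Matrix Cfsg.Agent.Lib.Helper73.UC

variable {K : Type*} [Field K] {ι : Type*} [Fintype ι] [DecidableEq ι]

theorem hadj_mul (φ : K →+* K) (A B : Matrix ι ι K) : hadj φ (A * B) = hadj φ B * hadj φ A := by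
  unfold hadj
  rw [Matrix.map_mul, Matrix.transpose_mul]

theorem hadj_hadj (φ : K →+* K) (hφφ : ∀ x, φ (φ x) = x) (A : Matrix ι ι K) :
    hadj φ (hadj φ A) = A := by
  unfold hadj
  ext i j
  simp [hφφ]

theorem det_hadj (φ : K →+* K) (A : Matrix ι ι K) : (hadj φ A).det = φ A.det := by
  unfold hadj
  rw [Matrix.det_transpose, RingHom.map_det, RingHom.mapMatrix_apply]

/-- the map `M ↦ hadj g * M * g` sends `FormsSA φ N'` into `FormsSA φ N` -/
theorem conj_mem_formsSA (φ : K →+* K) (hφφ : ∀ x, φ (φ x) = x) (N N' g : Matrix ι ι K)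
    (hg : IsUnit g.det) (h : g * N = N' * g) (M : Matrix ι ι K) (hM : M ∈ FormsSA φ N') :
    hadj φ g * M * g ∈ FormsSA φ N := by
  obtain ⟨h1, h2, h3⟩ := hM
  refine ⟨?_, ?_, ?_⟩
  · rw [hadj_mul, hadj_mul, hadj_hadj φ hφφ, h1, Matrix.mul_assoc]
  · rw [Matrix.det_mul, Matrix.det_mul, det_hadj]
    exact ((hg.map φ).mul h2).mul hg
  · calc hadj φ N * (hadj φ g * M * g) = hadj φ (g * N) * M * g := by
          rw [hadj_mul]; simp only [Matrix.mul_assoc]
      _ = hadj φ (N' * g) * M * g := by rw [h]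
      _ = hadj φ g * (hadj φ N' * M) * g := by
          rw [hadj_mul]; simp only [Matrix.mul_assoc]
      _ = hadj φ g * (M * N') * g := by rw [h3]
      _ = hadj φ g * M * (N' * g) := by simp only [Matrix.mul_assoc]
      _ = hadj φ g * M * (g * N) := by rw [h]
      _ = hadj φ g * M * g * N := by simp only [Matrix.mul_assoc]

/-- **LEAF K7.** -/
theorem card_formsSA_of_conj {ι : Type*} [Fintype ι] [DecidableEq ι] (φ : K →+* K)
    (hφφ : ∀ x, φ (φ x) = x) (N N' g : Matrix ι ι K) (hg : IsUnit g.det) (h : g * N = N' * g) :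
    Nat.card (FormsSA φ N') = Nat.card (FormsSA φ N) := by
  have hgi : IsUnit (g⁻¹).det := by
    rw [Matrix.det_nonsing_inv]
    exact (Ring.inverse_unit hg.unit ▸ hg.unit⁻¹.isUnit : IsUnit (Ring.inverse g.det))
  have h1 : g⁻¹ * g = 1 := Matrix.nonsing_inv_mul g hg
  have h2 : g * g⁻¹ = 1 := Matrix.mul_nonsing_inv g hg
  have hi : g⁻¹ * N' = N * g⁻¹ := by
    calc g⁻¹ * N' = g⁻¹ * N' * (g * g⁻¹) := by rw [h2, Matrix.mul_one]
      _ = g⁻¹ * (N' * g) * g⁻¹ := by simp only [Matrix.mul_assoc]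
      _ = g⁻¹ * (g * N) * g⁻¹ := by rw [h]
      _ = (g⁻¹ * g) * N * g⁻¹ := by simp only [Matrix.mul_assoc]
      _ = N * g⁻¹ := by rw [h1, Matrix.one_mul]
  have e1 : hadj φ g⁻¹ * hadj φ g = 1 := by
    rw [← hadj_mul, h2]
    unfold hadj
    ext i j
    simp [Matrix.one_apply, eq_comm]
  have e2 : hadj φ g * hadj φ g⁻¹ = 1 := by
    rw [← hadj_mul, h1]
    unfold hadj
    ext i j
    simp [Matrix.one_apply, eq_comm]
  refine Nat.card_congr
    { toFun := fun M => ⟨hadj φ g * M.1 * g, conj_mem_formsSA φ hφφ N N' g hg h M.1 M.2⟩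
      invFun := fun M => ⟨hadj φ g⁻¹ * M.1 * g⁻¹, conj_mem_formsSA φ hφφ N' N g⁻¹ hgi hi M.1 M.2⟩
      left_inv := ?_
      right_inv := ?_ }
  · intro M
    apply Subtype.ext
    show hadj φ g⁻¹ * (hadj φ g * M.1 * g) * g⁻¹ = M.1
    calc hadj φ g⁻¹ * (hadj φ g * M.1 * g) * g⁻¹
        = (hadj φ g⁻¹ * hadj φ g) * M.1 * (g * g⁻¹) := by simp only [Matrix.mul_assoc]
      _ = M.1 := by rw [e1, h2, Matrix.one_mul, Matrix.mul_one]
  · intro M
    apply Subtype.ext
    show hadj φ g * (hadj φ g⁻¹ * M.1 * g⁻¹) * g = M.1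
    calc hadj φ g * (hadj φ g⁻¹ * M.1 * g⁻¹) * g
        = (hadj φ g * hadj φ g⁻¹) * M.1 * (g⁻¹ * g) := by simp only [Matrix.mul_assoc]
      _ = M.1 := by rw [e2, h1, Matrix.one_mul, Matrix.mul_one]

end Cfsg.Agent.Lib.Helper14.UC
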