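import Mathlib.GroupTheory.Sylow
import Mathlib.GroupTheory.Perm.Basic
import Mathlib.GroupTheory.GroupAction.Quotient
import Mathlib.Data.Finite.Perm
import Mathlib.NumberTheory.Padics.PadicVal.Basic
import Mathlib.GroupTheory.SpecificGroups.Cyclic
import Cfsg.Agent.Lib.Helper14.EngelSum
import Cfsg.Agent.Lib.Helper14.HWControl

/-!
# Yoshida's theorem: failure of transfer control by `N_G(S)` gives `Z_p ≀ Z_p` as an image of `S`
-/

set_option autoImplicit false
set_option linter.unusedSectionVars false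
set_option linter.style.haveILetI false

universe u

namespace Cfsg.Agent.Lib.Helper14

open Subgroup

section Perm

variable {T : Type*} [Group T] [Finite T] {p : ℕ} [Fact p.Prime]

theorem factorization_factorial_sq : (Nat.factorial (p ^ 2)).factorization p = p + 1 := by
  have hp : p.Prime := Fact.out
  rw [Nat.factorization_def _ hp, pow_two, padicValNat_factorial_mul]
  have h1 : padicValNat p (Nat.factorial p) = 1 := by
    have := padicValNat_factorial_mul (p := p) 1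
    rw [mul_one] at this
    rw [this, Nat.factorial_one, padicValNat_one_right]
  rw [h1, add_comm]

/-- a `p`-group acting on `p²` cosets with kernel of index divisible by `p ^ (p + 1)` maps onto a
Sylow `p`-subgroup of the symmetric group of degree `p²` -/
theorem exists_surjective_sylow_perm (hT : IsPGroup p T) (K : Subgroup T)
    (hK : K.index = p ^ 2) (hcore : p ^ (p + 1) ∣ K.normalCore.index) :
    ∃ (P : Sylow p (Equiv.Perm (Fin (p ^ 2))))
      (f : T →* ↥(P : Subgroup (Equiv.Perm (Fin (p ^ 2))))), Function.Surjective f := by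
  classical
  have hcard : Nat.card (T ⧸ K) = p ^ 2 := by rw [← hK, Subgroup.index_eq_card]
  let e : T ⧸ K ≃ Fin (p ^ 2) := Finite.equivFinOfCardEq hcard
  let ρ : T →* Equiv.Perm (Fin (p ^ 2)) :=
    (e.permCongrHom).toMonoidHom.comp (MulAction.toPermHom T (T ⧸ K))
  have hker : ρ.ker = K.normalCore := by
    rw [Subgroup.normalCore_eq_ker]
    ext t
    rw [MonoidHom.mem_ker, MonoidHom.mem_ker]
    show e.permCongrHom (MulAction.toPermHom T (T ⧸ K) t) = 1 ↔ _
    rw [MulEquiv.map_eq_one_iff]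
  have hrange : Nat.card ρ.range = K.normalCore.index := by rw [← hker, Subgroup.index_ker]
  have hp : IsPGroup p ρ.range := by
    rw [MonoidHom.range_eq_map]
    exact (hT.to_subgroup ⊤).map ρ
  obtain ⟨P, hP⟩ := hp.exists_le_sylow
  have hPcard : Nat.card (P : Subgroup (Equiv.Perm (Fin (p ^ 2)))) = p ^ (p + 1) := by
    rw [Sylow.card_eq_multiplicity, Nat.card_perm, Nat.card_eq_fintype_card, Fintype.card_fin,
      factorization_factorial_sq]
  have heq : ρ.range = (P : Subgroup (Equiv.Perm (Fin (p ^ 2)))) := by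
    apply Subgroup.eq_of_le_of_card_ge hP
    rw [hPcard, hrange]
    exact Nat.le_of_dvd (Nat.pos_of_ne_zero (Subgroup.index_ne_zero_of_finite)) hcore
  refine ⟨P, ρ.codRestrict (P : Subgroup (Equiv.Perm (Fin (p ^ 2))))
    (fun t => hP ⟨t, rfl⟩), ?_⟩
  rintro ⟨q, hq⟩
  rw [← heq] at hq
  obtain ⟨t, rfl⟩ := hq
  exact ⟨t, Subtype.ext rfl⟩

end Perm

section Wreath

variable {T : Type*} [Group T] [Finite T] {p : ℕ} [Fact p.Prime] {A : Type*} [CommGroup A]

theorem comm_mem (S₀ : Subgroup T) [hn : S₀.Normal] (z : T) {y : T} (hy : y ∈ S₀) :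
    y⁻¹ * z⁻¹ * y * z ∈ S₀ := iterate_comm_mem S₀ z hy 1

/-- `y ↦ μ [y, z]` is again a homomorphism -/
def commHom (S₀ : Subgroup T) [hn : S₀.Normal] (μ : S₀ →* A) (z : T) : S₀ →* A where
  toFun y := μ ⟨(y : T)⁻¹ * z⁻¹ * (y : T) * z, comm_mem S₀ z y.2⟩
  map_one' := by
    have : (⟨((1 : S₀) : T)⁻¹ * z⁻¹ * ((1 : S₀) : T) * z, comm_mem S₀ z (1 : S₀).2⟩ : S₀) = 1 := by
      apply Subtype.ext; simp
    rw [this, map_one]
  map_mul' a b := by
    have : (⟨((a * b : S₀) : T)⁻¹ * z⁻¹ * ((a * b : S₀) : T) * z,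
        comm_mem S₀ z (a * b).2⟩ : S₀) =
        b⁻¹ * ⟨(a : T)⁻¹ * z⁻¹ * (a : T) * z, comm_mem S₀ z a.2⟩ * b *
          ⟨(b : T)⁻¹ * z⁻¹ * (b : T) * z, comm_mem S₀ z b.2⟩ := by
      apply Subtype.ext
      simp only [Subgroup.coe_mul, Subgroup.coe_inv]
      group
    rw [this, map_mul, map_mul, map_mul, map_inv]
    rw [mul_comm (μ b)⁻¹, inv_mul_cancel_right]

theorem commHom_apply (S₀ : Subgroup T) [hn : S₀.Normal] (μ : S₀ →* A) (z : T) (y : S₀) :
    commHom S₀ μ z y = μ ⟨(y : T)⁻¹ * z⁻¹ * (y : T) * z, comm_mem S₀ z y.2⟩ := rfl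

/-- `y ↦ ν [y, z; j]` as a homomorphism -/
def muHom (S₀ : Subgroup T) [hn : S₀.Normal] (ν : S₀ →* A) (z : T) : ℕ → (S₀ →* A)
  | 0 => ν
  | j + 1 => commHom S₀ (muHom S₀ ν z j) z

theorem muHom_apply (S₀ : Subgroup T) [hn : S₀.Normal] (ν : S₀ →* A) (z : T) (j : ℕ) :
    ∀ y : S₀, muHom S₀ ν z j y =
      ν ⟨(fun y : T => y⁻¹ * z⁻¹ * y * z)^[j] (y : T), iterate_comm_mem S₀ z y.2 j⟩ := by
  induction j with
  | zero => intro y; rfl
  | succ j ih =>
    intro y
    show commHom S₀ (muHom S₀ ν z j) z y = _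
    rw [commHom_apply, ih]
    congr 1

/-- `ν [y, z; m] = 1` for `m ≥ p` when `z ^ p ∈ S₀` -/
theorem nu_iterate_eq_one_of_le (S₀ : Subgroup T) [hn : S₀.Normal] (hidx : S₀.index = p)
    (hA : ∀ a : A, a ^ p = 1) (ν : S₀ →* A) (z : T) {y : T} (hy : y ∈ S₀) {m : ℕ}
    (hm : p ≤ m) :
    ν ⟨(fun y : T => y⁻¹ * z⁻¹ * y * z)^[m] y, iterate_comm_mem S₀ z hy m⟩ = 1 := by
  have hp : p.Prime := Fact.out
  have hzp : z ^ p ∈ S₀ := by
    rw [← QuotientGroup.eq_one_iff, QuotientGroup.mk_pow]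
    have hcard : Nat.card (T ⧸ S₀) = p := by rw [← hidx, Subgroup.index_eq_card]
    rw [← hcard]
    exact pow_card_eq_one'
  obtain ⟨k, rfl⟩ := Nat.exists_eq_add_of_le hm
  have hk := iterate_comm_mem S₀ z hy k
  have h1 := iterate_comm_p_eq_one hp hA S₀ ν z hk (by
    have : (⟨(z ^ p)⁻¹ * (fun y : T => y⁻¹ * z⁻¹ * y * z)^[k] y * z ^ p,
        conj_pow_mem S₀ z hk p⟩ : S₀) =
        (⟨z ^ p, hzp⟩ : S₀)⁻¹ * ⟨(fun y : T => y⁻¹ * z⁻¹ * y * z)^[k] y, hk⟩ * ⟨z ^ p, hzp⟩ :=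
      Subtype.ext rfl
    rw [this, map_mul, map_mul, map_inv, mul_comm, mul_inv_cancel_left])
  rw [← h1]
  congr 1
  apply Subtype.ext
  exact Function.iterate_add_apply _ p k y

/-- **Yoshida, key counting step**: if `ν [x, z; p - 1] ≠ 1` for `x ∈ S₀`, `z ∉ S₀`, `S₀` normal of
index `p` in the `p`-group `T` and `ν : S₀ → A` with `A` of order `p`, then the core of
`K = ker ν` has index divisible by `p ^ (p + 1)`. -/
theorem pow_dvd_index_normalCore (S₀ : Subgroup T) [hn : S₀.Normal] (hidx : S₀.index = p)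
    (hAcard : Nat.card A = p) (ν : S₀ →* A) (z : T) {x : T} (hx : x ∈ S₀)
    (hc : ν ⟨(fun y : T => y⁻¹ * z⁻¹ * y * z)^[p - 1] x, iterate_comm_mem S₀ z hx (p - 1)⟩ ≠ 1) :
    p ^ (p + 1) ∣ (ν.ker.map S₀.subtype).normalCore.index := by
  classical
  have hp : p.Prime := Fact.out
  haveI : Finite A := Nat.finite_of_card_ne_zero (by rw [hAcard]; exact hp.ne_zero)
  have hA : ∀ a : A, a ^ p = 1 := by
    intro a
    rw [← hAcard]
    exact pow_card_eq_one'
  set g : A := ν ⟨(fun y : T => y⁻¹ * z⁻¹ * y * z)^[p - 1] x,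
    iterate_comm_mem S₀ z hx (p - 1)⟩ with hg
  have hgtop : zpowers g = ⊤ := zpowers_eq_top_of_prime_card hAcard hc
  -- triangular solving
  have hsolve : ∀ m : ℕ, m ≤ p → ∀ t : ℕ → A, ∃ y : S₀, ∀ j, p - m ≤ j → j < p →
      muHom S₀ ν z j y = t j := by
    intro m
    induction m with
    | zero =>
      intro _ t
      exact ⟨1, fun j h1 h2 => absurd h2 (by omega)⟩
    | succ m ih =>
      intro hm t
      obtain ⟨y, hy⟩ := ih (by omega) t
      have hmem : t (p - (m + 1)) * (muHom S₀ ν z (p - (m + 1)) y)⁻¹ ∈ zpowers g := by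
        rw [hgtop]; trivial
      obtain ⟨n, hn⟩ := mem_zpowers_iff.mp hmem
      let e : S₀ := ⟨(fun y : T => y⁻¹ * z⁻¹ * y * z)^[m] x, iterate_comm_mem S₀ z hx m⟩
      have he : ∀ j, muHom S₀ ν z j e = ν ⟨(fun y : T => y⁻¹ * z⁻¹ * y * z)^[j + m] x,
          iterate_comm_mem S₀ z hx (j + m)⟩ := by
        intro j
        rw [muHom_apply]
        congr 1
        apply Subtype.ext
        exact (Function.iterate_add_apply _ j m x).symm
      refine ⟨y * e ^ n, fun j h1 h2 => ?_⟩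
      rw [map_mul, map_zpow, he]
      rcases Nat.eq_or_lt_of_le h1 with h3 | h3
      · -- `j = p - (m + 1)`
        have h4 : j + m = p - 1 := by omega
        have h5 : ν ⟨(fun y : T => y⁻¹ * z⁻¹ * y * z)^[j + m] x,
            iterate_comm_mem S₀ z hx (j + m)⟩ = g := by
          rw [hg]
          congr 1
          apply Subtype.ext
          show (fun y : T => y⁻¹ * z⁻¹ * y * z)^[j + m] x = _
          rw [h4]
        rw [h5, hn, ← h3]
        rw [mul_comm, inv_mul_cancel_right]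
      · -- `j > p - (m + 1)`
        have h4 : p ≤ j + m := by omega
        rw [nu_iterate_eq_one_of_le S₀ hidx hA ν z hx h4, one_zpow, mul_one]
        exact hy j (by omega) h2
  -- the product homomorphism
  let Θ : S₀ →* (Fin p → A) := MonoidHom.pi (fun j : Fin p => muHom S₀ ν z (j : ℕ))
  have hΘ : Function.Surjective Θ := by
    intro t
    obtain ⟨y, hy⟩ := hsolve p le_rfl (fun j => if h : j < p then t ⟨j, h⟩ else 1)
    refine ⟨y, ?_⟩
    funext j
    have := hy (j : ℕ) (by omega) j.2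
    simp only [j.2, dif_pos] at this
    exact this
  have hΘidx : Θ.ker.index = p ^ p := by
    rw [Subgroup.index_ker, MonoidHom.range_eq_top.mpr hΘ]
    rw [Nat.card_congr (Subgroup.topEquiv (G := Fin p → A)).toEquiv, Nat.card_fun, hAcard,
      Nat.card_eq_fintype_card, Fintype.card_fin]
  -- the core lies in the kernel
  set L : Subgroup T := (ν.ker.map S₀.subtype).normalCore with hL
  have hLK : L ≤ ν.ker.map S₀.subtype := Subgroup.normalCore_le _
  have hLS₀ : L ≤ S₀ := by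
    intro y hy
    obtain ⟨y', -, rfl⟩ := hLK hy
    exact y'.2
  haveI hLn : L.Normal := Subgroup.normalCore_normal _
  have hLΘ : L.subgroupOf S₀ ≤ Θ.ker := by
    intro y hy
    rw [MonoidHom.mem_ker]
    funext j
    show muHom S₀ ν z (j : ℕ) y = 1
    rw [muHom_apply]
    have h1 : (fun y : T => y⁻¹ * z⁻¹ * y * z)^[(j : ℕ)] (y : T) ∈ L :=
      iterate_comm_mem L z (mem_subgroupOf.mp hy) j
    obtain ⟨y', hy', hyy'⟩ := hLK h1
    have : (⟨(fun y : T => y⁻¹ * z⁻¹ * y * z)^[(j : ℕ)] (y : T),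
        iterate_comm_mem S₀ z y.2 j⟩ : S₀) = y' := Subtype.ext hyy'.symm
    rw [this]
    exact MonoidHom.mem_ker.mp hy'
  have h1 : p ^ p ∣ (L.subgroupOf S₀).index := by
    rw [← hΘidx]
    exact Subgroup.index_dvd_of_le hLΘ
  have h2 : L.relIndex S₀ * S₀.index = L.index := Subgroup.relIndex_mul_index hLS₀
  rw [← h2, hidx, pow_succ]
  exact Nat.mul_dvd_mul_right h1 p

end Wreath

section Main

variable {G : Type u} [Group G] [Finite G] {p : ℕ} [Fact p.Prime]

/-- **Yoshida's theorem**: if `N_G(S)` does not control `p`-transfer then `S` maps onto a Sylow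
`p`-subgroup of the symmetric group of degree `p²` (that is, onto `Z_p ≀ Z_p`). -/
theorem exists_surjective_sylow_perm_of_inf_commutator_ne (S : Sylow p G)
    (h : (S : Subgroup G) ⊓ commutator G ≠ (S : Subgroup G) ⊓
      ⁅normalizer ((S : Subgroup G) : Set G), normalizer ((S : Subgroup G) : Set G)⁆) :
    ∃ (P : Sylow p (Equiv.Perm (Fin (p ^ 2))))
      (f : ↥(S : Subgroup G) →* ↥(P : Subgroup (Equiv.Perm (Fin (p ^ 2))))),
      Function.Surjective f := by
  classical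
  have hp : p.Prime := Fact.out
  have hbad : HWBad' p (S : Subgroup G) (S : Subgroup G) := by
    by_contra hnot
    exact h (inf_commutator_eq_of_not_hwBad' (isWeaklyClosed_self S) hnot)
  obtain ⟨x, hx, z, hz, W₀, hW₀, hzW₀, hxW₀, hc1, hc2⟩ := hbad
  have hT : IsPGroup p ↥(S : Subgroup G) := S.isPGroup'
  haveI hW₀n : W₀.Normal := Cfsg.Agent.Lib.Helper03.normal_of_isCoatom_of_isPGroup hT hW₀
  have hW₀i : W₀.index = p := Cfsg.Agent.Lib.Helper03.index_of_isCoatom_of_isPGroup hT hW₀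
  have hxT : (⟨x, hx⟩ : ↥(S : Subgroup G)) ∈ W₀ := hxW₀ hx
  have hcoe := coe_iterate_comm (S : Subgroup G) ⟨z, hz⟩ ⟨x, hx⟩ (p - 1)
  -- the iterated commutator as an element of `W₀`
  have hcW₀ := iterate_comm_mem W₀ (⟨z, hz⟩ : ↥(S : Subgroup G)) hxT (p - 1)
  have hcΦ : (⟨_, hcW₀⟩ : ↥W₀) ∉ frattini ↥W₀ := by
    intro hmem
    apply hc2
    refine ⟨_, ⟨⟨_, hcW₀⟩, hmem, rfl⟩, ?_⟩
    exact hcoe
  have hex : ∃ M : Subgroup ↥W₀, IsCoatom M ∧ (⟨_, hcW₀⟩ : ↥W₀) ∉ M := by
    by_contra hno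
    apply hcΦ
    rw [Cfsg.Agent.Lib.Helper03.mem_frattini_iff]
    intro M hM
    by_contra hcM
    exact hno ⟨M, hM, hcM⟩
  obtain ⟨M, hM, hcM⟩ := hex
  have hW₀p : IsPGroup p ↥W₀ := hT.to_subgroup W₀
  haveI hMn : M.Normal := Cfsg.Agent.Lib.Helper03.normal_of_isCoatom_of_isPGroup hW₀p hM
  have hMi : M.index = p := Cfsg.Agent.Lib.Helper03.index_of_isCoatom_of_isPGroup hW₀p hM
  have hcard1 : Nat.card (↥W₀ ⧸ M) = p := (Subgroup.index_eq_card M).symm.trans hMi
  have hcard2 : Nat.card (Multiplicative (ZMod p)) = p := by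
    rw [Nat.card_eq_fintype_card]
    exact (Fintype.card_multiplicative _).trans (ZMod.card p)
  let e : ↥W₀ ⧸ M ≃* Multiplicative (ZMod p) := mulEquivOfPrimeCardEq hcard1 hcard2
  let ν : ↥W₀ →* Multiplicative (ZMod p) := e.toMonoidHom.comp (QuotientGroup.mk' M)
  have hνc : ν ⟨_, hcW₀⟩ ≠ 1 := by
    intro h1
    have h2 : e (QuotientGroup.mk (⟨_, hcW₀⟩ : ↥W₀)) = 1 := h1
    rw [MulEquiv.map_eq_one_iff, QuotientGroup.eq_one_iff] at h2
    exact hcM h2
  have hνker : ν.ker = M := by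
    ext y
    rw [MonoidHom.mem_ker]
    show e (QuotientGroup.mk y) = 1 ↔ _
    rw [MulEquiv.map_eq_one_iff, QuotientGroup.eq_one_iff]
  have hcore := pow_dvd_index_normalCore W₀ hW₀i hcard2 ν (⟨z, hz⟩ : ↥(S : Subgroup G)) hxT hνc
  have hKidx : (ν.ker.map W₀.subtype).index = p ^ 2 := by
    rw [Subgroup.index_map_subtype, hνker, hMi, hW₀i, pow_two]
  exact exists_surjective_sylow_perm hT _ hKidx hcore

end Main

end Cfsg.Agent.Lib.Helper14
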