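import Mathlib
import Cfsg.Agent.Lib.Helper28.ZNDefs
import Cfsg.Agent.Lib.Helper14.FCIdx
import Cfsg.Agent.Lib.Helper62.SL25Pres

/-!
# Zassenhaus near-field rows, keystone ZN-5: `|C(A) : A| ∈ {60, 120}` for `N ≅ SL(2,5)`
-/

set_option autoImplicit false

universe u

namespace Cfsg.Agent.Lib.Helper14.ZN

open Cfsg.Agent.Lib.Helper28.ZN

theorem card_mul_relIndex_of_le {G : Type u} [Group G] {H K : Subgroup G} (hHK : H ≤ K) :
    Nat.card H * H.relIndex K = Nat.card K := by
  have := Subgroup.card_mul_index (H.subgroupOf K)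
  rw [Nat.card_congr (Subgroup.subgroupOfEquivOfLe hHK).toEquiv] at this
  exact this

/-- **ZN-5.** -/
theorem relIndex_centralizer_sl25 {G : Type u} [Group G] [Finite G]
    (hA120 : Nat.card (MulAut SL25) ≤ 120)
    (hcen : ∀ c : SL25, (∀ y : SL25, c * y = y * c) → c ^ 2 = 1)
    (hinv : UniqInv G)
    (A : Subgroup G) (hAn : A.Normal) (hAc : Ab A)
    (N : Subgroup G) (hNn : N.Normal) (hNle : N ≤ Subgroup.centralizer (A : Set G)) (e : N ≃* SL25)
    (z : G) (hzA : z ∈ A) (hzN : z ∈ N) (hz1 : z ≠ 1)
    (hCN : Subgroup.centralizer (N : Set G) ⊓ Subgroup.centralizer (A : Set G) = A) :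
    A.relIndex (Subgroup.centralizer (A : Set G)) = 60 ∨ A.relIndex (Subgroup.centralizer (A : Set G)) = 120 := by
  classical
  set C := Subgroup.centralizer (A : Set G) with hC
  have hAC : A ≤ C := by
    intro a ha
    rw [hC, Subgroup.mem_centralizer_iff]
    intro b hb
    exact hAc b hb a ha
  -- the upper bound
  have hN'n : (N.subgroupOf C).Normal := hNn.subgroupOf C
  have e' : N.subgroupOf C ≃* SL25 := (Subgroup.subgroupOfEquivOfLe hNle).trans e
  have hle := Cfsg.Agent.Lib.Helper14.FC.index_centralizer_le (G := C) (N.subgroupOf C) e' hA120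
  have hcent : Subgroup.centralizer ((N.subgroupOf C : Subgroup C) : Set C) = A.subgroupOf C := by
    ext c
    rw [Subgroup.mem_centralizer_iff, Subgroup.mem_subgroupOf]
    constructor
    · intro h
      have h1 : (c : G) ∈ Subgroup.centralizer (N : Set G) := by
        rw [Subgroup.mem_centralizer_iff]
        intro n hn
        have := h ⟨n, hNle hn⟩ (by rw [SetLike.mem_coe, Subgroup.mem_subgroupOf]; exact hn)
        exact congrArg Subtype.val this
      have h2 : (c : G) ∈ Subgroup.centralizer (N : Set G) ⊓ C := Subgroup.mem_inf.mpr ⟨h1, c.2⟩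
      rw [hCN] at h2
      exact h2
    · intro h n hn
      have h' : (c : G) ∈ Subgroup.centralizer (N : Set G) ⊓ C := by rw [hCN]; exact h
      have h1 := (Subgroup.mem_inf.mp h').1
      rw [Subgroup.mem_centralizer_iff] at h1
      apply Subtype.ext
      rw [SetLike.mem_coe, Subgroup.mem_subgroupOf] at hn
      exact h1 n.1 hn
  have hk120 : A.relIndex C ≤ 120 := by
    unfold Subgroup.relIndex
    rw [← hcent]
    exact hle
  -- N ⊓ A = {1, z}
  have hcentral : ∀ x ∈ N ⊓ A, x * x = 1 := by
    intro x hx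
    have hxc : ∀ y : SL25, e ⟨x, hx.1⟩ * y = y * e ⟨x, hx.1⟩ := by
      intro y
      obtain ⟨n, rfl⟩ := e.surjective y
      rw [← map_mul, ← map_mul]
      congr 1
      apply Subtype.ext
      have hn := hNle n.2
      rw [hC, Subgroup.mem_centralizer_iff] at hn
      exact hn x hx.2
    have h2 := hcen _ hxc
    rw [← map_pow, map_eq_one_iff e e.injective] at h2
    have := congrArg Subtype.val h2
    rw [pow_two] at this
    exact this
  have hzz : z * z = 1 := hcentral z ⟨hzN, hzA⟩
  have hinter : N ⊓ A = Subgroup.zpowers z := by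
    apply le_antisymm
    · intro x hx
      by_cases hx1 : x = 1
      · rw [hx1]; exact one_mem _
      · have := hinv x z (hcentral x hx) hx1 hzz hz1
        rw [this]; exact Subgroup.mem_zpowers z
    · rw [Subgroup.zpowers_le]
      exact ⟨hzN, hzA⟩
  have hcard2 : Nat.card (N ⊓ A : Subgroup G) = 2 := by
    rw [hinter, Nat.card_zpowers]
    have : Fact (Nat.Prime 2) := ⟨Nat.prime_two⟩
    apply orderOf_eq_prime
    · rw [pow_two]; exact hzz
    · exact hz1
  have hcardN : Nat.card N = 120 := by
    rw [Nat.card_congr e.toEquiv]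
    exact Cfsg.Agent.Lib.Helper62.SL25Pres.card_SL25
  have h60 : (N ⊓ A).relIndex N = 60 := by
    have := card_mul_relIndex_of_le (inf_le_left : N ⊓ A ≤ N)
    rw [hcard2, hcardN] at this
    omega
  have h60' : A.relIndex (N ⊔ A) = 60 := by
    have := hAn
    rw [Subgroup.relIndex_sup_right, ← Subgroup.inf_relIndex_left]
    exact h60
  have hsupC : N ⊔ A ≤ C := sup_le hNle hAC
  have hmul := Subgroup.relIndex_mul_relIndex A (N ⊔ A) C le_sup_right hsupC
  rw [h60'] at hmul
  have hpos : A.relIndex C ≠ 0 := by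
    unfold Subgroup.relIndex
    exact Subgroup.index_ne_zero_of_finite
  set j := (N ⊔ A).relIndex C
  set k := A.relIndex C
  have hj : j = 1 ∨ j = 2 := by
    have hj0 : j ≠ 0 := by
      intro h0
      rw [h0, mul_zero] at hmul
      exact hpos hmul.symm
    have : 60 * j ≤ 120 := by rw [hmul]; exact hk120
    omega
  rcases hj with hj | hj
  · left; rw [← hmul, hj]
  · right; rw [← hmul, hj]

end Cfsg.Agent.Lib.Helper14.ZN
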